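import Cfsg.Agent.Lib.Blocks.HomocyclicGenerate
import Cfsg.Agent.S0945
import Cfsg.Agent.S0946
import Cfsg.Agent.S4593
import Cfsg.Agent.Lib.Core.Cores

/-!
# Homocyclic Sylow 2-subgroups of rank two
-/

set_option autoImplicit false

namespace CfsgLib.Homocyclic

open Cfsg

/-- A finite abelian group of exponent `2 ^ k` with a fixed point free endomorphism and at most
`2 ^ k * 2 ^ k` elements is homocyclic of rank two. -/
theorem exists_equiv {H : Type*} [CommGroup H] [Finite H] {k : ℕ} {u : H}
    (hu : orderOf u = 2 ^ k) (hexp : ∀ x : H, x ^ 2 ^ k = 1) (σ : H →* H)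
    (hσ : ∀ x, σ x = x → x = 1) (hσi : Function.Injective σ)
    (hcard : Nat.card H ≤ 2 ^ k * 2 ^ k) :
    Nonempty (H ≃* Multiplicative (ZMod (2 ^ k) × ZMod (2 ^ k))) := by
  classical
  haveI : NeZero (2 ^ k) := ⟨by positivity⟩
  let φ : ZMod (2 ^ k) × ZMod (2 ^ k) → H := fun a => u ^ a.1.val * σ u ^ a.2.val
  have hval : ∀ (v : H), (∀ a b : ZMod (2 ^ k), v ^ (a + b).val = v ^ a.val * v ^ b.val) := by
    intro v a b
    rw [← pow_add, ZMod.val_add, ← pow_eq_pow_mod _ (hexp v)]
  let f : Multiplicative (ZMod (2 ^ k) × ZMod (2 ^ k)) →* H :=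
    MonoidHom.mk' (fun a => φ a.toAdd) fun a b => by
      show φ (a.toAdd + b.toAdd) = _
      simp only [φ, Prod.fst_add, Prod.snd_add, hval]
      exact mul_mul_mul_comm _ _ _ _
  have hdis : Disjoint (Subgroup.zpowers u) (Subgroup.zpowers (σ u)) := by
    rw [disjoint_iff]
    by_contra hne
    set D := Subgroup.zpowers u ⊓ Subgroup.zpowers (σ u) with hD
    haveI := Fact.mk Nat.prime_two
    have h2 : 2 ∣ Nat.card D := by
      obtain ⟨j, hj⟩ := (IsPGroup.of_card (n := k)
        (by rw [Nat.card_zpowers, hu]) : IsPGroup 2 (Subgroup.zpowers u)).to_le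
          (show D ≤ Subgroup.zpowers u from inf_le_left) |>.exists_card_eq
      rcases j with _ | j
      · exact absurd (Subgroup.card_eq_one.1 hj) hne
      · exact hj ▸ dvd_pow_self 2 j.succ_ne_zero
    obtain ⟨⟨w, hw⟩, hwo⟩ := exists_prime_orderOf_dvd_card' 2 h2
    rw [← Subgroup.orderOf_coe] at hwo
    have hw2 : w * w = 1 := by rw [← pow_two, ← hwo]; exact pow_orderOf_eq_one w
    have hw1 : w ≠ 1 := fun e => by
      replace hwo : orderOf w = 2 := hwo
      rw [e, orderOf_one] at hwo; omega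
    have hwσ : σ w ∈ Subgroup.zpowers (σ u) := by
      obtain ⟨i, rfl⟩ := (Subgroup.mem_inf.1 hw).1
      exact ⟨i, (map_zpow σ u i).symm⟩
    have hne2 : σ w ≠ w := fun e => hw1 (hσ _ e)
    have hne1 : σ w ≠ 1 := fun e => hw1 (hσi (e.trans (map_one σ).symm))
    haveI : Fintype (Subgroup.zpowers (σ u)) := Fintype.ofFinite _
    have h3 := IsCyclic.card_pow_eq_one_le (α := Subgroup.zpowers (σ u)) (n := 2) two_pos
    let a : Subgroup.zpowers (σ u) := ⟨w, (Subgroup.mem_inf.1 hw).2⟩
    let b : Subgroup.zpowers (σ u) := ⟨σ w, hwσ⟩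
    have h4 : ({1, a, b} : Finset (Subgroup.zpowers (σ u))).card = 3 :=
      Finset.card_eq_three.2 ⟨1, a, b, fun e => hw1 (congrArg Subtype.val e).symm,
        fun e => hne1 (congrArg Subtype.val e).symm, fun e => hne2 (congrArg Subtype.val e).symm, rfl⟩
    have h5 : ({1, a, b} : Finset (Subgroup.zpowers (σ u))).card ≤ 2 := by
      refine le_trans (Finset.card_le_card fun z hz => ?_) h3
      refine Finset.mem_filter.2 ⟨Finset.mem_univ _, ?_⟩
      simp only [Finset.mem_insert, Finset.mem_singleton] at hz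
      rcases hz with rfl | rfl | rfl
      · exact one_pow 2
      · exact Subtype.ext (show w ^ 2 = 1 by rw [pow_two]; exact hw2)
      · exact Subtype.ext (show σ w ^ 2 = 1 by rw [← map_pow, pow_two, hw2, map_one])
    omega
  have hinj : Function.Injective f := by
    refine (injective_iff_map_eq_one f).2 fun a ha => ?_
    have ha' : u ^ a.toAdd.1.val * σ u ^ a.toAdd.2.val = 1 := ha
    have h1 : u ^ a.toAdd.1.val ∈ Subgroup.zpowers u ⊓ Subgroup.zpowers (σ u) :=
      ⟨pow_mem (Subgroup.mem_zpowers u) _, by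
        rw [eq_inv_of_mul_eq_one_left ha']
        exact Subgroup.inv_mem _ (Subgroup.pow_mem _ (Subgroup.mem_zpowers _) _)⟩
    rw [disjoint_iff.1 hdis, Subgroup.mem_bot] at h1
    rw [h1, one_mul] at ha'
    have h2 := orderOf_dvd_of_pow_eq_one h1
    have h3 := orderOf_dvd_of_pow_eq_one ha'
    rw [orderOf_injective σ hσi, hu] at h3
    rw [hu] at h2
    have e1 : a.toAdd.1 = 0 := (ZMod.val_eq_zero _).1 (Nat.eq_zero_of_dvd_of_lt h2 (ZMod.val_lt _))
    have e2 : a.toAdd.2 = 0 := (ZMod.val_eq_zero _).1 (Nat.eq_zero_of_dvd_of_lt h3 (ZMod.val_lt _))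
    exact Multiplicative.toAdd.injective (Prod.ext e1 e2)
  have hc : Nat.card H ≤ Nat.card (Multiplicative (ZMod (2 ^ k) × ZMod (2 ^ k))) := by
    rw [Nat.card_congr Multiplicative.toAdd, Nat.card_prod, Nat.card_zmod]; exact hcard
  exact ⟨(MulEquiv.ofBijective f (hinj.bijective_of_nat_card_le hc)).symm⟩

section

variable {G : Type*} [Group G] [Finite G]

/-- The core of a normal subgroup vanishes. -/
theorem core_eq_bot (hO : ∀ N : Subgroup G, N.Normal → Odd (Nat.card N) → N = ⊥) (K : Subgroup G)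
    [K.Normal] : pPrimeCore 2 K = ⊥ := by
  have h := hO ((pPrimeCore 2 K).map K.subtype) inferInstance (by
    rw [Nat.card_congr ((pPrimeCore 2 K).equivMapOfInjective K.subtype K.subtype_injective).toEquiv.symm]
    exact Nat.Coprime.odd_of_right (CfsgLib.Core.coprime_card_pPrimeCore 2 K))
  exact (Subgroup.map_eq_bot_iff_of_injective _ K.subtype_injective).1 h

/-- An abelian Sylow subgroup with a complement, without core, is everything. -/
theorem eq_top_of_index_one {K : Type*} [Group K] [Finite K] (hcore : pPrimeCore 2 K = ⊥)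
    (H : Sylow 2 K) (hN : Subgroup.normalizer ((H : Subgroup K) : Set K) ≤
      Subgroup.centralizer ((H : Subgroup K) : Set K)) : (H : Subgroup K) = ⊤ := by
  have hc := MonoidHom.ker_transferSylow_isComplement' H hN
  have hcop : (Nat.card (MonoidHom.transferSylow H hN).ker).Coprime 2 := by
    rw [← hc.index_eq_card]
    exact ((Nat.Prime.coprime_iff_not_dvd Nat.prime_two).2 H.not_dvd_index).symm
  have h := CfsgLib.Core.le_pPrimeCore hcop
  rw [hcore, le_bot_iff] at h
  rw [h] at hc
  exact Subgroup.isComplement'_bot_left.1 hc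

end

/-- Data for the automizer of order three. -/
theorem exists_setting {K : Type*} [Group K] [Fintype K] (H : Sylow 2 K) {k : ℕ} (hk : 1 ≤ k)
    (e : (H : Subgroup K) ≃* Multiplicative (ZMod (2 ^ k) × ZMod (2 ^ k)))
    (hne : (Subgroup.centralizer (H : Set K)).relIndex (Subgroup.normalizer (H : Set K)) ≠ 1) :
    ∃ g, CfsgLib.IndexThree.Setting 2 H g := by
  classical
  obtain ⟨h13, hfix⟩ := Cfsg.Agent.S0945.result H k hk e
  have h3 := h13.resolve_left hne
  obtain ⟨g, hg, hgC⟩ : ∃ g ∈ Subgroup.normalizer ((H : Subgroup K) : Set K),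
      g ∉ Subgroup.centralizer ((H : Subgroup K) : Set K) := by
    by_contra hall
    push Not at hall
    exact hne (Subgroup.relIndex_eq_one.2 hall)
  refine ⟨g, ⟨fun x hx y hy => congrArg Subtype.val (e.injective
    (by rw [map_mul, map_mul, mul_comm]) : (⟨x, hx⟩ : (H : Subgroup K)) * ⟨y, hy⟩ = ⟨y, hy⟩ * ⟨x, hx⟩),
    ?_, h3, hg, ?_, hfix hne⟩⟩
  · rw [Nat.card_congr e.toEquiv, Nat.card_congr Multiplicative.toAdd, Nat.card_prod, Nat.card_zmod]
    have : 2 ≤ 2 ^ k := le_self_pow₀ (by norm_num) (by omega)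
    nlinarith
  · set C := Subgroup.centralizer ((H : Subgroup K) : Set K)
    set N := Subgroup.normalizer ((H : Subgroup K) : Set K)
    have hCN : C ≤ N := Subgroup.centralizer_le_normalizer _
    have hle : C ⊔ Subgroup.zpowers g ≤ N := sup_le hCN (Subgroup.zpowers_le.2 hg)
    have hmul := Subgroup.relIndex_mul_relIndex C (C ⊔ Subgroup.zpowers g) N le_sup_left hle
    rw [show C.relIndex N = 3 from h3] at hmul
    rcases (Nat.dvd_prime Nat.prime_three).1 ⟨_, hmul.symm⟩ with h | h
    · exact absurd (Subgroup.relIndex_eq_one.1 h (Subgroup.mem_sup_right (Subgroup.mem_zpowers g))) hgC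
    · rw [h] at hmul
      exact le_antisymm hle (Subgroup.relIndex_eq_one.1 (by omega))

/-- Brauer: a homocyclic Sylow 2-subgroup of rank two and exponent at least four is normal when
there is no odd normal subgroup. -/
theorem normal_of_homocyclic {G : Type*} [Group G] [Finite G] (P : Sylow 2 G) (m : ℕ) (hm : 2 ≤ m)
    (e : (P : Subgroup G) ≃* Multiplicative (ZMod (2 ^ m) × ZMod (2 ^ m)))
    (hO : ∀ N : Subgroup G, N.Normal → Odd (Nat.card N) → N = ⊥) :
    (P : Subgroup G).Normal ∧ Subgroup.centralizer (P : Set G) = (P : Subgroup G) ∧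
      ((P : Subgroup G).index = 1 ∨ (P : Subgroup G).index = 3) := by
  classical
  have := Fintype.ofFinite G
  haveI : NeZero (2 ^ m) := ⟨by positivity⟩
  have hcore : pPrimeCore 2 G = ⊥ :=
    hO _ inferInstance (Nat.Coprime.odd_of_right (CfsgLib.Core.coprime_card_pPrimeCore 2 G))
  have hcomm : ∀ a b : (P : Subgroup G), a * b = b * a := fun a b =>
    e.injective (by rw [map_mul, map_mul, mul_comm])
  have hPC : (P : Subgroup G) ≤ Subgroup.centralizer (P : Set G) := fun x hx =>
    Subgroup.mem_centralizer_iff.2 fun y hy => congrArg Subtype.val (hcomm ⟨y, hy⟩ ⟨x, hx⟩)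
  by_cases hne : (Subgroup.centralizer (P : Set G)).relIndex (Subgroup.normalizer (P : Set G)) = 1
  · have htop := eq_top_of_index_one hcore P (Subgroup.relIndex_eq_one.1 hne)
    refine ⟨htop ▸ inferInstance, le_antisymm ?_ hPC, Or.inl (by rw [htop, Subgroup.index_top])⟩
    rw [htop]; exact le_top
  obtain ⟨g, S⟩ := exists_setting P (by omega) e hne
  have hconj : ∀ s t : G, orderOf s = 2 → orderOf t = 2 → IsConj s t := by
    rcases Cfsg.Agent.S0946.result P m (by omega) e with ⟨N, hN, hc⟩ | h
    · exfalso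
      have hcop : (Nat.card N).Coprime 2 := by
        rw [← hc.index_eq_card]
        exact ((Nat.Prime.coprime_iff_not_dvd Nat.prime_two).2 P.not_dvd_index).symm
      have hb := hO N hN (Nat.Coprime.odd_of_right hcop)
      rw [hb] at hc
      have htop : (P : Subgroup G) = ⊤ := Subgroup.isComplement'_bot_left.1 hc
      refine hne (Subgroup.relIndex_eq_one.2 fun x _ => hPC ?_)
      rw [htop]; trivial
    · exact h
  haveI := Fact.mk Nat.prime_two
  obtain ⟨t', ht'⟩ : ∃ t' : (P : Subgroup G), orderOf t' = 2 := by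
    refine exists_prime_orderOf_dvd_card' 2 ?_
    rw [Nat.card_congr e.toEquiv, Nat.card_congr Multiplicative.toAdd, Nat.card_prod, Nat.card_zmod]
    exact Dvd.dvd.mul_right (dvd_pow_self 2 (by omega)) _
  set t : G := (t' : G) with htdef
  have hto : orderOf t = 2 := by rw [htdef, Subgroup.orderOf_coe, ht']
  have htP : t ∈ (P : Subgroup G) := t'.2
  have hmeet : ∀ L : Subgroup G, L.Normal → L ≠ ⊥ → ∀ s : G, orderOf s = 2 → s ∈ L := by
    intro L hL hLne s hs
    have h2 : 2 ∣ Nat.card L := by
      by_contra h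
      exact hLne (hO L hL (Nat.odd_iff.2 (Nat.two_dvd_ne_zero.1 h)))
    obtain ⟨w, hw⟩ := exists_prime_orderOf_dvd_card' 2 h2
    obtain ⟨c, hc⟩ := isConj_iff.1 (hconj w s (by rw [Subgroup.orderOf_coe, hw]) hs)
    rw [← hc]
    exact hL.conj_mem _ w.2 c
  set K := Subgroup.normalClosure ({t} : Set G) with hK
  have htK : t ∈ K := Subgroup.subset_normalClosure rfl
  have ht1 : t ≠ 1 := fun h => by rw [h, orderOf_one] at hto; omega
  have hKne : K ≠ ⊥ := fun h => ht1 (Subgroup.mem_bot.1 (h ▸ htK))
  have hKmin : ∀ L : Subgroup G, L.Normal → L ≠ ⊥ → K ≤ L := fun L hL hLne =>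
    Subgroup.normalClosure_le_normal (Set.singleton_subset_iff.2 (hmeet L hL hLne t hto))
  by_cases hK2 : IsPGroup 2 K
  · -- the involutions form a normal subgroup
    have hKP : K ≤ (P : Subgroup G) := by
      obtain ⟨Q, hQ⟩ := hK2.exists_le_sylow
      obtain ⟨c, hc⟩ := MulAction.exists_smul_eq G Q P
      intro x hx
      have := Subgroup.smul_mem_pointwise_smul (c⁻¹ * x * c) (MulAut.conj c) _
        (hQ (by simpa using (inferInstance : K.Normal).conj_mem x hx c⁻¹))
      have e2 : (MulAut.conj c) • (c⁻¹ * x * c) = x := by simp [MulAut.smul_def, mul_assoc]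
      rw [e2] at this
      rw [← hc]
      exact this
    let C := Subgroup.centralizer (K : Set G)
    haveI : C.Normal := Subgroup.normal_centralizer
    have hPle : (P : Subgroup G) ≤ C := fun x hx => Subgroup.mem_centralizer_iff.2 fun y hy =>
      S.comm y (hKP hy) x hx
    let PC : Sylow 2 C := P.subtype hPle
    have hNC : Subgroup.normalizer ((PC : Subgroup C) : Set C) ≤
        Subgroup.centralizer ((PC : Subgroup C) : Set C) := fun n hn => by
      have hnG : (n : G) ∈ Subgroup.normalizer ((P : Subgroup G) : Set G) := by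
        refine Subgroup.mem_normalizer_iff.mpr fun x => ?_
        constructor
        · intro hx
          exact (Subgroup.mem_normalizer_iff.mp hn ⟨x, hPle hx⟩).mp hx
        · intro hx
          have hx' : x ∈ C := by
            have : x = (n : G)⁻¹ * ((n : G) * x * (n : G)⁻¹) * (n : G) := by group
            rw [this]
            exact mul_mem (mul_mem (inv_mem n.2) (hPle hx)) n.2
          exact (Subgroup.mem_normalizer_iff.mp hn ⟨x, hx'⟩).mpr hx
      have hc : (n : G) ∈ Subgroup.centralizer ((P : Subgroup G) : Set G) := by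
        rw [← S.fpf t htP ht1]
        exact ⟨Subgroup.mem_centralizer_singleton_iff.2
          (Subgroup.mem_centralizer_iff.1 n.2 t htK).symm, hnG⟩
      exact Subgroup.mem_centralizer_iff.mpr fun x hx => Subtype.ext
        (Subgroup.mem_centralizer_iff.mp hc x hx)
    have hPC' := eq_top_of_index_one (core_eq_bot hO C) PC hNC
    have hPeq : (P : Subgroup G) = C := le_antisymm hPle fun x hx => by
      have : (⟨x, hx⟩ : C) ∈ (PC : Subgroup C) := by rw [hPC']; trivial
      exact this
    have hPn : (P : Subgroup G).Normal := hPeq ▸ (inferInstance : C.Normal)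
    have hCP : Subgroup.centralizer (P : Set G) = (P : Subgroup G) := le_antisymm (by
      conv_rhs => rw [hPeq]
      exact Subgroup.centralizer_le hKP) hPC
    refine ⟨hPn, hCP, Or.inr ?_⟩
    have h3 : (Subgroup.centralizer (P : Set G)).relIndex (Subgroup.normalizer (P : Set G)) = 3 :=
      S.index
    rw [hCP, show Subgroup.normalizer (P : Set G) = ⊤ from Subgroup.normalizer_eq_top_iff.2 hPn,
      Subgroup.relIndex_top_right] at h3
    exact h3
  exfalso
  -- the Sylow subgroup of `K`
  let H₀ : Subgroup K := (P : Subgroup G).subgroupOf K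
  have hH₀ : IsPGroup 2 H₀ := IsPGroup.comap_of_injective P.2 K.subtype K.subtype_injective
  obtain ⟨H, hH⟩ := hH₀.exists_le_sylow
  have hHeq : (H : Subgroup K) = H₀ := by
    refine (Subgroup.eq_of_le_of_card_ge hH ?_).symm
    obtain ⟨Q, hQ⟩ := ((H.2).map K.subtype).exists_le_sylow
    obtain ⟨c, hc⟩ := MulAction.exists_smul_eq G Q P
    refine Nat.card_le_card_of_injective (fun x : (H : Subgroup K) =>
      (⟨⟨c * ((x : K) : G) * c⁻¹, (inferInstance : K.Normal).conj_mem _ (x : K).2 c⟩, ?_⟩ : H₀))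
      fun x y h => ?_
    · show c * ((x : K) : G) * c⁻¹ ∈ (P : Subgroup G)
      rw [← hc]
      exact Subgroup.smul_mem_pointwise_smul _ (MulAut.conj c) _ (hQ ⟨_, x.2, rfl⟩)
    · have h' : c * ((x : K) : G) * c⁻¹ = c * ((y : K) : G) * c⁻¹ :=
        congrArg (fun z : H₀ => ((z : K) : G)) h
      exact Subtype.ext (Subtype.ext (by simpa using h'))
  have hmemH : ∀ x : K, x ∈ (H : Subgroup K) ↔ (x : G) ∈ (P : Subgroup G) := fun x => by
    rw [hHeq]; rfl
  letI : CommGroup (H : Subgroup K) :=
    { (inferInstance : Group (H : Subgroup K)) with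
      mul_comm := fun a b => Subtype.ext (Subtype.ext
        (S.comm _ ((hmemH _).1 a.2) _ ((hmemH _).1 b.2))) }
  obtain ⟨u, hu⟩ := Monoid.exists_orderOf_eq_exponent
    (Monoid.ExponentExists.of_finite (G := (H : Subgroup K)))
  obtain ⟨k, hk⟩ := IsPGroup.iff_orderOf.1 H.2 u
  have hexp : ∀ x : (H : Subgroup K), x ^ 2 ^ k = 1 := fun x => by
    rw [← hk, hu]; exact Monoid.pow_exponent_eq_one x
  have hσmem : ∀ x : (H : Subgroup K), g * ((x : K) : G) * g⁻¹ ∈ (P : Subgroup G) ⊓ K := fun x =>
    ⟨CfsgLib.IndexThree.conj_mem S ((hmemH _).1 x.2) S.mem, (inferInstance : K.Normal).conj_mem _ (x : K).2 g⟩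
  let σ : (H : Subgroup K) →* (H : Subgroup K) :=
    MonoidHom.mk' (fun x => ⟨⟨g * ((x : K) : G) * g⁻¹, (hσmem x).2⟩, (hmemH _).2 (hσmem x).1⟩)
      fun x y => Subtype.ext (Subtype.ext (by simp [mul_assoc]))
  have hσi : Function.Injective σ := fun x y h => by
    have h' : g * ((x : K) : G) * g⁻¹ = g * ((y : K) : G) * g⁻¹ :=
      congrArg (fun z : (H : Subgroup K) => ((z : K) : G)) h
    exact Subtype.ext (Subtype.ext (by simpa using h'))
  have hσf : ∀ x, σ x = x → x = 1 := fun x h => by
    have h' : g * ((x : K) : G) * g⁻¹ = ((x : K) : G) :=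
      congrArg (fun z : (H : Subgroup K) => ((z : K) : G)) h
    have h1 := CfsgLib.IndexThree.sigma_fixed S (x := ⟨_, (hmemH _).1 x.2⟩) (Subtype.ext h')
    exact Subtype.ext (Subtype.ext (congrArg (fun z : (P : Subgroup G) => (z : G)) h1))
  let A : Finset (ZMod (2 ^ m)) := {a | (2 ^ k) • a = 0}
  have hcard : Nat.card (H : Subgroup K) ≤ 2 ^ k * 2 ^ k := by
    let j : ↥(H : Subgroup K) → A ×ˢ A := fun x =>
      ⟨Multiplicative.toAdd (e ⟨_, (hmemH _).1 x.2⟩), by
        have h1 : (⟨_, (hmemH _).1 x.2⟩ : (P : Subgroup G)) ^ 2 ^ k = 1 := Subtype.ext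
          (congrArg (fun z : (H : Subgroup K) => ((z : K) : G)) (hexp x))
        have h := congrArg (fun z => Multiplicative.toAdd (e z)) h1
        simp only [map_pow, map_one, toAdd_pow, toAdd_one, Prod.ext_iff, Prod.smul_fst,
          Prod.smul_snd, Prod.fst_zero, Prod.snd_zero] at h
        simp only [A, Finset.mem_product, Finset.mem_filter, Finset.mem_univ, true_and]
        exact h⟩
    have hj : Function.Injective j := fun a b h =>
      Subtype.ext (Subtype.ext (congrArg (fun z : (P : Subgroup G) => (z : G))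
        (e.injective (Multiplicative.toAdd.injective (congrArg Subtype.val h)))))
    refine (Nat.card_le_card_of_injective j hj).trans ?_
    rw [Nat.card_eq_fintype_card, Fintype.card_coe, Finset.card_product]
    have hA : A.card ≤ 2 ^ k := IsAddCyclic.card_nsmul_eq_zero_le (by positivity)
    exact Nat.mul_le_mul hA hA
  obtain ⟨eH⟩ := exists_equiv hk hexp σ hσf hσi hcard
  set tK : K := ⟨t, htK⟩ with htK'
  have htKo : orderOf tK = 2 := by rw [← Subgroup.orderOf_coe]; exact hto
  have htH : tK ∈ (H : Subgroup K) := (hmemH _).2 htP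
  have hk1 : 1 ≤ k := by
    by_contra hlt
    have h := hexp ⟨tK, htH⟩
    rw [show k = 0 by omega, pow_zero, pow_one] at h
    exact ht1 (congrArg (fun z : (H : Subgroup K) => ((z : K) : G)) h)
  have hKcore : pPrimeCore 2 K = ⊥ := core_eq_bot hO K
  have hneK : (Subgroup.centralizer (H : Set K)).relIndex (Subgroup.normalizer (H : Set K)) ≠ 1 :=
    fun h => hK2 (by
      have := eq_top_of_index_one hKcore H (Subgroup.relIndex_eq_one.1 h)
      exact IsPGroup.of_equiv (this ▸ H.2 : IsPGroup 2 (⊤ : Subgroup K)) Subgroup.topEquiv)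
  have := Fintype.ofFinite K
  obtain ⟨gK, SK⟩ := exists_setting H hk1 eH hneK
  have hconjK : ∀ s s' : K, orderOf s = 2 → orderOf s' = 2 → IsConj s s' := by
    rcases Cfsg.Agent.S0946.result H k hk1 eH with ⟨N, hN, hc⟩ | h
    · exfalso
      have hcop : (Nat.card N).Coprime 2 := by
        rw [← hc.index_eq_card]
        exact ((Nat.Prime.coprime_iff_not_dvd Nat.prime_two).2 H.not_dvd_index).symm
      have hb := CfsgLib.Core.le_pPrimeCore (N := N) hcop
      rw [hKcore, le_bot_iff] at hb
      rw [hb] at hc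
      have htop : (H : Subgroup K) = ⊤ := Subgroup.isComplement'_bot_left.1 hc
      exact hK2 (IsPGroup.of_equiv (htop ▸ H.2 : IsPGroup 2 (⊤ : Subgroup K)) Subgroup.topEquiv)
    · exact h
  have hgen : ∀ L : Subgroup K, L.Normal → tK ∈ L → L = ⊤ := by
    intro L hL htL
    have hle : K ≤ L.map K.subtype := by
      refine (le_of_eq hK).trans ?_
      rw [Subgroup.normalClosure, Subgroup.closure_le]
      intro s hs
      obtain ⟨a, ha, hsc⟩ := Group.mem_conjugatesOfSet_iff.1 hs
      rw [Set.mem_singleton_iff] at ha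
      subst ha
      obtain ⟨c, rfl⟩ := isConj_iff.1 hsc
      have hmem : c * t * c⁻¹ ∈ K := (inferInstance : K.Normal).conj_mem t htK c
      obtain ⟨d, hd⟩ := isConj_iff.1 (hconjK tK ⟨_, hmem⟩ htKo (by
        rw [← Subgroup.orderOf_coe]
        exact (MulEquiv.orderOf_eq (MulAut.conj c) t).trans hto))
      exact ⟨_, hL.conj_mem tK htL d, congrArg Subtype.val hd⟩
    refine eq_top_iff.2 fun x _ => ?_
    obtain ⟨y, hy, e'⟩ := hle x.2
    rwa [← Subtype.ext e']
  rcases eq_or_lt_of_le hk1 with h1 | h1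
  · -- an element of `P` outside `K` gives an outer automorphism
    obtain ⟨v, hv⟩ : ∃ v : (P : Subgroup G), v * v ≠ 1 := by
      refine ⟨e.symm (Multiplicative.ofAdd (1, 0)), fun h => ?_⟩
      have h' := congrArg (fun z => (Multiplicative.toAdd (e z)).1) h
      simp only [map_mul, MulEquiv.apply_symm_apply, map_one, toAdd_mul, toAdd_one, toAdd_ofAdd,
        Prod.fst_add, Prod.fst_zero] at h'
      replace h' : ((1 + 1 : ℕ) : ZMod (2 ^ m)) = 0 := by push_cast; linear_combination h'
      rw [ZMod.natCast_eq_zero_iff] at h'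
      have h4 : 2 ^ 2 ≤ 2 ^ m := Nat.pow_le_pow_right two_pos hm
      have := Nat.le_of_dvd (by norm_num) h'
      omega
    have hvK : (v : G) ∉ K := fun hvK => hv (Subtype.ext (by
      have h := hexp ⟨⟨v, hvK⟩, (hmemH _).2 v.2⟩
      rw [← h1, pow_one, pow_two] at h
      exact congrArg (fun z : (H : Subgroup K) => ((z : K) : G)) h))
    have hC : Subgroup.centralizer (K : Set G) = ⊥ := by
      by_contra hCne
      haveI : (Subgroup.centralizer (K : Set G)).Normal := Subgroup.normal_centralizer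
      have htC := hmeet _ inferInstance hCne t hto
      have htc : tK ∈ Subgroup.center K := Subgroup.mem_center_iff.2 fun x =>
        Subtype.ext (Subgroup.mem_centralizer_iff.1 htC x x.2)
      have htop := hgen _ inferInstance htc
      refine hneK (Subgroup.relIndex_eq_one.2 fun x _ => Subgroup.mem_centralizer_iff.2 fun y _ => ?_)
      have hy : y ∈ Subgroup.center K := by rw [htop]; trivial
      exact (Subgroup.mem_center_iff.1 hy x).symm
    have hZ : Subgroup.center K = ⊥ := (Subgroup.eq_bot_iff_forall _).2 fun z hz => Subtype.ext (by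
      have hzC : (z : G) ∈ Subgroup.centralizer (K : Set G) := Subgroup.mem_centralizer_iff.2
        fun y hy => congrArg Subtype.val (Subgroup.mem_center_iff.1 hz ⟨y, hy⟩)
      rw [hC, Subgroup.mem_bot] at hzC
      exact hzC)
    let α : MulAut K := MulAut.conjNormal (v : G)
    have hα2 : ∃ j : ℕ, orderOf α = 2 ^ j := by
      obtain ⟨j, hj⟩ := IsPGroup.iff_orderOf.1 P.2 v
      obtain ⟨i, -, hi⟩ := (Nat.dvd_prime_pow Nat.prime_two).1 (hj ▸ (Subgroup.orderOf_coe v ▸
        orderOf_map_dvd (MulAut.conjNormal : G →* MulAut K) (v : G)))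
      exact ⟨i, hi⟩
    obtain ⟨y, hy⟩ := Cfsg.Agent.S4593.result hZ hKcore H
      ⟨⟨fun a b => mul_comm a b⟩⟩ α hα2 (fun x hx => Subtype.ext (by
        show (v : G) * x * (v : G)⁻¹ = x
        rw [S.comm _ v.2 _ ((hmemH x).1 hx), mul_inv_cancel_right]))
    have hyC : (y : G)⁻¹ * v ∈ Subgroup.centralizer (K : Set G) :=
      Subgroup.mem_centralizer_iff.2 fun x hx => by
        have h : (v : G) * x * (v : G)⁻¹ = y * x * (y : G)⁻¹ :=
          congrArg Subtype.val (hy ⟨x, hx⟩)
        calc x * ((y : G)⁻¹ * v) = (y : G)⁻¹ * ((y : G) * x * (y : G)⁻¹) * v := by group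
          _ = (y : G)⁻¹ * v * x := by rw [← h]; group
    rw [hC, Subgroup.mem_bot, inv_mul_eq_one] at hyC
    exact hvK (hyC ▸ y.2)
  · have h16 : 16 ∣ Nat.card (H : Subgroup K) := by
      rw [Nat.card_congr eH.toEquiv, Nat.card_congr Multiplicative.toAdd, Nat.card_prod, Nat.card_zmod,
        ← pow_add]
      exact pow_dvd_pow 2 (show 4 ≤ k + k by omega)
    refine CfsgLib.IndexThree.no_generating_involution SK h16 (y := u) (fun h => ?_) htKo hgen
    have h' := orderOf_dvd_of_pow_eq_one (show u ^ 2 = 1 by rw [pow_two]; exact h)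
    rw [hk] at h'
    have := Nat.le_of_dvd two_pos h'
    have : 2 ^ 2 ≤ 2 ^ k := Nat.pow_le_pow_right two_pos h1
    omega

end CfsgLib.Homocyclic
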