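import Mathlib.LinearAlgebra.Matrix.NonsingularInverse
import Mathlib.LinearAlgebra.Matrix.Trace
import Mathlib.RingTheory.LocalRing.ResidueField.Basic
import Mathlib.RingTheory.LocalRing.MaximalIdeal.Basic
import Mathlib.GroupTheory.Perm.Basic

/-!
# Green's vanishing theorem for summands of permutation modules

Let `E` be an idempotent matrix over a local domain `R`, commuting with a permutation `π` of the
index set.  If on the `π`-stable set `S` there is a function `c` with values congruent to `1`
that gets multiplied by `η ≠ 1` along `π`, and the block of `E` off `S` is congruent to `0`, then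
the trace of `π E` vanishes.
-/

namespace CfsgLib.Blocks

open Matrix

variable {R : Type*} [CommRing R] {X : Type*} [Fintype X] [DecidableEq X]

/-- The matrix of a permutation. -/
def permMat (R : Type*) [CommRing R] (π : Equiv.Perm X) : Matrix X X R :=
  fun x y => if π x = y then 1 else 0

theorem permMat_mul_apply (π : Equiv.Perm X) (A : Matrix X X R) (x z : X) :
    (permMat R π * A) x z = A (π x) z := by
  simp [permMat, Matrix.mul_apply, ite_mul]

theorem mul_permMat_apply (π : Equiv.Perm X) (A : Matrix X X R) (x z : X) :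
    (A * permMat R π) x z = A x (π.symm z) := by
  simp [permMat, Matrix.mul_apply, ← Equiv.eq_symm_apply]

theorem commute_permMat {π : Equiv.Perm X} {A : Matrix X X R}
    (h : ∀ x y, A (π x) (π y) = A x y) : Commute (permMat R π) A := by
  ext x z
  rw [permMat_mul_apply, mul_permMat_apply, ← h x (π.symm z), Equiv.apply_symm_apply]

theorem trace_permMat_mul (π : Equiv.Perm X) (A : Matrix X X R) :
    trace (permMat R π * A) = ∑ x, A (π x) x := by
  simp [Matrix.trace, permMat_mul_apply]

variable [IsLocalRing R]

/-- Congruent idempotents commuting with `P` have equal traces against `P`. -/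
theorem trace_mul_eq_of_congruent {P E E' : Matrix X X R} (hE : E * E = E) (hE' : E' * E' = E')
    (hPE : Commute P E) (hPE' : Commute P E')
    (hres : (IsLocalRing.residue R).mapMatrix E' = (IsLocalRing.residue R).mapMatrix E) :
    trace (P * E') = trace (P * E) := by
  classical
  set S := E' * E + (1 - E') * (1 - E) with hS
  have hdet : IsUnit S.det := by
    rw [← IsLocalRing.notMem_maximalIdeal, ← IsLocalRing.residue_eq_zero_iff,
      RingHom.map_det]
    have : (IsLocalRing.residue R).mapMatrix S = 1 := by
      rw [hS, map_add, map_mul, map_mul, map_sub, map_sub, map_one, hres, ← map_mul, hE]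
      simp only [sub_mul, mul_sub, one_mul, mul_one, ← map_mul, hE]
      abel
    rw [this, det_one]
    exact one_ne_zero
  have hSE : S * E = E' * S := by
    rw [hS]
    simp only [add_mul, mul_add, sub_mul, mul_sub, one_mul, mul_one, mul_assoc, hE]
    simp only [← mul_assoc, hE']
    abel
  have hPS : Commute P S :=
    (hPE'.mul_right hPE).add_right
      (((Commute.one_right P).sub_right hPE').mul_right ((Commute.one_right P).sub_right hPE))
  calc trace (P * E') = trace (P * E' * (S * S⁻¹)) := by rw [mul_nonsing_inv S hdet, mul_one]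
    _ = trace (P * S * E * S⁻¹) := by simp only [mul_assoc]; rw [← mul_assoc E', ← hSE, mul_assoc]
    _ = trace (S * (P * E) * S⁻¹) := by rw [hPS.eq]; simp only [mul_assoc]
    _ = trace (S⁻¹ * (S * (P * E))) := trace_mul_comm _ _
    _ = trace (P * E) := by rw [← mul_assoc S⁻¹, nonsing_inv_mul S hdet, one_mul]

variable [IsDomain R]

/-- **Green's vanishing theorem**, matrix form. -/
theorem sum_apply_perm_eq_zero {π : Equiv.Perm X} {S : Finset X} (hS : ∀ x, π x ∈ S ↔ x ∈ S)
    {η : R} (hη : η ≠ 1) {c : X → Rˣ} (hc1 : ∀ x, IsLocalRing.residue R (c x) = 1)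
    (hc : ∀ x ∈ S, (c (π x) : R) = η * c x)
    {E : Matrix X X R} (hE : E * E = E) (hπ : ∀ x y, E (π x) (π y) = E x y)
    (hfix : ∀ x y, x ∉ S → y ∉ S → IsLocalRing.residue R (E x y) = 0) :
    ∑ x, E (π x) x = 0 := by
  classical
  set res := (IsLocalRing.residue R).mapMatrix (m := X) with hresdef
  set P := permMat R π with hP
  set p1 : Matrix X X R := diagonal (fun x => if x ∈ S then 1 else 0) with hp1
  set p0 : Matrix X X R := diagonal (fun x => if x ∈ S then 0 else 1) with hp0
  have hp1P : Commute P p1 := commute_permMat fun x y => by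
    by_cases hxy : x = y <;> simp [hp1, hS, hxy, Matrix.diagonal, π.injective.eq_iff]
  have hp0P : Commute P p0 := commute_permMat fun x y => by
    by_cases hxy : x = y <;> simp [hp0, hS, hxy, Matrix.diagonal, π.injective.eq_iff]
  have hPE : Commute P E := commute_permMat hπ
  have hp01 : p1 = 1 - p0 := by
    ext x y
    by_cases hxy : x = y <;> by_cases hx : x ∈ S <;> simp_all [Matrix.diagonal]
  have hp11 : p1 * p1 = p1 := by simp [hp1, diagonal_mul_diagonal]
  have h00 : res (p0 * E * p0) = 0 := by
    ext x y
    by_cases hx : x ∈ S <;> by_cases hy : y ∈ S <;>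
      simp [hresdef, hp0, diagonal_mul, mul_diagonal, hx, hy, hfix]
  set A := E * p0 * E with hA
  have hA2 : res A * res A = 0 := by
    rw [← map_mul, hA, show E * p0 * E * (E * p0 * E) = E * (p0 * E * p0) * E by
      simp only [mul_assoc]; rw [← mul_assoc E E, hE], map_mul, map_mul, h00]
    simp
  have hdet : IsUnit (1 - A).det := by
    rw [← IsLocalRing.notMem_maximalIdeal, ← IsLocalRing.residue_eq_zero_iff, RingHom.map_det]
    have hu : IsUnit (res (1 - A)) := by
      refine isUnit_iff_exists.2 ⟨1 + res A, ?_, ?_⟩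
      · rw [map_sub, map_one]
        simp only [sub_mul, mul_add, mul_one, one_mul, hA2]
        abel
      · rw [map_sub, map_one]
        simp only [mul_sub, add_mul, mul_one, one_mul, hA2]
        abel
    exact ((Matrix.isUnit_iff_isUnit_det _).1 hu).ne_zero
  set W := (1 - A)⁻¹ with hW
  have hWl : W * (1 - A) = 1 := nonsing_inv_mul _ hdet
  have hWr : (1 - A) * W = 1 := mul_nonsing_inv _ hdet
  have hcommW : ∀ {Y : Matrix X X R}, Commute Y (1 - A) → Commute Y W := fun {Y} hY => by
    calc Y * W = W * (1 - A) * Y * W := by rw [hWl, one_mul]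
      _ = W * Y * ((1 - A) * W) := by rw [mul_assoc W, ← hY.eq]; simp only [mul_assoc]
      _ = W * Y := by rw [hWr, mul_one]
  have hEA : Commute E (1 - A) := by
    refine (Commute.one_right E).sub_right ?_
    show E * A = A * E
    simp only [hA, mul_assoc, hE]
    rw [← mul_assoc E E, hE]
  have hEW := hcommW hEA
  have hPW := hcommW ((Commute.one_right P).sub_right ((hPE.mul_right hp0P).mul_right hPE))
  have hT : E * p1 * E = E * (1 - A) := by
    rw [hp01, mul_sub, mul_one, sub_mul, mul_sub, mul_one, hE, hA]
    simp only [← mul_assoc, hE]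
  set F := p1 * (E * W) * p1 with hF
  have hEWE : E * W * E = E * W := by rw [mul_assoc, ← hEW.eq, ← mul_assoc, hE]
  have hFF : F * F = F := by
    have h1 : E * W * p1 * (E * W) = E * W := by
      calc E * W * p1 * (E * W) = E * W * E * p1 * (E * (E * W)) := by
            rw [hEWE, ← mul_assoc E E, hE]
        _ = E * W * (E * p1 * E) * (E * W) := by simp only [mul_assoc]
        _ = E * W * E * (1 - A) * (E * W) := by rw [hT]; simp only [mul_assoc]
        _ = E * (W * (1 - A)) * (E * W) := by rw [hEWE, mul_assoc E W]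
        _ = E * W := by rw [hWl, mul_one, ← mul_assoc E E, hE]
    calc F * F = p1 * (E * W) * (p1 * p1) * (E * W) * p1 := by simp only [hF, mul_assoc]
      _ = p1 * (E * W * p1 * (E * W)) * p1 := by rw [hp11]; simp only [mul_assoc]
      _ = F := by rw [h1]
  have hPF : Commute P F := (hp1P.mul_right (hPE.mul_right hPW)).mul_right hp1P
  have htrF : trace (P * F) = trace (P * E) := by
    calc trace (P * F) = trace (P * p1 * (E * W) * p1) := by simp only [hF, mul_assoc]
      _ = trace (p1 * (P * p1 * (E * W))) := trace_mul_comm _ _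
      _ = trace (P * (p1 * (E * W))) := by
          rw [← mul_assoc p1, ← mul_assoc p1, ← hp1P.eq, mul_assoc P p1 p1, hp11, mul_assoc P]
      _ = trace (P * (p1 * (E * W) * E)) := by rw [mul_assoc p1, hEWE]
      _ = trace (P * p1 * E * W * E) := by simp only [mul_assoc]
      _ = trace (E * (P * p1 * E * W)) := trace_mul_comm _ _
      _ = trace (P * (E * p1 * E) * W) := by
          rw [show E * (P * p1 * E * W) = P * (E * p1 * E) * W by
            simp only [← mul_assoc]; rw [hPE.eq]]
      _ = trace (P * E) := by rw [hT, mul_assoc, mul_assoc E, hWr, mul_one]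
  rw [← trace_permMat_mul, ← hP, ← htrF]
  have hFsupp : ∀ x y, x ∉ S → F x y = 0 := fun x y hx => by
    simp [hF, mul_assoc, hp1, diagonal_mul, hx]
  have hFsupp' : ∀ x y, y ∉ S → F x y = 0 := fun x y hy => by
    simp [hF, hp1, mul_diagonal, hy]
  have hFπ : ∀ x y, F (π x) (π y) = F x y := fun x y => by
    have := congr_fun (congr_fun hPF.eq x) (π y)
    rwa [hP, permMat_mul_apply, mul_permMat_apply, Equiv.symm_apply_apply] at this
  set F' : Matrix X X R := fun x y => (c x : R) * F x y * ((c y)⁻¹ : Rˣ) with hF'
  have hF'F' : F' * F' = F' := by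
    ext x z
    conv_rhs => rw [hF']; dsimp only; rw [← hFF, Matrix.mul_apply]
    rw [Matrix.mul_apply, Finset.mul_sum, Finset.sum_mul]
    refine Finset.sum_congr rfl fun y _ => ?_
    simp only [hF']
    rw [show (c x : R) * F x y * ((c y)⁻¹ : Rˣ) * ((c y : R) * F y z * ((c z)⁻¹ : Rˣ)) =
      (c x : R) * (F x y * F y z) * ((c z)⁻¹ : Rˣ) * (((c y)⁻¹ : Rˣ) * (c y : R)) by ring,
      Units.inv_mul, mul_one]
  have hcπ : ∀ x ∈ S, ∀ y ∈ S, (c (π x) : R) * ((c (π y))⁻¹ : Rˣ) = c x * ((c y)⁻¹ : Rˣ) := by
    intro x hx y hy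
    rw [← (c (π y)).mul_left_inj, mul_assoc, Units.inv_mul, mul_one, hc x hx, hc y hy,
      show (c x : R) * ((c y)⁻¹ : Rˣ) * (η * c y) = η * c x * (((c y)⁻¹ : Rˣ) * (c y : R)) by ring,
      Units.inv_mul, mul_one]
  have hPF' : Commute P F' := commute_permMat fun x y => by
    simp only [hF', hFπ]
    by_cases hx : x ∈ S
    · by_cases hy : y ∈ S
      · rw [mul_right_comm, hcπ x hx y hy, mul_right_comm]
      · simp [hFsupp' x y hy]
    · simp [hFsupp x y hx]
  have hresF : res F' = res F := by
    ext x y
    have h2 : IsLocalRing.residue R ((c y)⁻¹ : Rˣ) = 1 := by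
      have := congrArg (IsLocalRing.residue R) (Units.inv_mul (c y))
      rwa [map_mul, hc1, mul_one, map_one] at this
    show IsLocalRing.residue R ((c x : R) * F x y * ((c y)⁻¹ : Rˣ)) = IsLocalRing.residue R (F x y)
    rw [map_mul, map_mul, hc1, h2, one_mul, mul_one]
  have heq := trace_mul_eq_of_congruent hFF hF'F' hPF hPF' hresF
  have htr : trace (P * F') = η * trace (P * F) := by
    rw [hP, trace_permMat_mul, trace_permMat_mul, Finset.mul_sum]
    refine Finset.sum_congr rfl fun x _ => ?_
    simp only [hF']
    by_cases hx : x ∈ S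
    · rw [hc x hx, show η * (c x : R) * F (π x) x * ((c x)⁻¹ : Rˣ) =
        η * F (π x) x * ((c x : R) * ((c x)⁻¹ : Rˣ)) by ring, Units.mul_inv, mul_one]
    · simp [hFsupp' _ x hx]
  by_contra hne
  exact hη (mul_right_cancel₀ hne (by rw [← htr, heq, one_mul]))

end CfsgLib.Blocks
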