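import Cfsg.Agent.Lib.Blocks.Basic
import Cfsg.Agent.Lib.Blocks.PermTrace
import Mathlib.GroupTheory.Perm.Cycle.Basic
import Mathlib.RingTheory.RootsOfUnity.Complex
import Mathlib.GroupTheory.OrderOfElement

/-!
# `p`-sections: strong block orthogonality and the vanishing criterion

If `f` is an idempotent of the group algebra over the local ring, commutes with `h`, and is
congruent to `0` on the centralizer of the `p`-part of `h`, then `∑ w, f w * χ (w⁻¹ * h) = 0`
for every irreducible character `χ`.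
-/

namespace CfsgLib.Blocks

open Cfsg MonoidAlgebra
open scoped ComplexConjugate

variable {G : Type*} [Group G] {p : ℕ}

theorem IsPPart.commute {g u : G} (h : IsPPart p g u) : Commute u g := by
  obtain ⟨y, rfl, hc, -, -⟩ := h
  exact (Commute.refl u).mul_right hc

theorem IsPPart.exists_exponent {g u : G} (hp : p.Prime) (h : IsPPart p g u) :
    ∃ m, ¬ p ∣ m ∧ g ^ m = u ^ m ∧ ∃ k, orderOf u = p ^ k := by
  obtain ⟨y, rfl, hc, hk, hy⟩ := h
  exact ⟨orderOf y, hy, by rw [hc.mul_pow, pow_orderOf_eq_one, mul_one], hk⟩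

/-- Two `p`-elements with equal powers of exponent prime to `p` are equal. -/
theorem eq_of_pow_eq_pow (hp : p.Prime) {a b : G} (ha : ∃ k, orderOf a = p ^ k)
    (hb : ∃ k, orderOf b = p ^ k) {m : ℕ} (hm : ¬ p ∣ m) (h : a ^ m = b ^ m) : a = b := by
  obtain ⟨i, hi⟩ := ha
  obtain ⟨j, hj⟩ := hb
  have hq : ∀ (c : G) (k : ℕ), orderOf c ∣ p ^ k → ∀ t, m * t ≡ 1 [MOD p ^ k] → (c ^ m) ^ t = c :=
    fun c k hc t ht => by
      rw [← pow_mul]
      conv_rhs => rw [← pow_one c]
      exact pow_eq_pow_iff_modEq.2 (ht.of_dvd hc)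
  obtain ⟨t, ht⟩ : ∃ t, m * t ≡ 1 [MOD p ^ (i + j + 1)] := by
    obtain ⟨t, -, ht⟩ := Nat.exists_mul_mod_eq_one_of_coprime
      (k := p ^ (i + j + 1)) ((Nat.Coprime.pow_left _ ((hp.coprime_iff_not_dvd).2 hm)).symm)
      (Nat.one_lt_pow (by omega) hp.one_lt)
    exact ⟨t, by rw [Nat.ModEq, ht, Nat.mod_eq_of_lt (Nat.one_lt_pow (by omega) hp.one_lt)]⟩
  rw [← hq a _ (hi ▸ pow_dvd_pow p (by omega)) t ht, ← hq b _ (hj ▸ pow_dvd_pow p (by omega)) t ht, h]

/-- `g ^ j x = x h ^ j` with `j` prime to `p` forces the `p`-parts to correspond. -/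
theorem conj_pPart_eq {g h u v x : G} (hp : p.Prime) (hu : IsPPart p g u) (hv : IsPPart p h v)
    {j : ℕ} (hj : ¬ p ∣ j) (hx : g ^ j * x = x * h ^ j) : x⁻¹ * u * x = v := by
  obtain ⟨m, hm, hmg, hk⟩ := IsPPart.exists_exponent hp hu
  obtain ⟨n, hn, hnh, hl⟩ := IsPPart.exists_exponent hp hv
  have hx' : x⁻¹ * g ^ j * x = h ^ j := by rw [mul_assoc, hx, inv_mul_cancel_left]
  have ho : ∃ k, orderOf (x⁻¹ * u * x) = p ^ k := by
    obtain ⟨k, hk⟩ := hk
    refine ⟨k, ?_⟩
    rw [← hk]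
    exact (MulEquiv.orderOf_eq (MulAut.conj x⁻¹) u) ▸ (by simp)
  refine eq_of_pow_eq_pow hp ho hl (m := j * m * n)
    (fun hd => ((hp.dvd_mul.1 hd).elim (fun hd => (hp.dvd_mul.1 hd).elim hj hm) hn)) ?_
  have h1 : (x⁻¹ * u * x) ^ (j * m * n) = (x⁻¹ * g ^ j * x) ^ (m * n) := by
    rw [show x⁻¹ * u * x = MulAut.conj x⁻¹ u by simp,
      show x⁻¹ * g ^ j * x = MulAut.conj x⁻¹ (g ^ j) by simp, ← map_pow, ← map_pow, ← pow_mul,
      show j * m * n = m * (j * n) by ring, pow_mul u, ← hmg, ← pow_mul]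
    congr 2
    ring
  rw [h1, hx', ← pow_mul, show j * (m * n) = n * (j * m) by ring, pow_mul, hnh, ← pow_mul]
  congr 1
  ring

variable {M : Ideal AlgInt} [M.IsPrime]

/-- A primitive `p`-th root of unity in the local ring, congruent to `1`. -/
theorem exists_root_unity (hM : IsPModular p M) :
    ∃ η : (localRing M)ˣ, η ^ p = 1 ∧ (η : localRing M) ≠ 1 ∧ resHom M η = 1 := by
  have hz := Complex.isPrimitiveRoot_exp p hM.1.ne_zero
  set z := Complex.exp (2 * Real.pi * Complex.I / p) with hzdef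
  have hzp : (⟨z, mem_localRing_of_pow_eq_one hM.1.ne_zero hz.pow_eq_one⟩ : localRing M) ^ p = 1 :=
    Subtype.ext hz.pow_eq_one
  refine ⟨Units.ofPowEqOne _ p hzp hM.1.ne_zero, Units.pow_ofPowEqOne _ _, fun h => ?_, ?_⟩
  · exact hz.ne_one hM.1.one_lt (congrArg Subtype.val h)
  · exact residue_eq_one_of_pow_prime_pow hM (k := 1) (by rw [pow_one]; exact hzp)

variable [Fintype G]

/-- Green's theorem for the action `x ↦ g x h⁻¹` of a cyclic group on `G`. -/
theorem sum_conj_eq_zero (hM : IsPModular p M) {g h u v : G} (hu : IsPPart p g u)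
    (hv : IsPPart p h v) {f : MonoidAlgebra (localRing M) G} (hf : f * f = f)
    (hcomm : ∀ z, f.coeff (h * z * h⁻¹) = f.coeff z)
    (hfix : ∀ x c, x⁻¹ * u * x = v → Commute c v → MemLocalIdeal M (f.coeff c : ℂ)) :
    ∑ x : G, f.coeff (h * x⁻¹ * g⁻¹ * x) = 0 := by
  classical
  set π : Equiv.Perm G := (Equiv.mulLeft g).trans (Equiv.mulRight h⁻¹) with hπ
  have hπx : ∀ x, π x = g * x * h⁻¹ := fun x => rfl
  have hπn : ∀ (n : ℕ) x, (π ^ n) x = g ^ n * x * (h ^ n)⁻¹ := by
    intro n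
    induction n with
    | zero => simp
    | succ n ih =>
      intro x
      rw [pow_succ', Equiv.Perm.mul_apply, ih, hπx, pow_succ' g, pow_succ h]
      group
  let S : Finset G := Finset.univ.filter fun x => ∀ j : ℕ, g ^ j * x = x * h ^ j → p ∣ j
  have hper : ∀ (j : ℕ) x, (π ^ j) x = x ↔ g ^ j * x = x * h ^ j := fun j x => by
    rw [hπn, mul_inv_eq_iff_eq_mul]
  have hSper : ∀ x, x ∈ S ↔ ∀ j : ℕ, (π ^ j) x = x → p ∣ j := fun x => by simp [S, hper]
  have hS : ∀ x, π x ∈ S ↔ x ∈ S := fun x => by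
    rw [hSper, hSper]
    refine forall_congr' fun j => imp_congr_left ?_
    rw [← Equiv.Perm.mul_apply, (Commute.pow_self π j).eq, Equiv.Perm.mul_apply,
      π.apply_eq_iff_eq]
  obtain ⟨η, hηp, hη1, hηres⟩ := exists_root_unity hM
  let r : G → G := fun x => Quotient.out (Quotient.mk (Equiv.Perm.SameCycle.setoid π) x)
  have hr : ∀ x, π.SameCycle (r x) x := fun x =>
    Quotient.exact (Quotient.out_eq (Quotient.mk (Equiv.Perm.SameCycle.setoid π) x))
  choose k hk using fun x => hr x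
  have hrπ : ∀ x, r (π x) = r x := fun x => congrArg Quotient.out
    (Quotient.sound (Equiv.Perm.sameCycle_apply_left.2 (Equiv.Perm.SameCycle.refl π x)))
  have hcc : ∀ x ∈ S, η ^ k (π x) = η * η ^ k x := by
    intro x hx
    have h1 : (π ^ (k (π x) - (k x + 1))) x = x := by
      have e1 : (π ^ k (π x)) (r x) = π x := by
        have := hk (π x)
        rwa [hrπ] at this
      have e2 : (π ^ (k x + 1)) (r x) = π x := by
        rw [add_comm, zpow_add, zpow_one, Equiv.Perm.mul_apply, hk x]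
      have e3 : (π ^ (k (π x) - (k x + 1))) (π x) = π x := by
        calc (π ^ (k (π x) - (k x + 1))) (π x)
            = (π ^ (k (π x) - (k x + 1))) ((π ^ (k x + 1)) (r x)) := congrArg _ e2.symm
          _ = π x := by rw [← Equiv.Perm.mul_apply, ← zpow_add, sub_add_cancel, e1]
      apply π.injective
      rwa [← Equiv.Perm.mul_apply, (Commute.self_zpow π _).eq, Equiv.Perm.mul_apply]
    have h2 : (p : ℤ) ∣ k (π x) - (k x + 1) := by
      obtain ⟨n, hn⟩ := Int.eq_nat_or_neg (k (π x) - (k x + 1))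
      rcases hn with hn | hn <;> rw [hn] at h1 ⊢
      · rw [zpow_natCast] at h1
        exact Int.natCast_dvd_natCast.2 ((hSper x).1 hx n h1)
      · rw [zpow_neg, zpow_natCast, Equiv.Perm.inv_eq_iff_eq] at h1
        exact (Int.natCast_dvd_natCast.2 ((hSper x).1 hx n h1.symm)).neg_right
    obtain ⟨t, ht⟩ := h2
    rw [show k (π x) = (p : ℤ) * t + (k x + 1) by omega, zpow_add, zpow_mul, zpow_natCast, hηp,
      one_zpow, one_mul, zpow_add, zpow_one, mul_comm]
  have hcres : ∀ x, resHom M ((η ^ k x : (localRing M)ˣ) : localRing M) = 1 := fun x => by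
    have : Units.map (resHom M).toMonoidHom η = 1 := Units.ext hηres
    have h2 := congrArg Units.val (map_zpow (Units.map (resHom M).toMonoidHom) η (k x))
    rw [this, one_zpow] at h2
    exact h2
  have main := sum_apply_perm_eq_zero (R := localRing M) (π := π) (S := S) hS hη1
    (c := fun x => η ^ k x) hcres (fun x hx => by rw [hcc x hx, Units.val_mul])
    (E := Matrix.of fun x y => f.coeff (x⁻¹ * y)) ?_ ?_ ?_
  · rw [← main]
    refine Finset.sum_congr rfl fun x _ => ?_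
    rw [Matrix.of_apply]
    congr 1
    rw [hπx]
    group
  · refine Matrix.ext fun x z => ?_
    rw [Matrix.mul_apply]
    simp only [Matrix.of_apply]
    conv_rhs => rw [← hf, coeff_mul_eq_sum]
    refine Fintype.sum_equiv (Equiv.mulLeft x⁻¹) _ _ fun y => ?_
    simp [mul_assoc]
  · intro x y
    simp only [Matrix.of_apply]
    rw [hπx, hπx, ← hcomm (x⁻¹ * y)]
    congr 1
    group
  · intro x y hx hy
    simp only [S, Finset.mem_filter, Finset.mem_univ, true_and, not_forall] at hx hy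
    obtain ⟨i, hi, hpi⟩ := hx
    obtain ⟨j, hj, hpj⟩ := hy
    have h1 := conj_pPart_eq hM.1 hu hv hpi hi
    have h2 := conj_pPart_eq hM.1 hu hv hpj hj
    refine residue_eq_zero_iff.2 (hfix x _ h1 ?_)
    have h3 : y * v * y⁻¹ = u := by rw [← h2]; group
    have h4 : x⁻¹ * (y * v * y⁻¹) * x = v := by rw [h3, h1]
    show x⁻¹ * y * v = v * (x⁻¹ * y)
    conv_rhs => rw [← h4]
    group

/-- The sum of a character over a class translate. -/
theorem sum_char_mul_conj (χ : IrrCharacter G) (a b : G) :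
    ∑ x : G, (χ : G → ℂ) (a * (x * b * x⁻¹)) =
      (Nat.card G : ℂ) * (χ : G → ℂ) a * (χ : G → ℂ) b / (χ : G → ℂ) 1 := by
  classical
  set c : MonoidAlgebra ℂ G := ∑ x : G, single (x * b * x⁻¹) 1 with hc
  have hcC : IsCentralElt c := fun g t => by
    simp only [hc, coeff_sum, Finsupp.coe_finsetSum, Finset.sum_apply, coeff_single]
    refine Fintype.sum_equiv (Equiv.mulLeft t⁻¹) _ _ fun x => ?_
    rw [Finsupp.single_apply, Finsupp.single_apply]
    refine if_congr ?_ rfl rfl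
    simp only [Equiv.coe_mulLeft, mul_inv_rev, inv_inv]
    exact ⟨fun e => by rw [show t⁻¹ * x * b * (x⁻¹ * t) = t⁻¹ * (x * b * x⁻¹) * t by group, e]; group,
      fun e => by rw [← e]; group⟩
  have hsingle : ∀ y : G, omega (χ : G → ℂ) (single y 1) = (χ : G → ℂ) y / (χ : G → ℂ) 1 := fun y => by
    simp [omega_apply, coeff_single, Finsupp.single_apply]
  have h := omega_mul χ hcC (single a 1)
  simp only [hc, Finset.sum_mul, map_sum, single_mul_single, one_mul, hsingle,
    fun x => Char.isClassFunction_iff_isConj.1 (Char.IsIrr.isClassFunction χ.2) (x * b * x⁻¹) b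
      (isConj_iff.2 ⟨x⁻¹, by group⟩), Finset.sum_const, Finset.card_univ] at h
  rw [← Finset.sum_div, div_eq_iff (Char.IsIrr.apply_one_ne_zero χ.2)] at h
  simp only [Char.IsChar.map_mul_comm (Char.IsIrr.isCharacter χ.2) a]
  rw [h, nsmul_eq_mul, Nat.card_eq_fintype_card]
  field_simp [Char.IsIrr.apply_one_ne_zero χ.2]

/-- **Strong block orthogonality**: different `p`-sections. -/
theorem sum_block_apply_mul_eq_zero (hM : IsPModular p M) {B : Set (IrrCharacter G)}
    (hB : IsPBlock M B) {g h u v : G} (hu : IsPPart p g u) (hv : IsPPart p h v)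
    (hne : ¬ IsConj u v) : ∑ᶠ χ ∈ B, (χ : G → ℂ) g * (χ : G → ℂ) h⁻¹ = 0 := by
  classical
  have := Fintype.ofFinite (IrrCharacter G)
  have h0 := sum_conj_eq_zero hM hu hv (f := blockIdemO M B) (blockIdemO_mul_self hB)
    (fun z => isCentralElt_blockIdemO hB z h)
    (fun x c hx _ => absurd (isConj_iff.2 ⟨x⁻¹, by rw [inv_inv]; exact hx⟩) hne)
  have h1 := congrArg Subtype.val h0
  rw [AddSubmonoidClass.coe_finsetSum, ZeroMemClass.coe_zero] at h1
  simp only [← coeff_inc, inc_blockIdemO hB, coeff_blockIdem, blockCoeff_eq_sum, ← Finset.mul_sum,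
    mul_inv_rev, inv_inv] at h1
  rw [Finset.sum_comm] at h1
  rw [finsum_mem_eq_finite_toFinset_sum _ (Set.toFinite B)]
  refine Eq.trans ?_ h1
  rw [Finset.mul_sum]
  refine Finset.sum_congr (by ext; simp) fun χ _ => ?_
  rw [← Finset.mul_sum]
  have : ∑ x : G, (χ : G → ℂ) (x⁻¹ * (g * (x * h⁻¹))) =
      (Nat.card G : ℂ) * (χ : G → ℂ) h⁻¹ * (χ : G → ℂ) g / (χ : G → ℂ) 1 := by
    rw [← sum_char_mul_conj χ h⁻¹ g]
    refine Fintype.sum_equiv (Equiv.inv G) _ _ fun x => ?_
    rw [Equiv.inv_apply, inv_inv, Char.IsChar.map_mul_comm (Char.IsIrr.isCharacter χ.2) h⁻¹]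
    simp only [mul_assoc]
  rw [this]
  field_simp [Char.IsIrr.apply_one_ne_zero χ.2, Nat.cast_ne_zero.2 Nat.card_pos.ne']

/-- The vanishing criterion behind Brauer's second main theorem. -/
theorem sum_mul_apply_eq_zero (hM : IsPModular p M) {h v : G} (hv : IsPPart p h v)
    {f : MonoidAlgebra (localRing M) G} (hf : f * f = f)
    (hcomm : ∀ z, f.coeff (h * z * h⁻¹) = f.coeff z)
    (hfix : ∀ c, Commute c v → MemLocalIdeal M (f.coeff c : ℂ)) (χ : IrrCharacter G)
    (hpart : ∀ g : G, ∃ u, IsPPart p g u) :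
    ∑ w : G, (f.coeff w : ℂ) * (χ : G → ℂ) (w⁻¹ * h) = 0 := by
  classical
  have h1 : ∀ g : G, ∑ x : G, (f.coeff (h * x⁻¹ * g⁻¹ * x) : ℂ) * (χ : G → ℂ) g = 0 := fun g => by
    obtain ⟨u, hu⟩ := hpart g
    have := congrArg Subtype.val (sum_conj_eq_zero hM hu hv hf hcomm fun _ c _ hc => hfix c hc)
    rw [AddSubmonoidClass.coe_finsetSum, ZeroMemClass.coe_zero] at this
    rw [← Finset.sum_mul, this, zero_mul]
  have h2 : ∀ x : G, ∑ g : G, (f.coeff (h * x⁻¹ * g⁻¹ * x) : ℂ) * (χ : G → ℂ) g =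
      ∑ w : G, (f.coeff w : ℂ) * (χ : G → ℂ) (w⁻¹ * h) := fun x => by
    refine Fintype.sum_equiv ((Equiv.inv G).trans ((Equiv.mulLeft (h * x⁻¹)).trans
      (Equiv.mulRight x))) _ _ fun g => ?_
    simp only [Equiv.trans_apply, Equiv.inv_apply, Equiv.coe_mulLeft, Equiv.coe_mulRight]
    congr 1
    refine Char.isClassFunction_iff_isConj.1 (Char.IsIrr.isClassFunction χ.2) _ _
      (isConj_iff.2 ⟨x⁻¹, ?_⟩)
    group
  have h3 := Finset.sum_eq_zero (s := Finset.univ) fun g _ => h1 g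
  rw [Finset.sum_comm, Finset.sum_congr rfl fun x _ => h2 x, Finset.sum_const, Finset.card_univ,
    smul_eq_zero] at h3
  exact h3.resolve_left Fintype.card_pos.ne'

end CfsgLib.Blocks
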