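import Cfsg.Agent.Lib.Blocks.DefectNumber
import Cfsg.Agent.Lib.Blocks.Sections

/-!
# Vanishing of characters outside the sections of a defect group
-/

namespace CfsgLib.Blocks

open Cfsg MonoidAlgebra CfsgLib.Fusion

variable {G : Type*} [Group G] [Fintype G] {p : ℕ} [Fact p.Prime] {M : Ideal AlgInt} [M.IsPrime]

omit [Fact p.Prime] in
/-- The vanishing criterion, in the form `∑ w, f w * χ (w * h) = 0`. -/
theorem sum_apply_mul_eq_zero (hM : IsPModular p M) {h v : G} (hv : IsPPart p h v)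
    {f : MonoidAlgebra (localRing M) G} (hf : f * f = f)
    (hcomm : ∀ z, f.coeff (h * z * h⁻¹) = f.coeff z)
    (hfix : ∀ c, Commute c v → MemLocalIdeal M (f.coeff c : ℂ)) (χ : IrrCharacter G) :
    ∑ w : G, (f.coeff w : ℂ) * (χ : G → ℂ) (w * h) = 0 := by
  let f' : MonoidAlgebra (localRing M) G := ofFun fun w => f.coeff w⁻¹
  have hf' : f' * f' = f' := by
    refine MonoidAlgebra.ext (Finsupp.ext fun z => ?_)
    rw [coeff_mul_eq_sum]
    show ∑ x, f.coeff x⁻¹ * f.coeff (x⁻¹ * z)⁻¹ = f.coeff z⁻¹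
    conv_rhs => rw [← hf, coeff_mul_eq_sum]
    refine Fintype.sum_equiv (Equiv.mulLeft z⁻¹) _ _ fun x => ?_
    simp only [Equiv.coe_mulLeft, mul_inv_rev, inv_inv, inv_mul_cancel_right, mul_inv_cancel_right]
    ring
  have h0 := sum_mul_apply_eq_zero hM hv (f := f') hf' (fun z => by
      show f.coeff (h * z * h⁻¹)⁻¹ = f.coeff z⁻¹
      rw [← hcomm z⁻¹]
      congr 1
      group)
    (fun c hc => hfix c⁻¹ hc.inv_left) χ (exists_pPart hM.1)
  refine Eq.trans ?_ h0
  refine Fintype.sum_equiv (Equiv.inv G) _ _ fun w => ?_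
  simp [f']

/-- Characters vanish at elements whose `p`-part is outside all defect groups. -/
theorem apply_eq_zero_of_pPart_notMem (hM : IsPModular p M) {B : Set (IrrCharacter G)}
    (hB : IsPBlock M B) {χ : IrrCharacter G} (hχ : χ ∈ B) {g z : G} (hz : IsPPart p g z)
    (hD : ∀ D : Subgroup G, IsDefectGroup p M B D → z ∉ D) : (χ : G → ℂ) g = 0 := by
  classical
  have h0 := sum_apply_mul_eq_zero hM hz (blockIdemO_mul_self hB)
    (fun w => isCentralElt_blockIdemO hB w g) (fun c hc => ?_) χ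
  · have h1 := omega_mul χ (isCentralElt_blockIdem B) (single g 1)
    rw [omega_blockIdem, if_pos hχ, one_mul] at h1
    simp only [omega_apply] at h1
    rw [div_left_inj' (Char.IsIrr.apply_one_ne_zero χ.2)] at h1
    have h2 : ∑ x, ((single g (1 : ℂ)) : MonoidAlgebra ℂ G).coeff x * (χ : G → ℂ) x = (χ : G → ℂ) g := by
      simp [coeff_single, Finsupp.single_apply]
    rw [h2] at h1
    rw [← h1, ← h0]
    refine Fintype.sum_equiv (Equiv.mulRight g⁻¹) _ _ fun w => ?_
    rw [coeff_mul_eq_sum, Finset.sum_eq_single (w * g⁻¹) (fun x _ hx => ?_) (by simp)]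
    · rw [← inc_blockIdemO (M := M) hB, coeff_inc]
      simp [coeff_single, Equiv.mulRight, mul_assoc]
    · rw [coeff_single, Finsupp.single_apply, if_neg, mul_zero]
      exact fun e => hx (by rw [e]; group)
  · by_contra hne
    obtain ⟨D, hDd⟩ := exists_isDefectGroup (p := p) hB
    have hne' : (blockIdemBar M B).coeff c ≠ 0 := fun e => hne (by
      rw [blockIdemBar, coeff_red, residue_eq_zero_iff] at e
      exact e)
    obtain ⟨y, -, -, ⟨k, hk⟩, -⟩ := hz
    have hp : IsPGroup p (Subgroup.zpowers z) :=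
      IsPGroup.of_card (n := k) (by rw [Nat.card_zpowers, hk])
    obtain ⟨x, hx⟩ := IsDefectGroup.defLE_of_coeff_ne_zero hM hB hDd hne' (Subgroup.zpowers z) hp
      (by rw [Subgroup.zpowers_le, mem_centralizer_singleton]; exact hc.symm)
    refine hD _ (IsDefectGroup.map_conj hDd x⁻¹) ⟨x * z * x⁻¹, hx z (Subgroup.mem_zpowers z), ?_⟩
    simp [mul_assoc]

/-- A height zero character detects the `p`-sections of the defect groups. -/
theorem exists_apply_ne_zero_iff (hM : IsPModular p M) {B : Set (IrrCharacter G)}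
    (hB : IsPBlock M B) {D : Subgroup G} (hD : IsDefectGroup p M B D) {χ : IrrCharacter G}
    (hχ : χ ∈ B) (h0 : blockHeight p B (χ : G → ℂ) = 0) {x : G} (hx : ∃ k, orderOf x = p ^ k) :
    (∃ g : G, g * x * g⁻¹ ∈ D) ↔
      ∃ u : G, (∃ z : G, IsPPart p u z ∧ IsConj x z) ∧ (χ : G → ℂ) u ≠ 0 := by
  constructor
  · rintro ⟨g, hg⟩
    obtain ⟨y, hy, hle, -⟩ := isDefectGroup_iff.1 hD
    have hc : Commute (g * x * g⁻¹) y := mem_centralizer_singleton.1 (hle hg)
    have hord : ∃ k, orderOf (g * x * g⁻¹) = p ^ k := by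
      obtain ⟨k, hk⟩ := hx
      exact ⟨k, by rw [← hk]; exact MulEquiv.orderOf_eq (MulAut.conj g) x⟩
    refine ⟨g * x * g⁻¹ * y, ⟨g * x * g⁻¹, ⟨y, rfl, hc, hord,
      IsDefectClass.not_dvd_orderOf hM hB hy⟩, isConj_iff.2 ⟨g, rfl⟩⟩, fun h => ?_⟩
    refine not_memLocalIdeal_apply_mul hM hB hy hc hord hχ h0 ?_
    rw [h]
    exact (memLocalIdeal_iff_not_isUnit (z := (0 : localRing M))).2 not_isUnit_zero
  · rintro ⟨u, ⟨z, hz, hxz⟩, hne⟩
    by_contra hcon
    refine hne (apply_eq_zero_of_pPart_notMem hM hB hχ hz fun D' hD' hzD => hcon ?_)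
    obtain ⟨c, rfl⟩ := isConj_iff.1 hxz
    obtain ⟨w, hw⟩ := IsDefectGroup.exists_conj hM hB hD' hD
    refine ⟨w * c, ?_⟩
    rw [← hw]
    exact ⟨c * x * c⁻¹, hzD, by simp [mul_assoc]⟩

end CfsgLib.Blocks
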