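import Cfsg.Agent.Lib.Blocks.FirstMain
import Cfsg.Agent.Lib.Blocks.Vanishing

/-!
# Brauer's second main theorem, and fusion of the centre of a defect group
-/

namespace CfsgLib.Blocks

open Cfsg MonoidAlgebra CfsgLib.Fusion

variable {G : Type*} [Group G] [Fintype G] {p : ℕ} [Fact p.Prime] {M : Ideal AlgInt} [M.IsPrime]

omit [Fintype G] [Fact p.Prime] in
theorem IsPPart.map_subtype {H : Subgroup G} {k z : H} (h : IsPPart p k z) :
    IsPPart p (k : G) (z : G) := by
  obtain ⟨y, rfl, hc, ⟨j, hj⟩, hy⟩ := h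
  exact ⟨y, rfl, hc.map H.subtype, ⟨j, by rw [← hj]; exact Subgroup.orderOf_coe z⟩,
    by rwa [Subgroup.orderOf_coe]⟩

theorem sum_apply_mul_eq_omega (χ : IrrCharacter G) (a : MonoidAlgebra ℂ G) (h : G) :
    ∑ w, a.coeff w * (χ : G → ℂ) (w * h) =
      (χ : G → ℂ) 1 * omega (χ : G → ℂ) (a * single h 1) := by
  classical
  rw [omega_apply, mul_div_cancel₀ _ (Char.IsIrr.apply_one_ne_zero χ.2)]
  refine Fintype.sum_equiv (Equiv.mulRight h) _ _ fun w => ?_
  rw [coeff_mul_eq_sum, Finset.sum_eq_single w (fun x _ hx => ?_) (by simp)]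
  · simp [coeff_single, Equiv.mulRight]
  · rw [coeff_single, Finsupp.single_apply, if_neg, mul_zero]
    intro e
    exact hx (by simpa using congrArg (fun t => x * t * h⁻¹) e)

variable (hM : IsPModular p M)
include hM

/-- **The second main theorem**, idempotent form. -/
theorem sum_blockCoeff_mul_apply_eq_zero {H : Subgroup G} [Fintype H]
    {b : Set (IrrCharacter H)} {B : Set (IrrCharacter G)} (hind : IsInducedBlock M H b B)
    (h : H) (hC : ∀ z : G, IsPPart p (h : G) z → Subgroup.centralizer ({z} : Set G) ≤ H)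
    {χ : IrrCharacter G} (hχ : χ ∉ B) :
    ∑ k : H, blockCoeff b k * (χ : G → ℂ) ((k : G) * (h : G)) = 0 := by
  classical
  have := charP_residueField hM
  obtain ⟨hb, hB, hall⟩ := isInducedBlock_iff.1 hind
  obtain ⟨z, hz⟩ := exists_pPart hM.1 (h : G)
  have hzH := hC z hz
  set B' := blockOf M (χ : G → ℂ) with hB'def
  have hB' : IsPBlock M B' := isPBlock_blockOf χ
  let E : MonoidAlgebra (localRing M) G :=
    ofFun fun w => if hw : w ∈ H then (blockIdemO M b).coeff ⟨w, hw⟩ else 0
  have hEval : ∀ k : H, E.coeff (k : G) = (blockIdemO M b).coeff k := fun k => by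
    simp [E, k.2]
  have hEout : ∀ w, w ∉ H → E.coeff w = 0 := fun w hw => by simp [E, hw]
  have hEinv : ∀ (k : H) (w : G), E.coeff ((k : G) * w * (k : G)⁻¹) = E.coeff w := by
    intro k w
    by_cases hw : w ∈ H
    · rw [show (k : G) * w * (k : G)⁻¹ = ((k * ⟨w, hw⟩ * k⁻¹ : H) : G) by simp, hEval,
        isCentralElt_blockIdemO hb ⟨w, hw⟩ k, ← hEval]
    · rw [hEout w hw, hEout]
      exact fun hmem => hw (by simpa [mul_assoc] using mul_mem (mul_mem (inv_mem k.2) hmem) k.2)
  have hmulH : ∀ (a : MonoidAlgebra (localRing M) G) (c : H),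
      (E * a).coeff (c : G) = (blockIdemO M b * resElt H a).coeff c := by
    intro a c
    rw [coeff_mul_eq_sum, coeff_mul_eq_sum,
      ← Finset.sum_filter_of_ne (p := fun x : G => x ∈ H) (s := Finset.univ)
        (fun x _ hne => by by_contra hx; simp [hEout x hx] at hne)]
    rw [Finset.sum_subtype (p := fun x : G => x ∈ H) _ (by simp)]
    refine Finset.sum_congr rfl fun x _ => ?_
    rw [hEval, coeff_resElt]
    rfl
  have hEE : E * E = E := by
    refine MonoidAlgebra.ext (Finsupp.ext fun w => ?_)
    by_cases hw : w ∈ H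
    · have e1 : resElt H E = blockIdemO M b := MonoidAlgebra.ext (Finsupp.ext fun k => hEval k)
      rw [← show ((⟨w, hw⟩ : H) : G) = w from rfl, hmulH, e1, blockIdemO_mul_self hb, hEval]
    · rw [hEout w hw, coeff_mul_eq_sum]
      refine Finset.sum_eq_zero fun x _ => ?_
      by_cases hx : x ∈ H
      · rw [hEout (x⁻¹ * w) fun h' => hw (by simpa using mul_mem hx h'), mul_zero]
      · rw [hEout x hx, zero_mul]
  set F' := blockIdemO M B'
  have hF : IsCentralElt F' := isCentralElt_blockIdemO hB'
  set f := E * F' with hfdef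
  have hff : f * f = f := by
    rw [hfdef, mul_assoc, ← mul_assoc F', (hF.commute E).eq, mul_assoc E F',
      blockIdemO_mul_self hB', ← mul_assoc, hEE]
  have hfcomm : ∀ w, f.coeff ((h : G) * w * (h : G)⁻¹) = f.coeff w := by
    intro w
    rw [hfdef, coeff_mul_eq_sum, coeff_mul_eq_sum]
    refine Fintype.sum_equiv (MulAut.conj (h : G)⁻¹).toEquiv _ _ fun x => ?_
    simp only [MulEquiv.toEquiv_eq_coe, MulEquiv.coe_toEquiv, MulAut.conj_apply, inv_inv]
    congr 1
    · rw [← hEinv h ((h : G)⁻¹ * x * (h : G))]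
      congr 1
      group
    · rw [← hF (((h : G)⁻¹ * x * (h : G))⁻¹ * w) (h : G)]
      congr 1
      group
  have hvH : z ∈ H := hzH (mem_centralizer_singleton.2 (Commute.refl z))
  have hfix : ∀ c, Commute c z → MemLocalIdeal M (f.coeff c : ℂ) := by
    intro c hc
    obtain ⟨k, hk⟩ : ∃ k, orderOf z = p ^ k := by
      obtain ⟨-, -, -, hk, -⟩ := hz
      exact hk
    have hP : IsPGroup p (Subgroup.zpowers z) :=
      IsPGroup.of_card (n := k) (by rw [Nat.card_zpowers, hk])
    have hP' : IsPGroup p (Subgroup.zpowers (⟨z, hvH⟩ : H)) :=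
      IsPGroup.of_card (n := k) (by rw [Nat.card_zpowers, ← Subgroup.orderOf_coe, hk])
    set u := blockIdemBar M b * resElt H (blockIdemBar M B') with hu
    have huc : IsCentralElt u :=
      (isCentralElt_blockIdemBar hb).mul (isCentralElt_resElt H (isCentralElt_blockIdemBar hB'))
    obtain ⟨n, hn⟩ := isNilpotent_of_omegaBar_eq_zero huc fun ξ => by
      rw [hu, omegaBar_mul ξ (isCentralElt_blockIdemBar hb)
        (isCentralElt_resElt H (isCentralElt_blockIdemBar hB')), omegaBar_blockIdemBar hb]
      split_ifs with hξ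
      · obtain ⟨χ₀, hχ₀⟩ := IsPBlock.nonempty hB
        rw [hall ξ hξ χ₀ hχ₀ _ (isCentralElt_blockIdemBar hB'), omegaBar_blockIdemBar hB',
          if_neg fun hm => hχ (IsPBlock.eq_of_mem hB hB' hχ₀ hm ▸ mem_blockOf_self χ), mul_zero]
      · rw [zero_mul]
    have hredf : red M f * red M f = red M f := by rw [← map_mul, hff]
    have hagree : ∀ c : H, (red M f).coeff (c : G) = u.coeff c := by
      intro c
      rw [coeff_red, hfdef, hmulH, ← coeff_red, map_mul, hu,
        show red M (resElt H F') = resElt H (blockIdemBar M B') from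
          MonoidAlgebra.ext (Finsupp.ext fun k => by simp [blockIdemBar, F'])]
      rfl
    have hpow : ∀ m, ∀ c : H, Commute (c : G) z →
        (u ^ (m + 1)).coeff c = (red M f).coeff (c : G) := by
      intro m
      induction m with
      | zero =>
        intro c _
        rw [pow_one, hagree]
      | succ m ih =>
        intro c hc
        have hcP : c ∈ Subgroup.centralizer
            ((Subgroup.zpowers (⟨z, hvH⟩ : H) : Subgroup H) : Set H) := by
          rw [mem_centralizer_iff_le, Subgroup.zpowers_le, mem_centralizer_singleton]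
          exact Subtype.ext hc.symm
        have hcP' : (c : G) ∈ Subgroup.centralizer ((Subgroup.zpowers z : Subgroup G) : Set G) := by
          rw [mem_centralizer_iff_le, Subgroup.zpowers_le, mem_centralizer_singleton]
          exact hc.symm
        have hfz : ∀ w ∈ Subgroup.zpowers z, ∀ x, (red M f).coeff (w * x * w⁻¹) = (red M f).coeff x := by
          intro w hw x
          rw [coeff_red, coeff_red]
          congr 1
          have hwH : w ∈ H := (Subgroup.zpowers_le.2 hvH) hw
          rw [hfdef, coeff_mul_eq_sum, coeff_mul_eq_sum]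
          refine Fintype.sum_equiv (MulAut.conj w⁻¹).toEquiv _ _ fun y => ?_
          simp only [MulEquiv.toEquiv_eq_coe, MulEquiv.coe_toEquiv, MulAut.conj_apply, inv_inv]
          congr 1
          · rw [← hEinv ⟨w, hwH⟩ (w⁻¹ * y * w)]
            congr 1
            simp [mul_assoc]
          · rw [← hF ((w⁻¹ * y * w)⁻¹ * x) w]
            congr 1
            group
        rw [pow_succ, coeff_mul_eq_sum_centralizer hP' (fun w _ x => huc.pow (m + 1) x w)
            (fun w _ x => huc x w) hcP, ← hredf, coeff_mul_eq_sum_centralizer hP hfz hfz hcP']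
        refine Finset.sum_nbij' Subtype.val (fun x => if hx : x ∈ H then ⟨x, hx⟩ else 1) ?_ ?_ ?_ ?_ ?_
        · intro x hx
          have h1 := (Finset.mem_filter.1 hx).2
          rw [mem_centralizer_iff_le, Subgroup.zpowers_le, mem_centralizer_singleton] at h1
          simp only [Finset.coe_filter, Finset.mem_filter, Finset.mem_univ, true_and,
            Set.mem_setOf_eq]
          rw [mem_centralizer_iff_le, Subgroup.zpowers_le, mem_centralizer_singleton]
          exact congrArg Subtype.val h1
        · intro x hx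
          have h1 := (Finset.mem_filter.1 hx).2
          rw [mem_centralizer_iff_le, Subgroup.zpowers_le, mem_centralizer_singleton] at h1
          have h2 : x ∈ H := hzH (mem_centralizer_singleton.2 h1.symm)
          simp only [Finset.coe_filter, Finset.mem_filter, Finset.mem_univ, true_and,
            Set.mem_setOf_eq, dif_pos h2]
          rw [mem_centralizer_iff_le, Subgroup.zpowers_le, mem_centralizer_singleton]
          exact Subtype.ext h1
        · intro x _
          simp
        · intro x hx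
          have h1 := (Finset.mem_filter.1 hx).2
          rw [mem_centralizer_iff_le, Subgroup.zpowers_le, mem_centralizer_singleton] at h1
          simp [hzH (mem_centralizer_singleton.2 h1.symm)]
        · intro x hx
          have h1 := (Finset.mem_filter.1 hx).2
          rw [mem_centralizer_iff_le, Subgroup.zpowers_le, mem_centralizer_singleton] at h1
          have h1' : Commute (x : G) z := (congrArg Subtype.val h1 : z * (x : G) = x * z).symm
          rw [← ih x h1', ← hagree (x⁻¹ * c)]
          simp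
    have hz0 := hpow n ⟨c, hzH (mem_centralizer_singleton.2 hc)⟩ hc
    rw [pow_succ, hn, zero_mul] at hz0
    simp only [coeff_zero, Finsupp.coe_zero, Pi.zero_apply, coeff_red] at hz0
    exact residue_eq_zero_iff.1 hz0.symm
  have h0 := sum_apply_mul_eq_zero hM hz hff hfcomm hfix χ
  have h1 : ∑ w, (inc M f).coeff w * (χ : G → ℂ) (w * h) =
      ∑ w, (inc M E).coeff w * (χ : G → ℂ) (w * h) := by
    rw [sum_apply_mul_eq_omega, sum_apply_mul_eq_omega, hfdef, (hF.commute E).eq.symm, map_mul (inc M),
      inc_blockIdemO hB', mul_assoc, omega_mul χ (isCentralElt_blockIdem B'), omega_blockIdem,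
      if_pos (mem_blockOf_self χ), one_mul]
  simp only [coeff_inc] at h1
  rw [h1, ← Finset.sum_filter_of_ne (p := fun x : G => x ∈ H) (s := Finset.univ)
      (fun x _ hne => by by_contra hx; simp [hEout x hx] at hne),
    Finset.sum_subtype (p := fun x : G => x ∈ H) _ (by simp)] at h0
  refine Eq.trans (Finset.sum_congr rfl fun k _ => ?_) h0
  rw [hEval, ← coeff_inc, inc_blockIdemO hb, coeff_blockIdem]

omit [Fact p.Prime] [M.IsPrime] hM in
/-- A block part as a convolution with the block idempotent. -/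
theorem blockPart_eq_sum_blockCoeff (b : Set (IrrCharacter G)) {θ : G → ℂ}
    (hθ : IsClassFunction G θ) (y : G) :
    blockPart b θ y = ∑ k, blockCoeff b k * θ (k * y) := by
  classical
  have := Fintype.ofFinite (IrrCharacter G)
  have hexp : ∀ g, θ g = ∑ ψ : IrrCharacter G, classInner θ (ψ : G → ℂ) * (ψ : G → ℂ) g := fun g => by
    conv_lhs => rw [Char.classFunction_eq_sum hθ]
    simp
  have hψ : ∀ ψ : IrrCharacter G, ∑ k, blockCoeff b k * (ψ : G → ℂ) (k * y) =
      if ψ ∈ b then (ψ : G → ℂ) y else 0 := fun ψ => by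
    rw [show ∑ k, blockCoeff b k * (ψ : G → ℂ) (k * y) =
      ∑ k, (blockIdem b).coeff k * (ψ : G → ℂ) (k * y) from rfl, sum_apply_mul_eq_omega,
      omega_mul ψ (isCentralElt_blockIdem b), omega_blockIdem, omega_apply]
    split_ifs
    · rw [one_mul, mul_div_cancel₀ _ (Char.IsIrr.apply_one_ne_zero ψ.2)]
      simp [coeff_single, Finsupp.single_apply]
    · simp
  simp only [hexp (_ * y), Finset.mul_sum, mul_left_comm (blockCoeff b _)]
  rw [Finset.sum_comm]
  simp only [← Finset.mul_sum, hψ, mul_ite, mul_zero, ← Finset.sum_filter]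
  rw [blockPart_eq, finsum_mem_eq_finite_toFinset_sum _ (Set.toFinite b)]
  exact Finset.sum_congr (by ext; simp) fun _ _ => rfl

/-- **Brauer's second main theorem**. -/
theorem blockPart_eq_zero_of_not_induced {x : G} (hx : ∃ k : ℕ, orderOf x = p ^ k)
    [Fintype (Subgroup.centralizer ({x} : Set G))]
    {B : Set (IrrCharacter G)} (hB : IsPBlock M B) {χ : IrrCharacter G} (hχ : χ ∈ B)
    {b : Set (IrrCharacter (Subgroup.centralizer ({x} : Set G)))} (hb : IsPBlock M b)
    (hnot : ¬ IsInducedBlock M (Subgroup.centralizer ({x} : Set G)) b B)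
    {y : Subgroup.centralizer ({x} : Set G)} (hy : ¬ p ∣ orderOf y) :
    blockPart b (fun c : Subgroup.centralizer ({x} : Set G) => (χ : G → ℂ) (x * (c : G))) y = 0 := by
  let H := Subgroup.centralizer ({x} : Set G)
  obtain ⟨k, hk⟩ := hx
  have hxH : x ∈ H := mem_centralizer_singleton.2 (Commute.refl x)
  have hP : IsPGroup p (Subgroup.zpowers x) :=
    IsPGroup.of_card (n := k) (by rw [Nat.card_zpowers, hk])
  have hCH : Subgroup.centralizer ((Subgroup.zpowers x : Subgroup G) : Set G) ≤ H := fun c hc =>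
    mem_centralizer_singleton.2 (Subgroup.mem_centralizer_iff.1 hc x (Subgroup.mem_zpowers x)).symm
  have hHC : H ≤ Subgroup.centralizer ((Subgroup.zpowers x : Subgroup G) : Set G) := fun c hc => by
    rw [mem_centralizer_iff_le, Subgroup.zpowers_le, mem_centralizer_singleton]
    exact (mem_centralizer_singleton.1 hc).symm
  obtain ⟨B₂, hind⟩ := exists_isInducedBlock (H := H) hM hP (Subgroup.zpowers_le.2 hxH) hCH
    (hHC.trans (centralizer_le_normalizer' _)) hb
  have hχ₂ : χ ∉ B₂ := fun hm => hnot (IsPBlock.eq_of_mem hind.2.1 hB hm hχ ▸ hind)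
  have hcy : Commute x (y : G) := (mem_centralizer_singleton.1 y.2).symm
  have hpart : IsPPart p (x * (y : G)) x := ⟨y, rfl, hcy, ⟨k, hk⟩, by rwa [Subgroup.orderOf_coe]⟩
  have h0 := sum_blockCoeff_mul_apply_eq_zero hM hind
    (⟨x * y, mul_mem hxH y.2⟩ : H) (fun z hz => ?_) hχ₂
  · rw [blockPart_eq_sum_blockCoeff b (fun c d => ?_) y]
    · refine Eq.trans (Finset.sum_congr rfl fun c _ => ?_) h0
      show _ * (χ : G → ℂ) (x * ((c * y : H) : G)) = _ * (χ : G → ℂ) ((c : G) * (x * y))
      congr 2
      rw [Subgroup.coe_mul, ← mul_assoc, ← mul_assoc, (mem_centralizer_singleton.1 c.2).eq]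
    · show (χ : G → ℂ) (x * ((d * c * d⁻¹ : H) : G)) = (χ : G → ℂ) (x * (c : G))
      have hd : Commute (d : G) x := mem_centralizer_singleton.1 d.2
      rw [show x * ((d * c * d⁻¹ : H) : G) = (d : G) * (x * c) * (d : G)⁻¹ by
        simp only [Subgroup.coe_mul, Subgroup.coe_inv]
        rw [← mul_assoc, ← mul_assoc, ← hd.eq]
        group]
      exact Char.IsIrr.isClassFunction χ.2 _ _
  · rw [show z = x from ?_]
    have := conj_pPart_eq hM.1 hz hpart (x := 1) (j := 1) (by simpa using hM.1.ne_one) (by simp)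
    simpa using this

/-- For a normal defect group, a nonzero central character puts the `p`-part in the defect
group. -/
theorem pPart_mem_of_centralCharBar_ne_zero {b : Set (IrrCharacter G)} (hb : IsPBlock M b)
    {P : Subgroup G} [P.Normal] (hP : IsDefectGroup p M b P) {ξ : IrrCharacter G} (hξ : ξ ∈ b)
    {l z : G} (hl : centralCharBar M ξ l ≠ 0) (hz : IsPPart p l z) : z ∈ P := by
  classical
  have := charP_residueField hM
  set a := blockIdemO M b * classSum (localRing M) l with ha
  have hac : IsCentralElt a := (isCentralElt_blockIdemO hb).mul (isCentralElt_classSum _ l)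
  have hred : red M a = blockIdemBar M b * classSum (Res M) l := by
    rw [ha, map_mul, red_classSum]
    rfl
  have hne : omegaBar ξ (red M a) ≠ 0 := by
    rwa [hred, omegaBar_mul ξ (isCentralElt_blockIdemBar hb) (isCentralElt_classSum _ l),
      omegaBar_blockIdemBar hb, if_pos hξ, one_mul, omegaBar_classSum]
  obtain ⟨w, hw, -⟩ := exists_coeff_ne_zero_of_omegaBar_ne_zero hne
  have hdef : DefLE p w P := by
    rw [hred] at hw
    exact defLE_of_coeff_mul_ne_zero (isCentralElt_blockIdemBar hb) (isCentralElt_classSum _ l)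
      (fun g hg => IsDefectGroup.defLE_of_coeff_ne_zero hM hb hP hg) hw
  obtain ⟨v, hv⟩ := exists_pPart hM.1 w
  have hconj : IsConj z v := by
    by_contra hcon
    have h0 := sum_conj_eq_zero hM hz hv (f := blockIdemO M b) (blockIdemO_mul_self hb)
      (fun x => isCentralElt_blockIdemO hb x w)
      (fun x c hx _ => absurd (isConj_iff.2 ⟨x⁻¹, by rw [inv_inv]; exact hx⟩) hcon)
    refine hw ?_
    have hfib : ∑ x : G, (blockIdemO M b).coeff (w * x⁻¹ * l⁻¹ * x) =
        ((Finset.univ.filter fun x : G => x⁻¹ * l * x = l).card : localRing M) * a.coeff w := by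
      rw [ha, ((isCentralElt_blockIdemO hb).commute _).eq, coeff_mul_eq_sum, Finset.mul_sum,
        ← Finset.sum_fiberwise (g := fun x : G => x⁻¹ * l * x)]
      refine Finset.sum_congr rfl fun y _ => ?_
      by_cases hy : IsConj l y
      · rw [coeff_classSum, if_pos hy, one_mul,
          Finset.sum_congr rfl (g := fun _ => (blockIdemO M b).coeff (y⁻¹ * w)) fun x hx => ?_,
          Finset.sum_const, nsmul_eq_mul]
        · congr 2
          obtain ⟨c, rfl⟩ := isConj_iff.1 hy
          refine Finset.card_equiv (Equiv.mulRight c) fun x => ?_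
          simp only [Finset.mem_filter, Finset.mem_univ, true_and, Equiv.coe_mulRight]
          constructor
          · intro e
            calc (x * c)⁻¹ * l * (x * c) = c⁻¹ * (x⁻¹ * l * x) * c := by group
              _ = l := by rw [e]; group
          · intro e
            calc x⁻¹ * l * x = c * ((x * c)⁻¹ * l * (x * c)) * c⁻¹ := by group
              _ = c * l * c⁻¹ := by rw [e]
        · rw [← (Finset.mem_filter.1 hx).2,
            ← isCentralElt_blockIdemO hb ((x⁻¹ * l * x)⁻¹ * w) w]
          congr 1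
          group
      · rw [coeff_classSum, if_neg hy, zero_mul, mul_zero,
          Finset.filter_eq_empty_iff.2 fun x _ hx => hy (isConj_iff.2 ⟨x⁻¹, by rw [inv_inv]; exact hx⟩),
          Finset.sum_empty]
    rw [hfib, mul_eq_zero] at h0
    rcases h0 with h0 | h0
    · exact absurd (congrArg Subtype.val h0) (by
        rw [SubringClass.coe_natCast, ZeroMemClass.coe_zero, Nat.cast_eq_zero]
        exact Finset.card_ne_zero.2 ⟨1, by simp⟩)
    · rw [coeff_red, h0, map_zero]
  obtain ⟨k, hk⟩ : ∃ k, orderOf v = p ^ k := by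
    obtain ⟨-, -, -, hk, -⟩ := hv
    exact hk
  have hvw : Commute v w := IsPPart.commute hv
  obtain ⟨c, hc⟩ := hdef (Subgroup.zpowers v) (IsPGroup.of_card (n := k) (by rw [Nat.card_zpowers, hk]))
    (Subgroup.zpowers_le.2 (mem_centralizer_singleton.2 hvw))
  obtain ⟨d, rfl⟩ := isConj_iff.1 hconj
  have h1 := Subgroup.Normal.conj_mem ‹_› _ (hc _ (Subgroup.mem_zpowers _)) (c * d)⁻¹
  simpa [mul_assoc] using h1

/-- Nonzero central characters come from elements centralizing the defect group with `p`-part in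
its centre. -/
theorem exists_isConj_pPart_mem {B : Set (IrrCharacter G)} (hB : IsPBlock M B) {P : Subgroup G}
    (hP : IsDefectGroup p M B P) {χ : IrrCharacter G} (hχ : χ ∈ B) {g : G}
    (hg : centralCharBar M χ g ≠ 0) :
    ∃ x : G, IsConj g x ∧ x ∈ Subgroup.centralizer (P : Set G) ∧
      ∀ z : G, IsPPart p x z → z ∈ P ∧ ∀ w ∈ P, z * w = w * z := by
  classical
  have := Fintype.ofFinite (Subgroup.normalizer (P : Set G))
  have := normal_subgroupOf_normalizer P
  have hPp := IsDefectGroup.isPGroup hP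
  obtain ⟨b, ⟨hb, hbD, hind⟩, -⟩ := existsUnique_correspondent hM hB hP
  obtain ⟨-, -, hall⟩ := isInducedBlock_iff.1 hind
  obtain ⟨ξ, hξ⟩ := IsPBlock.nonempty hb
  have h1 := hall ξ hξ χ hχ _ (isCentralElt_classSum _ g)
  rw [omegaBar_resElt_eq_brauerMap hM hPp Subgroup.le_normalizer le_rfl ξ
    (isCentralElt_classSum _ g), omegaBar_classSum] at h1
  rw [← h1] at hg
  obtain ⟨k, hk, hωk⟩ := exists_coeff_ne_zero_of_omegaBar_ne_zero hg
  rw [coeff_brauerMap, coeff_classSum] at hk
  by_cases hkC : (k : G) ∈ Subgroup.centralizer (P : Set G)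
  · rw [if_pos hkC] at hk
    have hgk : IsConj g (k : G) := by by_contra hc; exact hk (if_neg hc)
    refine ⟨k, hgk, hkC, fun z hz => ?_⟩
    obtain ⟨z', hz'⟩ := exists_pPart hM.1 k
    have heq : (z' : G) = z := by
      have := conj_pPart_eq hM.1 (IsPPart.map_subtype hz') hz (x := 1) (j := 1)
        (by simpa using hM.1.ne_one) (by simp)
      simpa using this
    refine ⟨heq ▸ pPart_mem_of_centralCharBar_ne_zero hM hb hbD hξ hωk hz', fun w hw => ?_⟩
    have h2 := conj_pPart_eq hM.1 hz hz (x := w) (j := 1) (by simpa using hM.1.ne_one)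
      (by rw [pow_one]; exact (Subgroup.mem_centralizer_iff.1 hkC w hw).symm)
    calc z * w = w * (w⁻¹ * z * w) := by group
      _ = w * z := by rw [h2]
  · rw [if_neg hkC] at hk
    exact absurd rfl hk

/-- Fusion of the centre of a defect group under block induction. -/
theorem IsInducedBlock.center_fusion {H : Subgroup G} [Fintype H] {b : Set (IrrCharacter H)}
    {B : Set (IrrCharacter G)} (hind : IsInducedBlock M H b B) {D : Subgroup H}
    (hD : IsDefectGroup p M b D) {P : Subgroup G} (hP : IsDefectGroup p M B P) {x : G} (hx : x ∈ P)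
    (hxc : ∀ w ∈ P, x * w = w * x) :
    ∃ g : G, g * x * g⁻¹ ∈ D.map H.subtype ∧
      ∀ w ∈ D.map H.subtype, (g * x * g⁻¹) * w = w * (g * x * g⁻¹) := by
  classical
  obtain ⟨hb, hB, hall⟩ := isInducedBlock_iff.1 hind
  obtain ⟨y, hy, hle, hs⟩ := isDefectGroup_iff.1 hP
  obtain ⟨χ, hχ⟩ := IsPBlock.nonempty hB
  obtain ⟨ξ, hξ⟩ := IsPBlock.nonempty hb
  have hne := centralCharBar_mul_ne_zero hM hB hy hle hs hx hxc hχ
  rw [← omegaBar_classSum, ← hall ξ hξ χ hχ _ (isCentralElt_classSum _ _)] at hne
  obtain ⟨k, hk, hωk⟩ := exists_coeff_ne_zero_of_omegaBar_ne_zero hne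
  rw [coeff_resElt, coeff_classSum] at hk
  have hconj : IsConj (x * y) (k : G) := by by_contra hc; exact hk (if_neg hc)
  obtain ⟨k', hkk', -, hk'⟩ := exists_isConj_pPart_mem hM hb hD hξ hωk
  obtain ⟨z, hz⟩ := exists_pPart hM.1 k'
  obtain ⟨hzD, hzc⟩ := hk' z hz
  have hconj' : IsConj (x * y) (k' : G) := hconj.trans (isConj_iff.2 (by
    obtain ⟨c, hc⟩ := isConj_iff.1 hkk'
    exact ⟨(c : G), congrArg Subtype.val hc⟩))
  obtain ⟨c, hc⟩ := isConj_iff.1 hconj'
  have hpart : IsPPart p (x * y) x :=
    ⟨y, rfl, mem_centralizer_singleton.1 (hle hx), by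
      obtain ⟨n, hn⟩ := IsPGroup.iff_orderOf.1 (hs.isPGroup hle) ⟨x, hx⟩
      exact ⟨n, by rw [← hn]; exact Subgroup.orderOf_coe ⟨x, hx⟩⟩,
      IsDefectClass.not_dvd_orderOf hM hB hy⟩
  have h2 := conj_pPart_eq hM.1 hpart (IsPPart.map_subtype hz) (x := c⁻¹) (j := 1)
    (by simpa using hM.1.ne_one) (by rw [pow_one, pow_one, ← hc]; group)
  rw [inv_inv] at h2
  refine ⟨c, ⟨z, hzD, h2.symm⟩, ?_⟩
  rintro _ ⟨w, hw, rfl⟩
  rw [h2]
  exact congrArg Subtype.val (hzc w hw)

/-- Induction preserves and reflects defect zero. -/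
theorem IsInducedBlock.blockDefect_eq_zero_iff {H : Subgroup G} [Fintype H]
    {b : Set (IrrCharacter H)} {B : Set (IrrCharacter G)} (hind : IsInducedBlock M H b B) :
    blockDefect p b = 0 ↔ blockDefect p B = 0 := by
  obtain ⟨D, hD⟩ := exists_isDefectGroup (p := p) hind.1
  obtain ⟨P, hP⟩ := exists_isDefectGroup (p := p) hind.2.1
  have hDc := IsDefectGroup.card_eq hM hind.1 hD
  have hPc := IsDefectGroup.card_eq hM hind.2.1 hP
  constructor
  · intro h0
    rw [h0, pow_zero, Subgroup.card_eq_one] at hDc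
    have hbot : P = ⊥ := by
      by_contra hne
      have : Nontrivial P := P.nontrivial_iff_ne_bot.2 hne
      have hnt := (IsDefectGroup.isPGroup hP).center_nontrivial
      obtain ⟨x, hx1⟩ := exists_ne (1 : Subgroup.center P)
      obtain ⟨g, hg, -⟩ := IsInducedBlock.center_fusion hM hind hD hP (x := ((x : P) : G)) (x : P).2
        fun w hw => congrArg Subtype.val (Subgroup.mem_center_iff.1 x.2 ⟨w, hw⟩).symm
      rw [hDc, Subgroup.map_bot, Subgroup.mem_bot] at hg
      exact hx1 (Subtype.ext (Subtype.ext (conj_eq_one_iff.1 hg)))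
    rw [hbot, Subgroup.card_bot] at hPc
    exact (Nat.pow_eq_one.1 hPc.symm).resolve_left hM.1.ne_one
  · intro h0
    obtain ⟨E, hE, hDE⟩ := IsInducedBlock.defectGroup_le hM hind hD
    have hEc := IsDefectGroup.card_eq hM hind.2.1 hE
    rw [h0, pow_zero] at hEc
    have h1 := Subgroup.card_dvd_of_le hDE
    rw [hEc, ← Nat.card_congr (D.equivMapOfInjective _ (Subgroup.subtype_injective _)).toEquiv,
      hDc, Nat.dvd_one] at h1
    exact (Nat.pow_eq_one.1 h1).resolve_left hM.1.ne_one

end CfsgLib.Blocks
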