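import Cfsg.Agent.Lib.Blocks.Orthogonality

/-!
# Sets of characters with local-integral idempotent are unions of blocks; blocks of defect zero
-/

namespace CfsgLib.Blocks

open Cfsg
open scoped ComplexConjugate

variable {G : Type*} [Group G] [Fintype G] {M : Ideal AlgInt} [M.IsPrime] {p : ℕ}

/-- A set with local-integral idempotent coefficients is a union of blocks. -/
theorem mem_of_sameBlock_of_blockCoeff_mem {A : Set (IrrCharacter G)}
    (hA : ∀ g, blockCoeff A g ∈ localRing M) {χ ψ : IrrCharacter G} (hχ : χ ∈ A)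
    (h : SameBlock M (χ : G → ℂ) (ψ : G → ℂ)) : ψ ∈ A := by
  classical
  let e : MonoidAlgebra (localRing M) G := ofFun fun g => ⟨_, hA g⟩
  have he : inc M e = blockIdem A := by
    ext g
    rw [coeff_inc]
    rfl
  have hc : IsCentralElt e := fun g t => Subtype.ext (isClassFunction_blockCoeff A g t)
  have h1 := omegaBar_congr h (red M e)
  rw [omegaBar_red χ hc, omegaBar_red ψ hc] at h1
  by_contra hψ
  have hx : (⟨omega (χ : G → ℂ) (inc M e), omega_inc_mem χ hc⟩ : localRing M) = 1 :=
    Subtype.ext (by simp [he, omega_blockIdem, hχ])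
  have hy : (⟨omega (ψ : G → ℂ) (inc M e), omega_inc_mem ψ hc⟩ : localRing M) = 0 :=
    Subtype.ext (by simp [he, omega_blockIdem, hψ])
  rw [hx, hy, map_one, map_zero] at h1
  exact one_ne_zero h1

theorem charDegree_eq {χ : IrrCharacter G} {n : ℕ} (h : (χ : G → ℂ) 1 = n) :
    charDegree (χ : G → ℂ) = n := by
  simp [charDegree, h]

theorem apply_one_eq_charDegree (χ : IrrCharacter G) :
    (χ : G → ℂ) 1 = (charDegree (χ : G → ℂ) : ℂ) := by
  obtain ⟨n, -, hn⟩ := Char.IsIrr.exists_degree χ.2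
  rw [charDegree_eq hn, hn]

theorem charDegree_dvd_card (χ : IrrCharacter G) : charDegree (χ : G → ℂ) ∣ Nat.card G := by
  obtain ⟨χ, n, ρ, hρ, rfl⟩ := χ
  rw [charDegree_eq (χ := ⟨ρ.character, n, ρ, hρ, rfl⟩) (n := Module.finrank ℂ (Fin n → ℂ))
    (Representation.char_one ρ)]
  exact CfsgLib.CharIntegral.finrank_dvd_card ρ

theorem charDegree_pos (χ : IrrCharacter G) : 0 < charDegree (χ : G → ℂ) := by
  obtain ⟨n, hn0, hn⟩ := Char.IsIrr.exists_degree χ.2
  rwa [charDegree_eq hn]

/-- A character of full `p`-defect degree is alone in its block. -/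
theorem blockOf_eq_singleton (hM : IsPModular p M) (χ : IrrCharacter G)
    (h : ¬ p ∣ Nat.card G / charDegree (χ : G → ℂ)) : blockOf M (χ : G → ℂ) = {χ} := by
  classical
  have := Fintype.ofFinite (IrrCharacter G)
  refine Set.eq_singleton_iff_unique_mem.2 ⟨mem_blockOf_self χ, fun ψ hψ => ?_⟩
  refine mem_of_sameBlock_of_blockCoeff_mem (A := {χ}) (fun g => ?_) rfl hψ
  obtain ⟨q, hq⟩ := charDegree_dvd_card χ
  rw [hq, Nat.mul_div_cancel_left _ (charDegree_pos χ)] at h
  rw [blockCoeff, finsum_mem_singleton, hq, Nat.cast_mul, apply_one_eq_charDegree χ, mul_inv,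
    show ((charDegree (χ : G → ℂ) : ℂ))⁻¹ * (q : ℂ)⁻¹ *
        ((charDegree (χ : G → ℂ) : ℂ) * conj ((χ : G → ℂ) g)) =
      (charDegree (χ : G → ℂ) : ℂ)⁻¹ * (charDegree (χ : G → ℂ) : ℂ) *
        ((q : ℂ)⁻¹ * conj ((χ : G → ℂ) g)) by ring,
    inv_mul_cancel₀ (Nat.cast_ne_zero.2 (charDegree_pos χ).ne'), one_mul,
    ← Char.IsIrr.map_inv χ.2]
  exact mul_mem (inv_natCast_mem hM h)
    (mem_localRing_of_isIntegral (Char.IsChar.isIntegral (Char.IsIrr.isCharacter χ.2) _))

/-- A character alone in its block vanishes at `p`-singular elements. -/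
theorem apply_eq_zero_of_singleton (hM : IsPModular p M) {χ : IrrCharacter G}
    (h : blockOf M (χ : G → ℂ) = {χ}) {y : G} (hy : p ∣ orderOf y) : (χ : G → ℂ) y = 0 := by
  have h1 := sum_block_regular_singular hM (B := blockOf M (χ : G → ℂ)) (isPBlock_blockOf χ)
    (x := 1) (by simp [hM.1.ne_one]) hy
  rw [h, finsum_mem_singleton, mul_eq_zero] at h1
  exact h1.resolve_left (Char.IsIrr.apply_one_ne_zero χ.2)

/-- A character alone in its block has full `p`-part degree. -/
theorem not_dvd_div_of_singleton (hM : IsPModular p M) (χ : IrrCharacter G)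
    (h : blockOf M (χ : G → ℂ) = {χ}) : ¬ p ∣ Nat.card G / charDegree (χ : G → ℂ) := by
  have h1 := sum_degree_div_mem hM ({χ} : Finset (IrrCharacter G)) (fun _ => 1) fun y hy => by
    simp [apply_eq_zero_of_singleton hM h hy]
  simp only [Finset.sum_singleton, OneMemClass.coe_one, one_mul, apply_one_eq_charDegree χ] at h1
  have hd0 := (charDegree_pos χ).ne'
  obtain ⟨i, m, hm, him⟩ := Nat.exists_eq_pow_mul_and_not_dvd hd0 p hM.1.ne_one
  have hdi : (charDegree (χ : G → ℂ)).factorization p = i := by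
    have hm0 : m ≠ 0 := by rintro rfl; simp at him; exact hd0 him
    simp [him, Nat.factorization_mul (pow_ne_zero _ hM.1.ne_zero) hm0, hM.1.factorization_self,
      Nat.factorization_eq_zero_of_not_dvd hm]
  set a := (Nat.card G).factorization p with ha
  have hia : a ≤ i := by
    by_contra hlt
    push Not at hlt
    obtain ⟨k, hk⟩ : ∃ k, a = i + (k + 1) := ⟨a - i - 1, by omega⟩
    rw [hk, him] at h1
    have hpp : (p : ℂ) ≠ 0 := Nat.cast_ne_zero.2 hM.1.ne_zero
    have h2 : (m : ℂ) / p ∈ localRing M := by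
      have h3 : (m : ℂ) / p =
          ((p ^ i * m : ℕ) : ℂ) / ((p ^ (i + (k + 1)) : ℕ) : ℂ) * (p : ℂ) ^ k := by
        push_cast
        field_simp
        ring
      rw [h3]
      exact mul_mem h1 (pow_mem (natCast_mem _ p) k)
    refine hm ((memLocalIdeal_natCast_iff hM).1 ?_)
    have h4 : IsLocalRing.residue (localRing M) ((p : localRing M) * ⟨_, h2⟩) = 0 := by
      rw [map_mul, residue_natCast_self hM, zero_mul]
    rw [residue_eq_zero_iff] at h4
    rwa [Subring.coe_mul, SubringClass.coe_natCast, mul_div_cancel₀ _ hpp] at h4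
  intro hdvd
  have hq : Nat.card G / charDegree (χ : G → ℂ) ≠ 0 :=
    (Nat.div_pos (Nat.le_of_dvd Nat.card_pos (charDegree_dvd_card χ)) (charDegree_pos χ)).ne'
  have h5 := hM.1.factorization_pos_of_dvd hq hdvd
  rw [Nat.factorization_div (charDegree_dvd_card χ), Finsupp.tsub_apply, ← ha, hdi] at h5
  omega

end CfsgLib.Blocks
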