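import Cfsg.Agent.Lib.Blocks.Orthogonality
import Cfsg.Agent.Lib.Blocks.Union
import Cfsg.Agent.Lib.Char.Integral

/-!
# Kernels of blocks and normal `p'`-subgroups
-/

namespace CfsgLib.Blocks

open Cfsg MonoidAlgebra
open scoped ComplexConjugate

variable {G : Type*} [Group G] [Fintype G]

/-- The kernel of an irreducible character. -/
def charKer (χ : IrrCharacter G) : Subgroup G where
  carrier := {g | (χ : G → ℂ) g = (χ : G → ℂ) 1}
  one_mem' := rfl
  mul_mem' {a b} ha hb := by
    obtain ⟨χ, n, ρ, hρ, rfl⟩ := χ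
    simp only [Set.mem_setOf_eq, Representation.char_one,
      CharIntegral.character_eq_finrank_iff] at *
    rw [map_mul, ha, hb]
    rfl
  inv_mem' {a} ha := by
    show (χ : G → ℂ) a⁻¹ = (χ : G → ℂ) 1
    rw [Char.IsIrr.map_inv χ.2, show (χ : G → ℂ) a = (χ : G → ℂ) 1 from ha,
      apply_one_eq_charDegree, map_natCast]

theorem mem_charKer {χ : IrrCharacter G} {g : G} :
    g ∈ charKer χ ↔ (χ : G → ℂ) g = (χ : G → ℂ) 1 := Iff.rfl

instance normal_charKer (χ : IrrCharacter G) : (charKer χ).Normal :=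
  ⟨fun n hn g => by rw [mem_charKer, Char.IsIrr.isClassFunction χ.2]; exact hn⟩

/-- The kernel of a set of characters. -/
def blockKerSubgroup (B : Set (IrrCharacter G)) : Subgroup G := ⨅ χ ∈ B, charKer χ

theorem mem_blockKerSubgroup {B : Set (IrrCharacter G)} {g : G} :
    g ∈ blockKerSubgroup B ↔ g ∈ blockKer B := by
  simp [blockKerSubgroup, Subgroup.mem_iInf, blockKer, mem_charKer]

theorem normal_blockKerSubgroup (B : Set (IrrCharacter G)) : (blockKerSubgroup B).Normal :=
  Subgroup.normal_iInf_normal fun _ => Subgroup.normal_iInf_normal fun _ => inferInstance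

variable (N : Subgroup G)

open scoped Classical in
/-- The average of a subgroup. -/
noncomputable def avgElt : MonoidAlgebra ℂ G :=
  ofFun fun g => if g ∈ N then (Nat.card N : ℂ)⁻¹ else 0

theorem isCentralElt_avgElt [hN : N.Normal] : IsCentralElt (avgElt N) := fun g h => by
  classical
  simp only [avgElt, coeff_ofFun]
  exact if_congr ⟨fun hm => by simpa [mul_assoc] using hN.conj_mem _ hm h⁻¹,
    fun hm => hN.conj_mem _ hm h⟩ rfl rfl

theorem avgElt_mul_self : avgElt N * avgElt N = avgElt N := by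
  classical
  ext g
  rw [coeff_mul_eq_sum]
  simp only [avgElt, coeff_ofFun, mul_ite, ite_mul, mul_zero, zero_mul, ← ite_and]
  rw [← Finset.sum_filter]
  by_cases hg : g ∈ N
  · have hset : (Finset.univ.filter fun x : G => x⁻¹ * g ∈ N ∧ x ∈ N) =
        Finset.univ.filter (· ∈ N) := by
      ext x
      simp only [Finset.mem_filter, Finset.mem_univ, true_and]
      exact ⟨And.right, fun h => ⟨mul_mem (inv_mem h) hg, h⟩⟩
    rw [hset, if_pos hg, Finset.sum_const, nsmul_eq_mul, ← Fintype.card_subtype,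
      ← Nat.card_eq_fintype_card, ← mul_assoc,
      mul_inv_cancel₀ (Nat.cast_ne_zero.2 Nat.card_pos.ne'), one_mul]
  · rw [if_neg hg, Finset.sum_eq_zero]
    intro x hx
    obtain ⟨h1, h2⟩ := (Finset.mem_filter.1 hx).2
    exact absurd (by simpa using mul_mem h2 h1) hg

theorem omega_avgElt (χ : G → ℂ) [Fintype N] :
    omega χ (avgElt N) = (Nat.card N : ℂ)⁻¹ * (∑ n : N, χ n) / χ 1 := by
  classical
  rw [omega_apply]
  congr 1
  simp only [avgElt, coeff_ofFun, ite_mul, zero_mul, ← Finset.sum_filter, Finset.mul_sum]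
  exact Finset.sum_subtype _ (by simp) _

theorem omega_avgElt_eq_or [N.Normal] (χ : IrrCharacter G) :
    omega (χ : G → ℂ) (avgElt N) = 0 ∨ omega (χ : G → ℂ) (avgElt N) = 1 := by
  have h := omega_mul χ (isCentralElt_avgElt N) (avgElt N)
  rw [avgElt_mul_self] at h
  exact (mul_right_eq_self₀.1 h.symm).symm.imp id id

theorem omega_avgElt_eq_one_iff (χ : IrrCharacter G) [Fintype N] :
    omega (χ : G → ℂ) (avgElt N) = 1 ↔ ∀ n ∈ N, (χ : G → ℂ) n = (χ : G → ℂ) 1 := by
  have h1 := Char.IsIrr.apply_one_ne_zero χ.2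
  rw [omega_avgElt, div_eq_one_iff_eq h1, inv_mul_eq_iff_eq_mul₀
    (Nat.cast_ne_zero.2 Nat.card_pos.ne')]
  refine ⟨fun h n hn => ?_, fun h => ?_⟩
  · have hre : ∀ m : N, ((χ : G → ℂ) m).re ≤ (charDegree (χ : G → ℂ) : ℝ) := fun m => by
      refine (Complex.re_le_norm _).trans ?_
      have := Char.IsChar.norm_le (Char.IsIrr.isCharacter χ.2) (m : G)
      rwa [apply_one_eq_charDegree, Complex.norm_natCast] at this
    have hsum : ∑ m : N, ((χ : G → ℂ) m).re = ∑ _m : N, (charDegree (χ : G → ℂ) : ℝ) := by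
      have := congrArg Complex.re h
      rw [Complex.re_sum, apply_one_eq_charDegree] at this
      simp [this, Nat.card_eq_fintype_card]
    have hn' := (Finset.sum_eq_sum_iff_of_le fun m _ => hre m).1 hsum ⟨n, hn⟩ (Finset.mem_univ _)
    have hnorm := Char.IsChar.norm_le (Char.IsIrr.isCharacter χ.2) n
    rw [apply_one_eq_charDegree, Complex.norm_natCast] at hnorm
    rw [apply_one_eq_charDegree]
    apply Complex.ext
    · simpa using hn'
    · rw [Complex.natCast_im]
      have h2 := Complex.sq_norm ((χ : G → ℂ) n)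
      rw [Complex.normSq_apply] at h2
      have hn0 : ((χ : G → ℂ) n).re = charDegree (χ : G → ℂ) := hn'
      nlinarith [norm_nonneg ((χ : G → ℂ) n), sq_nonneg (((χ : G → ℂ) n).im)]
  · rw [Finset.sum_congr rfl fun (m : N) _ => h m m.2, Finset.sum_const, Finset.card_univ,
      nsmul_eq_mul, Nat.card_eq_fintype_card]

variable {p : ℕ} {M : Ideal AlgInt} [M.IsPrime] (hM : IsPModular p M)
include hM

/-- Characters in one block have the same normal `p'`-subgroups in their kernels. -/
theorem apply_eq_of_sameBlock [N.Normal] (hN : ¬ p ∣ Nat.card N) {χ ψ : IrrCharacter G}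
    (h : SameBlock M (χ : G → ℂ) (ψ : G → ℂ))
    (hχ : ∀ n ∈ N, (χ : G → ℂ) n = (χ : G → ℂ) 1) :
    ∀ n ∈ N, (ψ : G → ℂ) n = (ψ : G → ℂ) 1 := by
  classical
  let a : MonoidAlgebra (localRing M) G :=
    ofFun fun g => if g ∈ N then ⟨_, inv_natCast_mem hM hN⟩ else 0
  have hinc : inc M a = avgElt N := by
    ext g
    simp only [a, coeff_inc, avgElt, coeff_ofFun]
    split_ifs <;> rfl
  have ha : IsCentralElt a := fun g x => Subtype.ext (by
    have := isCentralElt_avgElt N g x
    rw [← hinc] at this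
    simpa [coeff_inc] using this)
  have h' := omegaBar_congr (M := M) h (a := red M a)
  rw [omegaBar_red χ ha, omegaBar_red ψ ha] at h'
  rw [← omega_avgElt_eq_one_iff] at hχ ⊢
  refine (omega_avgElt_eq_or N ψ).resolve_left fun h0 => ?_
  rw [show (⟨_, omega_inc_mem χ ha⟩ : localRing M) = 1 from Subtype.ext (by
      show omega (χ : G → ℂ) (inc M a) = 1
      rw [hinc, hχ]),
    show (⟨_, omega_inc_mem ψ ha⟩ : localRing M) = 0 from Subtype.ext (by
      show omega (ψ : G → ℂ) (inc M a) = 0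
      rw [hinc, h0]), map_one, map_zero] at h'
  exact one_ne_zero h'

omit hM in
theorem not_dvd_card_of_forall_ne [Fact p.Prime] {K : Subgroup G}
    (h : ∀ g ∈ K, orderOf g ≠ p) : ¬ p ∣ Nat.card K := fun hd => by
  obtain ⟨g, hg⟩ := exists_prime_orderOf_dvd_card' p hd
  exact h g g.2 (by rw [← hg, Subgroup.orderOf_coe])

/-- The kernel of a block has order prime to `p`. -/
theorem not_dvd_card_blockKerSubgroup {B : Set (IrrCharacter G)} (hB : IsPBlock M B) :
    ¬ p ∣ Nat.card (blockKerSubgroup B) := by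
  classical
  have : Fact p.Prime := ⟨hM.1⟩
  refine not_dvd_card_of_forall_ne fun g hg hord => ?_
  have hs : ∑ᶠ χ ∈ B, (χ : G → ℂ) 1 * (χ : G → ℂ) g = 0 :=
    sum_block_regular_singular hM hB (by simp [hM.1.ne_one]) (by rw [hord])
  rw [finsum_mem_eq_finite_toFinset_sum _ (Set.toFinite B)] at hs
  have h2 : ∑ χ ∈ (Set.toFinite B).toFinset, charDegree (χ : G → ℂ) ^ 2 = 0 := by
    have h3 : ((∑ χ ∈ (Set.toFinite B).toFinset, charDegree (χ : G → ℂ) ^ 2 : ℕ) : ℂ) = 0 := by
      rw [← hs, Nat.cast_sum]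
      refine Finset.sum_congr rfl fun χ hχ => ?_
      have hk : g ∈ blockKer B := mem_blockKerSubgroup.1 hg
      rw [hk χ ((Set.Finite.mem_toFinset _).1 hχ), apply_one_eq_charDegree, Nat.cast_pow, sq]
    exact_mod_cast h3
  obtain ⟨χ, hχ⟩ := IsPBlock.nonempty hB
  exact pow_ne_zero 2 (charDegree_pos χ).ne'
    (Finset.sum_eq_zero_iff.1 h2 χ ((Set.Finite.mem_toFinset _).2 hχ))

omit hM in
theorem principalBlock_eq :
    principalBlock M G = blockOf M ((Char.trivChar G : IrrCharacter G) : G → ℂ) := rfl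

omit hM in
theorem isPBlock_principalBlock : IsPBlock M (principalBlock M G) :=
  isPBlock_blockOf (Char.trivChar G)

omit hM in
theorem trivChar_mem_principalBlock : Char.trivChar G ∈ principalBlock M G :=
  mem_blockOf_self (Char.trivChar G)

/-- Characters of the principal block are trivial on normal `p'`-subgroups. -/
theorem apply_eq_of_mem_principalBlock [N.Normal] (hN : ¬ p ∣ Nat.card N) {χ : IrrCharacter G}
    (hχ : χ ∈ principalBlock M G) : ∀ n ∈ N, (χ : G → ℂ) n = (χ : G → ℂ) 1 :=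
  apply_eq_of_sameBlock N hM hN (χ := Char.trivChar G) hχ fun _ _ => rfl

omit hM [M.IsPrime] in
/-- The degrees of the characters trivial on a normal subgroup. -/
theorem sum_degree_sq_trivial [N.Normal] [Fintype (IrrCharacter G)]
    [DecidablePred fun χ : IrrCharacter G => ∀ n ∈ N, (χ : G → ℂ) n = (χ : G → ℂ) 1] :
    ∑ χ ∈ Finset.univ.filter (fun χ : IrrCharacter G => ∀ n ∈ N, (χ : G → ℂ) n = (χ : G → ℂ) 1),
      charDegree (χ : G → ℂ) ^ 2 = N.index := by
  classical
  have := Fintype.ofFinite N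
  have hG : ∑ χ : IrrCharacter G, (χ : G → ℂ) 1 * ∑ n : N, (χ : G → ℂ) n = (Nat.card G : ℂ) := by
    simp only [Finset.mul_sum]
    rw [Finset.sum_comm, Finset.sum_eq_single (1 : N)]
    · rw [← Char.sum_sq_degree (G := G)]
      exact Finset.sum_congr rfl fun χ _ => by rw [OneMemClass.coe_one, sq]
    · intro n _ hn
      exact Char.sum_degree_mul_apply_of_ne_one (fun h => hn (Subtype.ext h))
    · exact fun h => absurd (Finset.mem_univ _) h
  have hterm : ∀ χ : IrrCharacter G, (χ : G → ℂ) 1 * ∑ n : N, (χ : G → ℂ) n =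
      if ∀ n ∈ N, (χ : G → ℂ) n = (χ : G → ℂ) 1
      then (Nat.card N : ℂ) * ((charDegree (χ : G → ℂ) ^ 2 : ℕ) : ℂ) else 0 := by
    intro χ
    split_ifs with h
    · rw [Finset.sum_congr rfl fun (n : N) _ => h n n.2, Finset.sum_const, Finset.card_univ,
        nsmul_eq_mul, ← Nat.card_eq_fintype_card, apply_one_eq_charDegree, Nat.cast_pow]
      ring
    · rw [← omega_avgElt_eq_one_iff] at h
      have h0 := (omega_avgElt_eq_or N χ).resolve_right h
      rw [omega_avgElt, div_eq_zero_iff, or_iff_left (Char.IsIrr.apply_one_ne_zero χ.2), mul_eq_zero,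
        or_iff_right (inv_ne_zero (Nat.cast_ne_zero.2 Nat.card_pos.ne'))] at h0
      rw [h0, mul_zero]
  simp only [hterm, ← Finset.sum_filter, ← Finset.mul_sum] at hG
  rw [← N.card_mul_index, Nat.cast_mul, ← Nat.cast_sum] at hG
  exact_mod_cast mul_left_cancel₀ (Nat.cast_ne_zero.2 Nat.card_pos.ne') hG

/-- With a normal `p`-complement the principal block consists of the characters trivial on it. -/
theorem principalBlock_eq_of_complement [N.Normal] (hN : ¬ p ∣ Nat.card N)
    {k : ℕ} (hk : N.index = p ^ k) :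
    principalBlock M G = {χ : IrrCharacter G | ∀ n ∈ N, (χ : G → ℂ) n = (χ : G → ℂ) 1} := by
  classical
  have : Fact p.Prime := ⟨hM.1⟩
  have := Fintype.ofFinite (IrrCharacter G)
  ext χ
  refine ⟨fun hχ => apply_eq_of_mem_principalBlock N hM hN hχ, fun hχ => ?_⟩
  by_contra hcon
  set T := Finset.univ.filter fun χ : IrrCharacter G => ∀ n ∈ N, (χ : G → ℂ) n = (χ : G → ℂ) 1
    with hT
  have hdvd : ∀ B : Set (IrrCharacter G), IsPBlock M B → (∃ ψ ∈ B, ψ ∈ T) →
      (Set.toFinite B).toFinset ⊆ T ∧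
        p ^ k ∣ ∑ ψ ∈ (Set.toFinite B).toFinset, charDegree (ψ : G → ℂ) ^ 2 := by
    rintro B hB ⟨ψ₀, hψ₀, hψ₀T⟩
    refine ⟨fun ψ hψ => ?_, ?_⟩
    · simp only [hT, Finset.mem_filter, Finset.mem_univ, true_and] at hψ₀T ⊢
      exact apply_eq_of_sameBlock N hM hN
        (IsPBlock.sameBlock hB hψ₀ ((Set.Finite.mem_toFinset _).1 hψ)) hψ₀T
    · set s := ∑ ψ ∈ (Set.toFinite B).toFinset, charDegree (ψ : G → ℂ) ^ 2 with hs
      have he : blockCoeff B 1 = (s : ℂ) / (Nat.card G : ℂ) := by
        rw [blockCoeff, finsum_mem_eq_finite_toFinset_sum _ (Set.toFinite B), hs, Nat.cast_sum,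
          inv_mul_eq_div]
        congr 1
        refine Finset.sum_congr rfl fun ψ _ => ?_
        rw [← Char.IsIrr.map_inv ψ.2, inv_one, apply_one_eq_charDegree, Nat.cast_pow, sq]
      obtain ⟨e, he'⟩ : ∃ e : localRing M, (s : ℂ) = (p : ℂ) ^ k * (e : ℂ) :=
        ⟨⟨_, blockCoeff_mem hB 1⟩ * (Nat.card N : localRing M), by
          rw [Subring.coe_mul, show ((Nat.card N : localRing M) : ℂ) = (Nat.card N : ℂ) from
            by push_cast; rfl]
          show (s : ℂ) = (p : ℂ) ^ k * (blockCoeff B 1 * (Nat.card N : ℂ))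
          have hG : (Nat.card G : ℂ) = (p : ℂ) ^ k * (Nat.card N : ℂ) := by
            rw [← N.index_mul_card, hk]; push_cast; ring
          rw [he, hG]
          have h1 : (p : ℂ) ^ k ≠ 0 := pow_ne_zero _ (Nat.cast_ne_zero.2 hM.1.ne_zero)
          have h2 : (Nat.card N : ℂ) ≠ 0 := Nat.cast_ne_zero.2 Nat.card_pos.ne'
          field_simp⟩
      obtain ⟨r, hr, hrp⟩ : ∃ r, s = p ^ s.factorization p * r ∧ ¬ p ∣ r :=
        ⟨s / p ^ s.factorization p, (Nat.ordProj_mul_ordCompl_eq_self s p).symm,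
          Nat.not_dvd_ordCompl hM.1 (fun h0 => by
            rw [h0, eq_comm] at hs
            exact pow_ne_zero 2 (charDegree_pos ψ₀).ne'
              (Finset.sum_eq_zero_iff.1 hs ψ₀ ((Set.Finite.mem_toFinset _).2 hψ₀)))⟩
      by_contra hnd
      obtain ⟨j, hj⟩ : ∃ j, k = s.factorization p + (j + 1) :=
        ⟨k - s.factorization p - 1, by
          have : s.factorization p < k := by
            by_contra hle
            exact hnd ((pow_dvd_pow p (not_lt.1 hle)).trans ⟨r, hr⟩)
          omega⟩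
      have h1 : (r : localRing M) = (p : localRing M) * ((p : localRing M) ^ j * e) := by
        refine Subtype.ext ?_
        push_cast
        refine mul_left_cancel₀ (pow_ne_zero (s.factorization p)
          (Nat.cast_ne_zero.2 hM.1.ne_zero : (p : ℂ) ≠ 0)) ?_
        have h2 : ((p ^ s.factorization p * r : ℕ) : ℂ) = (p : ℂ) ^ k * (e : ℂ) := hr ▸ he'
        push_cast at h2
        rw [h2, hj]
        ring
      have hu := ((isUnit_natCast_iff hM (M := M)).2 hrp).map (resHom M)
      rw [h1, map_mul, map_natCast] at hu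
      have := charP_residueField hM
      rw [CharP.cast_eq_zero, zero_mul] at hu
      exact not_isUnit_zero hu
  obtain ⟨h0sub, h0d⟩ := hdvd _ isPBlock_principalBlock
    ⟨_, trivChar_mem_principalBlock, by simp [hT, Char.trivChar_apply]⟩
  obtain ⟨h1sub, h1d⟩ := hdvd _ (isPBlock_blockOf χ) ⟨χ, mem_blockOf_self χ, by
    simp only [hT, Finset.mem_filter, Finset.mem_univ, true_and]; exact hχ⟩
  have hdisj : Disjoint (Set.toFinite (principalBlock M G)).toFinset
      (Set.toFinite (blockOf M (χ : G → ℂ))).toFinset := by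
    rw [Finset.disjoint_left]
    intro ψ h0 h1
    rw [Set.Finite.mem_toFinset] at h0 h1
    exact hcon (IsPBlock.eq_of_mem isPBlock_principalBlock (isPBlock_blockOf χ) h0 h1 ▸
      mem_blockOf_self χ)
  have hpos : ∀ B : Set (IrrCharacter G), (∃ ψ, ψ ∈ B) →
      0 < ∑ ψ ∈ (Set.toFinite B).toFinset, charDegree (ψ : G → ℂ) ^ 2 := fun B ⟨ψ, hψ⟩ =>
    Finset.sum_pos' (fun _ _ => Nat.zero_le _)
      ⟨ψ, (Set.Finite.mem_toFinset _).2 hψ, pow_pos (charDegree_pos ψ) 2⟩
  have hle := Finset.sum_le_sum_of_subset (f := fun ψ : IrrCharacter G => charDegree (ψ : G → ℂ) ^ 2)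
    (Finset.union_subset h0sub h1sub)
  rw [Finset.sum_union hdisj, hT, sum_degree_sq_trivial, hk] at hle
  have e0 := Nat.le_of_dvd (hpos _ ⟨_, trivChar_mem_principalBlock⟩) h0d
  have e1 := Nat.le_of_dvd (hpos _ ⟨_, mem_blockOf_self χ⟩) h1d
  have e2 : 0 < p ^ k := pow_pos hM.1.pos k
  omega

end CfsgLib.Blocks
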