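import Cfsg.Agent.Lib.Blocks.Defect

/-!
# The defect number and heights

`|D| = p ^ blockDefect p B`, and the values of height zero characters at the `p`-sections of a
defect class are units.
-/

namespace CfsgLib.Blocks

open Cfsg CfsgLib.Fusion

variable {G : Type*} [Group G] {p : ℕ} [Fact p.Prime] [Fintype G] {M : Ideal AlgInt} [M.IsPrime]
  (hM : IsPModular p M)

theorem exists_factorization {n : ℕ} (hn : n ≠ 0) :
    ∃ r, n = p ^ n.factorization p * r ∧ ¬ p ∣ r :=
  ⟨n / p ^ n.factorization p, (Nat.ordProj_mul_ordCompl_eq_self n p).symm,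
    Nat.not_dvd_ordCompl Fact.out hn⟩

include hM

/-- The relation between a character value and its central character, in `p`-adic terms. -/
theorem exists_unit_centralChar (χ : IrrCharacter G) (g : G) :
    ∃ u : localRing M, IsUnit u ∧ (χ : G → ℂ) g *
        (p : ℂ) ^ ((Subgroup.centralizer ({g} : Set G)).index.factorization p) =
      centralChar (χ : G → ℂ) g * (p : ℂ) ^ ((charDegree (χ : G → ℂ)).factorization p) * u := by
  obtain ⟨r, hr, hrp⟩ := exists_factorization (p := p)
    (Subgroup.index_ne_zero_of_finite (H := Subgroup.centralizer ({g} : Set G)))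
  obtain ⟨m, hm, hmp⟩ := exists_factorization (p := p) (charDegree_pos χ).ne'
  refine ⟨⟨(m : ℂ) * (r : ℂ)⁻¹, mul_mem (natCast_mem _ m) (inv_natCast_mem hM hrp)⟩, ?_, ?_⟩
  · refine isUnit_iff_exists_inv.2
      ⟨⟨(r : ℂ) * (m : ℂ)⁻¹, mul_mem (natCast_mem _ r) (inv_natCast_mem hM hmp)⟩, Subtype.ext ?_⟩
    have : (r : ℂ) ≠ 0 := Nat.cast_ne_zero.2 fun h => hrp (h ▸ dvd_zero p)
    have : (m : ℂ) ≠ 0 := Nat.cast_ne_zero.2 fun h => hmp (h ▸ dvd_zero p)
    simp only [Subring.coe_mul, Subring.coe_one]
    field_simp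
  · set i := (charDegree (χ : G → ℂ)).factorization p
    set j := (Subgroup.centralizer ({g} : Set G)).index.factorization p
    have hr0 : (r : ℂ) ≠ 0 := Nat.cast_ne_zero.2 fun h => hrp (h ▸ dvd_zero p)
    have hm0 : (m : ℂ) ≠ 0 := Nat.cast_ne_zero.2 fun h => hmp (h ▸ dvd_zero p)
    have hp0 : (p : ℂ) ≠ 0 := Nat.cast_ne_zero.2 hM.1.ne_zero
    rw [centralChar, apply_one_eq_charDegree χ, hm, hr]
    push_cast
    field_simp

theorem apply_memLocalIdeal_of_index_lt (χ : IrrCharacter G) {g : G}
    (h : (Subgroup.centralizer ({g} : Set G)).index.factorization p <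
      (charDegree (χ : G → ℂ)).factorization p) : MemLocalIdeal M ((χ : G → ℂ) g) := by
  obtain ⟨u, -, hu⟩ := exists_unit_centralChar hM χ g
  obtain ⟨k, hk⟩ := Nat.exists_eq_add_of_lt h
  rw [hk, show ∀ j, j + k + 1 = j + (k + 1) from fun j => by omega, pow_add] at hu
  have hp0 : (p : ℂ) ≠ 0 := Nat.cast_ne_zero.2 hM.1.ne_zero
  have h2 : (χ : G → ℂ) g = ((centralCharO M χ g * (p : localRing M) ^ (k + 1) * u : localRing M) : ℂ) := by
    simp only [Subring.coe_mul, SubmonoidClass.coe_pow, SubringClass.coe_natCast, centralCharO]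
    refine mul_right_cancel₀ (pow_ne_zero _ hp0) (hu.trans ?_)
    ring
  rw [h2, ← residue_eq_zero_iff, map_mul, map_mul, map_pow, residue_natCast_self hM,
    zero_pow (by omega), mul_zero, zero_mul]

theorem centralCharBar_eq_zero_of_lt (χ : IrrCharacter G) {g : G}
    (h : (charDegree (χ : G → ℂ)).factorization p <
      (Subgroup.centralizer ({g} : Set G)).index.factorization p) :
    centralCharBar M χ g = 0 := by
  obtain ⟨u, hu1, hu⟩ := exists_unit_centralChar hM χ g
  obtain ⟨k, hk⟩ := Nat.exists_eq_add_of_lt h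
  rw [hk, show ∀ i, i + k + 1 = i + (k + 1) from fun i => by omega, pow_add] at hu
  have hp0 : (p : ℂ) ≠ 0 := Nat.cast_ne_zero.2 hM.1.ne_zero
  let v : localRing M := ⟨(χ : G → ℂ) g,
    mem_localRing_of_isIntegral (Char.IsChar.isIntegral (Char.IsIrr.isCharacter χ.2) g)⟩
  have h2 : centralCharO M χ g * u = v * (p : localRing M) ^ (k + 1) := Subtype.ext (by
    simp only [Subring.coe_mul, SubmonoidClass.coe_pow, SubringClass.coe_natCast, centralCharO, v]
    refine mul_right_cancel₀ (pow_ne_zero ((charDegree (χ : G → ℂ)).factorization p) hp0) ?_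
    linear_combination -hu)
  have h3 := congrArg (resHom M) h2
  rw [map_mul, map_mul, map_pow, residue_natCast_self hM, zero_pow (by omega), mul_zero] at h3
  exact (mul_eq_zero.1 h3).resolve_right (IsLocalRing.residue_ne_zero_iff_isUnit _ |>.2 hu1)

/-- When degree and class length have equal `p`-parts, the value is congruent to a unit multiple
of the central character. -/
theorem memLocalIdeal_apply_iff_of_eq (χ : IrrCharacter G) {g : G}
    (h : (charDegree (χ : G → ℂ)).factorization p =
      (Subgroup.centralizer ({g} : Set G)).index.factorization p) :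
    MemLocalIdeal M ((χ : G → ℂ) g) ↔ centralCharBar M χ g = 0 := by
  obtain ⟨u, hu1, hu⟩ := exists_unit_centralChar hM χ g
  rw [h] at hu
  have hp0 : (p : ℂ) ≠ 0 := Nat.cast_ne_zero.2 hM.1.ne_zero
  have h2 : (χ : G → ℂ) g = ((centralCharO M χ g * u : localRing M) : ℂ) := by
    simp only [Subring.coe_mul, centralCharO]
    refine mul_right_cancel₀ (pow_ne_zero _ hp0) (hu.trans ?_)
    ring
  rw [h2, ← residue_eq_zero_iff, map_mul, mul_eq_zero]
  exact or_iff_left (IsLocalRing.residue_ne_zero_iff_isUnit _ |>.2 hu1)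

variable {B : Set (IrrCharacter G)}

theorem IsDefectClass.index_le {g : G} (hg : IsDefectClass M B g) {χ : IrrCharacter G}
    (hχ : χ ∈ B) : (Subgroup.centralizer ({g} : Set G)).index.factorization p ≤
      (charDegree (χ : G → ℂ)).factorization p := by
  by_contra h
  exact IsDefectClass.centralCharBar_ne_zero hg hχ
    (centralCharBar_eq_zero_of_lt hM χ (not_le.1 h))

/-- Some character of the block has degree of least possible `p`-part. -/
theorem IsDefectClass.exists_index_eq (hB : IsPBlock M B) {g : G} (hg : IsDefectClass M B g) :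
    ∃ χ ∈ B, (charDegree (χ : G → ℂ)).factorization p =
      (Subgroup.centralizer ({g} : Set G)).index.factorization p := by
  classical
  by_contra hcon
  push Not at hcon
  have := Fintype.ofFinite (IrrCharacter G)
  set A := (Set.toFinite B).toFinset with hA
  obtain ⟨S, d, hSA, hexp, hvan⟩ := exists_projective_decomposition hM A fun x y hx hy => by
    rw [hA, ← finsum_mem_eq_finite_toFinset_sum]
    exact sum_block_regular_singular hM hB hx hy
  refine hg.2.1 ?_
  have hginv : ¬ p ∣ orderOf g⁻¹ := by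
    rw [orderOf_inv]
    exact IsDefectClass.not_dvd_orderOf hM hB hg
  set q := p ^ (Nat.card G).factorization p with hqdef
  obtain ⟨r, hr, hrp⟩ := exists_factorization (p := p) (Nat.card_pos (α := G)).ne'
  have hq : ∀ φ ∈ S, (∑ χ ∈ A, (d χ φ : ℂ) * (χ : G → ℂ) 1) / (q : ℂ) ∈ localRing M := fun φ hφ =>
    sum_degree_div_mem hM A (fun χ => d χ φ) (hvan φ hφ)
  have hval : ∀ φ : IrrCharacter G, (φ : G → ℂ) g⁻¹ ∈ localRing M := fun φ =>
    mem_localRing_of_isIntegral (Char.IsChar.isIntegral (Char.IsIrr.isCharacter φ.2) _)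
  have hcent : Subgroup.centralizer ({g⁻¹} : Set G) = Subgroup.centralizer ({g} : Set G) := by
    ext x
    rw [mem_centralizer_singleton, mem_centralizer_singleton, Commute.inv_right_iff]
  let w : localRing M := ∑ φ ∈ S.attach, ⟨(r : ℂ)⁻¹, inv_natCast_mem hM hrp⟩ *
    ⟨_, hval φ.1⟩ * ⟨_, hq φ.1 φ.2⟩
  have hw : blockCoeff B g = (w : ℂ) := by
    rw [blockCoeff, finsum_mem_eq_finite_toFinset_sum _ (Set.toFinite B), ← hA,
      Finset.sum_congr rfl fun χ _ => by rw [← Char.IsIrr.map_inv χ.2, mul_comm],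
      hexp _ _ hginv, Finset.mul_sum]
    simp only [w, AddSubmonoidClass.coe_finsetSum, Subring.coe_mul]
    rw [Finset.sum_attach S (fun φ => (r : ℂ)⁻¹ * (φ : G → ℂ) g⁻¹ *
      ((∑ χ ∈ A, (d χ φ : ℂ) * (χ : G → ℂ) 1) / (q : ℂ)))]
    refine Finset.sum_congr rfl fun φ _ => ?_
    rw [hr, ← hqdef, Nat.cast_mul, mul_inv]
    ring
  rw [hw, ← residue_eq_zero_iff]
  simp only [w, map_sum, map_mul]
  refine Finset.sum_eq_zero fun φ _ => ?_
  have hφ : φ.1 ∈ B := by simpa [hA] using hSA φ.2
  rw [show IsLocalRing.residue (localRing M) ⟨_, hval φ.1⟩ = 0 from residue_eq_zero_iff.2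
    (apply_memLocalIdeal_of_index_lt hM φ.1 (by
      rw [hcent]
      exact lt_of_le_of_ne (IsDefectClass.index_le hM hg hφ) (hcon φ.1 hφ).symm)), mul_zero, zero_mul]

/-- The least `p`-part of a degree in a block. -/
theorem sInf_degree_eq (hB : IsPBlock M B) {g : G} (hg : IsDefectClass M B g) :
    sInf ((fun χ : IrrCharacter G => (charDegree (χ : G → ℂ)).factorization p) '' B) =
      (Subgroup.centralizer ({g} : Set G)).index.factorization p := by
  obtain ⟨χ, hχ, h⟩ := IsDefectClass.exists_index_eq hM hB hg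
  refine le_antisymm (Nat.sInf_le ⟨χ, hχ, h⟩) (le_csInf ⟨_, χ, hχ, rfl⟩ ?_)
  rintro _ ⟨ψ, hψ, rfl⟩
  exact IsDefectClass.index_le hM hg hψ

theorem factorization_card_eq_index_add (H : Subgroup G) :
    (Nat.card G).factorization p = H.index.factorization p + (Nat.card H).factorization p := by
  rw [← H.index_mul_card, Nat.factorization_mul Subgroup.index_ne_zero_of_finite Nat.card_pos.ne',
    Finsupp.add_apply]

theorem blockDefect_eq (hB : IsPBlock M B) {g : G} (hg : IsDefectClass M B g) :
    blockDefect p B = (Nat.card (Subgroup.centralizer ({g} : Set G))).factorization p := by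
  rw [blockDefect, sInf_degree_eq hM hB hg,
    factorization_card_eq_index_add hM (Subgroup.centralizer ({g} : Set G))]
  omega

theorem IsDefectGroup.card_eq (hB : IsPBlock M B) {D : Subgroup G}
    (hD : IsDefectGroup p M B D) : Nat.card D = p ^ blockDefect p B := by
  obtain ⟨g, hg, hle, hs⟩ := isDefectGroup_iff.1 hD
  rw [blockDefect_eq hM hB hg]
  exact (isSylowIn_iff_card hle).1 hs

/-- Height zero means that the `p`-part of the degree equals that of the defect class. -/
theorem blockHeight_eq_zero_iff (hB : IsPBlock M B) {g : G} (hg : IsDefectClass M B g)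
    {χ : IrrCharacter G} (hχ : χ ∈ B) :
    blockHeight p B (χ : G → ℂ) = 0 ↔ (charDegree (χ : G → ℂ)).factorization p =
      (Subgroup.centralizer ({g} : Set G)).index.factorization p := by
  have := IsDefectClass.index_le hM hg hχ
  rw [blockHeight, sInf_degree_eq hM hB hg]
  omega

/-- A height zero character is nonzero modulo `M` at a defect class. -/
theorem not_memLocalIdeal_apply (hB : IsPBlock M B) {g : G} (hg : IsDefectClass M B g)
    {χ : IrrCharacter G} (hχ : χ ∈ B) (h0 : blockHeight p B (χ : G → ℂ) = 0) :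
    ¬ MemLocalIdeal M ((χ : G → ℂ) g) := fun h =>
  IsDefectClass.centralCharBar_ne_zero hg hχ
    ((memLocalIdeal_apply_iff_of_eq hM χ ((blockHeight_eq_zero_iff hM hB hg hχ).1 h0)).1 h)

/-- Values at commuting products with a `p`-element are congruent. -/
theorem apply_mul_congr (χ : IrrCharacter G) {x y : G} (hc : Commute x y)
    (hx : ∃ k, orderOf x = p ^ k) :
    MemLocalIdeal M ((χ : G → ℂ) (x * y) - (χ : G → ℂ) y) := by
  classical
  obtain ⟨χ, n, ρ, hρ, rfl⟩ := χ
  have := charP_residueField hM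
  obtain ⟨k, hk⟩ := hx
  obtain ⟨b, μ, hb, hpow⟩ := CfsgLib.CharIntegral.exists_eigenbasis_apply ρ (x * y)
  obtain ⟨b', μ', hb', hpow'⟩ := CfsgLib.CharIntegral.exists_eigenbasis_apply ρ y
  have ho : ∀ i, μ i ∈ localRing M := fun i =>
    mem_localRing_of_pow_eq_one (orderOf_pos _).ne' (hpow.1 i)
  have ho' : ∀ i, μ' i ∈ localRing M := fun i =>
    mem_localRing_of_pow_eq_one (orderOf_pos _).ne' (hpow'.1 i)
  have hpk : (x * y) ^ p ^ k = y ^ p ^ k := by
    rw [hc.mul_pow, ← hk, pow_orderOf_eq_one, one_mul]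
  let a : localRing M := ∑ i, ⟨μ i, ho i⟩
  let a' : localRing M := ∑ i, ⟨μ' i, ho' i⟩
  have ha : ρ.character (x * y) = (a : ℂ) := by
    simp [a, hpow.2.2.1]
  have ha' : ρ.character y = (a' : ℂ) := by
    simp [a', hpow'.2.2.1]
  have hsum : ∑ i, (⟨μ i, ho i⟩ : localRing M) ^ p ^ k = ∑ i, (⟨μ' i, ho' i⟩ : localRing M) ^ p ^ k :=
    Subtype.ext (by
      simp only [AddSubmonoidClass.coe_finsetSum, SubmonoidClass.coe_pow]
      rw [← hpow.2.2.2, ← hpow'.2.2.2, hpk])
  have h1 : (IsLocalRing.residue (localRing M) a - IsLocalRing.residue (localRing M) a') ^ p ^ k = 0 := by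
    simp only [a, a', map_sum, sub_pow_char_pow, sum_pow_char_pow, ← map_pow]
    rw [← map_sum, ← map_sum, hsum, sub_self]
  show MemLocalIdeal M (ρ.character (x * y) - ρ.character y)
  rw [ha, ha', ← residue_eq_iff]
  exact sub_eq_zero.1 ((pow_eq_zero_iff (pow_ne_zero k hM.1.ne_zero)).1 h1)

/-- Height zero values on the `p`-section of a defect class are units. -/
theorem not_memLocalIdeal_apply_mul (hB : IsPBlock M B) {y : G} (hy : IsDefectClass M B y) {x : G}
    (hc : Commute x y) (hx : ∃ k, orderOf x = p ^ k) {χ : IrrCharacter G} (hχ : χ ∈ B)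
    (h0 : blockHeight p B (χ : G → ℂ) = 0) : ¬ MemLocalIdeal M ((χ : G → ℂ) (x * y)) := by
  intro h
  refine not_memLocalIdeal_apply hM hB hy hχ h0 ?_
  let u : localRing M := ⟨(χ : G → ℂ) (x * y),
    mem_localRing_of_isIntegral (Char.IsChar.isIntegral (Char.IsIrr.isCharacter χ.2) _)⟩
  let v : localRing M := ⟨(χ : G → ℂ) y,
    mem_localRing_of_isIntegral (Char.IsChar.isIntegral (Char.IsIrr.isCharacter χ.2) _)⟩
  have h1 : IsLocalRing.residue (localRing M) u = IsLocalRing.residue (localRing M) v :=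
    residue_eq_iff.2 (apply_mul_congr hM χ hc hx)
  have h2 : IsLocalRing.residue (localRing M) v = 0 := h1 ▸ residue_eq_zero_iff.2 h
  exact residue_eq_zero_iff.1 h2

/-- Central characters at `x * y`, for `y` a defect class and `x` centralizing a Sylow subgroup
of its centralizer, are units. -/
theorem centralCharBar_mul_ne_zero (hB : IsPBlock M B) {y : G} (hy : IsDefectClass M B y)
    {D : Subgroup G} (hD : D ≤ Subgroup.centralizer ({y} : Set G))
    (hs : IsSylowIn p D (Subgroup.centralizer ({y} : Set G))) {x : G} (hx : x ∈ D)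
    (hxc : ∀ w ∈ D, x * w = w * x) {χ : IrrCharacter G} (hχ : χ ∈ B) :
    centralCharBar M χ (x * y) ≠ 0 := by
  obtain ⟨ψ, hψ, h0⟩ := IsDefectClass.exists_index_eq hM hB hy
  rw [← omegaBar_classSum, omegaBar_congr (IsPBlock.sameBlock hB hχ hψ), omegaBar_classSum]
  intro hz
  have hc : Commute x y := mem_centralizer_singleton.1 (hD hx)
  obtain ⟨k, hk⟩ := IsPGroup.iff_orderOf.1 (hs.isPGroup hD) ⟨x, hx⟩
  have hxk : ∃ k, orderOf x = p ^ k := ⟨k, by rw [← hk]; exact Subgroup.orderOf_coe ⟨x, hx⟩⟩
  have hnu := not_memLocalIdeal_apply_mul hM hB hy hc hxk hψ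
    ((blockHeight_eq_zero_iff hM hB hy hψ).2 h0)
  have hle : D ≤ Subgroup.centralizer ({x * y} : Set G) := fun w hw => by
    rw [mem_centralizer_singleton]
    exact (show Commute w x from (hxc w hw).symm).mul_right (mem_centralizer_singleton.1 (hD hw))
  have hd : (Nat.card D).factorization p =
      (Nat.card (Subgroup.centralizer ({y} : Set G))).factorization p := by
    rw [(isSylowIn_iff_card hD).1 hs, hM.1.factorization_pow, Finsupp.single_eq_same]
  have hd2 : (Nat.card D).factorization p ≤
      (Nat.card (Subgroup.centralizer ({x * y} : Set G))).factorization p :=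
    (Nat.factorization_le_iff_dvd Nat.card_pos.ne' Nat.card_pos.ne').2
      (Subgroup.card_dvd_of_le hle) p
  have hidx := factorization_card_eq_index_add hM (Subgroup.centralizer ({y} : Set G))
  have hidx' := factorization_card_eq_index_add hM (Subgroup.centralizer ({x * y} : Set G))
  rcases Nat.lt_or_ge ((Subgroup.centralizer ({x * y} : Set G)).index.factorization p)
      ((charDegree (ψ : G → ℂ)).factorization p) with hlt | hge
  · exact hnu (apply_memLocalIdeal_of_index_lt hM ψ hlt)
  · exact hnu ((memLocalIdeal_apply_iff_of_eq hM ψ (by omega)).2 hz)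

end CfsgLib.Blocks
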