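import Cfsg.Agent.Lib.Blocks.CoveringDefect
import Cfsg.Agent.Lib.Blocks.DefectNumber
import Cfsg.Agent.Lib.Char.Gallagher
import Cfsg.Agent.Lib.CharDegree.Twist
import Cfsg.Agent.Lib.CharAction.RegGen
import Cfsg.Prelude.Def_BlockRank

/-!
# Stable blocks of normal subgroups of `p`-power index with commutative covering defect group

For `B` with commutative defect group `P` the product of a central element of `P` with a defect
class carries a nonzero value of every member of `B`. So no member of `B` is fixed by a nontrivial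
linear character of `G ⧸ N`, and restriction to `N` is irreducible.
-/

namespace CfsgLib.Blocks

open Cfsg CfsgLib.Char CfsgLib.Gallagher
open scoped ComplexConjugate

variable {G : Type*} [Group G] [Fintype G] {p : ℕ} [Fact p.Prime] {M : Ideal AlgInt} [M.IsPrime]
  (hM : IsPModular p M) (N : Subgroup G) [hN : N.Normal] [Fintype N]
  {k : ℕ} (hidx : N.index = p ^ k) {b : Set (IrrCharacter N)} (hb : IsPBlock M b)
  (hstab : ∀ g : G, g ∈ blockStab N M hb) {B : Set (IrrCharacter G)} (hB : IsPBlock M B)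
  (hcov : Covers N B b) {P : Subgroup G} (hP : IsDefectGroup p M B P)
include hM hidx hb hcov hB

/-- Every character over a member of `b` lies in `B`. -/
theorem mem_of_over {χ : IrrCharacter G} {θ : IrrCharacter N} (hθ : θ ∈ b)
    (h : classInner (fun n : N => (χ : G → ℂ) n) (θ : N → ℂ) ≠ 0) : χ ∈ B := by
  obtain ⟨χ', hχ', θ', hθ', hne⟩ := hcov
  rw [IsPBlock.eq_blockOf hB hχ']
  exact sameBlock_of_constituent N hM hidx hne h (IsPBlock.sameBlock hb hθ' hθ)

include hstab hP

theorem sup_defectGroup_eq_top : N ⊔ P = ⊤ := by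
  obtain ⟨B', hB', hcov', P', hP', hidx'⟩ := exists_covering_not_dvd N hM hb hstab
  obtain ⟨χ', hχ', θ', hθ', hne⟩ := hcov'
  have hBB : B' = B :=
    IsPBlock.eq_of_mem hB' hB hχ' (mem_of_over hM N hidx hb hB hcov hθ' hne)
  subst hBB
  obtain ⟨x, hx⟩ := IsDefectGroup.exists_conj hM hB hP' hP
  have h1 : (P' ⊔ N).index = 1 := by
    obtain ⟨j, -, hj⟩ := (Nat.dvd_prime_pow (Fact.out : p.Prime)).1
      (hidx ▸ Subgroup.index_dvd_of_le (le_sup_right : N ≤ P' ⊔ N))
    rcases Nat.eq_zero_or_pos j with rfl | h0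
    · simpa using hj
    · exact absurd (hj ▸ dvd_pow_self p h0.ne') hidx'
  rw [Subgroup.index_eq_one] at h1
  have h2 := congrArg (Subgroup.map (MulAut.conj x).toMonoidHom) h1
  rw [Subgroup.map_sup, hx, Subgroup.map_top_of_surjective _ (MulAut.conj x).surjective] at h2
  rw [eq_top_iff, ← h2]
  refine sup_le le_sup_right (le_sup_of_le_left ?_)
  rintro _ ⟨n, hn, rfl⟩
  exact hN.conj_mem n hn x

omit [Fintype G] hidx hstab hP hcov in
theorem eq_of_covers_of_stable [Fintype G] {c : Set (IrrCharacter N)} (hc : IsPBlock M c)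
    (hstab : ∀ g : G, g ∈ blockStab N M hb) (h : Covers N B b) (h' : Covers N B c) : c = b := by
  obtain ⟨g, rfl⟩ := exists_conj_of_covers N hB hb hc h h'
  exact (mem_blockStab N).1 (hstab g)

theorem isDefectGroup_inf : IsDefectGroup p M b ((P ⊓ N).subgroupOf N) := by
  obtain ⟨c, hc, -, hcc, hD⟩ := exists_stable_covered N hM hB hP
  rwa [eq_of_covers_of_stable hM N hb hB hc hstab hcov hcc] at hD

variable (hab : ∀ x ∈ P, ∀ y ∈ P, x * y = y * x)
include hab

theorem quotient_comm : ∀ a c : G ⧸ N, a * c = c * a := by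
  have hsup := sup_defectGroup_eq_top hM N hidx hb hstab hB hcov hP
  have hsurj : ∀ q : G ⧸ N, ∃ u ∈ P, (u : G ⧸ N) = q := by
    intro q
    induction q using QuotientGroup.induction_on with
    | H g =>
      have h : g ∈ N ⊔ P := hsup ▸ Subgroup.mem_top g
      rw [← SetLike.mem_coe, Subgroup.normal_mul N P, Set.mem_mul] at h
      obtain ⟨n, hn, u, hu, rfl⟩ := h
      exact ⟨u, hu, by rw [QuotientGroup.mk_mul, (QuotientGroup.eq_one_iff n).2 hn, one_mul]⟩
  intro a c
  obtain ⟨u, hu, rfl⟩ := hsurj a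
  obtain ⟨v, hv, rfl⟩ := hsurj c
  rw [← QuotientGroup.mk_mul, ← QuotientGroup.mk_mul, hab u hu v hv]

/-- No nontrivial linear character of the quotient fixes a member of `B`. -/
theorem eq_trivChar_of_twist_eq {χ : IrrCharacter G} (hχ : χ ∈ B) (β : IrrCharacter (G ⧸ N))
    (h : twistBy (χ : G → ℂ) (β : G ⧸ N → ℂ) = (χ : G → ℂ)) : β = Char.trivChar (G ⧸ N) := by
  obtain ⟨y, hy, hle, hs⟩ := isDefectGroup_iff.1 hP
  have hyN : y ∈ N := by
    by_contra hn
    exact IsDefectClass.coeff_ne_zero hB hy (coeff_blockIdemBar_eq_zero_of_index N hM hidx hB hn)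
  refine Subtype.ext (funext fun q => ?_)
  rw [Char.trivChar_apply]
  induction q using QuotientGroup.induction_on with
  | H g =>
    have hg : g ∈ N ⊔ P := sup_defectGroup_eq_top hM N hidx hb hstab hB hcov hP ▸ Subgroup.mem_top g
    rw [← SetLike.mem_coe, Subgroup.normal_mul N P, Set.mem_mul] at hg
    obtain ⟨n, hn, u, hu, rfl⟩ := hg
    have hne := centralCharBar_mul_ne_zero hM hB hy hle hs hu (fun w hw => hab u hu w hw) hχ
    have hval : (χ : G → ℂ) (u * y) ≠ 0 := fun h0 => hne (by
      rw [centralCharBar_eq_zero_iff, centralChar, h0, mul_zero, zero_div]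
      exact ⟨0, 1, M.zero_mem, one_notMem, by simp⟩)
    have h1 := congrFun h (u * y)
    rw [twistBy_apply, mul_eq_right₀ hval, map_mul,
      show QuotientGroup.mk' N y = 1 from (QuotientGroup.eq_one_iff y).2 hyN, mul_one] at h1
    rw [QuotientGroup.mk_mul, (QuotientGroup.eq_one_iff n).2 hn, one_mul]
    exact h1

theorem exists_restrict {χ : IrrCharacter G} (hχ : χ ∈ B) :
    ∃ θ ∈ b, ∀ n : N, (χ : G → ℂ) n = (θ : N → ℂ) n := by
  classical
  have := Fintype.ofFinite (IrrCharacter (G ⧸ N))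
  have hres : IsIrrCharacter N fun n : N => (χ : G → ℂ) n := by
    refine IsChar.isIrr_of_classInner_eq_one (IsChar.restrict N (IsIrr.isCharacter χ.2)) ?_
    have hind : classInner (indFun N fun n : N => (χ : G → ℂ) n) (χ : G → ℂ) = 1 := by
      rw [indFun_restrict_eq_sum (IsIrr.isClassFunction χ.2), classInner_sum_left,
        Finset.sum_eq_single (Char.trivChar (G ⧸ N))]
      · rw [show twistBy (χ : G → ℂ) ((Char.trivChar (G ⧸ N) : IrrCharacter (G ⧸ N)) : G ⧸ N → ℂ)
          = (χ : G → ℂ) from funext fun g => by simp [twistBy_apply],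
          classInner_smul_left, classInner_irr_self, Char.trivChar_apply, mul_one]
      · intro β _ hne
        rw [classInner_smul_left]
        refine mul_eq_zero_of_right _ ?_
        obtain ⟨l, hl⟩ := CharDegree.exists_hom_of_degree_one β (CharDegree.charDegree_of_comm
          (quotient_comm hM N hidx hb hstab hB hcov hP hab) β)
        have htw : IsIrrCharacter G (twistBy (χ : G → ℂ) (β : G ⧸ N → ℂ)) := by
          rw [show twistBy (χ : G → ℂ) (β : G ⧸ N → ℂ) =
            fun g => (χ : G → ℂ) g * ((l.comp (QuotientGroup.mk' N)) g : ℂ) from funext fun g => by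
              rw [twistBy_apply, hl, mul_comm]; rfl]
          exact CharDegree.isIrr_mul_linear χ _
        exact Char.classInner_irr_of_ne (χ := ⟨_, htw⟩) fun e => hne
          (eq_trivChar_of_twist_eq hM N hidx hb hstab hB hcov hP hab hχ β (congrArg Subtype.val e))
      · exact fun h => absurd (Finset.mem_univ _) h
    rwa [frobenius_reciprocity N _ (IsIrr.isClassFunction χ.2)] at hind
  refine ⟨⟨_, hres⟩, ?_, fun _ => rfl⟩
  have hc : Covers N B (blockOf M fun n : N => (χ : G → ℂ) n) :=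
    ⟨χ, hχ, ⟨_, hres⟩, mem_blockOf_self ⟨_, hres⟩,
      by rw [classInner_irr_self ⟨_, hres⟩]; exact one_ne_zero⟩
  rw [← eq_of_covers_of_stable hM N hb hB (isPBlock_blockOf ⟨_, hres⟩) hstab hcov hc]
  exact mem_blockOf_self ⟨_, hres⟩

theorem card_extensions {θ : IrrCharacter N} (hθ : θ ∈ b) :
    Nat.card {χ : IrrCharacter G // χ ∈ B ∧ ∀ n : N, (χ : G → ℂ) n = (θ : N → ℂ) n} = N.index := by
  classical
  obtain ⟨χ, hχc⟩ := exists_irr_over N θ
  have hχB := mem_of_over hM N hidx hb hB hcov hθ hχc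
  obtain ⟨θ', -, hres⟩ := exists_restrict hM N hidx hb hstab hB hcov hP hab hχB
  have he : (fun n : N => (χ : G → ℂ) n) = (θ : N → ℂ) := by
    rw [funext hres] at hχc ⊢
    by_contra hne
    exact hχc (classInner_irr_of_ne fun e => hne (congrArg Subtype.val e))
  have hirr : IsIrrCharacter N fun n : N => (χ : G → ℂ) n := he ▸ θ.2
  have hcomm := quotient_comm hM N hidx hb hstab hB hcov hP hab
  have hdeg : ∀ β : IrrCharacter (G ⧸ N), (β : G ⧸ N → ℂ) 1 = 1 := fun β =>
    (CharDegree.charDegree_eq_one_iff β).1 (CharDegree.charDegree_of_comm hcomm β)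
  have hcard : Nat.card (IrrCharacter (G ⧸ N)) = N.index := by
    have := Fintype.ofFinite (IrrCharacter (G ⧸ N))
    have h := sum_sq_degree (G := G ⧸ N)
    simp only [hdeg, one_pow, Finset.sum_const, Finset.card_univ, nsmul_eq_mul, mul_one] at h
    rw [Nat.card_eq_fintype_card, Subgroup.index_eq_card]
    exact_mod_cast h
  rw [← hcard]
  refine (Nat.card_congr (Equiv.ofBijective (fun β : IrrCharacter (G ⧸ N) =>
    (⟨⟨_, isIrr_twistBy (IsIrr.isCharacter χ.2) hirr β⟩, ?_, ?_⟩ :
      {χ : IrrCharacter G // χ ∈ B ∧ ∀ n : N, (χ : G → ℂ) n = (θ : N → ℂ) n})) ⟨?_, ?_⟩)).symm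
  · refine mem_of_over hM N hidx hb hB hcov hθ ?_
    rw [← he]
    show classInner (fun n : N => twistBy (χ : G → ℂ) (β : G ⧸ N → ℂ) n) _ ≠ 0
    rw [classInner_twistBy_restrict _ _ hirr, hdeg]
    exact one_ne_zero
  · intro n
    show twistBy (χ : G → ℂ) (β : G ⧸ N → ℂ) n = _
    rw [twistBy_apply_coe, hdeg, one_mul]
    exact congrFun he n
  · intro β γ h
    exact twistBy_injective (IsIrr.isCharacter χ.2) hirr (congrArg (fun x => (x.1 : G → ℂ)) h)
  · rintro ⟨ψ, -, hψ⟩
    obtain ⟨β, hβ⟩ := exists_eq_twistBy (IsIrr.isCharacter χ.2) hirr ψ (by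
      rw [he, funext hψ, classInner_irr_self]
      exact one_ne_zero)
    exact ⟨β, Subtype.ext (Subtype.ext hβ.symm)⟩

theorem card_eq : Nat.card B = N.index * Nat.card b := by
  classical
  have hres := fun χ : B => exists_restrict hM N hidx hb hstab hB hcov hP hab χ.2
  choose r hr hreq using hres
  have := Fintype.ofFinite b
  rw [Nat.card_congr (Equiv.sigmaFiberEquiv fun χ : B => (⟨r χ, hr χ⟩ : b)).symm, Nat.card_sigma,
    Finset.sum_congr rfl (g := fun _ => N.index) fun θ _ => ?_, Finset.sum_const, Finset.card_univ,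
    smul_eq_mul, Nat.card_eq_fintype_card (α := b), mul_comm]
  rw [← card_extensions hM N hidx hb hstab hB hcov hP hab θ.2]
  refine Nat.card_congr
    { toFun := fun x => ⟨x.1.1, x.1.2, fun n => by
        rw [hreq x.1 n]; exact congrArg (fun t : b => ((t : IrrCharacter N) : N → ℂ) n) x.2⟩
      invFun := fun χ => ⟨⟨χ.1, χ.2.1⟩, Subtype.ext (Subtype.ext (funext fun n =>
        (hreq ⟨χ.1, χ.2.1⟩ n).symm.trans (χ.2.2 n)))⟩
      left_inv := fun x => rfl
      right_inv := fun χ => rfl }

theorem blockRank_eq : blockRank p B = blockRank p b := by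
  classical
  let E : (N → ℂ) →ₗ[ℂ] (G → ℂ) :=
    { toFun := fun f g => if h : g ∈ N then f ⟨g, h⟩ else 0
      map_add' := fun f f' => funext fun g => by by_cases h : g ∈ N <;> simp [h]
      map_smul' := fun c f => funext fun g => by by_cases h : g ∈ N <;> simp [h] }
  have hE : Function.Injective E := fun f f' h => funext fun n => by
    have := congrFun h (n : G)
    simpa [E] using this
  have hreg : ∀ g : G, ¬ p ∣ orderOf g → g ∈ N := by
    intro g hg
    refine (QuotientGroup.eq_one_iff g).1 (orderOf_eq_one_iff.1 ?_)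
    exact Nat.eq_one_of_dvd_coprimes
      (((Nat.Prime.coprime_iff_not_dvd (Fact.out : p.Prime)).2 hg).pow_left k)
      (hidx ▸ orderOf_dvd_natCard (g : G ⧸ N)) (orderOf_map_dvd (QuotientGroup.mk' N) g)
  have key : ∀ (χ : IrrCharacter G) (θ : IrrCharacter N),
      (∀ n : N, (χ : G → ℂ) n = (θ : N → ℂ) n) →
      pRegularPart p (χ : G → ℂ) = E (pRegularPart p (θ : N → ℂ)) := by
    intro χ θ h
    funext g
    simp only [CharAction.pRegularPart_eq_regCut, regCut, E, LinearMap.coe_mk, AddHom.coe_mk]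
    by_cases hg : g ∈ N
    · rw [dif_pos hg, Subgroup.orderOf_mk]
      split_ifs
      · rfl
      · exact h ⟨g, hg⟩
    · rw [dif_neg hg, if_pos (of_not_not (mt (hreg g) hg))]
  have himg : (fun χ : IrrCharacter G => pRegularPart p (χ : G → ℂ)) '' B =
      E '' ((fun θ : IrrCharacter N => pRegularPart p (θ : N → ℂ)) '' b) := by
    ext f
    constructor
    · rintro ⟨χ, hχ, rfl⟩
      obtain ⟨θ, hθ, h⟩ := exists_restrict hM N hidx hb hstab hB hcov hP hab hχ
      exact ⟨_, ⟨θ, hθ, rfl⟩, (key χ θ h).symm⟩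
    · rintro ⟨_, ⟨θ, hθ, rfl⟩, rfl⟩
      obtain ⟨⟨χ, hχ, h⟩⟩ : Nonempty {χ : IrrCharacter G // χ ∈ B ∧
          ∀ n : N, (χ : G → ℂ) n = (θ : N → ℂ) n} := (Nat.card_pos_iff.1 (by
        rw [card_extensions hM N hidx hb hstab hB hcov hP hab hθ, hidx]
        exact pow_pos (Fact.out : p.Prime).pos k)).1
      exact ⟨χ, hχ, key χ θ h⟩
  rw [blockRank, blockRank, himg, Submodule.span_image]
  exact (Submodule.equivMapOfInjective E hE _).finrank_eq.symm

end CfsgLib.Blocks
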