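import Cfsg.Agent.Lib.Blocks.Induced
import Mathlib.GroupTheory.Nilpotent

/-!
# Brauer's first main theorem
-/

namespace CfsgLib.Blocks

open Cfsg MonoidAlgebra CfsgLib.Fusion

variable {G : Type*} [Group G] {p : ℕ}

theorem normal_subgroupOf_normalizer (D : Subgroup G) :
    (D.subgroupOf (Subgroup.normalizer (D : Set G))).Normal :=
  (Subgroup.normal_subgroupOf_iff_le_normalizer Subgroup.le_normalizer).2 le_rfl

theorem centralizer_le_normalizer' (D : Subgroup G) :
    Subgroup.centralizer (D : Set G) ≤ Subgroup.normalizer (D : Set G) := fun x hx =>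
  Subgroup.mem_normalizer_iff.2 fun a => by
    constructor
    · intro ha
      rwa [← Subgroup.mem_centralizer_iff.1 hx a ha, mul_inv_cancel_right]
    · intro ha
      have h := Subgroup.mem_centralizer_iff.1 hx _ ha
      rw [inv_mul_cancel_right, mul_left_cancel_iff] at h
      rwa [← h] at ha

variable [Finite G] [Fact p.Prime]

/-- A `p`-subgroup that is Sylow in the part of the centralizer of `c` normalizing it is Sylow in
the whole centralizer. -/
theorem isSylowIn_centralizer_of_normalizer {P : Subgroup G} {c : G} (hP : IsPGroup p P)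
    (hle : P ≤ Subgroup.centralizer ({c} : Set G))
    (hmax : ∀ Q : Subgroup G, IsPGroup p Q → P ≤ Q → Q ≤ Subgroup.centralizer ({c} : Set G) →
      Q ≤ Subgroup.normalizer (P : Set G) → Q = P) :
    IsSylowIn p P (Subgroup.centralizer ({c} : Set G)) := by
  obtain ⟨T, hPT, hT, hTp, hTs⟩ := exists_isSylowIn_ge hle hP
  suffices h : P = T from h ▸ hTs
  by_contra hne
  have : Group.IsNilpotent T := hTp.isNilpotent
  have hlt : P.subgroupOf T < ⊤ := lt_top_iff_ne_top.2 fun h =>
    hne (le_antisymm hPT (Subgroup.subgroupOf_eq_top.1 h))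
  have h2 := Group.normalizerCondition_of_isNilpotent (P.subgroupOf T) hlt
  obtain ⟨t, ht, htP⟩ := SetLike.exists_of_lt h2
  have hN : (t : G) ∈ Subgroup.normalizer (P : Set G) := Subgroup.mem_normalizer_iff.2 fun a => by
    constructor
    · intro ha
      exact (Subgroup.mem_normalizer_iff.1 ht ⟨a, hPT ha⟩).1 ha
    · intro ha
      have haT : a ∈ T := by
        simpa [mul_assoc] using mul_mem (mul_mem (inv_mem t.2) (hPT ha)) t.2
      exact (Subgroup.mem_normalizer_iff.1 ht ⟨a, haT⟩).2 ha
  have h4 : P ≤ T ⊓ Subgroup.normalizer (P : Set G) := le_inf hPT Subgroup.le_normalizer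
  have h5 := hmax _ (hTp.to_inf_left) h4 (inf_le_left.trans hT) inf_le_right
  refine htP ?_
  rw [Subgroup.mem_subgroupOf, ← h5]
  exact ⟨t.2, hN⟩

/-- Conjugate elements centralized by `P`, with `P` Sylow in the centralizer of the first, are
conjugate under the normalizer of `P`. -/
theorem exists_normalizer_conj {P : Subgroup G} {c₁ c₂ : G} (hP : IsPGroup p P)
    (hle : P ≤ Subgroup.centralizer ({c₁} : Set G))
    (hs : IsSylowIn p P (Subgroup.centralizer ({c₁} : Set G))) (hc : IsConj c₁ c₂)
    (hc₂ : c₂ ∈ Subgroup.centralizer (P : Set G)) :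
    ∃ n ∈ Subgroup.normalizer (P : Set G), n * c₁ * n⁻¹ = c₂ := by
  obtain ⟨x, rfl⟩ := isConj_iff.1 hc
  have hQ : P.map (MulAut.conj x⁻¹).toMonoidHom ≤ Subgroup.centralizer ({c₁} : Set G) := by
    rintro _ ⟨a, ha, rfl⟩
    have h1 : Commute a (x * c₁ * x⁻¹) := Subgroup.mem_centralizer_iff.1 hc₂ a ha
    have h2 := h1.map (MulAut.conj x⁻¹).toMonoidHom
    rw [mem_centralizer_singleton]
    simpa [mul_assoc] using h2
  obtain ⟨k, hk, hkP⟩ := hs.exists_conj_mem hQ (hP.map _)
  have hn : k * x⁻¹ ∈ Subgroup.normalizer (P : Set G) := by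
    rw [Subgroup.mem_normalizer_iff_map_conj_eq]
    refine Subgroup.eq_of_le_of_card_ge ?_ (le_of_eq (card_map_conj (k * x⁻¹) P).symm)
    rintro _ ⟨a, ha, rfl⟩
    have := hkP _ ⟨a, ha, rfl⟩
    simpa [mul_assoc] using this
  refine ⟨(k * x⁻¹)⁻¹, inv_mem hn, ?_⟩
  have h3 : k * c₁ = c₁ * k := mem_centralizer_singleton.1 hk
  rw [mul_inv_rev, inv_inv]
  calc x * k⁻¹ * c₁ * (x * k⁻¹)⁻¹ = x * (k⁻¹ * (c₁ * k)) * x⁻¹ := by group
    _ = x * c₁ * x⁻¹ := by rw [← h3, inv_mul_cancel_left]

variable [Fintype G] {M : Ideal AlgInt} [M.IsPrime] (hM : IsPModular p M)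

/-- Reduced idempotent support of a block with normal defect group lies in classes of exact
defect. -/
theorem isSylowIn_of_normal_defectGroup {K : Type*} [Group K] [Fintype K] {b : Set (IrrCharacter K)}
    (hM : IsPModular p M) (hb : IsPBlock M b) {P : Subgroup K} [P.Normal]
    (hP : IsDefectGroup p M b P) {l : K} (hl : (blockIdemBar M b).coeff l ≠ 0)
    (hlP : l ∈ Subgroup.centralizer (P : Set K)) :
    IsSylowIn p P (Subgroup.centralizer ({l} : Set K)) := by
  have hle := mem_centralizer_iff_le.1 hlP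
  obtain ⟨T, hPT, hT, hTp, hTs⟩ := exists_isSylowIn_ge hle (IsDefectGroup.isPGroup hP)
  have h1 := (IsDefectGroup.defLE_of_coeff_ne_zero hM hb hP hl T hTp hT).card_dvd
  rwa [Subgroup.eq_of_le_of_card_ge hPT (Nat.le_of_dvd Nat.card_pos h1)]

include hM

/-- Blocks of `N(D)` with defect group `D` and the same induced block are equal. -/
theorem eq_of_isInducedBlock_normalizer {D : Subgroup G} (hD : IsPGroup p D)
    [Fintype (Subgroup.normalizer (D : Set G))]
    {b b' : Set (IrrCharacter (Subgroup.normalizer (D : Set G)))} {B : Set (IrrCharacter G)}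
    (h : IsInducedBlock M (Subgroup.normalizer (D : Set G)) b B)
    (h' : IsInducedBlock M (Subgroup.normalizer (D : Set G)) b' B)
    (hbD : IsDefectGroup p M b (D.subgroupOf (Subgroup.normalizer (D : Set G))))
    (hb'D : IsDefectGroup p M b' (D.subgroupOf (Subgroup.normalizer (D : Set G)))) : b = b' := by
  classical
  have := charP_residueField hM
  have := normal_subgroupOf_normalizer D
  obtain ⟨hb, hB, h1⟩ := isInducedBlock_iff.1 h
  obtain ⟨hb', -, h2⟩ := isInducedBlock_iff.1 h'
  obtain ⟨ξ, hξ⟩ := IsPBlock.nonempty hb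
  obtain ⟨ξ', hξ'⟩ := IsPBlock.nonempty hb'
  obtain ⟨χ, hχ⟩ := IsPBlock.nonempty hB
  refine IsPBlock.eq_of_mem hb hb' hξ ?_
  by_contra hcon
  have hDN : D ≤ Subgroup.normalizer (D : Set G) := Subgroup.le_normalizer
  have key : ∀ l : Subgroup.normalizer (D : Set G),
      (blockIdemBar M b').coeff l ≠ 0 → centralCharBar M ξ l = centralCharBar M ξ' l := by
    intro l hl
    by_cases hlc : l ∈ Subgroup.centralizer
        ((D.subgroupOf (Subgroup.normalizer (D : Set G)) : Subgroup _) :
          Set (Subgroup.normalizer (D : Set G)))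
    · have hlG : (l : G) ∈ Subgroup.centralizer (D : Set G) :=
        Subgroup.mem_centralizer_iff.2 fun u hu =>
          congrArg Subtype.val (Subgroup.mem_centralizer_iff.1 hlc ⟨u, hDN hu⟩ hu)
      have hex := isSylowIn_of_normal_defectGroup hM hb' hb'D hl hlc
      have hleG := mem_centralizer_iff_le.1 hlG
      have hsG : IsSylowIn p D (Subgroup.centralizer ({(l : G)} : Set G)) := by
        refine isSylowIn_centralizer_of_normalizer hD hleG fun Q hQ hDQ hQc hQN => ?_
        have h3 := hex.eq_of_le (mem_centralizer_iff_le.1 hlc)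
          (X := Q.subgroupOf (Subgroup.normalizer (D : Set G))) (Subgroup.comap_mono hDQ)
          (fun q hq => mem_centralizer_singleton.2 (Subtype.ext (mem_centralizer_singleton.1 (hQc hq))))
          (hQ.comap_of_injective _ (Subgroup.subtype_injective _))
        rwa [Subgroup.subgroupOf_inj, inf_eq_left.2 hQN, inf_eq_left.2 hDN] at h3
      have hmap : brauerMap D (Subgroup.normalizer (D : Set G)) (classSum (Res M) (l : G)) =
          classSum (Res M) l := by
        refine MonoidAlgebra.ext (Finsupp.ext fun k => ?_)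
        rw [coeff_brauerMap, coeff_classSum, coeff_classSum]
        by_cases hk : (k : G) ∈ Subgroup.centralizer (D : Set G)
        · rw [if_pos hk]
          refine if_congr ⟨fun hc => ?_, fun hc => (isConj_iff.1 hc).elim fun y hy => isConj_iff.2 ⟨(y : G), congrArg Subtype.val hy⟩⟩ rfl rfl
          obtain ⟨n, hn, hnl⟩ := exists_normalizer_conj hD hleG hsG hc hk
          exact isConj_iff.2 ⟨⟨n, hn⟩, Subtype.ext hnl⟩
        · rw [if_neg hk, if_neg fun hc => hk ?_]
          obtain ⟨n, rfl⟩ := isConj_iff.1 hc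
          have hnD : ∀ u ∈ D, (n : G)⁻¹ * u * n ∈ D := fun u hu =>
            (Subgroup.mem_normalizer_iff''.1 n.2 u).1 hu
          refine Subgroup.mem_centralizer_iff.2 fun u hu => ?_
          have h4 := Subgroup.mem_centralizer_iff.1 hlG _ (hnD u hu)
          show u * ((n : G) * l * (n : G)⁻¹) = (n : G) * l * (n : G)⁻¹ * u
          calc u * ((n : G) * l * (n : G)⁻¹) = n * ((n : G)⁻¹ * u * n * l) * (n : G)⁻¹ := by group
            _ = n * (l * ((n : G)⁻¹ * u * n)) * (n : G)⁻¹ := by rw [h4]
            _ = n * l * (n : G)⁻¹ * u := by group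
      have e1 : centralCharBar M ξ l = omegaBar χ (classSum (Res M) (l : G)) := by
        rw [← h1 ξ hξ χ hχ _ (isCentralElt_classSum _ _),
          omegaBar_resElt_eq_brauerMap hM hD hDN le_rfl ξ (isCentralElt_classSum _ _), hmap,
          omegaBar_classSum]
      have e2 : centralCharBar M ξ' l = omegaBar χ (classSum (Res M) (l : G)) := by
        rw [← h2 ξ' hξ' χ hχ _ (isCentralElt_classSum _ _),
          omegaBar_resElt_eq_brauerMap hM hD hDN le_rfl ξ' (isCentralElt_classSum _ _), hmap,
          omegaBar_classSum]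
      rw [e1, e2]
    · have hz : ∀ (θ : IrrCharacter (Subgroup.normalizer (D : Set G))),
          centralCharBar M θ l = 0 := by
        intro θ
        obtain ⟨E, hE⟩ := exists_isDefectGroup (p := p) (isPBlock_blockOf (M := M) θ)
        by_contra hne
        obtain ⟨c, hc, hcE⟩ := IsDefectGroup.exists_isConj_mem_centralizer hM
          (isPBlock_blockOf θ) hE (mem_blockOf_self θ) hne
        have hDE := IsDefectGroup.normal_le hM (isPBlock_blockOf θ) hE
          (P := D.subgroupOf (Subgroup.normalizer (D : Set G)))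
          (hD.comap_of_injective _ (Subgroup.subtype_injective _))
        have hcD := Subgroup.centralizer_le (SetLike.coe_subset_coe.2 hDE) hcE
        obtain ⟨y, hy⟩ := isConj_iff.1 hc
        refine hlc ?_
        rw [show l = y⁻¹ * c * y by rw [← hy]; group]
        simpa using (inferInstance : (Subgroup.centralizer
          ((D.subgroupOf (Subgroup.normalizer (D : Set G)) : Subgroup _) :
            Set (Subgroup.normalizer (D : Set G)))).Normal).conj_mem c hcD y⁻¹
      rw [hz, hz]
  have h3 : omegaBar ξ (blockIdemBar M b') = omegaBar ξ' (blockIdemBar M b') := by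
    unfold omegaBar
    refine Finset.sum_congr rfl fun C _ => ?_
    by_cases hC : (blockIdemBar M b').coeff (Quotient.out C) = 0
    · rw [hC, zero_mul, zero_mul]
    · rw [key _ hC]
  rw [omegaBar_blockIdemBar hb', omegaBar_blockIdemBar hb', if_pos hξ', if_neg hcon] at h3
  exact zero_ne_one h3

/-- A block of `N(D)` inducing a block with defect group `D` has defect group `D`. -/
theorem isDefectGroup_normalizer_of_induced {D : Subgroup G} (hD : IsPGroup p D)
    [Fintype (Subgroup.normalizer (D : Set G))]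
    {b : Set (IrrCharacter (Subgroup.normalizer (D : Set G)))} {B : Set (IrrCharacter G)}
    (h : IsInducedBlock M (Subgroup.normalizer (D : Set G)) b B)
    (hBD : IsDefectGroup p M B D) :
    IsDefectGroup p M b (D.subgroupOf (Subgroup.normalizer (D : Set G))) := by
  have := normal_subgroupOf_normalizer D
  obtain ⟨hb, hB, -⟩ := isInducedBlock_iff.1 h
  obtain ⟨Db, hDb⟩ := exists_isDefectGroup (p := p) hb
  have hle := IsDefectGroup.normal_le hM hb hDb (P := D.subgroupOf (Subgroup.normalizer (D : Set G)))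
    (hD.comap_of_injective _ (Subgroup.subtype_injective _))
  obtain ⟨E, hE, hDE⟩ := IsInducedBlock.defectGroup_le hM h hDb
  have h1 : Nat.card Db ≤ Nat.card (D.subgroupOf (Subgroup.normalizer (D : Set G))) := by
    rw [card_subgroupOf_eq Subgroup.le_normalizer,
      ← Nat.card_congr (Db.equivMapOfInjective _ (Subgroup.subtype_injective _)).symm.toEquiv]
    exact (Nat.le_of_dvd Nat.card_pos (Subgroup.card_dvd_of_le hDE)).trans
      (Nat.le_of_dvd Nat.card_pos (IsDefectGroup.subConj hM hB hE hBD).card_dvd)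
  rwa [Subgroup.eq_of_le_of_card_ge hle h1]

/-- Induction from `N(D)` preserves the defect group `D`. -/
theorem isDefectGroup_of_induced_normalizer {D : Subgroup G} (hD : IsPGroup p D)
    [Fintype (Subgroup.normalizer (D : Set G))]
    {b : Set (IrrCharacter (Subgroup.normalizer (D : Set G)))} {B : Set (IrrCharacter G)}
    (h : IsInducedBlock M (Subgroup.normalizer (D : Set G)) b B)
    (hbD : IsDefectGroup p M b (D.subgroupOf (Subgroup.normalizer (D : Set G)))) :
    IsDefectGroup p M B D := by
  classical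
  have := charP_residueField hM
  have hDN : D ≤ Subgroup.normalizer (D : Set G) := Subgroup.le_normalizer
  obtain ⟨hb, hB, hall⟩ := isInducedBlock_iff.1 h
  obtain ⟨l, hl, hle, hs⟩ := isDefectGroup_iff.1 hbD
  have hlG : (l : G) ∈ Subgroup.centralizer (D : Set G) :=
    Subgroup.mem_centralizer_iff.2 fun u hu =>
      congrArg Subtype.val (mem_centralizer_singleton.1 (hle (show (⟨u, hDN hu⟩ : Subgroup.normalizer (D : Set G)) ∈
        D.subgroupOf (Subgroup.normalizer (D : Set G)) from hu)))
  have hleG := mem_centralizer_iff_le.1 hlG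
  have hsG : IsSylowIn p D (Subgroup.centralizer ({(l : G)} : Set G)) := by
    refine isSylowIn_centralizer_of_normalizer hD hleG fun Q hQ hDQ hQc hQN => ?_
    have h3 := hs.eq_of_le hle
      (X := Q.subgroupOf (Subgroup.normalizer (D : Set G))) (Subgroup.comap_mono hDQ)
      (fun q hq => mem_centralizer_singleton.2 (Subtype.ext (mem_centralizer_singleton.1 (hQc hq))))
      (hQ.comap_of_injective _ (Subgroup.subtype_injective _))
    rwa [Subgroup.subgroupOf_inj, inf_eq_left.2 hQN, inf_eq_left.2 hDN] at h3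
  obtain ⟨ξ, hξ⟩ := IsPBlock.nonempty hb
  obtain ⟨χ, hχ⟩ := IsPBlock.nonempty hB
  obtain ⟨E, hE⟩ := exists_isDefectGroup (p := p) hB
  have hmap : brauerMap D (Subgroup.normalizer (D : Set G)) (classSum (Res M) (l : G)) =
      classSum (Res M) l := by
    refine MonoidAlgebra.ext (Finsupp.ext fun k => ?_)
    rw [coeff_brauerMap, coeff_classSum, coeff_classSum]
    by_cases hk : (k : G) ∈ Subgroup.centralizer (D : Set G)
    · rw [if_pos hk]
      refine if_congr ⟨fun hc => ?_, fun hc => (isConj_iff.1 hc).elim fun y hy => isConj_iff.2 ⟨(y : G), congrArg Subtype.val hy⟩⟩ rfl rfl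
      obtain ⟨n, hn, hnl⟩ := exists_normalizer_conj hD hleG hsG hc hk
      exact isConj_iff.2 ⟨⟨n, hn⟩, Subtype.ext hnl⟩
    · rw [if_neg hk, if_neg fun hc => hk ?_]
      obtain ⟨n, rfl⟩ := isConj_iff.1 hc
      refine Subgroup.mem_centralizer_iff.2 fun u hu => ?_
      have h4 := Subgroup.mem_centralizer_iff.1 hlG _
        ((Subgroup.mem_normalizer_iff''.1 n.2 u).1 hu)
      show u * ((n : G) * l * (n : G)⁻¹) = (n : G) * l * (n : G)⁻¹ * u
      calc u * ((n : G) * l * (n : G)⁻¹) = n * ((n : G)⁻¹ * u * n * l) * (n : G)⁻¹ := by group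
        _ = n * (l * ((n : G)⁻¹ * u * n)) * (n : G)⁻¹ := by rw [h4]
        _ = n * l * (n : G)⁻¹ * u := by group
  have hne : centralCharBar M χ (l : G) ≠ 0 := by
    rw [← omegaBar_classSum, ← hall ξ hξ χ hχ _ (isCentralElt_classSum _ _),
      omegaBar_resElt_eq_brauerMap hM hD hDN le_rfl ξ (isCentralElt_classSum _ _), hmap,
      omegaBar_classSum]
    exact IsDefectClass.centralCharBar_ne_zero hl hξ
  have h1 : SubConj E D := IsDefectGroup.subConj_of_centralCharBar_ne_zero hM hB hE hχ hne
    (defLE_self hsG)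
  obtain ⟨E', hE', hDE'⟩ := IsInducedBlock.defectGroup_le hM h hbD
  have h2 : SubConj D E := by
    rw [Subgroup.map_subgroupOf_eq_of_le hDN] at hDE'
    exact (SubConj.of_le hDE').trans (IsDefectGroup.subConj hM hB hE' hE)
  obtain ⟨x, hx⟩ := SubConj.exists_map_eq h1 h2
  exact hx ▸ IsDefectGroup.map_conj hE x

/-- **Brauer's first main theorem**, existence and uniqueness of the correspondent. -/
theorem existsUnique_correspondent {D : Subgroup G} [Fintype (Subgroup.normalizer (D : Set G))]
    {B : Set (IrrCharacter G)} (hB : IsPBlock M B) (hBD : IsDefectGroup p M B D) :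
    ∃! b : Set (IrrCharacter (Subgroup.normalizer (D : Set G))), IsPBlock M b ∧
      IsDefectGroup p M b (D.subgroupOf (Subgroup.normalizer (D : Set G))) ∧
      IsInducedBlock M (Subgroup.normalizer (D : Set G)) b B := by
  have hD := IsDefectGroup.isPGroup hBD
  obtain ⟨b, hb⟩ := (exists_inducing_iff_subConj hM hD Subgroup.le_normalizer
    (centralizer_le_normalizer' D) le_rfl hB hBD).2 (SubConj.of_le le_rfl)
  exact ⟨b, ⟨hb.1, isDefectGroup_normalizer_of_induced hM hD hb hBD, hb⟩,
    fun b' ⟨_, hb'D, hb'⟩ => eq_of_isInducedBlock_normalizer hM hD hb' hb hb'D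
      (isDefectGroup_normalizer_of_induced hM hD hb hBD)⟩

end CfsgLib.Blocks
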