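import Cfsg.Agent.Lib.Blocks.Principal
import Cfsg.Agent.Lib.Blocks.FirstMain
import Cfsg.Agent.Lib.CharAction.DegreeSum
import Cfsg.Agent.Lib.Char.AbelianInertia
import Mathlib.GroupTheory.Transfer
import Mathlib.GroupTheory.FiniteAbelian.Duality
import Mathlib.RingTheory.RootsOfUnity.AlgebraicallyClosed

/-!
# Abelian Sylow subgroups with automizer of order three

The principal block of a group whose abelian Sylow `p`-subgroup `P` has an automizer of order
three acting semiregularly on `P`: values on the singular elements and orthogonality relations.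
-/

namespace CfsgLib.IndexThree

open Cfsg CfsgLib.Char CfsgLib.Blocks CfsgLib.Fusion
open scoped ComplexConjugate

variable {G : Type*} [Group G] [Fintype G]

/-- The hypotheses, with a chosen element `g` generating the automizer. -/
structure Setting (p : ℕ) (P : Sylow p G) (g : G) : Prop where
  comm : ∀ x ∈ (P : Subgroup G), ∀ y ∈ (P : Subgroup G), x * y = y * x
  nontriv : Nat.card P ≠ 1
  index : (Subgroup.centralizer ((P : Subgroup G) : Set G)).relIndex
    (Subgroup.normalizer ((P : Subgroup G) : Set G)) = 3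
  mem : g ∈ Subgroup.normalizer ((P : Subgroup G) : Set G)
  gen : Subgroup.centralizer ((P : Subgroup G) : Set G) ⊔ Subgroup.zpowers g =
    Subgroup.normalizer ((P : Subgroup G) : Set G)
  fpf : ∀ y ∈ (P : Subgroup G), y ≠ 1 →
    Subgroup.centralizer ({y} : Set G) ⊓ Subgroup.normalizer ((P : Subgroup G) : Set G) =
      Subgroup.centralizer ((P : Subgroup G) : Set G)

variable {p : ℕ} [Fact p.Prime] {P : Sylow p G} {g : G} (S : Setting p P g)
include S

theorem le_centralizer_self :
    (P : Subgroup G) ≤ Subgroup.centralizer ((P : Subgroup G) : Set G) :=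
  fun _ hx => Subgroup.mem_centralizer_iff.mpr fun y hy => S.comm y hy _ hx

theorem le_centralizer {y : G} (hy : y ∈ (P : Subgroup G)) :
    (P : Subgroup G) ≤ Subgroup.centralizer ({y} : Set G) :=
  fun x hx => Subgroup.mem_centralizer_singleton_iff.mpr (S.comm x hx y hy)

theorem g_not_mem : g ∉ Subgroup.centralizer ((P : Subgroup G) : Set G) := fun h => by
  have h1 := S.index
  rw [← S.gen, sup_eq_left.mpr (Subgroup.zpowers_le.mpr h), Subgroup.relIndex_self] at h1
  omega

theorem conj_mem {x : G} (hx : x ∈ (P : Subgroup G)) {n : G}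
    (hn : n ∈ Subgroup.normalizer ((P : Subgroup G) : Set G)) : n * x * n⁻¹ ∈ (P : Subgroup G) :=
  (Subgroup.mem_normalizer_iff.mp hn x).mp hx

theorem g_pow_three_mem : g ^ 3 ∈ Subgroup.centralizer ((P : Subgroup G) : Set G) := by
  set C := Subgroup.centralizer ((P : Subgroup G) : Set G)
  set N := Subgroup.normalizer ((P : Subgroup G) : Set G)
  have : (C.subgroupOf N).Normal := by
    refine ⟨fun c hc n => ?_⟩
    rw [Subgroup.mem_subgroupOf] at hc ⊢
    refine Subgroup.mem_centralizer_iff.mpr fun y hy => ?_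
    have h1 := Subgroup.mem_centralizer_iff.mp hc ((n : G)⁻¹ * y * ((n : G)⁻¹)⁻¹)
      (conj_mem S hy (inv_mem n.2))
    rw [inv_inv] at h1
    show y * ((n : G) * c * (n : G)⁻¹) = (n : G) * c * (n : G)⁻¹ * y
    calc y * ((n : G) * c * (n : G)⁻¹) = n * ((n : G)⁻¹ * y * n * c) * (n : G)⁻¹ := by group
      _ = n * (c * ((n : G)⁻¹ * y * n)) * (n : G)⁻¹ := by rw [h1]
      _ = _ := by group
  have h := (C.subgroupOf N).pow_index_mem ⟨g, S.mem⟩
  rw [show (C.subgroupOf N).index = 3 from S.index] at h
  exact h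

/-- Conjugation by `g` on `P`. -/
noncomputable def sigma : (P : Subgroup G) →* (P : Subgroup G) where
  toFun x := ⟨g * x * g⁻¹, conj_mem S x.2 S.mem⟩
  map_one' := Subtype.ext (by simp)
  map_mul' x y := Subtype.ext (by simp [mul_assoc])

theorem coe_sigma (x : (P : Subgroup G)) : (sigma S x : G) = g * x * g⁻¹ := rfl

theorem sigma_three (x : (P : Subgroup G)) : sigma S (sigma S (sigma S x)) = x := Subtype.ext (by
  rw [coe_sigma, coe_sigma, coe_sigma]
  calc g * (g * (g * x * g⁻¹) * g⁻¹) * g⁻¹ = g ^ 3 * x * (g ^ 3)⁻¹ := by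
        rw [show g ^ 3 = g * g * g by rw [pow_succ, pow_two]]
        group
    _ = x := by
      rw [← Subgroup.mem_centralizer_iff.mp (g_pow_three_mem S) x x.2, mul_inv_cancel_right])

theorem sigma_fixed {x : (P : Subgroup G)} (h : sigma S x = x) : x = 1 := by
  by_contra hx
  refine g_not_mem S ?_
  rw [← S.fpf x x.2 fun e => hx (Subtype.ext e)]
  exact ⟨Subgroup.mem_centralizer_singleton_iff.mpr
    (mul_inv_eq_iff_eq_mul.mp (congrArg Subtype.val h)), S.mem⟩

theorem sigma_sq_fixed {x : (P : Subgroup G)} (h : sigma S (sigma S x) = x) : x = 1 :=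
  sigma_fixed S (by
    have := congrArg (sigma S) h
    rw [sigma_three] at this
    exact this.symm)

/-- The orbit of an element of `P` under the automizer. -/
def InOrbit (x y : (P : Subgroup G)) : Prop :=
  y = x ∨ y = sigma S x ∨ y = sigma S (sigma S x)

theorem inOrbit_of_conj {x y : (P : Subgroup G)} {n : G}
    (hn : n ∈ Subgroup.normalizer ((P : Subgroup G) : Set G)) (h : n * x * n⁻¹ = (y : G)) :
    InOrbit S x y := by
  rw [← S.gen] at hn
  obtain ⟨c, hc, z, hz, rfl⟩ : ∃ c ∈ Subgroup.centralizer ((P : Subgroup G) : Set G),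
      ∃ z ∈ Subgroup.zpowers g, c * z = n := by
    have hle : Subgroup.zpowers g ≤
        Subgroup.normalizer (Subgroup.centralizer ((P : Subgroup G) : Set G) : Set G) := by
      rw [Subgroup.zpowers_le]
      refine Subgroup.mem_normalizer_iff.mpr fun c => ?_
      have key : ∀ {n c : G}, n ∈ Subgroup.normalizer ((P : Subgroup G) : Set G) →
          c ∈ Subgroup.centralizer ((P : Subgroup G) : Set G) →
          n * c * n⁻¹ ∈ Subgroup.centralizer ((P : Subgroup G) : Set G) := fun {n c} hn hc => by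
        refine Subgroup.mem_centralizer_iff.mpr fun y hy => ?_
        have h1 := Subgroup.mem_centralizer_iff.mp hc (n⁻¹ * y * n⁻¹⁻¹) (conj_mem S hy (inv_mem hn))
        calc y * (n * c * n⁻¹) = n * (n⁻¹ * y * n⁻¹⁻¹ * c) * n⁻¹ := by group
          _ = n * (c * (n⁻¹ * y * n⁻¹⁻¹)) * n⁻¹ := by rw [h1]
          _ = _ := by group
      refine ⟨key S.mem, fun hc => ?_⟩
      have := key (inv_mem S.mem) hc
      convert this using 1
      group
    have h' : n ∈ (↑(Subgroup.centralizer ((P : Subgroup G) : Set G) ⊔ Subgroup.zpowers g) : Set G) := hn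
    rw [Subgroup.coe_mul_of_right_le_normalizer_left _ _ hle] at h'
    exact h'
  obtain ⟨k, rfl⟩ : ∃ k : ℕ, g ^ k = z :=
    Submonoid.mem_powers_iff z g |>.mp ((isOfFinOrder_of_finite g).mem_powers_iff_mem_zpowers.mpr hz)
  have hpow : ∀ k : ℕ, g ^ k * x * (g ^ k)⁻¹ = ((sigma S)^[k] x : G) := by
    intro k
    induction k with
    | zero => simp
    | succ k ih =>
      rw [Function.iterate_succ_apply', coe_sigma, ← ih, pow_succ']
      group
  have hy : (y : G) = ((sigma S)^[k] x : G) := by
    rw [← h, ← hpow]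
    have h2 : g ^ k * x * (g ^ k)⁻¹ ∈ (P : Subgroup G) := by rw [hpow]; exact Subtype.coe_prop _
    calc c * g ^ k * x * (c * g ^ k)⁻¹ = c * (g ^ k * x * (g ^ k)⁻¹) * c⁻¹ := by group
      _ = _ := by rw [← Subgroup.mem_centralizer_iff.mp hc _ h2, mul_inv_cancel_right]
  rw [InOrbit, show y = (sigma S)^[k] x from Subtype.ext hy]
  clear hy hpow h hn hz
  induction k with
  | zero => exact Or.inl rfl
  | succ k ih =>
    rw [Function.iterate_succ_apply']
    rcases ih with e | e | e <;> rw [e]
    · exact Or.inr (Or.inl rfl)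
    · exact Or.inr (Or.inr rfl)
    · exact Or.inl (sigma_three S x)

theorem isSylowIn_centralizer {y : G} (hy : y ∈ (P : Subgroup G)) :
    IsSylowIn p (P : Subgroup G) (Subgroup.centralizer ({y} : Set G)) :=
  ⟨P.subtype (le_centralizer S hy), rfl⟩

/-- Fusion in `P`. -/
theorem inOrbit_of_isConj {x y : (P : Subgroup G)} (h : IsConj (x : G) y) : InOrbit S x y := by
  obtain ⟨n, hn, he⟩ := exists_normalizer_conj P.2 (le_centralizer S x.2)
    (isSylowIn_centralizer S x.2) h (le_centralizer_self S y.2)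
  exact inOrbit_of_conj S hn he

theorem isConj_sigma (x : (P : Subgroup G)) : IsConj (x : G) (sigma S x : G) :=
  isConj_iff.mpr ⟨g, rfl⟩

/-- No nontrivial element of `P` other than an involution is conjugate to its inverse. -/
theorem sq_eq_one_of_isConj_inv {x : (P : Subgroup G)} (h : IsConj (x : G) (x : G)⁻¹) :
    x⁻¹ = x := by
  rcases inOrbit_of_isConj S (y := x⁻¹) h with e | e | e
  · exact e
  · rw [sigma_sq_fixed S (x := x) (by rw [← e, map_inv, ← e, inv_inv]), inv_one]
  · have e2 : sigma S x = x := by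
      have h1 := congrArg (fun z => sigma S (sigma S z)) e
      simp only [map_inv, sigma_three] at h1
      rw [← e] at h1
      exact (inv_inv x ▸ h1).symm
    rw [sigma_fixed S e2, inv_one]

theorem isPElement {x : G} (hx : x ∈ (P : Subgroup G)) : ∃ k : ℕ, orderOf x = p ^ k := by
  obtain ⟨k, hk⟩ := IsPGroup.iff_orderOf.mp P.2 ⟨x, hx⟩
  exact ⟨k, by rw [← hk, ← Subgroup.orderOf_coe]⟩

section Block

variable {M : Ideal AlgInt} [M.IsPrime] (hM : IsPModular p M)

/-- Burnside: a normal `p`-complement in the centralizer of an element of `P`, with `P` as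
quotient. -/
theorem exists_complement {y : G} (hy : y ∈ (P : Subgroup G)) (hy1 : y ≠ 1) :
    ∃ f : Subgroup.centralizer ({y} : Set G) →* (P : Subgroup G),
      (∀ x : Subgroup.centralizer ({y} : Set G), ∀ h : (x : G) ∈ (P : Subgroup G), f x = ⟨x, h⟩) ∧
        ¬ p ∣ Nat.card f.ker ∧ f.ker.index = Nat.card (P : Subgroup G) := by
  let Cy := Subgroup.centralizer ({y} : Set G)
  let P' : Sylow p Cy := P.subtype (le_centralizer S hy)
  have hP' : Subgroup.normalizer ((P' : Subgroup Cy) : Set Cy) ≤
      Subgroup.centralizer ((P' : Subgroup Cy) : Set Cy) := fun n hn => by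
    have hnG : (n : G) ∈ Subgroup.normalizer ((P : Subgroup G) : Set G) := by
      refine Subgroup.mem_normalizer_iff.mpr fun x => ?_
      constructor
      · intro hx
        exact (Subgroup.mem_normalizer_iff.mp hn ⟨x, le_centralizer S hy hx⟩).mp hx
      · intro hx
        have hx' : x ∈ Cy := by
          have : x = (n : G)⁻¹ * ((n : G) * x * (n : G)⁻¹) * (n : G) := by group
          rw [this]
          exact mul_mem (mul_mem (inv_mem n.2) (le_centralizer S hy hx)) n.2
        exact (Subgroup.mem_normalizer_iff.mp hn ⟨x, hx'⟩).mpr hx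
    have hc : (n : G) ∈ Subgroup.centralizer ((P : Subgroup G) : Set G) := by
      rw [← S.fpf y hy hy1]
      exact ⟨n.2, hnG⟩
    exact Subgroup.mem_centralizer_iff.mpr fun x hx => Subtype.ext
      (Subgroup.mem_centralizer_iff.mp hc x hx)
  let τ := MonoidHom.transferSylow P' hP'
  have hbij : Function.Bijective (τ.domRestrict (P' : Subgroup Cy)) := by
    rw [MonoidHom.transferSylow_domRestrict_eq_pow]
    exact (P'.2.powEquiv' P'.not_dvd_index).bijective
  let e := MulEquiv.ofBijective _ hbij
  let ι : (P' : Subgroup Cy) ≃* (P : Subgroup G) := Subgroup.subgroupOfEquivOfLe (le_centralizer S hy)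
  let f : Cy →* (P : Subgroup G) := ι.toMonoidHom.comp (e.symm.toMonoidHom.comp τ)
  have hker : f.ker = τ.ker := by
    ext x
    simp [f, MonoidHom.mem_ker]
  refine ⟨f, fun x h => ?_, ?_, ?_⟩
  · have h1 : e ⟨x, h⟩ = τ x := rfl
    show ι (e.symm (τ x)) = _
    rw [← h1, e.symm_apply_apply]
    rfl
  · rw [hker]
    exact MonoidHom.not_dvd_card_ker_transferSylow P' hP'
  · rw [hker, (MonoidHom.ker_transferSylow_isComplement' P' hP').symm.index_eq_card]
    exact Nat.card_congr ι.toEquiv

include hM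

/-- A principal block character is constant on the section of an element of `P`. -/
theorem apply_eq_pPart {χ : IrrCharacter G} (hχ : χ ∈ principalBlock M G) {z y : G}
    (hz : IsPPart p z y) (hy : y ∈ (P : Subgroup G)) (hy1 : y ≠ 1) :
    (χ : G → ℂ) z = (χ : G → ℂ) y := by
  obtain ⟨v, rfl, hc, hk, hv⟩ := hz
  obtain ⟨f, -, hker, -⟩ := exists_complement S hy hy1
  let v' : Subgroup.centralizer ({y} : Set G) :=
    ⟨v, Subgroup.mem_centralizer_singleton_iff.mpr hc.eq.symm⟩
  have := Fintype.ofFinite (Subgroup.centralizer ({y} : Set G))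
  refine apply_mul_eq_of_mem_principalBlock hM hk hχ (N := f.ker) hker (v := v') ?_
  rw [MonoidHom.mem_ker]
  obtain ⟨k, hk⟩ := IsPGroup.iff_orderOf.mp P.2 (f v')
  have h1 : orderOf (f v') ∣ orderOf v' := orderOf_map_dvd f v'
  rw [← orderOf_eq_one_iff, hk]
  rcases k with _ | k
  · exact pow_zero p
  · exfalso
    refine hv ((dvd_pow_self p (Nat.succ_ne_zero k)).trans ?_)
    rw [← hk]
    exact h1.trans (by rw [show v = (v' : G) from rfl, Subgroup.orderOf_coe])

/-- The column norm at a nontrivial element of `P`. -/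
theorem sum_norm {y : G} (hy : y ∈ (P : Subgroup G)) (hy1 : y ≠ 1) :
    ∑ᶠ χ ∈ principalBlock M G, (χ : G → ℂ) y * (χ : G → ℂ) y⁻¹ =
      (Nat.card (P : Subgroup G) : ℂ) := by
  classical
  let Cy := Subgroup.centralizer ({y} : Set G)
  have := Fintype.ofFinite Cy
  have := Fintype.ofFinite (IrrCharacter Cy)
  obtain ⟨f, hf, hker, hidx⟩ := exists_complement S hy hy1
  have hy' := isPElement S hy
  have h1 := sum_principalBlock_norm_sq hM (x := y) hy' (y := (1 : Cy)) (by simp [hM.1.ne_one])
  rw [OneMemClass.coe_one, mul_one] at h1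
  have hB := isPBlock_principalBlock (G := Cy) (M := M)
  set T := ∑ᶠ ψ ∈ principalBlock M Cy, charDegree (ψ : Cy → ℂ) ^ 2 with hT
  have hTle : T ≤ Nat.card (P : Subgroup G) := by
    rw [← hidx, ← sum_degree_sq_trivial f.ker, hT,
      finsum_mem_eq_finite_toFinset_sum _ (Set.toFinite _)]
    refine Finset.sum_le_sum_of_subset fun ψ hψ => Finset.mem_filter.mpr ⟨Finset.mem_univ _, ?_⟩
    exact apply_eq_of_mem_principalBlock f.ker hM hker ((Set.Finite.mem_toFinset _).mp hψ)
  have hTpos : 0 < T := by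
    rw [hT, finsum_mem_eq_finite_toFinset_sum _ (Set.toFinite _)]
    exact Finset.sum_pos' (fun _ _ => Nat.zero_le _)
      ⟨Char.trivChar Cy, (Set.Finite.mem_toFinset _).mpr trivChar_mem_principalBlock,
        pow_pos (charDegree_pos _) 2⟩
  have hTval : T = Nat.card (P : Subgroup G) := by
    refine le_antisymm hTle (Nat.le_of_dvd hTpos ?_)
    have hfac := CharAction.factorization_sum_degree_sq hM hB
    have hdef : blockDefect p (principalBlock M Cy) = (Nat.card Cy).factorization p := by
      have h0 : (0 : ℕ) ∈ ((fun χ : IrrCharacter Cy =>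
          (charDegree (χ : Cy → ℂ)).factorization p) '' principalBlock M Cy) :=
        ⟨Char.trivChar Cy, trivChar_mem_principalBlock, by simp [charDegree, Char.trivChar_apply]⟩
      rw [blockDefect, Nat.sInf_eq_zero.mpr (Or.inl h0), Nat.sub_zero]
    rw [hdef, ← hT] at hfac
    have hP' : Nat.card (P : Subgroup G) = p ^ (Nat.card Cy).factorization p := by
      rw [← (P.subtype (le_centralizer S hy)).card_eq_multiplicity]
      exact (Nat.card_congr (Subgroup.subgroupOfEquivOfLe (le_centralizer S hy)).toEquiv).symm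
    rw [hP', show (Nat.card Cy).factorization p = T.factorization p by omega]
    exact Nat.ordProj_dvd T p
  have h2 : (∑ᶠ ψ ∈ principalBlock M Cy, ‖(ψ : Cy → ℂ) 1‖ ^ 2 : ℝ) = (T : ℝ) := by
    rw [hT, finsum_mem_eq_finite_toFinset_sum _ (Set.toFinite _),
      finsum_mem_eq_finite_toFinset_sum _ (Set.toFinite _), Nat.cast_sum]
    refine Finset.sum_congr rfl fun ψ _ => ?_
    rw [apply_one_eq_charDegree, Complex.norm_natCast, Nat.cast_pow]
  rw [h2, hTval] at h1
  rw [show (Nat.card (P : Subgroup G) : ℂ) = ((Nat.card (P : Subgroup G) : ℝ) : ℂ) by simp, ← h1,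
    finsum_mem_eq_finite_toFinset_sum _ (Set.toFinite _),
    finsum_mem_eq_finite_toFinset_sum _ (Set.toFinite _), Complex.ofReal_sum]
  refine Finset.sum_congr rfl fun χ _ => ?_
  rw [IsIrr.map_inv χ.2, Complex.mul_conj', Complex.ofReal_pow]

open scoped Classical in
/-- Column orthogonality on `P`. -/
theorem sum_orth (x : (P : Subgroup G)) (hx : x ≠ 1) (x' : (P : Subgroup G)) (hx' : x' ≠ 1) :
    ∑ᶠ χ ∈ principalBlock M G, (χ : G → ℂ) x * conj ((χ : G → ℂ) x') =
      (Nat.card (P : Subgroup G) : ℂ) * ((if x' = x then 1 else 0) +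
        (if x' = sigma S x then 1 else 0) + (if x' = sigma S (sigma S x) then 1 else 0)) := by
  classical
  have hconv : ∀ χ : IrrCharacter G, conj ((χ : G → ℂ) x') = (χ : G → ℂ) (x' : G)⁻¹ :=
    fun χ => (IsIrr.map_inv χ.2 _).symm
  simp only [hconv]
  have hx1 : (x : G) ≠ 1 := fun e => hx (Subtype.ext e)
  by_cases h : InOrbit S x x'
  · have hv : ∀ χ : IrrCharacter G, (χ : G → ℂ) x' = (χ : G → ℂ) x := fun χ => by
      have hc : ∀ a, (χ : G → ℂ) (sigma S a : G) = (χ : G → ℂ) a := fun a =>
        IsIrr.isClassFunction χ.2 _ _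
      rcases h with rfl | rfl | rfl
      · rfl
      · exact hc x
      · rw [hc, hc]
    have hvi : ∀ χ : IrrCharacter G, (χ : G → ℂ) (x' : G)⁻¹ = (χ : G → ℂ) (x : G)⁻¹ := fun χ => by
      rw [IsIrr.map_inv χ.2, IsIrr.map_inv χ.2, hv]
    simp only [hvi]
    rw [sum_norm S hM x.2 hx1]
    have n1 : sigma S x ≠ x := fun e => hx (sigma_fixed S e)
    have n2 : sigma S (sigma S x) ≠ x := fun e => hx (sigma_sq_fixed S e)
    have n3 : sigma S (sigma S x) ≠ sigma S x := fun e => hx (by
      have := congrArg (fun z => sigma S (sigma S z)) e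
      simp only [sigma_three] at this
      exact sigma_fixed S this)
    rcases h with rfl | rfl | rfl
    · simp [Ne.symm n1, Ne.symm n2]
    · simp [n1, Ne.symm n3]
    · simp [n2, n3]
  · have : ∑ᶠ χ ∈ principalBlock M G, (χ : G → ℂ) x * (χ : G → ℂ) (x' : G)⁻¹ = 0 := by
      refine sum_block_apply_mul_eq_zero hM isPBlock_principalBlock
        (u := (x : G)) (v := (x' : G)) ⟨1, mul_one _, Commute.one_right _, isPElement S x.2, by
          simp [hM.1.ne_one]⟩ ⟨1, mul_one _, Commute.one_right _, isPElement S x'.2, by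
          simp [hM.1.ne_one]⟩ fun hc => h (inOrbit_of_isConj S hc)
    rw [this]
    simp only [InOrbit, not_or] at h
    simp [h.1, h.2.1, h.2.2]

/-- Orthogonality of the singular elements of `P` to the regular ones. -/
theorem sum_regular {x : (P : Subgroup G)} (hx : x ≠ 1) {r : G} (hr : ¬ p ∣ orderOf r) :
    ∑ᶠ χ ∈ principalBlock M G, (χ : G → ℂ) r * (χ : G → ℂ) x = 0 := by
  refine sum_block_regular_singular hM isPBlock_principalBlock hr ?_
  obtain ⟨k, hk⟩ := isPElement S x.2
  rcases k with _ | k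
  · rw [pow_zero, orderOf_eq_one_iff] at hk
    exact absurd (Subtype.ext hk) hx
  · rw [hk]
    exact dvd_pow_self p (Nat.succ_ne_zero k)

end Block

end CfsgLib.IndexThree
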