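import Cfsg.Agent.Lib.Blocks.AbelianIndexThree

/-!
# The exceptional characters for an abelian Sylow subgroup with automizer of order three
-/

namespace CfsgLib.IndexThree

open Cfsg CfsgLib.Char CfsgLib.Blocks
open scoped ComplexConjugate

section Sunflower

variable {ι J : Type*} [Fintype ι] [Fintype J] [DecidableEq ι] [DecidableEq J]

/-- Integer vectors of norm three with pairwise products two, with positive weights of weighted
sum one, form a sunflower, unless there are three of them. -/
theorem sunflower (v : J → ι → ℤ) (d : ι → ℤ) (hd : ∀ i, 0 < d i)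
    (hg : ∀ j k, ∑ i, v j i * v k i = 2 + if j = k then 1 else 0)
    (hdeg : ∀ j, ∑ i, v j i * d i = 1) (hJ : Fintype.card J ≠ 3) (hJ2 : 2 ≤ Fintype.card J) :
    ∃ a b : ι, ∃ e : J → ι, ∃ sa sb δ : ℤ, (sa = 1 ∨ sa = -1) ∧ (sb = 1 ∨ sb = -1) ∧
      (δ = 1 ∨ δ = -1) ∧ a ≠ b ∧ Function.Injective e ∧ (∀ j, e j ≠ a ∧ e j ≠ b) ∧
      ∀ j i, v j i = if i = a then sa else if i = b then sb else if i = e j then δ else 0 := by
  have hunit : ∀ j i, v j i ≠ 0 → v j i = 1 ∨ v j i = -1 := fun j i h => by
    have h1 : v j i * v j i ≤ 3 := by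
      have := hg j j
      rw [if_pos rfl] at this
      exact (Finset.single_le_sum (f := fun i => v j i * v j i) (fun i _ => mul_self_nonneg _)
        (Finset.mem_univ i)).trans (le_of_eq this)
    have h2 : -1 ≤ v j i := by nlinarith
    have h3 : v j i ≤ 1 := by nlinarith
    omega
  let supp : J → Finset ι := fun j => Finset.univ.filter fun i => v j i ≠ 0
  have hmem : ∀ j i, i ∈ supp j ↔ v j i ≠ 0 := fun j i => by simp [supp]
  have hcard : ∀ j, (supp j).card = 3 := fun j => by
    have h := hg j j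
    rw [if_pos rfl] at h
    rw [← Finset.sum_filter_add_sum_filter_not Finset.univ (fun i => v j i ≠ 0),
      Finset.sum_eq_zero (s := Finset.univ.filter fun i => ¬ v j i ≠ 0) (fun i hi => by
        simp only [Finset.mem_filter, Finset.mem_univ, true_and, not_not] at hi
        rw [hi, zero_mul]), add_zero,
      Finset.sum_congr rfl (g := fun _ => (1 : ℤ)) fun i hi => by
        rcases hunit j i (Finset.mem_filter.mp hi).2 with e | e <;> rw [e] <;> norm_num,
      Finset.sum_const, nsmul_eq_mul, mul_one] at h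
    exact_mod_cast h
  have pair : ∀ j k, j ≠ k → (supp j ∩ supp k).card = 2 ∧
      ∀ i ∈ supp j ∩ supp k, v j i = v k i := fun j k hjk => by
    set I := supp j ∩ supp k
    have hI : ∀ i ∈ I, v j i * v k i = 1 ∨ v j i * v k i = -1 := fun i hi => by
      simp only [I, Finset.mem_inter, hmem] at hi
      rcases hunit j i hi.1 with e | e <;> rcases hunit k i hi.2 with e' | e' <;> rw [e, e'] <;> simp
    have hsum : ∑ i ∈ I, v j i * v k i = 2 := by
      have h := hg j k
      rw [if_neg hjk, add_zero] at h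
      rw [← h]
      refine Finset.sum_subset (Finset.subset_univ _) fun i _ hi => ?_
      simp only [I, Finset.mem_inter, hmem, not_and_or, not_not] at hi
      rcases hi with e | e <;> simp [e]
    have hpar : (2 : ℤ) ∣ (I.card : ℤ) - 2 := by
      have h1 : (2 : ℤ) ∣ ∑ i ∈ I, (1 - v j i * v k i) := Finset.dvd_sum fun i hi => by
        rcases hI i hi with e | e <;> rw [e] <;> norm_num
      rwa [Finset.sum_sub_distrib, hsum, Finset.sum_const, nsmul_eq_mul, mul_one] at h1
    have hle : I.card ≤ 3 := (Finset.card_le_card Finset.inter_subset_left).trans (hcard j).le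
    have hge : 2 ≤ I.card := by
      have : ∑ i ∈ I, v j i * v k i ≤ ∑ i ∈ I, (1 : ℤ) :=
        Finset.sum_le_sum fun i hi => by rcases hI i hi with e | e <;> omega
      rw [hsum, Finset.sum_const, nsmul_eq_mul, mul_one] at this
      exact_mod_cast this
    have h2 : I.card = 2 := by omega
    refine ⟨h2, fun i hi => ?_⟩
    have h3 : ∑ i ∈ I, (1 - v j i * v k i) = 0 := by
      rw [Finset.sum_sub_distrib, hsum, Finset.sum_const, nsmul_eq_mul, mul_one, h2]
      norm_num
    have h4 := (Finset.sum_eq_zero_iff_of_nonneg fun i hi => by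
      rcases hI i hi with e | e <;> omega).mp h3 i hi
    simp only [I, Finset.mem_inter, hmem] at hi
    rcases hunit j i hi.1 with e | e <;> rcases hunit k i hi.2 with e' | e' <;>
      rw [e, e'] at h4 ⊢ <;> omega
  have hinj : Function.Injective supp := fun j k h => by
    by_contra hjk
    have := (pair j k hjk).1
    rw [h, Finset.inter_self, hcard k] at this
    omega
  obtain ⟨j₀, j₁, hj⟩ := Fintype.exists_pair_of_one_lt_card (show 1 < Fintype.card J by omega)
  obtain ⟨a, b, hab, hIab⟩ := Finset.card_eq_two.mp (pair j₀ j₁ hj).1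
  by_cases hall : ∀ j, a ∈ supp j ∧ b ∈ supp j
  · have hsa : ∀ j, v j a = v j₀ a ∧ v j b = v j₀ b := fun j => by
      by_cases h : j = j₀
      · subst h; exact ⟨rfl, rfl⟩
      · exact ⟨(pair j j₀ h).2 a (Finset.mem_inter.mpr ⟨(hall j).1, (hall j₀).1⟩),
          (pair j j₀ h).2 b (Finset.mem_inter.mpr ⟨(hall j).2, (hall j₀).2⟩)⟩
    have hthird : ∀ j, ∃ e, supp j = {a, b, e} ∧ e ≠ a ∧ e ≠ b := fun j => by
      have h1 : ({a, b} : Finset ι) ⊆ supp j := by
        intro i hi
        simp only [Finset.mem_insert, Finset.mem_singleton] at hi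
        rcases hi with rfl | rfl
        exacts [(hall j).1, (hall j).2]
      obtain ⟨e, he, hne⟩ := Finset.exists_mem_notMem_of_card_lt_card
        (show ({a, b} : Finset ι).card < (supp j).card by rw [hcard, Finset.card_pair hab]; omega)
      simp only [Finset.mem_insert, Finset.mem_singleton, not_or] at hne
      refine ⟨e, (Finset.eq_of_subset_of_card_le ?_ ?_).symm, hne.1, hne.2⟩
      · intro i hi
        simp only [Finset.mem_insert, Finset.mem_singleton] at hi
        rcases hi with rfl | rfl | rfl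
        exacts [(hall j).1, (hall j).2, he]
      · rw [hcard, Finset.card_insert_of_notMem (by simp [hab, Ne.symm hne.1]),
          Finset.card_pair (Ne.symm hne.2)]
    choose e he hea heb using hthird
    have hev : ∀ j, v j (e j) ≠ 0 := fun j => (hmem j _).mp (by rw [he]; simp)
    have hv : ∀ j i, v j i =
        if i = a then v j₀ a else if i = b then v j₀ b else if i = e j then v j (e j) else 0 := by
      intro j i
      split_ifs with h1 h2 h3
      · rw [h1, (hsa j).1]
      · rw [h2, (hsa j).2]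
      · rw [h3]
      · by_contra h
        have := (hmem j i).mpr h
        rw [he] at this
        simp [h1, h2, h3] at this
    have hδ : ∀ j, v j (e j) = v j₀ (e j₀) := fun j => by
      have hval : ∀ j, v j (e j) * d (e j) = 1 - v j₀ a * d a - v j₀ b * d b := fun j => by
        have h := hdeg j
        rw [← Finset.sum_subset (Finset.subset_univ (supp j)) (fun i _ hi => by
          rw [hmem, not_not] at hi; rw [hi, zero_mul]), he, Finset.sum_insert (by
            simp [hab, Ne.symm (hea j)]), Finset.sum_pair (Ne.symm (heb j)), (hsa j).1, (hsa j).2] at h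
        linarith
      have h1 := (hval j).trans (hval j₀).symm
      have := hd (e j)
      have := hd (e j₀)
      rcases hunit j _ (hev j) with u | u <;> rcases hunit j₀ _ (hev j₀) with u' | u' <;>
        rw [u, u'] at h1 ⊢ <;> omega
    refine ⟨a, b, e, v j₀ a, v j₀ b, v j₀ (e j₀), hunit _ _ ((hmem _ _).mp (hall j₀).1),
      hunit _ _ ((hmem _ _).mp (hall j₀).2), hunit _ _ (hev j₀), hab, fun j k h => hinj ?_,
      fun j => ⟨hea j, heb j⟩, fun j i => ?_⟩
    · rw [he, he, h]
    · rw [← hδ j]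
      exact hv j i
  · exfalso
    push Not at hall
    obtain ⟨k, hk⟩ := hall
    obtain ⟨x, y, hxy, hIxy, hxk⟩ : ∃ x y, x ≠ y ∧ supp j₀ ∩ supp j₁ = {x, y} ∧ x ∉ supp k := by
      by_cases ha : a ∈ supp k
      · exact ⟨b, a, hab.symm, by rw [hIab, Finset.pair_comm], hk ha⟩
      · exact ⟨a, b, hab, hIab, ha⟩
    have hx : x ∈ supp j₀ ∧ x ∈ supp j₁ := Finset.mem_inter.mp (by rw [hIxy]; simp)
    have hy : y ∈ supp j₀ ∧ y ∈ supp j₁ := Finset.mem_inter.mp (by rw [hIxy]; simp)
    have third : ∀ j, x ∈ supp j → y ∈ supp j → ∃ c, c ≠ x ∧ c ≠ y ∧ supp j = {x, y, c} := fun j h h' => by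
      obtain ⟨c, hc, hne⟩ := Finset.exists_mem_notMem_of_card_lt_card
        (show ({x, y} : Finset ι).card < (supp j).card by rw [hcard, Finset.card_pair hxy]; omega)
      simp only [Finset.mem_insert, Finset.mem_singleton, not_or] at hne
      refine ⟨c, hne.1, hne.2, (Finset.eq_of_subset_of_card_le ?_ ?_).symm⟩
      · intro i hi
        simp only [Finset.mem_insert, Finset.mem_singleton] at hi
        rcases hi with rfl | rfl | rfl
        exacts [h, h', hc]
      · rw [hcard, Finset.card_insert_of_notMem (by simp [hxy, Ne.symm hne.1]),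
          Finset.card_pair (Ne.symm hne.2)]
    obtain ⟨c, hcx, hcy, hc⟩ := third j₀ hx.1 hy.1
    obtain ⟨w, hwx, hwy, hw⟩ := third j₁ hx.2 hy.2
    have hcw : c ≠ w := fun h => hj (hinj (by rw [hc, hw, h]))
    have two : ∀ j j' p q r, j ≠ j' → supp j' = {p, q, r} → p ∉ supp j → q ∈ supp j ∧ r ∈ supp j := by
      intro j j' p q r hne h hp
      have h2 := (pair j j' hne).1
      have hsub : supp j ∩ supp j' ⊆ {q, r} := fun i hi => by
        simp only [Finset.mem_inter, h, Finset.mem_insert, Finset.mem_singleton] at hi ⊢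
        rcases hi.2 with rfl | h' | h'
        exacts [absurd hi.1 hp, Or.inl h', Or.inr h']
      have he := Finset.eq_of_subset_of_card_le hsub (Finset.card_le_two.trans h2.ge)
      exact ⟨(Finset.mem_inter.mp (he.ge (by simp))).1, (Finset.mem_inter.mp (he.ge (by simp))).1⟩
    have hk0 : k ≠ j₀ := fun e => hxk (e ▸ hx.1)
    have hk1 : k ≠ j₁ := fun e => hxk (e ▸ hx.2)
    obtain ⟨hyk, hck⟩ := two k j₀ x y c hk0 hc hxk
    obtain ⟨-, hwk⟩ := two k j₁ x y w hk1 hw hxk
    have hK : supp k = {y, c, w} := (Finset.eq_of_subset_of_card_le (by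
      intro i hi
      simp only [Finset.mem_insert, Finset.mem_singleton] at hi
      rcases hi with rfl | rfl | rfl
      exacts [hyk, hck, hwk]) (by
      rw [hcard, Finset.card_insert_of_notMem (by simp [Ne.symm hcy, Ne.symm hwy]),
        Finset.card_pair hcw])).symm
    set U : Finset ι := {x, y, c, w} with hU
    have hU4 : U.card = 4 := by
      rw [hU, Finset.card_insert_of_notMem (by simp [hxy, Ne.symm hcx, Ne.symm hwx]),
        Finset.card_insert_of_notMem (by simp [Ne.symm hcy, Ne.symm hwy]), Finset.card_pair hcw]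
    have hsubU : ∀ j, supp j ⊆ U := by
      intro j z hz
      by_contra hzU
      simp only [hU, Finset.mem_insert, Finset.mem_singleton, not_or] at hzU
      obtain ⟨zx, zy, zc, zw⟩ := hzU
      have e0 : j ≠ j₀ := fun e => by rw [e, hc] at hz; simp [zx, zy, zc] at hz
      have e1 : j ≠ j₁ := fun e => by rw [e, hw] at hz; simp [zx, zy, zw] at hz
      have e2 : j ≠ k := fun e => by rw [e, hK] at hz; simp [zy, zc, zw] at hz
      have small : ∀ p q : ι, p ≠ q → z ≠ p → z ≠ q → p ∈ supp j → q ∈ supp j →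
          supp j = {z, p, q} := fun p q hpq hzp hzq hp hq => (Finset.eq_of_subset_of_card_le (by
            intro i hi
            simp only [Finset.mem_insert, Finset.mem_singleton] at hi
            rcases hi with rfl | rfl | rfl
            exacts [hz, hp, hq]) (by
            rw [hcard, Finset.card_insert_of_notMem (by simp [hzp, hzq]), Finset.card_pair hpq])).symm
      by_cases hxj : x ∈ supp j
      · by_cases hyj : y ∈ supp j
        · have hs := small x y hxy zx zy hxj hyj
          have := (pair j k e2).1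
          rw [hs, hK, show ({z, x, y} : Finset ι) ∩ {y, c, w} = {y} from ?_] at this
          · simp at this
          ext i
          simp only [Finset.mem_inter, Finset.mem_insert, Finset.mem_singleton]
          constructor
          · rintro ⟨rfl | rfl | rfl, h'⟩
            · simp [zy, zc, zw] at h'
            · simp [hxy, Ne.symm hcx, Ne.symm hwx] at h'
            · rfl
          · rintro rfl; simp
        · have hc' := (two j j₀ y x c e0 (by rw [hc, Finset.insert_comm]) hyj).2
          have hw' := (two j j₁ y x w e1 (by rw [hw, Finset.insert_comm]) hyj).2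
          have := Finset.card_le_card (show ({z, x, c, w} : Finset ι) ⊆ supp j by
            intro i hi
            simp only [Finset.mem_insert, Finset.mem_singleton] at hi
            rcases hi with rfl | rfl | rfl | rfl
            exacts [hz, hxj, hc', hw'])
          rw [hcard, Finset.card_insert_of_notMem (by simp [zx, zc, zw]),
            Finset.card_insert_of_notMem (by simp [Ne.symm hcx, Ne.symm hwx]), Finset.card_pair hcw] at this
          omega
      · obtain ⟨hyj, hcj⟩ := two j j₀ x y c e0 hc hxj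
        obtain ⟨-, hwj⟩ := two j j₁ x y w e1 hw hxj
        have := Finset.card_le_card (show ({z, y, c, w} : Finset ι) ⊆ supp j by
          intro i hi
          simp only [Finset.mem_insert, Finset.mem_singleton] at hi
          rcases hi with rfl | rfl | rfl | rfl
          exacts [hz, hyj, hcj, hwj])
        rw [hcard, Finset.card_insert_of_notMem (by simp [zy, zc, zw]),
          Finset.card_insert_of_notMem (by simp [Ne.symm hcy, Ne.symm hwy]), Finset.card_pair hcw] at this
        omega
    have himg : (Finset.univ : Finset J).image supp ⊆ U.powersetCard 3 := by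
      intro T hT
      obtain ⟨j, -, rfl⟩ := Finset.mem_image.mp hT
      exact Finset.mem_powersetCard.mpr ⟨hsubU j, hcard j⟩
    have h4 : (U.powersetCard 3).card = 4 := by rw [Finset.card_powersetCard, hU4]; decide
    have hle := Finset.card_le_card himg
    rw [Finset.card_image_of_injective _ hinj, Finset.card_univ, h4] at hle
    have hge : 3 ≤ Fintype.card J := by
      rw [← Finset.card_univ]
      exact le_trans (le_of_eq (by
        rw [Finset.card_insert_of_notMem (by simp [Ne.symm hk0, hj]), Finset.card_pair (Ne.symm hk1)]))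
        (Finset.card_le_univ ({j₀, j₁, k} : Finset J))
    have heq : (Finset.univ : Finset J).image supp = U.powersetCard 3 :=
      Finset.eq_of_subset_of_card_le himg (by
        rw [Finset.card_image_of_injective _ hinj, Finset.card_univ, h4]; omega)
    -- the weighted sums
    have hchoose : ∀ i ∈ U, ∃ j, i ∈ supp j := by
      intro i hi
      simp only [hU, Finset.mem_insert, Finset.mem_singleton] at hi
      rcases hi with rfl | rfl | rfl | rfl
      exacts [⟨j₀, hx.1⟩, ⟨j₀, hy.1⟩, ⟨j₀, by rw [hc]; simp⟩, ⟨j₁, by rw [hw]; simp⟩]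
    have : Nonempty J := ⟨j₀⟩
    choose! jj hjj using hchoose
    have hs : ∀ j, ∀ i ∈ supp j, v j i = v (jj i) i := fun j i hi => by
      by_cases h : j = jj i
      · rw [← h]
      · exact (pair j (jj i) h).2 i (Finset.mem_inter.mpr ⟨hi, hjj i (hsubU j hi)⟩)
    have hT : ∀ T ∈ U.powersetCard 3, ∑ i ∈ T, v (jj i) i * d i = 1 := fun T hT => by
      rw [← heq] at hT
      obtain ⟨j, -, rfl⟩ := Finset.mem_image.mp hT
      rw [← hdeg j, ← Finset.sum_subset (Finset.subset_univ (supp j)) (fun i _ hi => by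
        rw [hmem, not_not] at hi; rw [hi, zero_mul])]
      exact Finset.sum_congr rfl fun i hi => by rw [hs j i hi]
    have herase : ∀ i ∈ U, (∑ l ∈ U, v (jj l) l * d l) - v (jj i) i * d i = 1 := fun i hi => by
      rw [← hT (U.erase i) (Finset.mem_powersetCard.mpr ⟨Finset.erase_subset _ _, by
        rw [Finset.card_erase_of_mem hi, hU4]⟩), Finset.sum_erase_eq_sub hi]
    have hsum := Finset.sum_congr rfl herase
    rw [Finset.sum_sub_distrib, Finset.sum_const, Finset.sum_const, hU4, nsmul_eq_mul,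
      nsmul_eq_mul] at hsum
    push_cast at hsum
    omega

end Sunflower

variable {G : Type*} [Group G] [Fintype G] {p : ℕ} [Fact p.Prime] {P : Sylow p G} {g : G}
  (S : Setting p P g)
include S

/-- The linear characters of `P`. -/
abbrev Lin (_ : Setting p P g) := (P : Subgroup G) →* ℂˣ

theorem sum_apply_lin [Fintype (Lin S)] [DecidableEq (P : Subgroup G)] (x : (P : Subgroup G)) :
    ∑ ψ : Lin S, (ψ x : ℂ) = if x = 1 then (Nat.card (P : Subgroup G) : ℂ) else 0 := by
  letI : CommGroup (P : Subgroup G) :=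
    { (inferInstance : Group (P : Subgroup G)) with
      mul_comm := fun a b => Subtype.ext (S.comm a a.2 b b.2) }
  split_ifs with h
  · subst h
    obtain ⟨e⟩ := CommGroup.monoidHom_mulEquiv_of_hasEnoughRootsOfUnity (P : Subgroup G) ℂ
    simp [← Nat.card_congr e.toEquiv, Nat.card_eq_fintype_card]
  · obtain ⟨φ, hφ⟩ := CommGroup.exists_apply_ne_one_of_hasEnoughRootsOfUnity (P : Subgroup G) ℂ h
    have key : ∑ ψ : Lin S, (ψ x : ℂ) = (φ x : ℂ) * ∑ ψ : Lin S, (ψ x : ℂ) := by
      rw [Finset.mul_sum]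
      exact (Fintype.sum_equiv (Equiv.mulLeft φ) (fun ψ : Lin S => (φ x : ℂ) * (ψ x : ℂ))
        (fun ψ : Lin S => (ψ x : ℂ)) fun ψ => by simp).symm
    have h1 : ((φ x : ℂ) - 1) * ∑ ψ : Lin S, (ψ x : ℂ) = 0 := by
      rw [sub_mul, one_mul, ← key, sub_self]
    exact (mul_eq_zero.mp h1).resolve_left fun e => hφ (Units.ext (sub_eq_zero.mp e))

theorem finite_lin : Finite (Lin S) :=
  Finite.of_injective (fun l => (⟨_, isIrrCharacter_linear l⟩ : IrrCharacter (P : Subgroup G)))
    fun _ _ h => MonoidHom.ext fun x => Units.ext (congrFun (congrArg Subtype.val h) x)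

theorem sum_apply [Fintype (P : Subgroup G)] (ψ : Lin S) [Decidable (ψ = 1)] :
    ∑ x : (P : Subgroup G), (ψ x : ℂ) = if ψ = 1 then (Nat.card (P : Subgroup G) : ℂ) else 0 := by
  split_ifs with h
  · subst h
    simp [Nat.card_eq_fintype_card]
  · obtain ⟨a, ha⟩ : ∃ a, ψ a ≠ 1 := by
      by_contra hall
      push Not at hall
      exact h (MonoidHom.ext hall)
    have key : ∑ x : (P : Subgroup G), (ψ x : ℂ) = (ψ a : ℂ) * ∑ x : (P : Subgroup G), (ψ x : ℂ) := by
      rw [Finset.mul_sum]
      exact (Fintype.sum_equiv (Equiv.mulLeft a) (fun x => (ψ a : ℂ) * (ψ x : ℂ))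
        (fun x => (ψ x : ℂ)) fun x => by simp).symm
    have h1 : ((ψ a : ℂ) - 1) * ∑ x : (P : Subgroup G), (ψ x : ℂ) = 0 := by
      rw [sub_mul, one_mul, ← key, sub_self]
    exact (mul_eq_zero.mp h1).resolve_left fun e => ha (Units.ext (sub_eq_zero.mp e))

/-- The conjugate of a linear character. -/
noncomputable def twist (ψ : Lin S) : Lin S := ψ.comp (sigma S)

theorem twist_three (ψ : Lin S) : twist S (twist S (twist S ψ)) = ψ :=
  MonoidHom.ext fun x => congrArg ψ (sigma_three S x)

theorem twist_fixed {ψ : Lin S} (h : twist S ψ = ψ) : ψ = 1 := by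
  let c : ↥(P : Subgroup G) → ↥(P : Subgroup G) := fun x => sigma S x * x⁻¹
  have hinj : Function.Injective c := fun x y hxy => by
    have hxy' : sigma S x * x⁻¹ = sigma S y * y⁻¹ := hxy
    have hc : ∀ a b : (P : Subgroup G), a * b = b * a := fun a b => Subtype.ext (S.comm a a.2 b b.2)
    have : sigma S (y⁻¹ * x) = y⁻¹ * x := by
      rw [map_mul, map_inv]
      calc (sigma S y)⁻¹ * sigma S x = (sigma S y)⁻¹ * (sigma S x * x⁻¹) * x := by group
        _ = _ := by rw [hxy']; group
    exact inv_mul_eq_one.mp (sigma_fixed S this) |>.symm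
  refine MonoidHom.ext fun z => ?_
  obtain ⟨x, rfl⟩ := Finite.injective_iff_surjective.mp hinj z
  show ψ (sigma S x * x⁻¹) = 1
  rw [map_mul, map_inv, show ψ (sigma S x) = ψ x from DFunLike.congr_fun h x, mul_inv_cancel]

theorem twist_one : twist S 1 = 1 := MonoidHom.ext fun _ => rfl

/-- The orbit sum of a linear character. -/
noncomputable def orbitSum (ψ : Lin S) (x : (P : Subgroup G)) : ℂ :=
  (ψ x : ℂ) + (twist S ψ x : ℂ) + (twist S (twist S ψ) x : ℂ)

/-- The coefficient of a class function on `P`. -/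
noncomputable def coef [Fintype (P : Subgroup G)] (χ : G → ℂ) (ψ : Lin S) : ℂ :=
  (Nat.card (P : Subgroup G) : ℂ)⁻¹ * ∑ x : (P : Subgroup G), χ x * (conj (ψ x : ℂ) - 1)

section Coef

variable [Fintype (P : Subgroup G)]

theorem coef_int (χ : IrrCharacter G) (ψ : Lin S) : ∃ n : ℤ, coef S (χ : G → ℂ) ψ = n := by
  obtain ⟨a, ha⟩ := IsChar.classInner_eq_natCast (IsChar.restrict _ (IsIrr.isCharacter χ.2))
    (IsIrr.isCharacter (isIrrCharacter_linear ψ))
  obtain ⟨b, hb⟩ := IsChar.classInner_eq_natCast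
    (IsChar.restrict (P : Subgroup G) (IsIrr.isCharacter χ.2)) isCharacter_one
  refine ⟨(a : ℤ) - b, ?_⟩
  push_cast
  rw [← ha, ← hb]
  simp only [coef, Cfsg.classInner, mul_sub, Finset.sum_sub_distrib, map_one]

theorem coef_twist (χ : IrrCharacter G) (ψ : Lin S) :
    coef S (χ : G → ℂ) (twist S ψ) = coef S (χ : G → ℂ) ψ := by
  simp only [coef]
  congr 1
  refine Fintype.sum_equiv (Equiv.ofBijective (sigma S) (Finite.injective_iff_bijective.mp
    fun x y h => by
      have := congrArg (fun z => sigma S (sigma S z)) h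
      simpa only [sigma_three] using this)) _ _ fun x => ?_
  show (χ : G → ℂ) x * (conj (ψ (sigma S x) : ℂ) - 1) =
    (χ : G → ℂ) (sigma S x : G) * (conj (ψ (sigma S x) : ℂ) - 1)
  rw [coe_sigma, IsIrr.isClassFunction χ.2 (x : G) g]

theorem apply_eq_sum_coef [Fintype (Lin S)] (χ : G → ℂ) {x : (P : Subgroup G)} (hx : x ≠ 1) :
    χ x = ∑ ψ : Lin S, coef S χ ψ * (ψ x : ℂ) := by
  classical
  have hcard : (Nat.card (P : Subgroup G) : ℂ) ≠ 0 := Nat.cast_ne_zero.mpr Nat.card_pos.ne'
  have hconj : ∀ (ψ : Lin S) (z : (P : Subgroup G)), conj (ψ z : ℂ) = (ψ z⁻¹ : ℂ) := fun ψ z =>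
    (IsIrr.map_inv (isIrrCharacter_linear ψ) z).symm
  simp only [coef, mul_assoc, Finset.sum_mul, ← Finset.mul_sum]
  rw [Finset.sum_comm]
  have : ∀ z : (P : Subgroup G), ∑ ψ : Lin S, χ z * ((conj (ψ z : ℂ) - 1) * (ψ x : ℂ)) =
      if z = x then χ x * (Nat.card (P : Subgroup G) : ℂ) else 0 := fun z => by
    simp only [hconj, sub_mul, one_mul, ← Units.val_mul, ← map_mul, mul_sub,
      Finset.sum_sub_distrib, ← Finset.mul_sum, sum_apply_lin S, if_neg hx, mul_zero, sub_zero,
      inv_mul_eq_one]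
    split_ifs with h <;> simp [h]
  rw [Finset.sum_congr rfl fun z _ => this z, Finset.sum_ite_eq' Finset.univ x,
    if_pos (Finset.mem_univ x), mul_comm (χ x), ← mul_assoc, inv_mul_cancel₀ hcard, one_mul]

theorem coef_triv {ψ : Lin S} (hψ : ψ ≠ 1) : coef S (Char.trivChar G : G → ℂ) ψ = -1 := by
  classical
  have hconj : ∀ z : (P : Subgroup G), conj (ψ z : ℂ) = (ψ z⁻¹ : ℂ) := fun z =>
    (IsIrr.map_inv (isIrrCharacter_linear ψ) z).symm
  have h0 : ∑ z : (P : Subgroup G), (ψ z⁻¹ : ℂ) = 0 := by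
    rw [Fintype.sum_equiv (Equiv.inv _) (fun z => (ψ z⁻¹ : ℂ)) (fun z => (ψ z : ℂ)) fun z => rfl,
      sum_apply, if_neg hψ]
  simp only [coef, trivChar_apply, one_mul, Finset.sum_sub_distrib, hconj, h0, Finset.sum_const,
    Finset.card_univ, nsmul_eq_mul, mul_one, Nat.card_eq_fintype_card, zero_sub, mul_neg]
  rw [inv_mul_cancel₀]
  exact Nat.cast_ne_zero.mpr Fintype.card_ne_zero

variable {M : Ideal AlgInt} [M.IsPrime] (hM : IsPModular p M)
include hM

/-- The Gram matrix of the coefficients. -/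
theorem coef_gram [DecidableEq (Lin S)] {ψ φ : Lin S} (hψ : ψ ≠ 1) (hφ : φ ≠ 1) :
    ∑ᶠ χ ∈ principalBlock M G, coef S (χ : G → ℂ) ψ * conj (coef S (χ : G → ℂ) φ) =
      3 + ((if ψ = φ then 1 else 0) + (if ψ = twist S φ then 1 else 0) +
        (if ψ = twist S (twist S φ) then 1 else 0)) := by
  classical
  set n : ℂ := (Nat.card (P : Subgroup G) : ℂ) with hn
  have hn0 : n ≠ 0 := Nat.cast_ne_zero.mpr Nat.card_pos.ne'
  set K := (Set.toFinite (principalBlock M G)).toFinset
  rw [finsum_mem_eq_finite_toFinset_sum _ (Set.toFinite _)]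
  let f : Lin S → ↥(P : Subgroup G) → ℂ := fun η x => conj (η x : ℂ) - 1
  have hf1 : ∀ η, f η 1 = 0 := fun η => by simp [f]
  have hrow : ∀ x : (P : Subgroup G), x ≠ 1 →
      ∑ x' : (P : Subgroup G), conj (f φ x') * ∑ χ ∈ K, (χ : G → ℂ) x * conj ((χ : G → ℂ) x') =
        n * (conj (f φ x) + conj (f φ (sigma S x)) + conj (f φ (sigma S (sigma S x)))) := by
    intro x hx
    have h : ∀ x' : (P : Subgroup G),
        conj (f φ x') * ∑ χ ∈ K, (χ : G → ℂ) x * conj ((χ : G → ℂ) x') =
        n * ((if x' = x then conj (f φ x') else 0) + (if x' = sigma S x then conj (f φ x') else 0) +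
          (if x' = sigma S (sigma S x) then conj (f φ x') else 0)) := fun x' => by
      by_cases hx' : x' = 1
      · subst hx'
        simp [hf1]
      · have := sum_orth S hM x hx x' hx'
        rw [finsum_mem_eq_finite_toFinset_sum _ (Set.toFinite _)] at this
        rw [this]
        split_ifs <;> ring
    rw [Finset.sum_congr rfl fun x' _ => h x', ← Finset.mul_sum, Finset.sum_add_distrib,
      Finset.sum_add_distrib, Finset.sum_ite_eq', Finset.sum_ite_eq', Finset.sum_ite_eq']
    simp
  have key : ∀ η : Lin S, η ≠ 1 → n⁻¹ * ∑ x : (P : Subgroup G), f ψ x * conj (f η x) =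
      (if ψ = η then 1 else 0) + 1 := fun η hη => by
    have hmul : ∀ x : (P : Subgroup G), conj (ψ x : ℂ) * (η x : ℂ) = (((η * ψ⁻¹) x : ℂˣ) : ℂ) := fun x => by
      rw [show conj (ψ x : ℂ) = (ψ x⁻¹ : ℂ) from (IsIrr.map_inv (isIrrCharacter_linear ψ) x).symm,
        MonoidHom.mul_apply, MonoidHom.inv_apply, map_inv, Units.val_mul, mul_comm]
    have hc : ∀ x : (P : Subgroup G), conj (ψ x : ℂ) = ((ψ⁻¹ x : ℂˣ) : ℂ) := fun x => by
      rw [show conj (ψ x : ℂ) = (ψ x⁻¹ : ℂ) from (IsIrr.map_inv (isIrrCharacter_linear ψ) x).symm,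
        MonoidHom.inv_apply, map_inv]
    simp only [f, map_sub, Complex.conj_conj, map_one, sub_mul, mul_sub, one_mul, mul_one, hmul,
      Finset.sum_sub_distrib]
    have e1 : ∑ x : (P : Subgroup G), (((η * ψ⁻¹) x : ℂˣ) : ℂ) = if ψ = η then n else 0 := by
      rw [sum_apply S]
      by_cases h : ψ = η
      · subst h; rw [if_pos (mul_inv_cancel ψ), if_pos rfl]
      · rw [if_neg fun e => h (mul_inv_eq_one.mp e).symm, if_neg h]
    have e2 : ∑ x : (P : Subgroup G), conj (ψ x : ℂ) = 0 := by
      rw [← map_sum, sum_apply S, if_neg hψ, map_zero]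
    have e3 : ∑ x : (P : Subgroup G), (η x : ℂ) = 0 := by rw [sum_apply S, if_neg hη]
    rw [e1, e2, e3, Finset.sum_const, Finset.card_univ, nsmul_eq_mul, mul_one,
      ← Nat.card_eq_fintype_card, ← hn]
    split_ifs with h1 <;> field_simp <;> ring
  have hexp : ∀ χ : IrrCharacter G, coef S (χ : G → ℂ) ψ * conj (coef S (χ : G → ℂ) φ) =
      n⁻¹ * n⁻¹ * ∑ x : (P : Subgroup G), f ψ x * ∑ x' : (P : Subgroup G),
        conj (f φ x') * ((χ : G → ℂ) x * conj ((χ : G → ℂ) x')) := fun χ => by
    simp only [coef, ← hn, map_mul, map_inv₀, map_sum, f, Finset.mul_sum, Finset.sum_mul]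
    rw [show conj n = n from Complex.conj_natCast _]
    rw [Finset.sum_comm]
    exact Finset.sum_congr rfl fun x _ => Finset.sum_congr rfl fun x' _ => by ring
  rw [Finset.sum_congr rfl fun χ _ => hexp χ, ← Finset.mul_sum, Finset.sum_comm]
  have houter : ∀ x : (P : Subgroup G),
      ∑ χ ∈ K, f ψ x * ∑ x' : (P : Subgroup G), conj (f φ x') * ((χ : G → ℂ) x * conj ((χ : G → ℂ) x')) =
        n * (f ψ x * conj (f φ x) + f ψ x * conj (f (twist S φ) x) +
          f ψ x * conj (f (twist S (twist S φ)) x)) := fun x => by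
    by_cases hx : x = 1
    · subst hx
      simp [hf1]
    · rw [← Finset.mul_sum, Finset.sum_comm]
      simp only [← Finset.mul_sum]
      rw [hrow x hx]
      simp only [f, twist, MonoidHom.comp_apply]
      ring
  rw [Finset.sum_congr rfl fun x _ => houter x, ← Finset.mul_sum, mul_assoc, ← mul_assoc n⁻¹ n,
    inv_mul_cancel₀ hn0, one_mul, Finset.sum_add_distrib, Finset.sum_add_distrib, mul_add, mul_add,
    key φ hφ, key (twist S φ) (fun e => hφ (twist_fixed S (by
      have := congrArg (fun z => twist S (twist S z)) e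
      simp only [twist_three, twist_one] at this
      rw [this, twist_one]))),
    key (twist S (twist S φ)) (fun e => hφ (by
      have := congrArg (twist S) e
      rwa [twist_three, twist_one] at this))]
  ring

/-- The weighted sums of the coefficients vanish. -/
theorem coef_regular {ψ : Lin S} {r : G} (hr : ¬ p ∣ orderOf r) :
    ∑ᶠ χ ∈ principalBlock M G, (χ : G → ℂ) r * coef S (χ : G → ℂ) ψ = 0 := by
  classical
  rw [finsum_mem_eq_finite_toFinset_sum _ (Set.toFinite _)]
  simp only [coef, Finset.mul_sum]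
  rw [Finset.sum_comm]
  refine Finset.sum_eq_zero fun x _ => ?_
  by_cases hx : x = 1
  · subst hx; simp
  · have h := sum_regular S hM hx hr
    rw [finsum_mem_eq_finite_toFinset_sum _ (Set.toFinite _)] at h
    calc _ = (Nat.card (P : Subgroup G) : ℂ)⁻¹ * (conj (ψ x : ℂ) - 1) *
          ∑ χ ∈ (Set.toFinite (principalBlock M G)).toFinset, (χ : G → ℂ) r * (χ : G → ℂ) x := by
          rw [Finset.mul_sum]
          exact Finset.sum_congr rfl fun χ _ => by ring
      _ = 0 := by rw [h, mul_zero]

end Coef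

/-- The exceptional configuration. -/
structure Config (M : Ideal AlgInt) where
  χa : IrrCharacter G
  χb : IrrCharacter G
  sa : ℤ
  sb : ℤ
  δ : ℤ
  ζ : Lin S → IrrCharacter G
  hsa : sa = 1 ∨ sa = -1
  hsb : sb = 1 ∨ sb = -1
  hδ : δ = 1 ∨ δ = -1
  a_ne : χa ≠ Char.trivChar G
  b_ne : χb ≠ Char.trivChar G
  a_ne_b : χa ≠ χb
  mem_iff : ∀ χ, χ ∈ principalBlock M G ↔
    χ = Char.trivChar G ∨ χ = χa ∨ χ = χb ∨ ∃ ψ, ψ ≠ 1 ∧ ζ ψ = χ
  ζ_ne : ∀ ψ, ψ ≠ 1 → ζ ψ ≠ Char.trivChar G ∧ ζ ψ ≠ χa ∧ ζ ψ ≠ χb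
  ζ_eq : ∀ ψ φ, ψ ≠ 1 → φ ≠ 1 →
    (ζ ψ = ζ φ ↔ ψ = φ ∨ ψ = twist S φ ∨ ψ = twist S (twist S φ))
  val_a : ∀ x : (P : Subgroup G), x ≠ 1 → (χa : G → ℂ) x = sa
  val_b : ∀ x : (P : Subgroup G), x ≠ 1 → (χb : G → ℂ) x = sb
  val_ζ : ∀ ψ, ψ ≠ 1 → ∀ x : (P : Subgroup G), x ≠ 1 →
    (ζ ψ : G → ℂ) x = δ * orbitSum S ψ x

/-- The classes of nontrivial linear characters. -/
def linSetoid : Setoid {ψ : Lin S // ψ ≠ 1} where
  r a b := a.1 = b.1 ∨ a.1 = twist S b.1 ∨ a.1 = twist S (twist S b.1)
  iseqv :=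
    { refl := fun a => Or.inl rfl
      symm := fun {a b} h => by
        rcases h with h | h | h
        · exact Or.inl h.symm
        · exact Or.inr (Or.inr (by rw [h, twist_three]))
        · exact Or.inr (Or.inl (by rw [h, twist_three]))
      trans := fun {a b c} h h' => by
        rcases h with h | h | h <;> rcases h' with h' | h' | h' <;> rw [h, h'] <;>
          simp [twist_three] }

variable {M : Ideal AlgInt} [M.IsPrime] (hM : IsPModular p M) (hP4 : 4 < Nat.card (P : Subgroup G))
include hM hP4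

theorem exists_config : Nonempty (Config S M) := by
  classical
  have := Fintype.ofFinite (P : Subgroup G)
  have := finite_lin S
  have := Fintype.ofFinite (Lin S)
  let J := Quotient (linSetoid S)
  have := Fintype.ofFinite J
  let mk : {ψ : Lin S // ψ ≠ 1} → J := Quotient.mk (linSetoid S)
  let rep : J → {ψ : Lin S // ψ ≠ 1} := Quotient.out
  have htw : ∀ ψ : Lin S, ψ ≠ 1 → twist S ψ ≠ 1 ∧ twist S ψ ≠ ψ ∧ twist S (twist S ψ) ≠ ψ ∧
      twist S (twist S ψ) ≠ 1 ∧ twist S (twist S ψ) ≠ twist S ψ := fun ψ hψ => by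
    have h1 : twist S ψ ≠ 1 := fun e => hψ (by
      have := congrArg (fun z => twist S (twist S z)) e
      simpa only [twist_three, twist_one] using this)
    have h2 : twist S (twist S ψ) ≠ 1 := fun e => hψ (by
      have := congrArg (twist S) e
      rwa [twist_three, twist_one] at this)
    refine ⟨h1, fun e => hψ (twist_fixed S e), fun e => hψ (twist_fixed S ?_), h2,
      fun e => h1 (twist_fixed S e)⟩
    have := congrArg (twist S) e
    rw [twist_three] at this
    exact this.symm
  have hfib : ∀ j : J, (Finset.univ.filter fun ψ => mk ψ = j).card = 3 := fun j => by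
    obtain ⟨ψ, rfl⟩ := Quotient.exists_rep j
    obtain ⟨t1, t2, t3, t4, t5⟩ := htw ψ.1 ψ.2
    rw [show (Finset.univ.filter fun φ => mk φ = ⟦ψ⟧) =
      {ψ, ⟨twist S ψ.1, t1⟩, ⟨twist S (twist S ψ.1), t4⟩} from ?_]
    · rw [Finset.card_insert_of_notMem (by simp [Subtype.ext_iff, Ne.symm t2, Ne.symm t3]),
        Finset.card_pair (by simp [Subtype.ext_iff, Ne.symm t5])]
    ext φ
    simp only [Finset.mem_filter, Finset.mem_univ, true_and, Finset.mem_insert,
      Finset.mem_singleton, mk, Subtype.ext_iff]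
    exact Quotient.eq
  have hlin : Fintype.card (Lin S) = Nat.card (P : Subgroup G) := by
    have h := sum_apply_lin S 1
    simp only [map_one, Units.val_one, Finset.sum_const, Finset.card_univ, nsmul_eq_mul, mul_one,
      if_true] at h
    exact_mod_cast h
  have hcardJ : 3 * Fintype.card J + 1 = Nat.card (P : Subgroup G) := by
    have h1 : Fintype.card {ψ : Lin S // ψ ≠ 1} = 3 * Fintype.card J := by
      rw [← Finset.card_univ, Finset.card_eq_sum_card_fiberwise (f := mk) (t := Finset.univ)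
        (fun _ _ => Finset.mem_univ _), Finset.sum_congr rfl fun j _ => hfib j, Finset.sum_const,
        Finset.card_univ, smul_eq_mul, mul_comm]
    rw [Fintype.card_subtype_compl, Fintype.card_subtype_eq] at h1
    have : 0 < Fintype.card (Lin S) := Fintype.card_pos
    omega
  have hJ3 : Fintype.card J ≠ 3 := fun e => by
    rw [e] at hcardJ
    obtain ⟨k, hk⟩ := IsPGroup.iff_card.mp P.2
    have h10 : p ^ k = 10 := hk.symm.trans hcardJ.symm
    have hp : p.Prime := Fact.out
    have h2 : p = 2 := by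
      have : (2 : ℕ) ∣ p ^ k := by rw [h10]; norm_num
      exact ((Nat.prime_dvd_prime_iff_eq Nat.prime_two hp).mp (Nat.prime_two.dvd_of_dvd_pow this)).symm
    have h5 : p = 5 := by
      have : (5 : ℕ) ∣ p ^ k := by rw [h10]; norm_num
      exact ((Nat.prime_dvd_prime_iff_eq (by norm_num) hp).mp
        ((by norm_num : Nat.Prime 5).dvd_of_dvd_pow this)).symm
    omega
  -- the rows
  let ι := {χ : IrrCharacter G // χ ∈ principalBlock M G ∧ χ ≠ Char.trivChar G}
  have := Fintype.ofFinite (IrrCharacter G)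
  have := Fintype.ofFinite ι
  choose c hc using fun (χ : IrrCharacter G) (ψ : Lin S) => coef_int S χ ψ
  have hsplit : ∀ F : IrrCharacter G → ℂ, ∑ᶠ χ ∈ principalBlock M G, F χ =
      F (Char.trivChar G) + ∑ i : ι, F i.1 := fun F => by
    rw [finsum_mem_eq_finite_toFinset_sum _ (Set.toFinite _),
      ← Finset.add_sum_erase _ F ((Set.Finite.mem_toFinset _).mpr trivChar_mem_principalBlock)]
    congr 1
    refine Finset.sum_subtype _ (fun χ => ?_) F
    simp [and_comm]
  have hg : ∀ j k : J, ∑ i : ι, c i.1 (rep j).1 * c i.1 (rep k).1 = 2 + if j = k then 1 else 0 := by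
    intro j k
    have h := coef_gram S hM (rep j).2 (rep k).2
    rw [hsplit, coef_triv S (rep j).2, coef_triv S (rep k).2] at h
    simp only [hc, map_intCast, map_neg, map_one] at h
    have hd : ((if (rep j).1 = (rep k).1 then (1 : ℂ) else 0) +
        (if (rep j).1 = twist S (rep k).1 then 1 else 0) +
        (if (rep j).1 = twist S (twist S (rep k).1) then 1 else 0)) =
        ((if j = k then 1 else 0 : ℤ) : ℂ) := by
      obtain ⟨-, t2, t3, -, t5⟩ := htw (rep k).1 (rep k).2
      by_cases hjk : j = k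
      · subst hjk
        simp [Ne.symm t2, Ne.symm t3]
      · have hno : ¬ (linSetoid S).r (rep j) (rep k) := fun h' => hjk (by
          rw [← Quotient.out_eq j, ← Quotient.out_eq k]; exact Quotient.sound h')
        have hno' : ¬ ((rep j).1 = (rep k).1 ∨ (rep j).1 = twist S (rep k).1 ∨
            (rep j).1 = twist S (twist S (rep k).1)) := hno
        simp only [not_or] at hno'
        simp [hjk, hno'.1, hno'.2.1, hno'.2.2]
    rw [hd] at h
    have h' : (((-1 : ℤ) * -1 + ∑ i : ι, c i.1 (rep j).1 * c i.1 (rep k).1 : ℤ) : ℂ) =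
        ((3 + if j = k then 1 else 0 : ℤ) : ℂ) := by
      by_cases hjk : j = k
      · simp only [if_pos hjk] at h ⊢
        push_cast at h ⊢
        linear_combination h
      · simp only [if_neg hjk] at h ⊢
        push_cast at h ⊢
        linear_combination h
    have h'' := Int.cast_injective h'
    linarith
  have hdeg : ∀ j : J, ∑ i : ι, c i.1 (rep j).1 * (charDegree (i.1 : G → ℂ) : ℤ) = 1 := fun j => by
    have h := coef_regular S hM (ψ := (rep j).1) (r := 1) (by simp [hM.1.ne_one])
    rw [hsplit, coef_triv S (rep j).2, trivChar_apply] at h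
    simp only [hc, apply_one_eq_charDegree] at h
    have h' : ((-1 + ∑ i : ι, c i.1 (rep j).1 * (charDegree (i.1 : G → ℂ) : ℤ) : ℤ) : ℂ) = ((0 : ℤ) : ℂ) := by
      push_cast
      rw [← h]
      rw [one_mul]
      congr 1
      exact Finset.sum_congr rfl fun i _ => mul_comm _ _
    have h'' := Int.cast_injective h'
    linarith
  obtain ⟨a, b, e, sa, sb, δ, hsa, hsb, hδ, hab, he, hene, hv⟩ := sunflower
    (fun (j : J) (i : ι) => c i.1 (rep j).1) (fun i => (charDegree (i.1 : G → ℂ) : ℤ))
    (fun i => Nat.cast_pos.mpr (charDegree_pos i.1)) hg hdeg hJ3 (by omega)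
  have hinvar : ∀ (χ : IrrCharacter G) (ψ : {ψ : Lin S // ψ ≠ 1}), c χ ψ.1 = c χ (rep (mk ψ)).1 := by
    intro χ ψ
    have hr : (linSetoid S).r ψ (rep (mk ψ)) := Quotient.exact (Quotient.out_eq (mk ψ)).symm
    refine Int.cast_injective (α := ℂ) ?_
    rw [← hc, ← hc]
    rcases hr with h | h | h
    · rw [h]
    · rw [h, coef_twist]
    · rw [h, coef_twist, coef_twist]
  have hval : ∀ (χ : IrrCharacter G) (x : (P : Subgroup G)), x ≠ 1 → (χ : G → ℂ) x =
      ∑ ψ : {ψ : Lin S // ψ ≠ 1}, (c χ (rep (mk ψ)).1 : ℂ) * (ψ.1 x : ℂ) := fun χ x hx => by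
    rw [apply_eq_sum_coef S (χ : G → ℂ) hx, ← Finset.add_sum_erase _ _ (Finset.mem_univ (1 : Lin S)),
      show coef S (χ : G → ℂ) 1 = 0 by simp [coef], zero_mul, zero_add]
    rw [Finset.sum_subtype (Finset.univ.erase (1 : Lin S)) (p := fun ψ => ψ ≠ 1) (fun ψ => by simp)]
    exact Finset.sum_congr rfl fun ψ _ => by rw [hc, hinvar]
  have hnontriv : ∀ x : (P : Subgroup G), x ≠ 1 →
      ∑ ψ : {ψ : Lin S // ψ ≠ 1}, (ψ.1 x : ℂ) = -1 := fun x hx => by
    have h := sum_apply_lin S x
    rw [if_neg hx, ← Finset.add_sum_erase _ _ (Finset.mem_univ (1 : Lin S)),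
      Finset.sum_subtype (Finset.univ.erase (1 : Lin S)) (p := fun ψ => ψ ≠ 1) (fun ψ => by simp),
      MonoidHom.one_apply, Units.val_one] at h
    linear_combination h
  let ζ : Lin S → IrrCharacter G := fun ψ => if h : ψ = 1 then Char.trivChar G else (e (mk ⟨ψ, h⟩)).1
  have hζ : ∀ ψ (h : ψ ≠ 1), ζ ψ = (e (mk ⟨ψ, h⟩)).1 := fun ψ h => by simp [ζ, h]
  refine ⟨{
    χa := a.1, χb := b.1, sa := -sa, sb := -sb, δ := δ, ζ := ζ
    hsa := by omega
    hsb := by omega
    hδ := hδ
    a_ne := a.2.2
    b_ne := b.2.2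
    a_ne_b := fun h => hab (Subtype.ext h)
    mem_iff := fun χ => ⟨fun hχ => ?_, ?_⟩
    ζ_ne := fun ψ hψ => by
      rw [hζ ψ hψ]
      exact ⟨(e _).2.2, fun h => (hene _).1 (Subtype.ext h), fun h => (hene _).2 (Subtype.ext h)⟩
    ζ_eq := fun ψ φ hψ hφ => by
      rw [hζ ψ hψ, hζ φ hφ, Subtype.ext_iff.symm, he.eq_iff]
      exact Quotient.eq
    val_a := fun x hx => ?_
    val_b := fun x hx => ?_
    val_ζ := fun ψ hψ x hx => ?_ }⟩
  · by_cases h1 : χ = Char.trivChar G
    · exact Or.inl h1
    let i : ι := ⟨χ, hχ, h1⟩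
    by_cases ha : i = a
    · exact Or.inr (Or.inl (congrArg Subtype.val ha))
    by_cases hb : i = b
    · exact Or.inr (Or.inr (Or.inl (congrArg Subtype.val hb)))
    by_cases he' : ∃ j, i = e j
    · obtain ⟨j, hj⟩ := he'
      refine Or.inr (Or.inr (Or.inr ⟨(rep j).1, (rep j).2, ?_⟩))
      rw [hζ _ (rep j).2, show mk ⟨(rep j).1, (rep j).2⟩ = j from Quotient.out_eq j, ← hj]
    exfalso
    push Not at he'
    obtain ⟨x, hx⟩ : ∃ x : (P : Subgroup G), x ≠ 1 := by
      have : Nontrivial (P : Subgroup G) := Finite.one_lt_card_iff_nontrivial.mp (by omega)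
      exact exists_ne 1
    have hz : (χ : G → ℂ) x = 0 := by
      rw [hval χ x hx]
      refine Finset.sum_eq_zero fun ψ _ => ?_
      rw [show c χ (rep (mk ψ)).1 = c i.1 (rep (mk ψ)).1 from rfl, hv (mk ψ) i, if_neg ha,
        if_neg hb, if_neg (he' _), Int.cast_zero, zero_mul]
    have hsb : SameBlock M (fun _ : G => (1 : ℂ)) (χ : G → ℂ) := hχ
    have h3 := hsb (x : G)
    rw [centralChar, centralChar, hz, mul_zero, zero_div, sub_zero, mul_one, div_one] at h3
    exact P.not_dvd_index (((memLocalIdeal_natCast_iff hM).mp h3).trans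
      (Subgroup.index_dvd_of_le (le_centralizer S x.2)))
  · rintro (rfl | rfl | rfl | ⟨ψ, hψ, rfl⟩)
    · exact trivChar_mem_principalBlock
    · exact a.2.1
    · exact b.2.1
    · rw [hζ ψ hψ]
      exact (e _).2.1
  · have := hval a.1 x hx
    rw [this, Finset.sum_congr rfl fun ψ _ => show (c a.1 (rep (mk ψ)).1 : ℂ) * (ψ.1 x : ℂ) =
      (sa : ℂ) * (ψ.1 x : ℂ) by rw [hv (mk ψ) a, if_pos rfl], ← Finset.mul_sum, hnontriv x hx]
    simp
  · have := hval b.1 x hx
    rw [this, Finset.sum_congr rfl fun ψ _ => show (c b.1 (rep (mk ψ)).1 : ℂ) * (ψ.1 x : ℂ) =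
      (sb : ℂ) * (ψ.1 x : ℂ) by rw [hv (mk ψ) b, if_neg (Ne.symm hab), if_pos rfl], ← Finset.mul_sum,
      hnontriv x hx]
    simp
  · rw [hζ ψ hψ, hval _ x hx]
    set j := mk ⟨ψ, hψ⟩ with hj
    have hterm : ∀ φ : {φ : Lin S // φ ≠ 1}, (c (e j).1 (rep (mk φ)).1 : ℂ) * (φ.1 x : ℂ) =
        if mk φ = j then (δ : ℂ) * (φ.1 x : ℂ) else 0 := fun φ => by
      rw [hv (mk φ) (e j), if_neg (hene j).1, if_neg (hene j).2]
      by_cases h : mk φ = j
      · rw [h, if_pos rfl, if_pos rfl]
      · rw [if_neg fun h' => h (he h').symm, if_neg h, Int.cast_zero, zero_mul]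
    obtain ⟨t1, t2, t3, t4, t5⟩ := htw ψ hψ
    rw [Finset.sum_congr rfl fun φ _ => hterm φ, ← Finset.sum_filter, ← Finset.mul_sum,
      show (Finset.univ.filter fun φ => mk φ = j) =
        {⟨ψ, hψ⟩, ⟨twist S ψ, t1⟩, ⟨twist S (twist S ψ), t4⟩} from ?_,
      Finset.sum_insert (by simp [Ne.symm t2, Ne.symm t3]),
      Finset.sum_pair (by simp [Ne.symm t5]), orbitSum, add_assoc]
    ext φ
    simp only [Finset.mem_filter, Finset.mem_univ, true_and, Finset.mem_insert,
      Finset.mem_singleton, mk, j, Subtype.ext_iff]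
    exact Quotient.eq

end CfsgLib.IndexThree
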