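import Cfsg.Agent.Lib.Blocks.Defect

/-!
# Induced blocks and the Brauer homomorphism

`resElt H a` restricts a central element to `H`.  Induction of blocks says that
`omegaBar ξ ∘ resElt H` is the central character of the target block; when `P ≤ H ≤ N(P)` and
`C(P) ≤ H` it equals `omegaBar ξ ∘ brauerMap P H`, which is multiplicative.
-/

namespace CfsgLib.Blocks

open Cfsg MonoidAlgebra CfsgLib.Fusion

variable {G : Type*} [Group G] [Fintype G]

/-- Restriction of the coefficients to a subgroup. -/
noncomputable def resElt {R : Type*} [Semiring R] (H : Subgroup G) (a : MonoidAlgebra R G) :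
    MonoidAlgebra R H := ofFun fun h => a.coeff h

@[simp]
theorem coeff_resElt {R : Type*} [Semiring R] (H : Subgroup G) (a : MonoidAlgebra R G) (h : H) :
    (resElt H a).coeff h = a.coeff h := rfl

theorem isCentralElt_resElt {R : Type*} [Semiring R] (H : Subgroup G) {a : MonoidAlgebra R G}
    (ha : IsCentralElt a) : IsCentralElt (resElt H a) := fun g h => ha g h

variable {p : ℕ} [Fact p.Prime] {M : Ideal AlgInt} [M.IsPrime] {H : Subgroup G} [Fintype H]

omit [Fact p.Prime] [M.IsPrime] in
theorem inducedCentralChar_eq_omega (ξ : H → ℂ) (g : G) :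
    inducedCentralChar H ξ g = omega ξ (resElt H (classSum ℂ g)) := by
  classical
  rw [inducedCentralChar, omega_apply, Finset.sum_div,
    finsum_mem_eq_finite_toFinset_sum _ (Set.toFinite _)]
  simp only [coeff_resElt, coeff_classSum, ite_mul, one_mul, zero_mul, ite_div, zero_div,
    ← Finset.sum_filter]
  exact Finset.sum_congr (by ext; simp) fun _ _ => rfl

omit [Fact p.Prime] in
/-- The induced central character as an element of the local ring, reduced. -/
theorem inducedCentralChar_mem_and_residue (ξ : IrrCharacter H) (g : G) :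
    ∃ h : inducedCentralChar H (ξ : H → ℂ) g ∈ localRing M,
      resHom M ⟨_, h⟩ = omegaBar ξ (resElt H (classSum (Res M) g)) := by
  have hc := isCentralElt_resElt H (isCentralElt_classSum (localRing M) g)
  have h1 : inc M (resElt H (classSum (localRing M) g)) = resElt H (classSum ℂ g) := by
    refine MonoidAlgebra.ext (Finsupp.ext fun h => ?_)
    rw [coeff_inc, coeff_resElt, coeff_resElt, ← inc_classSum (M := M), coeff_inc]
  have h2 : red M (resElt H (classSum (localRing M) g)) = resElt H (classSum (Res M) g) := by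
    refine MonoidAlgebra.ext (Finsupp.ext fun h => ?_)
    rw [coeff_red, coeff_resElt, coeff_resElt, ← red_classSum (M := M), coeff_red]
  refine ⟨?_, ?_⟩
  · rw [inducedCentralChar_eq_omega, ← h1]
    exact omega_inc_mem ξ hc
  · rw [← h2, omegaBar_red ξ hc]
    congr 1
    refine Subtype.ext ?_
    show inducedCentralChar H (ξ : H → ℂ) g = omega (ξ : H → ℂ) (inc M _)
    rw [h1]
    exact inducedCentralChar_eq_omega _ _

omit [Fact p.Prime] in
theorem memLocalIdeal_inducedCentralChar_sub_iff (ξ : IrrCharacter H) (χ : IrrCharacter G) (g : G) :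
    MemLocalIdeal M (inducedCentralChar H (ξ : H → ℂ) g - centralChar (χ : G → ℂ) g) ↔
      omegaBar ξ (resElt H (classSum (Res M) g)) = centralCharBar M χ g := by
  obtain ⟨h, hres⟩ := inducedCentralChar_mem_and_residue (M := M) ξ g
  rw [← hres]
  exact (residue_eq_iff (z := ⟨_, h⟩) (w := centralCharO M χ g)).symm

omit [Fact p.Prime] in
theorem omegaBar_resElt_eq_of_classSum {ξ : IrrCharacter H} {χ : IrrCharacter G}
    (h : ∀ g, omegaBar ξ (resElt H (classSum (Res M) g)) = centralCharBar M χ g)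
    {a : MonoidAlgebra (Res M) G} (ha : IsCentralElt a) :
    omegaBar ξ (resElt H a) = omegaBar χ a := by
  classical
  have hres : resElt H a = ∑ C : ConjClasses G,
      a.coeff (Quotient.out C) • resElt H (classSum (Res M) (Quotient.out C)) := by
    refine MonoidAlgebra.ext (Finsupp.ext fun x => ?_)
    conv_lhs => rw [coeff_resElt, central_eq_sum_classSum ha]
    simp only [coeff_sum, Finsupp.coe_finsetSum, Finset.sum_apply, coeff_smul, Finsupp.smul_apply,
      coeff_resElt]
  rw [hres, omegaBar_sum]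
  simp only [omegaBar_smul, h]
  rfl

omit [Fact p.Prime] in
theorem isInducedBlock_iff {b : Set (IrrCharacter H)} {B : Set (IrrCharacter G)} :
    IsInducedBlock M H b B ↔ IsPBlock M b ∧ IsPBlock M B ∧ ∀ ξ ∈ b, ∀ χ ∈ B,
      ∀ a : MonoidAlgebra (Res M) G, IsCentralElt a →
        omegaBar ξ (resElt H a) = omegaBar χ a := by
  refine and_congr_right fun _ => and_congr_right fun _ => forall₂_congr fun ξ _ =>
    forall₂_congr fun χ _ => ⟨fun h a ha => omegaBar_resElt_eq_of_classSum (fun g =>
      (memLocalIdeal_inducedCentralChar_sub_iff ξ χ g).1 (h g)) ha, fun h g => ?_⟩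
  rw [memLocalIdeal_inducedCentralChar_sub_iff, h _ (isCentralElt_classSum _ g), omegaBar_classSum]

omit [Fact p.Prime] in
/-- Induction can be tested on one member of each block. -/
theorem isInducedBlock_of_rep {b : Set (IrrCharacter H)} {B : Set (IrrCharacter G)}
    (hb : IsPBlock M b) (hB : IsPBlock M B) {ξ : IrrCharacter H} (hξ : ξ ∈ b) {χ : IrrCharacter G}
    (hχ : χ ∈ B)
    (h : ∀ a : MonoidAlgebra (Res M) G, IsCentralElt a → omegaBar ξ (resElt H a) = omegaBar χ a) :
    IsInducedBlock M H b B :=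
  isInducedBlock_iff.2 ⟨hb, hB, fun ξ' hξ' χ' hχ' a ha => by
    rw [omegaBar_congr (IsPBlock.sameBlock hb hξ' hξ), h a ha,
      omegaBar_congr (IsPBlock.sameBlock hB hχ hχ')]⟩

omit [Fact p.Prime] in
/-- The induced block is unique. -/
theorem IsInducedBlock.eq {b : Set (IrrCharacter H)} {B B' : Set (IrrCharacter G)}
    (h : IsInducedBlock M H b B) (h' : IsInducedBlock M H b B') : B = B' := by
  obtain ⟨hb, hB, h1⟩ := isInducedBlock_iff.1 h
  obtain ⟨-, hB', h2⟩ := isInducedBlock_iff.1 h'
  obtain ⟨ξ, hξ⟩ := IsPBlock.nonempty hb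
  obtain ⟨χ, hχ⟩ := IsPBlock.nonempty hB
  obtain ⟨χ', hχ'⟩ := IsPBlock.nonempty hB'
  refine IsPBlock.eq_of_mem hB hB' hχ (χ := χ) ?_
  rw [IsPBlock.eq_blockOf hB' hχ']
  exact sameBlock_of_omegaBar_eq fun a ha => by rw [← h2 ξ hξ χ' hχ' a ha, h1 ξ hξ χ hχ a ha]

omit [Fact p.Prime] in
theorem exists_coeff_ne_zero_of_omegaBar_ne_zero {K : Type*} [Group K] [Fintype K]
    {ξ : IrrCharacter K} {a : MonoidAlgebra (Res M) K} (h : omegaBar ξ a ≠ 0) :
    ∃ k, a.coeff k ≠ 0 ∧ centralCharBar M ξ k ≠ 0 := by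
  classical
  obtain ⟨C, -, hC⟩ := Finset.exists_ne_zero_of_sum_ne_zero h
  exact ⟨_, left_ne_zero_of_mul hC, right_ne_zero_of_mul hC⟩

variable (hM : IsPModular p M)
include hM

/-- The defect group of a block lies in a defect group of the induced block. -/
theorem IsInducedBlock.defectGroup_le {b : Set (IrrCharacter H)} {B : Set (IrrCharacter G)}
    (hind : IsInducedBlock M H b B) {D : Subgroup H} (hD : IsDefectGroup p M b D) :
    ∃ E : Subgroup G, IsDefectGroup p M B E ∧ D.map H.subtype ≤ E := by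
  classical
  obtain ⟨hb, hB, h⟩ := isInducedBlock_iff.1 hind
  obtain ⟨E, hE⟩ := exists_isDefectGroup (p := p) hB
  obtain ⟨g, hg, hle, hs⟩ := isDefectGroup_iff.1 hE
  obtain ⟨χ, hχ⟩ := IsPBlock.nonempty hB
  obtain ⟨ξ, hξ⟩ := IsPBlock.nonempty hb
  have hne : omegaBar ξ (resElt H (classSum (Res M) g)) ≠ 0 := by
    rw [h ξ hξ χ hχ _ (isCentralElt_classSum _ g), omegaBar_classSum]
    exact IsDefectClass.centralCharBar_ne_zero hg hχ
  obtain ⟨k, hk, hωk⟩ := exists_coeff_ne_zero_of_omegaBar_ne_zero hne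
  have hgk : IsConj g (k : G) := by
    by_contra hcon
    exact hk (by rw [coeff_resElt, coeff_classSum, if_neg hcon])
  obtain ⟨Q, -, hQ, hQp, hQs⟩ := exists_isSylowIn_ge (p := p)
    (bot_le : (⊥ : Subgroup H) ≤ Subgroup.centralizer ({k} : Set H)) IsPGroup.of_bot
  obtain ⟨y, hy⟩ := IsDefectGroup.subConj_of_centralCharBar_ne_zero hM hb hD hξ hωk (defLE_self hQs)
  have h1 : SubConj (D.map H.subtype) (Q.map H.subtype) := ⟨y, by
    rintro _ ⟨d, hd, rfl⟩
    exact ⟨_, hy d hd, rfl⟩⟩
  have h2 : SubConj (Q.map H.subtype) E := by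
    refine ((defLE_self hs).of_isConj hgk) _ (hQp.map _) ?_
    rintro _ ⟨q, hq, rfl⟩
    exact mem_centralizer_singleton.2 ((mem_centralizer_singleton.1 (hQ hq)).map H.subtype)
  obtain ⟨x, hx⟩ := SubConj.iff_map_le.1 (h1.trans h2)
  refine ⟨E.map (MulAut.conj x⁻¹).toMonoidHom, IsDefectGroup.map_conj hE x⁻¹, fun d hd => ?_⟩
  exact ⟨_, hx (Subgroup.mem_map_of_mem _ hd), by simp [mul_assoc]⟩

/-- For `P ≤ H ≤ N(P)` the restriction and the Brauer map have the same image under the central
characters of `H`. -/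
theorem omegaBar_resElt_eq_brauerMap {P : Subgroup G} (hP : IsPGroup p P) (hPH : P ≤ H)
    (hHN : H ≤ Subgroup.normalizer (P : Set G)) (ξ : IrrCharacter H)
    {a : MonoidAlgebra (Res M) G} (ha : IsCentralElt a) :
    omegaBar ξ (resElt H a) = omegaBar ξ (brauerMap P H a) := by
  classical
  have := charP_residueField hM
  have : (P.subgroupOf H).Normal :=
    (Subgroup.normal_subgroupOf_iff_le_normalizer hPH).2 hHN
  have hd : IsCentralElt (resElt H a - brauerMap P H a) :=
    (isCentralElt_resElt H ha).sub (isCentralElt_brauerMap hHN ha)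
  obtain ⟨n, hn⟩ := isNilpotent_of_vanish_centralizer (F := Res M) (P := P.subgroupOf H)
    (hP.comap_of_injective _ H.subtype_injective) hd fun c hc => by
      have hcG : (c : G) ∈ Subgroup.centralizer (P : Set G) :=
        Subgroup.mem_centralizer_iff.2 fun u hu =>
          congrArg Subtype.val (Subgroup.mem_centralizer_iff.1 hc (⟨u, hPH hu⟩ : H) hu)
      simp [coeff_brauerMap, hcG]
  have h0 := congrArg (omegaBar ξ) hn
  rw [omegaBar_pow ξ hd, omegaBar_zero] at h0
  have h1 := (pow_eq_zero_iff (fun e => by simp [e] at h0)).1 h0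
  rwa [omegaBar_sub, sub_eq_zero] at h1

/-- Induced blocks are defined for `P C(P) ≤ H ≤ N(P)`. -/
theorem exists_isInducedBlock {P : Subgroup G} (hP : IsPGroup p P) (hPH : P ≤ H)
    (hCH : Subgroup.centralizer (P : Set G) ≤ H) (hHN : H ≤ Subgroup.normalizer (P : Set G))
    {b : Set (IrrCharacter H)} (hb : IsPBlock M b) :
    ∃ B : Set (IrrCharacter G), IsInducedBlock M H b B := by
  classical
  have := charP_residueField hM
  obtain ⟨ξ, hξ⟩ := IsPBlock.nonempty hb
  obtain ⟨χ, hχ⟩ := exists_omegaBar_eq (M := M) (G := G) (fun a => omegaBar ξ (brauerMap P H a))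
    (by simp only [brauerMap_one, omegaBar_one])
    (fun a c _ _ => by simp only [brauerMap_add, omegaBar_add])
    (fun c a _ => by simp only [brauerMap_smul, omegaBar_smul])
    (fun a c ha hc => by
      simp only [brauerMap_mul hP hCH ha hc]
      exact omegaBar_mul ξ (isCentralElt_brauerMap hHN ha) (isCentralElt_brauerMap hHN hc))
  exact ⟨_, isInducedBlock_of_rep hb (isPBlock_blockOf χ) hξ (mem_blockOf_self χ) fun a ha => by
    rw [omegaBar_resElt_eq_brauerMap hM hP hPH hHN ξ ha]; exact hχ a ha⟩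

/-- A block is induced from `H` exactly when its idempotent survives the Brauer map. -/
theorem exists_inducing_iff_brauerMap_ne_zero {P : Subgroup G} (hP : IsPGroup p P) (hPH : P ≤ H)
    (hCH : Subgroup.centralizer (P : Set G) ≤ H) (hHN : H ≤ Subgroup.normalizer (P : Set G))
    {B : Set (IrrCharacter G)} (hB : IsPBlock M B) :
    (∃ b : Set (IrrCharacter H), IsInducedBlock M H b B) ↔
      brauerMap P H (blockIdemBar M B) ≠ 0 := by
  classical
  have := charP_residueField hM
  have he := isCentralElt_blockIdemBar hB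
  have hBr := isCentralElt_brauerMap hHN he
  constructor
  · rintro ⟨b, hind⟩ h0
    obtain ⟨hb, -, h⟩ := isInducedBlock_iff.1 hind
    obtain ⟨ξ, hξ⟩ := IsPBlock.nonempty hb
    obtain ⟨χ, hχ⟩ := IsPBlock.nonempty hB
    have h1 := h ξ hξ χ hχ _ he
    rw [omegaBar_resElt_eq_brauerMap hM hP hPH hHN ξ he, h0, omegaBar_zero,
      omegaBar_blockIdemBar hB, if_pos hχ] at h1
    exact zero_ne_one h1
  · intro hne
    obtain ⟨ξ, hξ⟩ : ∃ ξ : IrrCharacter H, omegaBar ξ (brauerMap P H (blockIdemBar M B)) ≠ 0 := by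
      by_contra hcon
      push Not at hcon
      obtain ⟨n, hn⟩ := isNilpotent_of_omegaBar_eq_zero hBr hcon
      have hid : IsIdempotentElem (brauerMap P H (blockIdemBar M B)) := by
        rw [IsIdempotentElem, ← brauerMap_mul hP hCH he he, blockIdemBar_mul_self hB]
      exact hne (hid.eq_zero_of_isNilpotent ⟨n, hn⟩)
    obtain ⟨B', hB'⟩ := exists_isInducedBlock hM hP hPH hCH hHN (isPBlock_blockOf ξ)
    refine ⟨blockOf M (ξ : H → ℂ), ?_⟩
    obtain ⟨-, hB'b, h⟩ := isInducedBlock_iff.1 hB'
    obtain ⟨χ', hχ'⟩ := IsPBlock.nonempty hB'b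
    have h1 := h ξ (mem_blockOf_self ξ) χ' hχ' _ he
    rw [omegaBar_resElt_eq_brauerMap hM hP hPH hHN ξ he, omegaBar_blockIdemBar hB] at h1
    have hmem : χ' ∈ B := by
      by_contra hn
      rw [if_neg hn] at h1
      exact hξ h1
    rw [IsPBlock.eq_of_mem hB hB'b hmem hχ']
    exact hB'

/-- The Brauer map at `P` kills the block idempotent exactly when `P` is not below a defect group. -/
theorem exists_coeff_ne_zero_centralizer_iff {B : Set (IrrCharacter G)} (hB : IsPBlock M B)
    {D : Subgroup G} (hD : IsDefectGroup p M B D) {P : Subgroup G} (hP : IsPGroup p P) :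
    (∃ g, (blockIdemBar M B).coeff g ≠ 0 ∧ g ∈ Subgroup.centralizer (P : Set G)) ↔
      SubConj P D := by
  constructor
  · rintro ⟨g, hg, hgP⟩
    exact (IsDefectGroup.defLE_of_coeff_ne_zero hM hB hD hg).subConj hP hgP
  · rintro ⟨x, hx⟩
    obtain ⟨g, hg, hle, -⟩ := isDefectGroup_iff.1 hD
    refine ⟨x⁻¹ * g * x, ?_, Subgroup.mem_centralizer_iff.2 fun a ha => ?_⟩
    · have := isCentralElt_blockIdemBar hB g x⁻¹
      rw [inv_inv] at this
      rw [this]
      exact IsDefectClass.coeff_ne_zero hB hg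
    · have h1 := (mem_centralizer_singleton.1 (hle (hx a ha))).map (MulAut.conj x⁻¹).toMonoidHom
      simpa [mul_assoc, Commute, SemiconjBy] using h1

/-- A block is induced from `H` exactly when a defect group contains a conjugate of `P`. -/
theorem exists_inducing_iff_subConj {P : Subgroup G} (hP : IsPGroup p P) (hPH : P ≤ H)
    (hCH : Subgroup.centralizer (P : Set G) ≤ H) (hHN : H ≤ Subgroup.normalizer (P : Set G))
    {B : Set (IrrCharacter G)} (hB : IsPBlock M B) {D : Subgroup G}
    (hD : IsDefectGroup p M B D) :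
    (∃ b : Set (IrrCharacter H), IsInducedBlock M H b B) ↔ SubConj P D := by
  classical
  rw [exists_inducing_iff_brauerMap_ne_zero hM hP hPH hCH hHN hB,
    ← exists_coeff_ne_zero_centralizer_iff hM hB hD hP]
  constructor
  · intro hne
    by_contra hcon
    push Not at hcon
    refine hne (MonoidAlgebra.ext (Finsupp.ext fun h => ?_))
    rw [coeff_brauerMap]
    split_ifs with hc
    · by_contra hz
      exact hcon _ hz hc
    · rfl
  · rintro ⟨g, hg, hgP⟩ h0
    have := congrArg (fun a : MonoidAlgebra (Res M) H => a.coeff ⟨g, hCH hgP⟩) h0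
    simp only [coeff_brauerMap, if_pos hgP, coeff_zero, Finsupp.coe_zero, Pi.zero_apply] at this
    exact hg this

end CfsgLib.Blocks
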