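import Cfsg.Agent.Lib.Blocks.DefectNumber
import Cfsg.Agent.Lib.Blocks.Induced

/-!
# Height zero characters and induced blocks

For a block `b` and a central element `a` supported on `p`-regular elements,
`∑ x, a (x⁻¹) * e_b x` divided by the least `p`-part of a degree in `b` reduces to a fixed
multiple of the central character of `a`.  Applied to the element with coefficients `χ x⁻¹` this
gives Blau's theorem on height zero constituents, Okuyama's criterion and Brauer's third main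
theorem.
-/

namespace CfsgLib.Blocks

open Cfsg MonoidAlgebra
open scoped ComplexConjugate

variable {K : Type*} [Group K] [Fintype K] {p : ℕ} [Fact p.Prime] {M : Ideal AlgInt} [M.IsPrime]

/-- The least exponent of `p` in a degree of a set of characters. -/
noncomputable def minExp (p : ℕ) (b : Set (IrrCharacter K)) : ℕ :=
  sInf ((fun χ : IrrCharacter K => (charDegree (χ : K → ℂ)).factorization p) '' b)

omit [Fintype K] [Fact p.Prime] in
theorem minExp_le {b : Set (IrrCharacter K)} {ξ : IrrCharacter K} (hξ : ξ ∈ b) :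
    minExp p b ≤ (charDegree (ξ : K → ℂ)).factorization p :=
  Nat.sInf_le ⟨ξ, hξ, rfl⟩

omit [Fintype K] [Fact p.Prime] in
theorem blockHeight_eq_zero_iff_minExp {b : Set (IrrCharacter K)} {ξ : IrrCharacter K} (hξ : ξ ∈ b) :
    blockHeight p b (ξ : K → ℂ) = 0 ↔ (charDegree (ξ : K → ℂ)).factorization p = minExp p b := by
  rw [blockHeight, ← minExp, Nat.sub_eq_zero_iff_le]
  exact ⟨fun h => le_antisymm h (minExp_le hξ), le_of_eq⟩

omit [Fintype K] [Fact p.Prime] in
theorem exists_height_zero {b : Set (IrrCharacter K)} (hb : b.Nonempty) :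
    ∃ ξ ∈ b, blockHeight p b (ξ : K → ℂ) = 0 := by
  obtain ⟨ξ, hξ, h⟩ := Nat.sInf_mem (hb.image
    fun χ : IrrCharacter K => (charDegree (χ : K → ℂ)).factorization p)
  exact ⟨ξ, hξ, (blockHeight_eq_zero_iff_minExp hξ).2 h⟩

omit [Fact p.Prime] [M.IsPrime] in
theorem exists_degree_eq_minExp_mul {b : Set (IrrCharacter K)} {ξ : IrrCharacter K} (hξ : ξ ∈ b) :
    ∃ n : ℕ, charDegree (ξ : K → ℂ) = p ^ minExp p b * n :=
  (pow_dvd_pow p (minExp_le hξ)).trans (Nat.ordProj_dvd _ _)

open scoped Classical in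
/-- The value at `1` of the block part of the function `h ↦ a h⁻¹`. -/
noncomputable def blockEval (b : Set (IrrCharacter K)) (a : K → ℂ) : ℂ :=
  ∑ x, a x * blockCoeff b x

variable (hM : IsPModular p M)
include hM

/-- The evaluation of a block on central elements with `p`-regular support. -/
theorem exists_blockEval_residue {b : Set (IrrCharacter K)} (hb : IsPBlock M b) {ξ : IrrCharacter K}
    (hξ : ξ ∈ b) :
    ∃ c : Res M, ∀ a : MonoidAlgebra (localRing M) K, IsCentralElt a →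
      (∀ x, p ∣ orderOf x → a.coeff x = 0) →
      ∃ z : localRing M, (z : ℂ) * (p : ℂ) ^ minExp p b = blockEval b (fun x => (a.coeff x⁻¹ : ℂ)) ∧
        resHom M z = c * omegaBar ξ (red M a) := by
  classical
  have := Fintype.ofFinite (IrrCharacter K)
  set A := (Set.toFinite b).toFinset with hA
  obtain ⟨S, d, hSA, hexp, hvan⟩ := exists_projective_decomposition hM A fun x y hx hy => by
    rw [hA, ← finsum_mem_eq_finite_toFinset_sum]
    exact sum_block_regular_singular hM hb hx hy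
  obtain ⟨r, hr, hrp⟩ := exists_factorization (p := p) (Nat.card_pos (α := K)).ne'
  have hq := fun φ (hφ : φ ∈ S) => sum_degree_div_mem hM A (fun χ => d χ φ) (hvan φ hφ)
  have hSb : ∀ φ ∈ S, φ ∈ b := fun φ hφ => by simpa [hA] using hSA hφ
  have hn : ∀ φ : IrrCharacter K, ∃ n : ℕ, φ ∈ b → charDegree (φ : K → ℂ) = p ^ minExp p b * n :=
    fun φ => by
      by_cases h : φ ∈ b
      · exact (exists_degree_eq_minExp_mul h).imp fun _ h' _ => h'
      · exact ⟨0, fun h' => absurd h' h⟩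
  choose n hn using hn
  let P : S → localRing M := fun φ =>
    ⟨(r : ℂ)⁻¹, inv_natCast_mem hM hrp⟩ * ⟨_, hq φ.1 φ.2⟩ * (n φ.1 : localRing M)
  refine ⟨∑ φ, resHom M (P φ), fun a ha hsupp => ?_⟩
  refine ⟨∑ φ : S, P φ * ⟨_, omega_inc_mem (M := M) φ.1 ha⟩, ?_, ?_⟩
  · rw [AddSubmonoidClass.coe_finsetSum, Finset.sum_mul, blockEval]
    have hterm : ∀ x : K, (a.coeff x⁻¹ : ℂ) * blockCoeff b x = ∑ φ ∈ S, (a.coeff x⁻¹ : ℂ) *
        ((r : ℂ)⁻¹ * (φ : K → ℂ) x⁻¹ * ((∑ χ ∈ A, (d χ φ : ℂ) * (χ : K → ℂ) 1) /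
          (p ^ (Nat.card K).factorization p : ℕ))) := by
      intro x
      by_cases hx : p ∣ orderOf x
      · simp [hsupp x⁻¹ (by rwa [orderOf_inv])]
      rw [blockCoeff, finsum_mem_eq_finite_toFinset_sum _ (Set.toFinite b), ← hA,
        Finset.sum_congr rfl fun χ _ => by rw [← Char.IsIrr.map_inv χ.2, mul_comm],
        hexp _ _ (by rwa [orderOf_inv]), Finset.mul_sum, Finset.mul_sum]
      refine Finset.sum_congr rfl fun φ _ => ?_
      rw [show (Nat.card K : ℂ)⁻¹ =
          ((p ^ (Nat.card K).factorization p : ℕ) : ℂ)⁻¹ * (r : ℂ)⁻¹ by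
        rw [← mul_inv, ← Nat.cast_mul, ← hr]]
      ring
    simp only [hterm]
    rw [Finset.sum_comm, ← Finset.sum_coe_sort S]
    refine Finset.sum_congr rfl fun φ _ => ?_
    have hd : ((φ : IrrCharacter K) : K → ℂ) 1 = (p : ℂ) ^ minExp p b * (n φ.1 : ℂ) := by
      rw [apply_one_eq_charDegree, hn _ (hSb _ φ.2), Nat.cast_mul, Nat.cast_pow]
    have hω : ∑ x : K, (a.coeff x⁻¹ : ℂ) * ((φ : IrrCharacter K) : K → ℂ) x⁻¹
        = omega ((φ : IrrCharacter K) : K → ℂ) (inc M a) * ((φ : IrrCharacter K) : K → ℂ) 1 := by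
      rw [omega_apply, div_mul_cancel₀ _ (Char.IsIrr.apply_one_ne_zero φ.1.2)]
      exact Fintype.sum_equiv (Equiv.inv K) _ _ fun x => by simp [coeff_inc]
    simp only [← mul_assoc, ← Finset.sum_mul, mul_right_comm _ ((r : ℂ)⁻¹), hω]
    simp only [P, Subring.coe_mul, hd]
    push_cast
    ring
  · rw [map_sum, Finset.sum_mul]
    refine Finset.sum_congr rfl fun φ _ => ?_
    rw [map_mul, omegaBar_congr (IsPBlock.sameBlock hb hξ (hSb _ φ.2)), omegaBar_red _ ha]

/-- The element with coefficient `θ x⁻¹` on the `p`-regular elements. -/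
noncomputable def regElt (θ : K → ℂ) (hθ : ∀ x, IsIntegral ℤ (θ x)) :
    MonoidAlgebra (localRing M) K :=
  ofFun fun x => if p ∣ orderOf x then 0 else ⟨θ x⁻¹, mem_localRing_of_isIntegral (hθ _)⟩

omit hM in
theorem coeff_regElt (θ : K → ℂ) (hθ : ∀ x, IsIntegral ℤ (θ x)) (x : K) :
    ((regElt (p := p) (M := M) θ hθ).coeff x : ℂ) = if p ∣ orderOf x then 0 else θ x⁻¹ := by
  rw [regElt, coeff_ofFun]
  split_ifs <;> rfl

omit hM in
theorem isCentralElt_regElt {θ : K → ℂ} (hc : IsClassFunction K θ) (hθ : ∀ x, IsIntegral ℤ (θ x)) :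
    IsCentralElt (regElt (p := p) (M := M) θ hθ) := by
  intro x h
  refine Subtype.ext ?_
  rw [coeff_regElt, coeff_regElt, show orderOf (h * x * h⁻¹) = orderOf x from
    MulEquiv.orderOf_eq (MulAut.conj h) x, show (h * x * h⁻¹)⁻¹ = h * x⁻¹ * h⁻¹ by group, hc]

/-- The block part of a character at `1`, as a multiple of the reduced central character. -/
theorem exists_blockEval_regElt {b : Set (IrrCharacter K)} (hb : IsPBlock M b) {ξ : IrrCharacter K}
    (hξ : ξ ∈ b) :
    ∃ c : Res M, ∀ θ : K → ℂ, IsClassFunction K θ → ∀ hθ : (∀ x, IsIntegral ℤ (θ x)),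
      ∃ z : localRing M, (z : ℂ) * (p : ℂ) ^ minExp p b =
          ∑ᶠ η ∈ b, classInner θ (η : K → ℂ) * (η : K → ℂ) 1 ∧
        resHom M z = c * omegaBar ξ (red M (regElt (p := p) θ hθ)) := by
  classical
  have := Fintype.ofFinite (IrrCharacter K)
  obtain ⟨c, hc⟩ := exists_blockEval_residue hM hb hξ
  refine ⟨c, fun θ hθc hθ => ?_⟩
  obtain ⟨z, hz, hres⟩ := hc _ (isCentralElt_regElt (p := p) hθc hθ) fun x hx =>
    Subtype.ext (by rw [coeff_regElt, if_pos hx]; rfl)
  refine ⟨z, hz.trans ?_, hres⟩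
  have hev : blockEval b (fun x => ((regElt (p := p) (M := M) θ hθ).coeff x⁻¹ : ℂ)) =
      ∑ x, θ x * blockCoeff b x := Finset.sum_congr rfl fun x _ => by
    dsimp only
    rw [coeff_regElt, inv_inv, orderOf_inv]
    split_ifs with hx
    · rw [blockCoeff, finsum_mem_eq_finite_toFinset_sum _ (Set.toFinite b)]
      rw [Finset.sum_congr rfl fun χ _ => by rw [← Char.IsIrr.map_inv χ.2],
        ← finsum_mem_eq_finite_toFinset_sum (fun χ : IrrCharacter K => (χ : K → ℂ) 1 * (χ : K → ℂ) x⁻¹)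
          (Set.toFinite b), sum_block_regular_singular hM hb (by simp [hM.1.ne_one])
          (by rwa [orderOf_inv])]
      simp
    · rfl
  rw [hev, finsum_mem_eq_finite_toFinset_sum _ (Set.toFinite b)]
  simp only [blockCoeff, finsum_mem_eq_finite_toFinset_sum _ (Set.toFinite b), Finset.mul_sum]
  rw [Finset.sum_comm]
  refine Finset.sum_congr rfl fun η _ => ?_
  rw [classInner, Finset.mul_sum, Finset.sum_mul]
  exact Finset.sum_congr rfl fun x _ => by ring

omit hM in
theorem finsum_classInner_irr {b : Set (IrrCharacter K)} {ξ : IrrCharacter K} (hξ : ξ ∈ b) :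
    ∑ᶠ η ∈ b, classInner (ξ : K → ℂ) (η : K → ℂ) * (η : K → ℂ) 1 = (ξ : K → ℂ) 1 := by
  classical
  rw [finsum_mem_eq_finite_toFinset_sum _ (Set.toFinite b), Finset.sum_eq_single ξ]
  · rw [Char.classInner_irr_self, one_mul]
  · intro η _ hne
    rw [Char.classInner_irr_of_ne hne.symm, zero_mul]
  · exact fun h => absurd ((Set.Finite.mem_toFinset _).2 hξ) h

/-- A height zero degree divided by the least `p`-part is a unit. -/
theorem residue_ne_zero_of_height_zero {b : Set (IrrCharacter K)} {ξ : IrrCharacter K} (hξ : ξ ∈ b)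
    (h0 : blockHeight p b (ξ : K → ℂ) = 0) {z : localRing M}
    (hz : (z : ℂ) * (p : ℂ) ^ minExp p b = (ξ : K → ℂ) 1) : resHom M z ≠ 0 := by
  obtain ⟨r, hr, hrp⟩ := exists_factorization (p := p) (charDegree_pos ξ).ne'
  rw [(blockHeight_eq_zero_iff_minExp hξ).1 h0] at hr
  have : z = (r : localRing M) := by
    refine Subtype.ext (mul_right_cancel₀
      (pow_ne_zero (minExp p b) (Nat.cast_ne_zero.2 hM.1.ne_zero : (p : ℂ) ≠ 0)) ?_)
    rw [hz, apply_one_eq_charDegree, hr]
    push_cast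
    ring
  subst this
  exact ((isUnit_natCast_iff hM).2 hrp).map (resHom M) |>.ne_zero

theorem omegaBar_regElt_ne_zero {b : Set (IrrCharacter K)} (hb : IsPBlock M b) {ξ : IrrCharacter K}
    (hξ : ξ ∈ b) (h0 : blockHeight p b (ξ : K → ℂ) = 0) :
    omegaBar ξ (red M (regElt (p := p) (ξ : K → ℂ)
      (Char.IsChar.isIntegral (Char.IsIrr.isCharacter ξ.2)))) ≠ 0 := by
  obtain ⟨c, hc⟩ := exists_blockEval_regElt hM hb hξ
  obtain ⟨z, hz, hres⟩ := hc _ (Char.IsIrr.isClassFunction ξ.2)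
    (Char.IsChar.isIntegral (Char.IsIrr.isCharacter ξ.2))
  rw [finsum_classInner_irr hξ] at hz
  exact right_ne_zero_of_mul (hres ▸ residue_ne_zero_of_height_zero hM hξ h0 hz)

theorem omegaBar_regElt_eq_zero {χ η : IrrCharacter K}
    (h : ¬ SameBlock M (η : K → ℂ) (χ : K → ℂ)) :
    omegaBar η (red M (regElt (p := p) (χ : K → ℂ)
      (Char.IsChar.isIntegral (Char.IsIrr.isCharacter χ.2)))) = 0 := by
  classical
  have hc := isCentralElt_regElt (p := p) (M := M) (Char.IsIrr.isClassFunction χ.2)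
    (Char.IsChar.isIntegral (Char.IsIrr.isCharacter χ.2))
  rw [omegaBar_red η hc, residue_eq_zero_iff.2]
  show MemLocalIdeal M (omega (η : K → ℂ) _)
  rw [omega_apply]
  simp only [coeff_inc, coeff_regElt, ite_mul, zero_mul]
  rw [Finset.sum_ite, Finset.sum_const_zero, zero_add,
    Finset.sum_congr rfl (fun x _ => mul_comm ((χ : K → ℂ) x⁻¹) ((η : K → ℂ) x)),
    sum_regular_eq_zero hM h, zero_div]
  exact ⟨0, 1, M.zero_mem, one_notMem, by simp⟩

omit hM

variable {G : Type*} [Group G] [Fintype G] {H : Subgroup G} [Fintype H]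

theorem resElt_red_regElt (χ : G → ℂ) (hθ : ∀ x, IsIntegral ℤ (χ x)) :
    resElt H (red M (regElt (p := p) χ hθ)) =
      red M (regElt (p := p) (fun h : H => χ h) fun h => hθ h) := by
  refine MonoidAlgebra.ext (Finsupp.ext fun h => ?_)
  rw [coeff_resElt, coeff_red, coeff_red]
  congr 1
  refine Subtype.ext ?_
  rw [coeff_regElt, coeff_regElt, Subgroup.orderOf_coe]
  rfl

include hM

/-- The block part at `1` of a restricted character, for a block `b` inducing `B`. -/
theorem IsInducedBlock.exists_blockEval {b : Set (IrrCharacter H)} {B : Set (IrrCharacter G)}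
    (hind : IsInducedBlock M H b B) {η : IrrCharacter G} (hη : η ∈ B) :
    ∃ c : Res M, c ≠ 0 ∧ ∀ χ : IrrCharacter G, ∃ z : localRing M,
      (z : ℂ) * (p : ℂ) ^ minExp p b =
        ∑ᶠ ξ ∈ b, classInner (fun h : H => (χ : G → ℂ) h) (ξ : H → ℂ) * (ξ : H → ℂ) 1 ∧
      resHom M z = c * omegaBar η (red M (regElt (p := p) (χ : G → ℂ)
        (Char.IsChar.isIntegral (Char.IsIrr.isCharacter χ.2)))) := by
  classical
  obtain ⟨hb, -, h⟩ := isInducedBlock_iff.1 hind
  obtain ⟨ξ, hξ, hξ0⟩ := exists_height_zero (p := p) (IsPBlock.nonempty hb)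
  obtain ⟨c, hc⟩ := exists_blockEval_regElt hM hb hξ
  refine ⟨c, fun e => ?_, fun χ => ?_⟩
  · obtain ⟨z, hz, hres⟩ := hc _ (Char.IsIrr.isClassFunction ξ.2)
      (Char.IsChar.isIntegral (Char.IsIrr.isCharacter ξ.2))
    rw [finsum_classInner_irr hξ] at hz
    exact residue_ne_zero_of_height_zero hM hξ hξ0 hz (by rw [hres, e, zero_mul])
  · obtain ⟨z, hz, hres⟩ := hc _ (Char.IsChar.isClassFunction
      (Char.IsChar.restrict H (Char.IsIrr.isCharacter χ.2)))
      (fun x => Char.IsChar.isIntegral (Char.IsIrr.isCharacter χ.2) (x : G))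
    refine ⟨z, hz, ?_⟩
    rw [hres, ← resElt_red_regElt, h ξ hξ η hη _
      (isCentralElt_red (isCentralElt_regElt (Char.IsIrr.isClassFunction χ.2) _))]

/-- **Blau's theorem**: a height zero character of `b^G` has a height zero constituent in `b` of
multiplicity prime to `p`. -/
theorem exists_height_zero_constituent {b : Set (IrrCharacter H)} {B : Set (IrrCharacter G)}
    (hind : IsInducedBlock M H b B) {χ : IrrCharacter G} (hχ : χ ∈ B)
    (h0 : blockHeight p B (χ : G → ℂ) = 0) :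
    ∃ ξ ∈ b, blockHeight p b (ξ : H → ℂ) = 0 ∧ ∃ n : ℕ,
      classInner (fun h : H => (χ : G → ℂ) h) (ξ : H → ℂ) = (n : ℂ) ∧ ¬ p ∣ n := by
  classical
  obtain ⟨c, hc0, hc⟩ := IsInducedBlock.exists_blockEval hM hind hχ
  obtain ⟨z, hz, hres⟩ := hc χ
  have hne : resHom M z ≠ 0 := by
    rw [hres]
    exact mul_ne_zero hc0 (omegaBar_regElt_ne_zero hM hind.2.1 hχ h0)
  have hm : ∀ ξ : IrrCharacter H, ∃ n : ℕ,
      classInner (fun h : H => (χ : G → ℂ) h) (ξ : H → ℂ) = (n : ℂ) := fun ξ =>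
    Char.IsChar.classInner_eq_natCast (Char.IsChar.restrict H (Char.IsIrr.isCharacter χ.2))
      (Char.IsIrr.isCharacter ξ.2)
  choose m hm using hm
  by_contra hcon
  push Not at hcon
  have hdeg : ∀ ξ : IrrCharacter H, ∃ n : ℕ, ξ ∈ b →
      m ξ * charDegree (ξ : H → ℂ) = p ^ minExp p b * (p * n) := fun ξ => by
    by_cases hξ : ξ ∈ b
    · by_cases hh : blockHeight p b (ξ : H → ℂ) = 0
      · obtain ⟨k, hk⟩ := hcon ξ hξ hh (m ξ) (hm ξ)
        obtain ⟨n, hn⟩ := exists_degree_eq_minExp_mul (p := p) hξ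
        exact ⟨k * n, fun _ => by rw [hk, hn]; ring⟩
      · obtain ⟨n, hn⟩ : p ^ (minExp p b + 1) ∣ charDegree (ξ : H → ℂ) :=
          (pow_dvd_pow p (lt_of_le_of_ne (minExp_le hξ)
            fun e => hh ((blockHeight_eq_zero_iff_minExp hξ).2 e.symm))).trans (Nat.ordProj_dvd _ _)
        exact ⟨m ξ * n, fun _ => by rw [hn]; ring⟩
    · exact ⟨0, fun h => absurd h hξ⟩
  choose n hn using hdeg
  refine hne ?_
  have hzeq : z = ((p * ∑ ξ ∈ (Set.toFinite b).toFinset, n ξ : ℕ) : localRing M) := by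
    refine Subtype.ext (mul_right_cancel₀
      (pow_ne_zero (minExp p b) (Nat.cast_ne_zero.2 hM.1.ne_zero : (p : ℂ) ≠ 0)) ?_)
    rw [hz, finsum_mem_eq_finite_toFinset_sum _ (Set.toFinite b)]
    push_cast
    rw [Finset.mul_sum, Finset.sum_mul]
    refine Finset.sum_congr rfl fun ξ hξ => ?_
    rw [hm, apply_one_eq_charDegree, ← Nat.cast_mul, hn ξ ((Set.Finite.mem_toFinset _).1 hξ)]
    push_cast
    ring
  have := charP_residueField hM
  rw [hzeq, map_natCast, Nat.cast_mul, CharP.cast_eq_zero, zero_mul]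

/-- **Okuyama's criterion**: if `χ` and its restriction `ψ` have height zero, the blocks inducing
the block of `χ` are just the block of `ψ`. -/
theorem isInducedBlock_iff_of_height_zero {χ : IrrCharacter G}
    (hres : IsIrrCharacter H fun h : H => (χ : G → ℂ) h)
    (hχ0 : blockHeight p (blockOf M (χ : G → ℂ)) (χ : G → ℂ) = 0)
    (hψ0 : blockHeight p (blockOf M fun h : H => (χ : G → ℂ) h) (fun h : H => (χ : G → ℂ) h) = 0)
    {e : Set (IrrCharacter H)} (he : InducedBlockDefined M H e) :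
    IsInducedBlock M H e (blockOf M (χ : G → ℂ)) ↔ e = blockOf M fun h : H => (χ : G → ℂ) h := by
  classical
  set ψ : IrrCharacter H := ⟨_, hres⟩
  have hψb : ψ ∈ blockOf M (ψ : H → ℂ) := mem_blockOf_self ψ
  have hm : ∀ ξ : IrrCharacter H,
      classInner (fun h : H => (χ : G → ℂ) h) (ξ : H → ℂ) ≠ 0 → ξ = ψ := fun ξ hne => by
    by_contra h
    exact hne (Char.classInner_irr_of_ne (χ := ψ) (Ne.symm h))
  constructor
  · intro hind
    obtain ⟨ξ, hξ, -, n, hn, hnp⟩ :=
      exists_height_zero_constituent hM hind (mem_blockOf_self χ) hχ0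
    obtain rfl := hm ξ (by rw [hn, Nat.cast_ne_zero]; rintro rfl; exact hnp (dvd_zero p))
    exact IsPBlock.eq_of_mem hind.1 (isPBlock_blockOf ψ) hξ hψb
  · rintro rfl
    obtain ⟨B, hB⟩ := he
    obtain ⟨η, hη⟩ := IsPBlock.nonempty hB.2.1
    obtain ⟨c, -, hc⟩ := IsInducedBlock.exists_blockEval hM hB hη
    obtain ⟨z, hz, hres'⟩ := hc χ
    rw [show (fun h : H => (χ : G → ℂ) h) = (ψ : H → ℂ) from rfl,
      finsum_classInner_irr hψb] at hz
    have hne := residue_ne_zero_of_height_zero hM hψb hψ0 hz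
    have hsame : SameBlock M (η : G → ℂ) (χ : G → ℂ) := by
      by_contra h
      exact hne (by rw [hres', omegaBar_regElt_eq_zero hM h, mul_zero])
    rwa [IsPBlock.eq_blockOf hB.2.1 (χ := χ) (by
      rw [IsPBlock.eq_blockOf hB.2.1 hη]; exact hsame)] at hB

end CfsgLib.Blocks
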