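import Cfsg.Agent.Lib.Char.DefectZero
import Cfsg.Agent.Lib.Char.Brauer
import Cfsg.Agent.Lib.Blocks.HeightZero

/-!
# Multiples of the cut-off to `p`-regular elements, and characters of central defect

If `p ^ n` divides `χ 1` and `p ^ (n + j)` is the `p`-part of the group order, then `p ^ j` times the
cut-off of `χ` to the `p`-regular elements is a generalized character.  The restriction step follows
`Lib.Char.DefectZero`, which is the case `j = 0`.
-/

namespace CfsgLib.Blocks

open CfsgLib.Char Cfsg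
open scoped ComplexConjugate
open Module

variable {G : Type*} [Group G]

theorem isGen_regCut_restrict [Finite G] {V : Type*} [AddCommGroup V] [Module ℂ V]
    [FiniteDimensional ℂ V] (ρ : Representation ℂ G V) [ρ.IsIrreducible] {p n : ℕ} (hp : p.Prime)
    {j M : ℕ} (hM : Nat.card G = p ^ (n + j) * M) (hMp : ¬ p ∣ M)
    (hdeg : p ^ n ∣ finrank ℂ V) (E : Subgroup G) (hE : Group.IsNilpotent E) :
    Cfsg.IsGeneralizedCharacter E (fun e : E => (p : ℂ) ^ j * regCut p ρ.character e) := by
  classical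
  have : Fact p.Prime := ⟨hp⟩
  have := Fintype.ofFinite G
  have := Fintype.ofFinite (Cfsg.IrrCharacter E)
  obtain ⟨d', hd'⟩ := hdeg
  have hd0 : (finrank ℂ V : ℂ) ≠ 0 := Nat.cast_ne_zero.mpr (finrank_pos_of_irreducible ρ).ne'
  let P : Sylow p E := default
  have : (P : Subgroup E).Normal := Sylow.normal_of_normalizerCondition
    (Group.normalizerCondition_of_isNilpotent (G := E)) P
  obtain ⟨Q, hQ⟩ := Subgroup.exists_right_complement'_of_coprime
    (N := (P : Subgroup E)) P.card_coprime_index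
  have hcardQ : Nat.card Q = (P : Subgroup E).index := by
    have h1 := hQ.card_mul
    rw [← (P : Subgroup E).card_mul_index] at h1
    exact Nat.eq_of_mul_eq_mul_left Nat.card_pos h1
  have hpQ : ¬ p ∣ Nat.card Q := hcardQ ▸ P.not_dvd_index
  obtain ⟨a, ha⟩ := IsPGroup.iff_card.mp P.isPGroup'
  have hcomm : ∀ x ∈ (P : Subgroup E), ∀ y : E, ¬ p ∣ orderOf y → Commute x y := by
    intro x hx y hy
    refine CfsgLib.OddLocal.commute_of_coprime_orderOf hE ?_
    have h1 : orderOf x ∣ p ^ a := ha ▸ Subgroup.orderOf_dvd_natCard _ hx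
    exact Nat.Coprime.coprime_dvd_left h1
      (Nat.Coprime.pow_left _ ((Nat.Prime.coprime_iff_not_dvd hp).mpr hy))
  have hQreg : ∀ y ∈ Q, ¬ p ∣ orderOf y := fun y hy hd =>
    hpQ (hd.trans (Subgroup.orderOf_dvd_natCard _ hy))
  have hregQ : ∀ y : E, ¬ p ∣ orderOf y → y ∈ Q := by
    intro y hy
    obtain ⟨⟨u, v⟩, huv⟩ := hQ.2 y
    simp only at huv
    have hc : Commute (u : E) (v : E) := hcomm u u.2 v (hQreg v v.2)
    have h1 : (u : E) ^ orderOf y * (v : E) ^ orderOf y = 1 := by
      rw [← hc.mul_pow, huv, pow_orderOf_eq_one]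
    have h2 : (u : E) ^ orderOf y = 1 := by
      have hmem : (u : E) ^ orderOf y ∈ (P : Subgroup E) ⊓ Q := by
        refine ⟨pow_mem u.2 _, ?_⟩
        show (u : E) ^ orderOf y ∈ Q
        rw [eq_inv_of_mul_eq_one_left h1]
        exact inv_mem (pow_mem v.2 _)
      rwa [disjoint_iff.mp hQ.disjoint, Subgroup.mem_bot] at hmem
    have h3 : orderOf (u : E) ∣ p ^ a := ha ▸ Subgroup.orderOf_dvd_natCard _ u.2
    have h4 : orderOf (u : E) = 1 := Nat.eq_one_of_dvd_coprimes
      (Nat.Coprime.pow_left a ((Nat.Prime.coprime_iff_not_dvd hp).mpr hy)) h3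
      (orderOf_dvd_of_pow_eq_one h2)
    rw [orderOf_eq_one_iff] at h4
    rw [← huv, h4, one_mul]
    exact v.2
  have hcardE : Nat.card E = Nat.card (P : Subgroup E) * Nat.card Q := hQ.card_mul.symm
  -- the values divided by the order of `P` are integral up to the p'-part of the group order
  have hval : ∀ y : Q, IsIntegral ℤ
      ((p : ℂ) ^ j * M * ρ.character ((y : E) : G) / (Nat.card (P : Subgroup E) : ℂ)) := by
    intro y
    set z : G := ((y : E) : G)
    obtain ⟨c, hc⟩ : Nat.card (P : Subgroup E) ∣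
        Nat.card (Subgroup.centralizer ({z} : Set G)) := by
      have hle : (P : Subgroup E).map E.subtype ≤ Subgroup.centralizer ({z} : Set G) := by
        rintro _ ⟨x, hx, rfl⟩
        rw [Subgroup.mem_centralizer_singleton_iff]
        exact congrArg Subtype.val (hcomm x hx y (hQreg y y.2)).eq
      have h1 := Subgroup.card_dvd_of_le hle
      rwa [Subgroup.card_map_of_injective E.subtype_injective] at h1
    have hint := (CfsgLib.CharIntegral.isIntegral_central ρ z).mul
      ((isIntegral_natCast (R := ℤ) (d' * c)) : IsIntegral ℤ ((d' * c : ℕ) : ℂ))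
    have hKc : ((Subgroup.centralizer ({z} : Set G)).index : ℂ) *
        ((Nat.card (P : Subgroup E) : ℂ) * c) = (p : ℂ) ^ n * ((p : ℂ) ^ j * M) := by
      have h1 := (Subgroup.centralizer ({z} : Set G)).index_mul_card
      rw [hc, hM, pow_add, mul_assoc (p ^ n)] at h1
      exact_mod_cast h1
    have hP0 : (Nat.card (P : Subgroup E) : ℂ) ≠ 0 := Nat.cast_ne_zero.mpr Nat.card_pos.ne'
    have hd'' : (finrank ℂ V : ℂ) = (p : ℂ) ^ n * d' := by exact_mod_cast hd'
    have heq : (p : ℂ) ^ j * M * ρ.character z / (Nat.card (P : Subgroup E) : ℂ) =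
        ((Subgroup.centralizer ({z} : Set G)).index : ℂ) * ρ.character z / (finrank ℂ V : ℂ) *
          ((d' * c : ℕ) : ℂ) := by
      rw [hd''] at hd0 ⊢
      push_cast
      rw [div_mul_eq_mul_div, div_eq_div_iff hP0 hd0]
      linear_combination (-(d' : ℂ) * ρ.character z) * hKc
    exact heq ▸ hint
  have hcoef : ∀ μ : Cfsg.IrrCharacter E, ∃ m : ℕ,
      (p : ℂ) ^ j * Cfsg.classInner (fun e : E => regCut p ρ.character e) (μ : E → ℂ) = m := by
    intro μ
    have hres : Cfsg.IsCharacter Q (fun y : Q => ρ.character ((y : E) : G)) :=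
      IsChar.restrict Q (IsChar.restrict E (isCharacter_rep ρ))
    obtain ⟨m, hm⟩ := IsChar.classInner_eq_natCast hres
      (IsChar.restrict Q (IsIrr.isCharacter μ.2))
    have hQ0 : (Nat.card Q : ℂ) ≠ 0 := Nat.cast_ne_zero.mpr Nat.card_pos.ne'
    have hP0 : (Nat.card (P : Subgroup E) : ℂ) ≠ 0 := Nat.cast_ne_zero.mpr Nat.card_pos.ne'
    have hsum : ∑ y : Q, ρ.character ((y : E) : G) * conj ((μ : E → ℂ) (y : E)) =
        (Nat.card Q : ℂ) * m := by
      rw [← hm, Cfsg.classInner, mul_inv_cancel_left₀ hQ0]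
    have hinner : Cfsg.classInner (fun e : E => regCut p ρ.character e) (μ : E → ℂ) =
        (m : ℂ) / (Nat.card (P : Subgroup E) : ℂ) := by
      have h1 : ∀ e : E, regCut p ρ.character (e : G) =
          Cfsg.extendByZero Q (fun y : Q => ρ.character ((y : E) : G)) e := by
        intro e
        simp only [regCut, Subgroup.orderOf_coe]
        by_cases he : p ∣ orderOf e
        · rw [if_pos he, extendByZero_of_notMem _ _ fun hq => hQreg e hq he]
        · rw [if_neg he, extendByZero_of_mem _ _ (hregQ e he)]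
      simp only [Cfsg.classInner, h1]
      rw [sum_extendByZero_mul Q (fun y : Q => ρ.character ((y : E) : G))
        (fun e => conj ((μ : E → ℂ) e)), hsum, hcardE, Nat.cast_mul]
      field_simp
    have hdvd : Nat.card (P : Subgroup E) ∣ M * Nat.card Q * (p ^ j * m) := by
      refine CfsgLib.CharIntegral.dvd_of_isIntegral_div Nat.card_pos.ne' ?_
      have h1 : ((M * Nat.card Q * (p ^ j * m) : ℕ) : ℂ) / (Nat.card (P : Subgroup E) : ℂ) =
          ∑ y : Q, ((p : ℂ) ^ j * M * ρ.character ((y : E) : G) / (Nat.card (P : Subgroup E) : ℂ)) *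
            conj ((μ : E → ℂ) (y : E)) := by
        rw [show ((M * Nat.card Q * (p ^ j * m) : ℕ) : ℂ) =
          (p : ℂ) ^ j * M * ((Nat.card Q : ℂ) * m) by push_cast; ring, ← hsum, Finset.mul_sum,
          Finset.sum_div]
        exact Finset.sum_congr rfl fun y _ => by ring
      rw [h1]
      refine IsIntegral.sum _ fun y _ => (hval y).mul ?_
      rw [← IsIrr.map_inv μ.2]
      exact IsChar.isIntegral (IsIrr.isCharacter μ.2) _
    have hcop : Nat.Coprime (Nat.card (P : Subgroup E)) (M * Nat.card Q) := by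
      rw [ha]
      exact Nat.Coprime.pow_left _ (Nat.Coprime.mul_right
        ((Nat.Prime.coprime_iff_not_dvd hp).mpr hMp)
        ((Nat.Prime.coprime_iff_not_dvd hp).mpr hpQ))
    obtain ⟨k, hk⟩ := hcop.dvd_of_dvd_mul_left hdvd
    refine ⟨k, ?_⟩
    have hk' : (p : ℂ) ^ j * (m : ℂ) = (Nat.card (P : Subgroup E) : ℂ) * (k : ℂ) := by
      exact_mod_cast hk
    rw [hinner, ← mul_div_assoc, hk', mul_div_cancel_left₀ _ hP0]
  choose m hm using hcoef
  have hcf : Cfsg.IsClassFunction E (fun e : E => regCut p ρ.character e) := by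
    intro g x
    show regCut p ρ.character ((x * g * x⁻¹ : E) : G) = regCut p ρ.character (g : G)
    simp only [regCut, Subgroup.coe_mul, Subgroup.coe_inv, Representation.char_conj]
    rw [show orderOf ((x : G) * g * (x : G)⁻¹) = orderOf (g : G) from
      orderOf_injective (MulAut.conj (x : G)).toMonoidHom (MulAut.conj (x : G)).injective (g : G)]
  refine IsGen.of_isCharacter ?_
  have heq : (fun e : E => (p : ℂ) ^ j * regCut p ρ.character e) =
      ∑ μ : Cfsg.IrrCharacter E, (m μ : ℂ) • (μ : E → ℂ) := by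
    funext e
    rw [classFunction_apply_eq_sum hcf e, Finset.mul_sum, Finset.sum_apply]
    exact Finset.sum_congr rfl fun μ _ => by rw [← mul_assoc, hm, Pi.smul_apply, smul_eq_mul]
  rw [heq]
  exact isCharacter_natCast_sum m


section Cut

variable [Fintype G] {p : ℕ} (hp : p.Prime)
include hp

/-- `p ^ j` times the cut-off of `χ` to the `p`-regular elements is a generalized character. -/
theorem isGen_regCut (χ : IrrCharacter G) {n j : ℕ}
    (hG : (Nat.card G).factorization p = n + j) (hdeg : p ^ n ∣ charDegree (χ : G → ℂ)) :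
    IsGeneralizedCharacter G (fun g => (p : ℂ) ^ j * regCut p (χ : G → ℂ) g) := by
  obtain ⟨χ, d, ρ, hρ, rfl⟩ := χ
  refine CfsgLib.Brauer.isGeneralizedCharacter_of_elementary (fun g y => ?_) fun E q hq hE => ?_
  · show (p : ℂ) ^ j * regCut p ρ.character (y * g * y⁻¹) = _
    simp only [regCut, Representation.char_conj]
    rw [show orderOf (y * g * y⁻¹) = orderOf g from
      orderOf_injective (MulAut.conj y).toMonoidHom (MulAut.conj y).injective g]
  · refine isGen_regCut_restrict ρ hp (n := n) (M := Nat.card G / p ^ (Nat.card G).factorization p) ?_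
      (Nat.not_dvd_ordCompl hp Nat.card_pos.ne') ?_ E
      (CfsgLib.Brauer.isNilpotent_of_isElementary hq hE)
    · rw [← hG]; exact (Nat.ordProj_mul_ordCompl_eq_self _ p).symm
    · have h1 : charDegree ρ.character = finrank ℂ _ :=
        charDegree_eq (χ := ⟨_, d, ρ, hρ, rfl⟩) ρ.char_one
      rwa [← h1]

end Cut

/-- A central element acts as a scalar. -/
theorem apply_mul_of_mem_center [Fintype G] (χ : IrrCharacter G) {d : G}
    (hd : d ∈ Subgroup.center G) (y : G) :
    ‖(χ : G → ℂ) (d * y)‖ = ‖(χ : G → ℂ) y‖ := by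
  have h1 := Char.IsIrr.apply_one_ne_zero χ.2
  have key : ∀ w : G, (χ : G → ℂ) (d * w) * (χ : G → ℂ) 1 = (χ : G → ℂ) d * (χ : G → ℂ) w := by
    intro w
    have h := sum_char_mul_conj χ d w
    have hc : ∀ x : G, (χ : G → ℂ) (d * (x * w * x⁻¹)) = (χ : G → ℂ) (d * w) := fun x => by
      rw [show d * (x * w * x⁻¹) = x * (d * w) * x⁻¹ by
        rw [← mul_assoc x d w, Subgroup.mem_center_iff.1 hd x]; group]
      exact Char.IsIrr.isClassFunction χ.2 _ _
    rw [Finset.sum_congr rfl fun x _ => hc x, Finset.sum_const, Finset.card_univ, nsmul_eq_mul,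
      ← Nat.card_eq_fintype_card, eq_div_iff h1, mul_assoc, mul_assoc] at h
    exact mul_left_cancel₀ (Nat.cast_ne_zero.2 Nat.card_pos.ne') h
  have hn1 : ‖(χ : G → ℂ) 1‖ ≠ 0 := norm_ne_zero_iff.2 h1
  have hdd : ‖(χ : G → ℂ) d‖ = ‖(χ : G → ℂ) 1‖ := by
    have h2 := congrArg norm (key d⁻¹)
    rw [mul_inv_cancel, Char.IsIrr.map_inv χ.2, norm_mul, norm_mul, RCLike.norm_conj] at h2
    exact (mul_self_inj (norm_nonneg _) (norm_nonneg _)).1 h2.symm
  have h3 := congrArg norm (key y)
  rw [norm_mul, norm_mul, hdd, mul_comm] at h3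
  exact mul_left_cancel₀ hn1 h3

section CentralDefect

variable [Fintype G] {p : ℕ} [Fact p.Prime] {D : Subgroup G} (hD : IsPGroup p D)
  (hDZ : D ≤ Subgroup.center G) {χ : IrrCharacter G}
  (hdeg : (charDegree (χ : G → ℂ)).factorization p = D.index.factorization p)
include hD hDZ hdeg

open scoped Classical in
theorem sum_sq_regular_of_central_defect :
    (Nat.card D : ℝ) * ∑ y ∈ Finset.univ.filter (fun y : G => ¬ p ∣ orderOf y),
        ‖(χ : G → ℂ) y‖ ^ 2 = Nat.card G ∧
      ∀ g x : G, IsPPart p g x → x ∉ D → (χ : G → ℂ) g = 0 := by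
  classical
  have hp : p.Prime := Fact.out
  obtain ⟨j, hj⟩ := IsPGroup.iff_card.1 hD
  have hG : (Nat.card G).factorization p = D.index.factorization p + j := by
    rw [← D.index_mul_card, hj, Nat.factorization_mul Subgroup.index_ne_zero_of_finite
      (pow_ne_zero _ hp.ne_zero), Finsupp.add_apply, hp.factorization_pow, Finsupp.single_eq_same]
  have hgen := isGen_regCut hp χ hG (hdeg ▸ Nat.ordProj_dvd _ _)
  obtain ⟨t, ht⟩ := IsGen.exists_classInner_eq_intCast hgen (IsGen.of_irr χ.2)
  set R := Finset.univ.filter (fun y : G => ¬ p ∣ orderOf y)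
  set s := ∑ y ∈ R, ‖(χ : G → ℂ) y‖ ^ 2 with hs
  have hts : (Nat.card D : ℝ) * s = (t : ℝ) * Nat.card G := by
    have h0 : (Nat.card G : ℂ) ≠ 0 := Nat.cast_ne_zero.2 Nat.card_pos.ne'
    have h : ((p : ℂ) ^ j) * ((s : ℝ) : ℂ) = (t : ℂ) * (Nat.card G : ℂ) := by
      rw [← ht, classInner, hs, Finset.sum_filter, Complex.ofReal_sum, mul_comm (_ * _),
        ← mul_assoc, mul_inv_cancel₀ h0, one_mul, Finset.mul_sum]
      refine Finset.sum_congr rfl fun y _ => ?_
      simp only [regCut]
      split_ifs <;> simp [mul_assoc, Complex.mul_conj']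
    rw [hj]
    exact_mod_cast h
  let f : D × {y : G // ¬ p ∣ orderOf y} → G := fun z => (z.1 : G) * (z.2 : G)
  have hpart : ∀ z, IsPPart p (f z) (z.1 : G) := fun z =>
    ⟨z.2, rfl, (Subgroup.mem_center_iff.1 (hDZ z.1.2) z.2).symm, by
      obtain ⟨k, hk⟩ := IsPGroup.iff_orderOf.1 hD z.1
      exact ⟨k, by rw [Subgroup.orderOf_coe, hk]⟩, z.2.2⟩
  have huniq : ∀ g u v : G, IsPPart p g u → IsPPart p g v → u = v := fun g u v h h' => by
    have := conj_pPart_eq hp h h' (x := 1) (j := 1) (by simpa using hp.ne_one) (by simp)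
    simpa using this
  have hinj : Function.Injective f := fun a b h => by
    have h1 : (a.1 : G) = b.1 := huniq (f b) _ _ (h ▸ hpart a) (hpart b)
    exact Prod.ext (Subtype.ext h1) (Subtype.ext (mul_left_cancel (a := (a.1 : G))
      (h.trans (show _ = _ by rw [h1]))))
  have himg : ∑ g ∈ Finset.univ.image f, ‖(χ : G → ℂ) g‖ ^ 2 = (Nat.card D : ℝ) * s := by
    rw [Finset.sum_image hinj.injOn, Fintype.sum_prod_type]
    simp only [f, apply_mul_of_mem_center χ (hDZ (Subtype.coe_prop _)), Finset.sum_const,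
      Finset.card_univ, nsmul_eq_mul, Nat.card_eq_fintype_card]
    rw [hs]
    congr 1
    exact (Finset.sum_subtype R (by simp [R]) (fun y => ‖(χ : G → ℂ) y‖ ^ 2)).symm
  have hall : ∑ g, ‖(χ : G → ℂ) g‖ ^ 2 = (Nat.card G : ℝ) := by
    have h := Char.classInner_irr_self χ
    rw [classInner, inv_mul_eq_iff_eq_mul₀ (Nat.cast_ne_zero.2 Nat.card_pos.ne'), mul_one] at h
    simp only [Complex.mul_conj'] at h
    exact_mod_cast h
  have hspos : 0 < s := by
    refine Finset.sum_pos' (fun _ _ => by positivity) ⟨1, by simp [R, hp.ne_one], ?_⟩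
    rw [apply_one_eq_charDegree, Complex.norm_natCast]
    exact pow_pos (Nat.cast_pos.2 (charDegree_pos χ)) 2
  have hN : (0 : ℝ) < Nat.card G := Nat.cast_pos.2 Nat.card_pos
  have ht1 : t = 1 := by
    have hle : (Nat.card D : ℝ) * s ≤ Nat.card G := by
      rw [← himg, ← hall]
      exact Finset.sum_le_sum_of_subset_of_nonneg (Finset.subset_univ _)
        fun _ _ _ => by positivity
    have hpos : (0 : ℝ) < (Nat.card D : ℝ) * s := mul_pos (Nat.cast_pos.2 Nat.card_pos) hspos
    rw [hts] at hle hpos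
    have h2 : (0 : ℝ) < t := pos_of_mul_pos_left hpos hN.le
    have h3 : (t : ℝ) ≤ 1 := le_of_mul_le_mul_right (by rwa [one_mul]) hN
    have h2' : 0 < t := by exact_mod_cast h2
    have h3' : t ≤ 1 := by exact_mod_cast h3
    omega
  refine ⟨by rw [hts, ht1, Int.cast_one, one_mul], fun g x hgx hx => ?_⟩
  have hng : g ∉ Finset.univ.image f := fun hm => by
    obtain ⟨z, -, hz⟩ := Finset.mem_image.1 hm
    exact hx (huniq g _ _ hgx (hz ▸ hpart z) ▸ z.1.2)
  have hzero : ∑ w ∈ Finset.univ \ Finset.univ.image f, ‖(χ : G → ℂ) w‖ ^ 2 = 0 := by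
    have := Finset.sum_sdiff (f := fun w => ‖(χ : G → ℂ) w‖ ^ 2) (Finset.subset_univ (Finset.univ.image f))
    rw [himg, hall, hts, ht1, Int.cast_one, one_mul] at this
    linarith
  have := (Finset.sum_eq_zero_iff_of_nonneg fun _ _ => by positivity).1 hzero g (by simp [hng])
  simpa using this

/-- A character of central defect has height zero, and the central subgroup is the defect group. -/
theorem isDefectGroup_of_central_defect {M : Ideal AlgInt} [M.IsPrime] (hM : IsPModular p M) :
    IsDefectGroup p M (blockOf M (χ : G → ℂ)) D := by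
  classical
  have hp : p.Prime := Fact.out
  set B := blockOf M (χ : G → ℂ) with hBdef
  have hB : IsPBlock M B := isPBlock_blockOf χ
  have hχ : χ ∈ B := mem_blockOf_self χ
  obtain ⟨E, hE⟩ := exists_isDefectGroup (p := p) hB
  have : D.Normal := ⟨fun n hn g => by
    rw [Subgroup.mem_center_iff.1 (hDZ hn) g, mul_inv_cancel_right]; exact hn⟩
  have hDE := IsDefectGroup.normal_le hM hB hE (P := D) hD
  obtain ⟨ξ, hξ, hξ0⟩ := exists_height_zero (p := p) (IsPBlock.nonempty hB)
  obtain ⟨c, hc⟩ := exists_blockEval_regElt hM hB hχ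
  have hint := Char.IsChar.isIntegral (Char.IsIrr.isCharacter χ.2)
  have hω : omegaBar χ (red M (regElt (p := p) (χ : G → ℂ) hint)) ≠ 0 := by
    obtain ⟨hsum, -⟩ := sum_sq_regular_of_central_defect hD hDZ hdeg
    obtain ⟨r, hr, hrp⟩ := exists_factorization (p := p) (Nat.card_pos (α := G)).ne'
    obtain ⟨d', hd', hdp⟩ := exists_factorization (p := p) (charDegree_pos χ).ne'
    have hc := isCentralElt_regElt (p := p) (M := M) (Char.IsIrr.isClassFunction χ.2) hint
    rw [omegaBar_red χ hc]
    refine (IsUnit.map (resHom M) ?_).ne_zero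
    have hp0 : (p : ℂ) ≠ 0 := Nat.cast_ne_zero.2 hp.ne_zero
    have hd0 : (d' : ℂ) ≠ 0 := Nat.cast_ne_zero.2 fun e => hdp (e ▸ dvd_zero p)
    obtain ⟨j, hj⟩ := IsPGroup.iff_card.1 hD
    have hG : (Nat.card G).factorization p = D.index.factorization p + j := by
      rw [← D.index_mul_card, hj, Nat.factorization_mul Subgroup.index_ne_zero_of_finite
        (pow_ne_zero _ hp.ne_zero), Finsupp.add_apply, hp.factorization_pow, Finsupp.single_eq_same]
    have hsC : (p : ℂ) ^ j * ∑ y : G, (if p ∣ orderOf y then 0 else (χ : G → ℂ) y⁻¹) *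
        (χ : G → ℂ) y = (Nat.card G : ℂ) := by
      have h := congrArg (Complex.ofReal) hsum
      rw [hj] at h
      push_cast at h
      rw [← h, Finset.sum_filter]
      congr 1
      refine Finset.sum_congr rfl fun y _ => ?_
      split_ifs <;> simp [Char.IsIrr.map_inv χ.2, Complex.conj_mul']
    have hval : omega (χ : G → ℂ) (inc M (regElt (p := p) (χ : G → ℂ) hint)) * (d' : ℂ)
        = (r : ℂ) := by
      rw [omega_apply, apply_one_eq_charDegree, hd', hdeg]
      simp only [coeff_inc, coeff_regElt]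
      rw [hr, hG, pow_add] at hsC
      push_cast at hsC ⊢
      field_simp
      refine mul_left_cancel₀ (pow_ne_zero j hp0) ?_
      linear_combination hsC
    refine isUnit_of_mul_isUnit_left (y := (d' : localRing M)) ?_
    rw [show (⟨omega (χ : G → ℂ) (inc M (regElt (p := p) (χ : G → ℂ) hint)),
        omega_inc_mem χ hc⟩ : localRing M) * (d' : localRing M) = (r : localRing M) from
      Subtype.ext (by push_cast; exact hval)]
    exact (isUnit_natCast_iff hM).2 hrp
  obtain ⟨j, hj⟩ := IsPGroup.iff_card.1 hD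
  have hG : (Nat.card G).factorization p = D.index.factorization p + j := by
    rw [← D.index_mul_card, hj, Nat.factorization_mul Subgroup.index_ne_zero_of_finite
      (pow_ne_zero _ hp.ne_zero), Finsupp.add_apply, hp.factorization_pow, Finsupp.single_eq_same]
  have hc0 : c ≠ 0 := fun e => by
    obtain ⟨z, hz, hres⟩ := hc _ (Char.IsIrr.isClassFunction ξ.2)
      (Char.IsChar.isIntegral (Char.IsIrr.isCharacter ξ.2))
    rw [finsum_classInner_irr hξ] at hz
    exact residue_ne_zero_of_height_zero hM hξ hξ0 hz (by rw [hres, e, zero_mul])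
  have hmin : (charDegree (χ : G → ℂ)).factorization p = minExp p B := by
    refine le_antisymm ?_ (minExp_le hχ)
    by_contra hlt
    obtain ⟨z, hz, hres⟩ := hc _ (Char.IsIrr.isClassFunction χ.2) hint
    rw [finsum_classInner_irr hχ] at hz
    obtain ⟨e, he⟩ : p ^ (minExp p B + 1) ∣ charDegree (χ : G → ℂ) :=
      (pow_dvd_pow p (not_le.1 hlt)).trans (Nat.ordProj_dvd _ _)
    have hz' : z = ((p * e : ℕ) : localRing M) := by
      refine Subtype.ext (mul_right_cancel₀
        (pow_ne_zero (minExp p B) (Nat.cast_ne_zero.2 hp.ne_zero : (p : ℂ) ≠ 0)) ?_)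
      rw [hz, apply_one_eq_charDegree, he]
      push_cast
      ring
    have := charP_residueField hM
    refine mul_ne_zero hc0 hω ?_
    rw [← hres, hz', map_natCast, Nat.cast_mul, CharP.cast_eq_zero, zero_mul]
  have hcard : Nat.card E = Nat.card D := by
    rw [IsDefectGroup.card_eq hM hB hE, hj]
    congr 1
    rw [blockDefect, ← minExp, ← hmin, hdeg, hG]
    omega
  rwa [Subgroup.eq_of_le_of_card_ge hDE hcard.le]

end CentralDefect

end CfsgLib.Blocks
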