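import Cfsg.Agent.Lib.Blocks.Kernel
import Cfsg.Agent.Lib.Blocks.RegCut
import Cfsg.Agent.Lib.Char.Coprime
import Cfsg.Agent.Lib.Char.Burnside
import Cfsg.Agent.Lib.ZStar.PrincipalBlock

/-!
# Principal blocks of simple groups
-/

namespace CfsgLib.Blocks

open Cfsg
open scoped ComplexConjugate
open Module

variable {G : Type*} [Group G] [Fintype G] {p : ℕ} {M : Ideal AlgInt} [M.IsPrime]

omit [Fintype G] in
theorem center_eq_bot_of_not_comm [Finite G] [IsSimpleGroup G] (hna : ∃ a b : G, a * b ≠ b * a) :
    Subgroup.center G = ⊥ := by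
  refine (IsSimpleGroup.eq_bot_or_eq_top_of_normal (Subgroup.center G) inferInstance).resolve_right ?_
  intro h
  obtain ⟨a, b, hab⟩ := hna
  exact hab (Subgroup.mem_center_iff.1 (h ▸ Subgroup.mem_top b) a)

theorem eq_trivChar_of_charKer_eq_top {χ : IrrCharacter G} (h : charKer χ = ⊤) :
    χ = Char.trivChar G := by
  have hc : ∀ g : G, (χ : G → ℂ) g = (χ : G → ℂ) 1 := fun g =>
    mem_charKer.1 (h ▸ Subgroup.mem_top g)
  by_contra hne
  have h0 := Char.classInner_irr_of_ne hne
  rw [classInner] at h0
  simp only [hc, Char.trivChar_apply, map_one, mul_one, Finset.sum_const, Finset.card_univ,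
    nsmul_eq_mul, ← Nat.card_eq_fintype_card] at h0
  rw [inv_mul_cancel_left₀ (Nat.cast_ne_zero.2 Nat.card_pos.ne')] at h0
  exact Char.IsIrr.apply_one_ne_zero χ.2 h0

/-- In a nonabelian simple group the only principal block character of `p`-power degree is the
principal one. -/
theorem eq_trivChar_of_mem_principalBlock_prime_pow [IsSimpleGroup G] (hM : IsPModular p M)
    (hna : ∃ a b : G, a * b ≠ b * a) {χ : IrrCharacter G} (hχ : χ ∈ principalBlock M G) {k : ℕ}
    (hdeg : (χ : G → ℂ) 1 = (p : ℂ) ^ k) : χ = Char.trivChar G := by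
  classical
  haveI : Fact p.Prime := ⟨hM.1⟩
  rcases IsSimpleGroup.eq_bot_or_eq_top_of_normal (charKer χ) inferInstance with hker | hker
  swap
  · exact eq_trivChar_of_charKer_eq_top hker
  by_cases hpG : p ∣ Nat.card G
  swap
  · have hs : principalBlock M G = {Char.trivChar G} := by
      rw [principalBlock_eq]
      refine blockOf_eq_singleton hM _ ?_
      rw [charDegree_eq (n := 1) (by simp [Char.trivChar_apply]), Nat.div_one]
      exact hpG
    rw [hs, Set.mem_singleton_iff] at hχ
    exact hχ
  obtain ⟨P⟩ := (inferInstance : Nonempty (Sylow p G))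
  have hP1 : Nat.card (P : Subgroup G) ≠ 1 := fun h => P.not_dvd_index (by
    have := (P : Subgroup G).index_mul_card
    rw [h, mul_one] at this
    rwa [this])
  have : Nontrivial (P : Subgroup G) :=
    Finite.one_lt_card_iff_nontrivial.1 (lt_of_le_of_ne Nat.card_pos (Ne.symm hP1))
  have := P.2.center_nontrivial
  obtain ⟨z, hz⟩ := exists_ne (1 : Subgroup.center (P : Subgroup G))
  set g : G := ((z : (P : Subgroup G)) : G) with hg
  have hg1 : g ≠ 1 := fun h => hz (Subtype.ext (Subtype.ext h))
  have hle : (P : Subgroup G) ≤ Subgroup.centralizer ({g} : Set G) := fun u hu =>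
    Subgroup.mem_centralizer_singleton_iff.2
      (congrArg Subtype.val (Subgroup.mem_center_iff.1 z.2 ⟨u, hu⟩))
  have hidx : ¬ p ∣ (Subgroup.centralizer ({g} : Set G)).index := fun h =>
    P.not_dvd_index (h.trans (Subgroup.index_dvd_of_le hle))
  obtain ⟨χ, n, ρ, hρ, rfl⟩ := χ
  have hfr : finrank ℂ (Fin n → ℂ) = p ^ k := by
    have h : ρ.character 1 = (p : ℂ) ^ k := hdeg
    rw [ρ.char_one] at h
    exact_mod_cast h
  have hcop : Nat.Coprime (finrank ℂ (Fin n → ℂ)) (Subgroup.centralizer ({g} : Set G)).index := by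
    rw [hfr]
    exact ((Nat.Prime.coprime_iff_not_dvd hM.1).2 hidx).pow_left k
  rcases CharIntegral.character_eq_zero_or_norm_eq ρ g hcop with h0 | hn
  · exfalso
    refine hidx ?_
    have h := sameBlock_iff.1 (show SameBlock M ((Char.trivChar G : IrrCharacter G) : G → ℂ)
      ((⟨_, n, ρ, hρ, rfl⟩ : IrrCharacter G) : G → ℂ) from hχ) g
    have he1 : centralCharBar M (Char.trivChar G) g =
        ((Subgroup.centralizer ({g} : Set G)).index : Res M) := by
      rw [centralCharBar, ← map_natCast (resHom M)]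
      congr 1
      refine Subtype.ext ?_
      push_cast
      show centralChar ((Char.trivChar G : IrrCharacter G) : G → ℂ) g = _
      simp [centralChar, Char.trivChar_apply]
    have he2 : centralCharBar M (⟨_, n, ρ, hρ, rfl⟩ : IrrCharacter G) g = 0 := by
      rw [centralCharBar_eq_zero_iff]
      show MemLocalIdeal M (centralChar ρ.character g)
      rw [centralChar, h0, mul_zero, zero_div]
      exact ⟨0, 1, M.zero_mem, one_notMem, by simp⟩
    rw [he1, he2] at h
    have := charP_residueField hM
    exact (CharP.cast_eq_zero_iff (Res M) p _).1 h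
  · exfalso
    obtain ⟨ω, hω⟩ := CharIntegral.exists_scalar_of_norm_character_eq ρ g hn
    refine hg1 (Subgroup.mem_bot.1 ((center_eq_bot_of_not_comm hna) ▸
      (Subgroup.mem_center_iff.2 fun x => ?_)))
    have hρinj : Function.Injective ρ := by
      refine (injective_iff_map_eq_one ρ).2 fun y hy => ?_
      have : y ∈ charKer (⟨_, n, ρ, hρ, rfl⟩ : IrrCharacter G) := by
        show ρ.character y = ρ.character 1
        simp [Representation.character, hy]
      rwa [hker, Subgroup.mem_bot] at this
    apply hρinj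
    rw [map_mul, map_mul, hω]
    exact LinearMap.ext fun v => map_smul (ρ x) ω v

omit [M.IsPrime] in
/-- A simple group of order `p ^ a * q ^ b * r` has no element of order `p * r`. -/
theorem not_commute_of_card_eq [IsSimpleGroup G] (hna : ∃ a b : G, a * b ≠ b * a) {q r a b : ℕ}
    (hp : p.Prime) (hq : q.Prime) [Fact r.Prime] (hpq : p ≠ q) (hpr : p ≠ r) (hqr : q ≠ r)
    (hcard : Nat.card G = p ^ a * q ^ b * r) {u s : G} (hu : orderOf u = p) (hs : orderOf s = r) :
    ¬ Commute u s := by
  classical
  intro hc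
  haveI : Fact p.Prime := ⟨hp⟩
  have hr : r.Prime := Fact.out
  have := Fintype.ofFinite (IrrCharacter G)
  obtain ⟨M, hM⟩ := ZStar.exists_isPModular hp
  haveI := hM.2.1.isPrime
  have hx : p ∣ orderOf (u * s) := by
    rw [hc.orderOf_mul_eq_mul_orderOf_of_coprime
      (by rw [hu, hs]; exact (Nat.coprime_primes hp hr).2 hpr), hu]
    exact dvd_mul_right _ _
  have hpart : IsPPart r (u * s) s :=
    ⟨u, hc.eq.symm, hc.symm, ⟨1, by rw [hs, pow_one]⟩, by
      rw [hu]; exact fun h => hpr ((Nat.prime_dvd_prime_iff_eq hr hp).1 h).symm⟩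
  have hzero := sum_block_regular_singular hM (isPBlock_principalBlock (M := M) (G := G))
    (x := 1) (y := u * s) (by simp [hp.ne_one]) hx
  rw [finsum_mem_eq_finite_toFinset_sum _ (Set.toFinite _), ← Finset.add_sum_erase _ _
    ((Set.Finite.mem_toFinset _).2 (trivChar_mem_principalBlock (M := M) (G := G)))] at hzero
  simp only [Char.trivChar_apply, mul_one] at hzero
  set T := (Set.toFinite (principalBlock M G)).toFinset.erase (Char.trivChar G) with hT
  have key : ∀ χ ∈ T, IsIntegral ℤ ((χ : G → ℂ) 1 * (χ : G → ℂ) (u * s) / (q : ℂ)) := by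
    intro χ hχ
    obtain ⟨hne, hmem⟩ := Finset.mem_erase.1 hχ
    rw [Set.Finite.mem_toFinset] at hmem
    by_cases hdq : q ∣ charDegree (χ : G → ℂ)
    · obtain ⟨m, hm⟩ := hdq
      rw [apply_one_eq_charDegree, hm, Nat.cast_mul, mul_assoc,
        mul_div_cancel_left₀ _ (Nat.cast_ne_zero.2 hq.ne_zero)]
      exact (isIntegral_algebraMap (R := ℤ) (x := (m : ℤ))).mul
        (Char.IsChar.isIntegral (Char.IsIrr.isCharacter χ.2) _)
    by_cases hdr : r ∣ charDegree (χ : G → ℂ)
    · have hfac : ∀ n : ℕ, n ≠ 0 → r ∣ n → 1 ≤ n.factorization r := fun n hn h =>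
        (hr.dvd_iff_one_le_factorization hn).1 h
      have hGr : (Nat.card G).factorization r = 1 := by
        rw [hcard, Nat.factorization_mul (mul_ne_zero (pow_ne_zero _ hp.ne_zero)
          (pow_ne_zero _ hq.ne_zero)) hr.ne_zero, Nat.factorization_mul (pow_ne_zero _ hp.ne_zero)
          (pow_ne_zero _ hq.ne_zero)]
        simp [hp.factorization_pow, hq.factorization_pow, hr.factorization, Finsupp.single_apply,
          hpr, hqr]
      have h1 : (charDegree (χ : G → ℂ)).factorization r = 1 := le_antisymm (hGr ▸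
        (Nat.factorization_le_iff_dvd (charDegree_pos χ).ne' Nat.card_pos.ne').2
          (charDegree_dvd_card χ) r) (hfac _ (charDegree_pos χ).ne' hdr)
      have h0 := (sum_sq_regular_of_central_defect (p := r) (D := (⊥ : Subgroup G)) IsPGroup.of_bot
        bot_le (χ := χ) (by rw [Subgroup.index_bot, h1, hGr])).2 (u * s) s hpart (by
          rw [Subgroup.mem_bot]; intro h; rw [h, orderOf_one] at hs; exact hr.ne_one hs.symm)
      rw [h0, mul_zero, zero_div]
      exact isIntegral_zero
    exfalso
    refine hne ?_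
    obtain ⟨k, -, hk⟩ : ∃ k ≤ a, charDegree (χ : G → ℂ) = p ^ k := by
      refine (Nat.dvd_prime_pow hp).1 ?_
      have hd := charDegree_dvd_card χ
      rw [hcard] at hd
      exact (((hq.coprime_iff_not_dvd.2 hdq).symm).pow_right b).dvd_of_dvd_mul_right
        (((hr.coprime_iff_not_dvd.2 hdr).symm).dvd_of_dvd_mul_right hd)
    exact eq_trivChar_of_mem_principalBlock_prime_pow hM hna hmem (k := k)
      (by rw [apply_one_eq_charDegree, hk, Nat.cast_pow])
  have hint := (IsIntegral.sum _ key).neg
  rw [← Finset.sum_div, ← neg_div, show -(∑ χ ∈ T, (χ : G → ℂ) 1 * (χ : G → ℂ) (u * s)) = 1 by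
    linear_combination -hzero] at hint
  exact hq.not_dvd_one (CharIntegral.dvd_of_isIntegral_div hq.ne_zero
    (show IsIntegral ℤ (((1 : ℕ) : ℂ) / (q : ℂ)) by rwa [Nat.cast_one]))

end CfsgLib.Blocks
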