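import Cfsg.Agent.Lib.Blocks.AbelianIndexThreeChars
import Cfsg.Agent.Lib.Blocks.SimplePrincipal
import Cfsg.Agent.Lib.CharAction.PGroup

/-!
# Automizer of order three: the effect of a normally generating involution
-/

namespace CfsgLib.IndexThree

open Cfsg CfsgLib.Char CfsgLib.Blocks CfsgLib.Fusion
open scoped ComplexConjugate

/-- The value of a character at an involution is an integer, at most the degree. -/
theorem exists_int_apply {G : Type*} [Group G] [Fintype G] (χ : IrrCharacter G) {t : G}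
    (ht : t * t = 1) : ∃ w : ℤ, (χ : G → ℂ) t = w ∧ -(charDegree (χ : G → ℂ) : ℤ) ≤ w ∧
      w ≤ charDegree (χ : G → ℂ) := by
  obtain ⟨n, ρ, -, hc⟩ := χ.2
  obtain ⟨ε, hord, -, hpow, -⟩ := Char.exists_eigenvalues ρ t
  have h2 : ∀ i, ε i = 1 ∨ ε i = -1 := fun i => by
    obtain ⟨k, hk⟩ : orderOf t ∣ 2 := orderOf_dvd_of_pow_eq_one (by rw [pow_two, ht])
    refine mul_self_eq_one_iff.mp ?_
    rw [← pow_two, hk, pow_mul, hord, one_pow]
  have hz : ∀ i, ∃ e : ℤ, ε i = e ∧ -1 ≤ e ∧ e ≤ 1 := fun i => by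
    rcases h2 i with h | h
    · exact ⟨1, by simp [h], by norm_num, le_rfl⟩
    · exact ⟨-1, by simp [h], le_rfl, by norm_num⟩
  choose e he hel heu using hz
  have hdeg : charDegree (χ : G → ℂ) = Module.finrank ℂ (Fin n → ℂ) := by
    have h : ρ.character 1 = (charDegree (χ : G → ℂ) : ℂ) := by rw [hc]; exact apply_one_eq_charDegree χ
    rw [Representation.char_one] at h
    exact_mod_cast h.symm
  refine ⟨∑ i, e i, ?_, ?_, ?_⟩
  · have h := hpow 1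
    rw [pow_one] at h
    rw [← hc, h, Int.cast_sum]
    exact Finset.sum_congr rfl fun i _ => by rw [pow_one, he]
  · rw [hdeg]
    have h := Finset.sum_le_sum fun i (_ : i ∈ Finset.univ) => hel i
    simpa using h
  · rw [hdeg]
    have h := Finset.sum_le_sum fun i (_ : i ∈ Finset.univ) => heu i
    simpa using h

/-- The sign and square lemma. -/
theorem signs_square {u₁ u₂ u₃ w₁ w₂ w₃ : ℤ} (hu : 1 + u₁ + u₂ + u₃ = 0)
    (hw : 1 + w₁ + w₂ + w₃ = 0)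
    (hq : u₁ * u₂ * u₃ + w₁ ^ 2 * u₂ * u₃ + w₂ ^ 2 * u₁ * u₃ + w₃ ^ 2 * u₁ * u₂ = 0)
    (h₁ : u₁ ≠ 0) (h₂ : u₂ ≠ 0) (h₃ : u₃ ≠ 0) (hv : u₂ - w₂ ≠ 0) :
    IsSquare (u₁ * u₂ * u₃) ∧
      (if u₁ < 0 then 1 else 0) + (if u₂ < 0 then 1 else 0) + (if u₃ < 0 then 1 else 0) = (2 : ℕ) := by
  have hu₃ : u₃ = -1 - u₁ - u₂ := by linarith
  have hw₃ : w₃ = -1 - w₁ - w₂ := by linarith
  have key : ((u₂ * (u₁ + u₃)) * (u₁ - w₁) + u₁ * u₂ * (u₂ - w₂)) ^ 2 =
      u₁ * u₂ * u₃ * (u₂ - w₂) ^ 2 := by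
    subst hu₃ hw₃
    linear_combination (u₂ * (u₁ + (-1 - u₁ - u₂))) * hq
  have hsq : IsSquare (u₁ * u₂ * u₃) := by
    have hd : (u₂ - w₂) ^ 2 ∣ ((u₂ * (u₁ + u₃)) * (u₁ - w₁) + u₁ * u₂ * (u₂ - w₂)) ^ 2 :=
      ⟨u₁ * u₂ * u₃, by rw [key]; ring⟩
    obtain ⟨k, hk⟩ := (Int.pow_dvd_pow_iff two_ne_zero).mp hd
    refine ⟨k, ?_⟩
    rw [hk] at key
    exact mul_right_cancel₀ (pow_ne_zero 2 hv) (key.symm.trans (by ring))
  refine ⟨hsq, ?_⟩
  obtain ⟨k, hk⟩ := hsq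
  have hpos : 0 < u₁ * u₂ * u₃ := by
    refine lt_of_le_of_ne (by rw [hk]; exact mul_self_nonneg k) (Ne.symm ?_)
    exact mul_ne_zero (mul_ne_zero h₁ h₂) h₃
  rcases lt_or_gt_of_ne h₁ with a | a <;> rcases lt_or_gt_of_ne h₂ with b | b <;>
    rcases lt_or_gt_of_ne h₃ with c | c <;>
    first
    | (exfalso; omega)
    | exact absurd hpos (not_lt.mpr (mul_neg_of_neg_of_pos (mul_neg_of_neg_of_pos a b) c).le)
    | exact absurd hpos (not_lt.mpr (mul_neg_of_neg_of_pos (mul_neg_of_pos_of_neg a b) c).le)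
    | exact absurd hpos (not_lt.mpr (mul_neg_of_pos_of_neg (mul_pos a b) c).le)
    | simp [a, b, c, not_lt.mpr a.le, not_lt.mpr b.le, not_lt.mpr c.le]

variable {G : Type*} [Group G] [Fintype G] {p : ℕ} [Fact p.Prime] {P : Sylow p G} {g : G}
  (S : Setting p P g) {t : G} (ht : orderOf t = 2) (hgen : ∀ K : Subgroup G, K.Normal → t ∈ K → K = ⊤)

include ht in
theorem t_sq : t * t = 1 := by rw [← pow_two, ← ht, pow_orderOf_eq_one]

include hgen in
theorem apply_ne_degree {χ : IrrCharacter G} (h : χ ≠ Char.trivChar G) :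
    (χ : G → ℂ) t ≠ (χ : G → ℂ) 1 := fun e => h
  (eq_trivChar_of_charKer_eq_top (hgen _ (normal_charKer χ) (mem_charKer.mpr e)))

include S ht in
/-- No product of two conjugates of `t` has `p`-part conjugate to a well chosen `y`. -/
theorem no_pair {y : (P : Subgroup G)} (hy : y ≠ 1)
    (hT : p = 2 → ∀ t₀ : (P : Subgroup G), IsConj t (t₀ : G) →
      y ≠ t₀ ∧ y ≠ sigma S t₀ ∧ y ≠ sigma S (sigma S t₀))
    {a : G} {v : G} (hv : IsPPart p (t * (a * t * a⁻¹)) v) : ¬ IsConj (y : G) v := by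
  intro hconj
  have hp : p.Prime := Fact.out
  have htt := t_sq ht
  set s := a * t * a⁻¹ with hs
  have hss : s * s = 1 := by
    rw [hs]
    calc a * t * a⁻¹ * (a * t * a⁻¹) = a * (t * t) * a⁻¹ := by group
      _ = 1 := by rw [htt]; group
  set w := t * s
  clear_value s
  have hti : t⁻¹ = t := inv_eq_of_mul_eq_one_right htt
  have hsi : s⁻¹ = s := inv_eq_of_mul_eq_one_right hss
  have hvz : v ∈ Subgroup.zpowers w := by
    obtain ⟨m, hm, hwm, k, hk⟩ := IsPPart.exists_exponent hp hv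
    obtain ⟨l, hl⟩ := exists_pow_eq_self_of_coprime (x := v) (n := m)
      (by rw [hk]; exact ((hp.coprime_iff_not_dvd.mpr hm).pow_left k).symm)
    rw [← hl, ← hwm]
    exact pow_mem (pow_mem (Subgroup.mem_zpowers w) m) l
  obtain ⟨i, hi⟩ := Subgroup.mem_zpowers_iff.mp hvz
  have hinvw : ∀ r, r * w * r⁻¹ = w⁻¹ → r * v * r⁻¹ = v⁻¹ := fun r hr => by
    rw [← hi, ← MulAut.conj_apply, map_zpow, MulAut.conj_apply, hr, inv_zpow]
  have hvt : t * v * t⁻¹ = v⁻¹ := hinvw t (by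
    show t * (t * s) * t⁻¹ = (t * s)⁻¹
    rw [mul_inv_rev, hti, hsi, ← mul_assoc, htt, one_mul])
  have hvs : s * v * s⁻¹ = v⁻¹ := hinvw s (by
    show s * (t * s) * s⁻¹ = (t * s)⁻¹
    rw [mul_inv_rev, hti, hsi, mul_assoc, mul_assoc, hss, mul_one])
  obtain ⟨c, hc⟩ := isConj_iff.mp hconj
  -- move everything to `y`
  have hyv : (y : G) = c⁻¹ * v * c := by rw [← hc]; group
  set t₁ := c⁻¹ * t * c
  set s₁ := c⁻¹ * s * c
  have hy1 : (y : G) ≠ 1 := fun e => hy (Subtype.ext e)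
  have e1 : t₁ * y * t₁⁻¹ = (y : G)⁻¹ := by
    rw [hyv]
    calc c⁻¹ * t * c * (c⁻¹ * v * c) * (c⁻¹ * t * c)⁻¹ = c⁻¹ * (t * v * t⁻¹) * c := by group
      _ = _ := by rw [hvt]; group
  have e2 : s₁ * y * s₁⁻¹ = (y : G)⁻¹ := by
    rw [hyv]
    calc c⁻¹ * s * c * (c⁻¹ * v * c) * (c⁻¹ * s * c)⁻¹ = c⁻¹ * (s * v * s⁻¹) * c := by group
      _ = _ := by rw [hvs]; group
  have hy2 : (y : G)⁻¹ = y :=
    congrArg Subtype.val (sq_eq_one_of_isConj_inv S (isConj_iff.mpr ⟨t₁, e1⟩))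
  have hp2 : p = 2 := by
    obtain ⟨k, hk⟩ := isPElement S y.2
    have hdvd : orderOf (y : G) ∣ 2 :=
      orderOf_dvd_of_pow_eq_one (by rw [pow_two]; nth_rw 1 [← hy2]; exact inv_mul_cancel _)
    rw [hk] at hdvd
    rcases k with _ | k
    · exact absurd (orderOf_eq_one_iff.mp (by rw [hk, pow_zero])) hy1
    · exact (Nat.prime_dvd_prime_iff_eq hp Nat.prime_two).mp
        ((dvd_pow_self p (Nat.succ_ne_zero k)).trans hdvd)
  subst hp2
  rw [hy2] at e1 e2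
  let Cy := Subgroup.centralizer ({(y : G)} : Set G)
  have m1 : t₁ ∈ Cy := Subgroup.mem_centralizer_singleton_iff.mpr (mul_inv_eq_iff_eq_mul.mp e1)
  have m2 : s₁ ∈ Cy := Subgroup.mem_centralizer_singleton_iff.mpr (mul_inv_eq_iff_eq_mul.mp e2)
  obtain ⟨f, hf, -, -⟩ := exists_complement S y.2 hy1
  have finv : ∀ (r : Cy), (r : G) * r = 1 → IsConj t (r : G) →
      IsConj t (f r : G) := fun r hr hrc => by
    obtain ⟨k, hk, hkP⟩ := (isSylowIn_centralizer S y.2).exists_conj_mem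
      (X := Subgroup.zpowers (r : G)) (Subgroup.zpowers_le.mpr r.2) (IsPGroup.of_card (n := 1) (by
        rw [Nat.card_zpowers, pow_one]
        refine orderOf_eq_prime (by rw [pow_two, hr]) fun e => ?_
        rw [e] at hrc
        rw [isConj_one_left.mp hrc, orderOf_one] at ht
        omega))
    have hmem := hkP _ (Subgroup.mem_zpowers (r : G))
    have h3 := hf ⟨k * (r : G) * k⁻¹, mul_mem (mul_mem hk r.2) (inv_mem hk)⟩ hmem
    replace h3 : f ⟨k, hk⟩ * f r * (f ⟨k, hk⟩)⁻¹ = ⟨k * (r : G) * k⁻¹, hmem⟩ := by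
      rw [← map_inv, ← map_mul, ← map_mul]
      exact h3
    have hcomm : f ⟨k, hk⟩ * f r = f r * f ⟨k, hk⟩ :=
      Subtype.ext (S.comm _ (f ⟨k, hk⟩).2 _ (f r).2)
    rw [hcomm, mul_inv_cancel_right] at h3
    rw [h3]
    exact hrc.trans (isConj_iff.mpr ⟨k, rfl⟩)
  have ht1c : IsConj t t₁ := isConj_iff.mpr ⟨c⁻¹, by rw [inv_inv]⟩
  have hs1c : IsConj t s₁ := isConj_iff.mpr ⟨c⁻¹ * a, by simp [s₁, hs, mul_assoc]⟩
  have ha := finv ⟨t₁, m1⟩ (by
    show c⁻¹ * t * c * (c⁻¹ * t * c) = 1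
    calc c⁻¹ * t * c * (c⁻¹ * t * c) = c⁻¹ * (t * t) * c := by group
      _ = 1 := by rw [htt]; group) ht1c
  have hb := finv ⟨s₁, m2⟩ (by
    show c⁻¹ * s * c * (c⁻¹ * s * c) = 1
    calc c⁻¹ * s * c * (c⁻¹ * s * c) = c⁻¹ * (s * s) * c := by group
      _ = 1 := by rw [hss]; group) hs1c
  -- the image of the product
  obtain ⟨r, hr, hrc, -, hrord⟩ := hv
  let r₁ : Cy := ⟨c⁻¹ * r * c, Subgroup.mem_centralizer_singleton_iff.mpr (by
    rw [hyv]
    calc c⁻¹ * r * c * (c⁻¹ * v * c) = c⁻¹ * (r * v) * c := by group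
      _ = c⁻¹ * (v * r) * c := by rw [hrc.eq]
      _ = _ := by group)⟩
  have hfr : f r₁ = 1 := by
    obtain ⟨k, hk⟩ := IsPGroup.iff_orderOf.mp P.2 (f r₁)
    have h1 := orderOf_map_dvd f r₁
    have h2 : orderOf r₁ = orderOf r := by
      rw [← Subgroup.orderOf_coe]
      exact (MulEquiv.orderOf_eq (MulAut.conj c⁻¹) r) ▸ congrArg orderOf (by simp [r₁])
    rw [← orderOf_eq_one_iff, hk]
    rcases k with _ | k
    · rfl
    · exact absurd ((dvd_pow_self 2 (Nat.succ_ne_zero k)).trans (hk ▸ h1)) (h2 ▸ hrord)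
  have hprod : f ⟨t₁, m1⟩ * f ⟨s₁, m2⟩ = y := by
    rw [← map_mul, show (⟨t₁, m1⟩ * ⟨s₁, m2⟩ : Cy) =
      ⟨(y : G), Subgroup.mem_centralizer_singleton_iff.mpr rfl⟩ * r₁ from Subtype.ext (by
      show c⁻¹ * t * c * (c⁻¹ * s * c) = (y : G) * (c⁻¹ * r * c)
      rw [hyv]
      calc c⁻¹ * t * c * (c⁻¹ * s * c) = c⁻¹ * (t * s) * c := by group
        _ = c⁻¹ * (v * r) * c := by rw [hr]
        _ = _ := by group), map_mul, hfr, mul_one]
    exact hf _ y.2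
  set t₀ := f ⟨t₁, m1⟩ with ht₀
  obtain ⟨n1, n2, n3⟩ := hT rfl t₀ ha
  have hsq : t₀ * t₀ = 1 := by
    rw [ht₀, ← map_mul, ← map_one f]
    refine congrArg f (Subtype.ext ?_)
    show c⁻¹ * t * c * (c⁻¹ * t * c) = 1
    calc c⁻¹ * t * c * (c⁻¹ * t * c) = c⁻¹ * (t * t) * c := by group
      _ = 1 := by rw [htt]; group
  have hsum : t₀ * sigma S t₀ * sigma S (sigma S t₀) = 1 := sigma_fixed S (by
    have hc' : ∀ u w : (P : Subgroup G), u * w = w * u := fun u w => Subtype.ext (S.comm u u.2 w w.2)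
    rw [map_mul, map_mul, sigma_three, hc' _ t₀, mul_assoc])
  have hti0 : t₀⁻¹ = t₀ := inv_eq_of_mul_eq_one_right hsq
  have hs2 : ∀ k : (P : Subgroup G), k * k = 1 → k⁻¹ = k := fun k h => inv_eq_of_mul_eq_one_right h
  have hσsq : sigma S t₀ * sigma S t₀ = 1 := by rw [← map_mul, hsq, map_one]
  have hσσsq : sigma S (sigma S t₀) * sigma S (sigma S t₀) = 1 := by rw [← map_mul, hσsq, map_one]
  have hc' : ∀ u w : (P : Subgroup G), u * w = w * u := fun u w => Subtype.ext (S.comm u u.2 w w.2)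
  rcases inOrbit_of_isConj S (x := t₀) (y := f ⟨s₁, m2⟩) (ha.symm.trans hb) with e | e | e <;>
    rw [e] at hprod
  · exact hy (hprod.symm.trans hsq)
  · refine n3 (hprod.symm.trans ?_)
    rw [eq_inv_of_mul_eq_one_left hsum, hs2 _ hσσsq]
  · refine n2 (hprod.symm.trans ?_)
    have h4 : t₀ * sigma S (sigma S t₀) * sigma S t₀ = 1 := by
      rw [mul_assoc, hc' (sigma S (sigma S t₀)), ← mul_assoc]; exact hsum
    rw [eq_inv_of_mul_eq_one_left h4, hs2 _ hσsq]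

variable {M : Ideal AlgInt} [M.IsPrime] (hM : IsPModular p M)
include S ht hM

/-- The vanishing of a structure constant in the principal block. -/
theorem sum_pair_eq_zero {y : (P : Subgroup G)} (hy : y ≠ 1)
    (hT : p = 2 → ∀ t₀ : (P : Subgroup G), IsConj t (t₀ : G) →
      y ≠ t₀ ∧ y ≠ sigma S t₀ ∧ y ≠ sigma S (sigma S t₀)) :
    ∑ᶠ χ ∈ principalBlock M G,
      (χ : G → ℂ) t * (χ : G → ℂ) t / (χ : G → ℂ) 1 * (χ : G → ℂ) (y : G) = 0 := by
  classical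
  have := Fintype.ofFinite (IrrCharacter G)
  set F : G → ℂ := ∑ χ : IrrCharacter G,
    ((χ : G → ℂ) t * (χ : G → ℂ) t / (χ : G → ℂ) 1) • (χ : G → ℂ) with hF
  have hyy : IsPPart p (y : G) (y : G) :=
    ⟨1, mul_one _, Commute.one_right _, isPElement S y.2, by simp [hM.1.ne_one]⟩
  have hvan : ∀ u z : G, IsPPart p u z → IsConj (y : G) z → F u = 0 := by
    intro u z hz hyz
    have hG0 : (Nat.card G : ℂ) ≠ 0 := Nat.cast_ne_zero.mpr Nat.card_pos.ne'
    refine (mul_eq_zero.mp (show (Nat.card G : ℂ) * F u = 0 from ?_)).resolve_left hG0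
    rw [hF, Finset.sum_apply, Finset.mul_sum]
    have hterm : ∀ χ : IrrCharacter G, (Nat.card G : ℂ) *
        ((((χ : G → ℂ) t * (χ : G → ℂ) t / (χ : G → ℂ) 1) • (χ : G → ℂ)) u) =
        ∑ a : G, (χ : G → ℂ) (t * (a * t * a⁻¹)) * conj ((χ : G → ℂ) u⁻¹) := fun χ => by
      rw [Pi.smul_apply, smul_eq_mul, ← Finset.sum_mul, ← IsIrr.map_inv χ.2, inv_inv, ← mul_assoc,
        mul_div_assoc', CfsgLib.CharAction.apply_mul_apply χ.2,
        mul_div_cancel_left₀ _ (IsIrr.apply_one_ne_zero χ.2)]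
    rw [Finset.sum_congr rfl fun χ _ => hterm χ, Finset.sum_comm]
    refine Finset.sum_eq_zero fun a _ => ?_
    rw [Char.column_orthogonality, if_neg]
    intro hc
    obtain ⟨k, hk⟩ := isConj_iff.mp hc.symm
    -- the `p`-part of `u⁻¹` is `z⁻¹`
    obtain ⟨r, hr, hrc, ⟨m, hm⟩, hrord⟩ := hz
    have hv : IsPPart p (t * (a * t * a⁻¹)) (k * z⁻¹ * k⁻¹) := by
      refine ⟨k * r⁻¹ * k⁻¹, ?_, ?_, ⟨m, ?_⟩, ?_⟩
      · rw [← hk, ← hr, mul_inv_rev]
        calc k * z⁻¹ * k⁻¹ * (k * r⁻¹ * k⁻¹) = k * (z⁻¹ * r⁻¹) * k⁻¹ := by group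
          _ = _ := by rw [hrc.inv_inv.eq]
      · exact hrc.inv_inv.map (MulAut.conj k).toMonoidHom
      · rw [← MulAut.conj_apply, MulEquiv.orderOf_eq, orderOf_inv, hm]
      · rw [← MulAut.conj_apply, MulEquiv.orderOf_eq, orderOf_inv]
        exact hrord
    refine no_pair S ht (y := y⁻¹) (inv_ne_one.mpr hy) (fun h2 t₀ h0 => ?_) hv ?_
    · obtain ⟨d, hd⟩ := isConj_iff.mp h0
      have hsq : t₀ * t₀ = 1 := Subtype.ext (by
        show (t₀ : G) * t₀ = 1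
        rw [← hd]
        calc d * t * d⁻¹ * (d * t * d⁻¹) = d * (t * t) * d⁻¹ := by group
          _ = 1 := by rw [t_sq ht]; group)
      have hi : t₀⁻¹ = t₀ := inv_eq_of_mul_eq_one_right hsq
      obtain ⟨n1, n2, n3⟩ := hT h2 t₀ h0
      refine ⟨fun e => n1 ?_, fun e => n2 ?_, fun e => n3 ?_⟩ <;>
        rw [← inv_inv y, e] <;> simp only [← map_inv, hi]
    · obtain ⟨d, hd⟩ := isConj_iff.mp hyz
      exact isConj_iff.mpr ⟨k * d, by rw [← hd]; push_cast; group⟩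
  have h := blockPart_eq_zero_of_section hM isPBlock_principalBlock hvan hyy (IsConj.refl (y : G))
  rw [blockPart_eq] at h
  rw [← h]
  exact finsum_mem_congr rfl fun χ _ => by rw [hF, classInner_sum_irr]

end CfsgLib.IndexThree
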