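import Cfsg.Agent.Lib.Blocks.SecondMain
import Cfsg.Agent.Lib.Blocks.HeightZero
import Cfsg.Agent.Lib.Blocks.Kernel

/-!
# The principal block at a `p`-element

The second and third main theorems combined: on the `p`-regular elements of `C(x)`, the function
`c ↦ ζ (x c)` is its principal block part for `ζ` in the principal block, and has zero principal
block part otherwise.
-/

namespace CfsgLib.Blocks

open Cfsg MonoidAlgebra
open scoped ComplexConjugate

variable {G : Type*} [Group G] [Fintype G] {p : ℕ} [Fact p.Prime] {M : Ideal AlgInt} [M.IsPrime]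

theorem blockHeight_trivChar {K : Type*} [Group K] (B : Set (IrrCharacter K)) :
    blockHeight p B ((Char.trivChar K : IrrCharacter K) : K → ℂ) = 0 := by
  simp [blockHeight, charDegree, Char.trivChar_apply]

/-- The block parts of a class function add up to it. -/
theorem sum_blockPart {K : Type*} [Group K] [Fintype K]
    [Fintype {b : Set (IrrCharacter K) // IsPBlock M b}] {θ : K → ℂ} (hθ : IsClassFunction K θ)
    (y : K) : ∑ b : {b : Set (IrrCharacter K) // IsPBlock M b}, blockPart b.1 θ y = θ y := by
  classical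
  have := Fintype.ofFinite (IrrCharacter K)
  rw [Char.classFunction_apply_eq_sum hθ y, ← Finset.sum_fiberwise (g := fun ψ : IrrCharacter K =>
    (⟨_, isPBlock_blockOf (M := M) ψ⟩ : {b : Set (IrrCharacter K) // IsPBlock M b}))]
  refine Finset.sum_congr rfl fun b _ => ?_
  rw [blockPart_eq, finsum_mem_eq_finite_toFinset_sum _ (Set.toFinite b.1)]
  refine Finset.sum_congr ?_ fun _ _ => rfl
  ext ψ
  simp only [Set.Finite.mem_toFinset, Finset.mem_filter, Finset.mem_univ, true_and]
  exact ⟨fun h => Subtype.ext (IsPBlock.eq_of_mem (isPBlock_blockOf ψ) b.2 (mem_blockOf_self ψ) h),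
    fun h => h ▸ mem_blockOf_self ψ⟩

variable (hM : IsPModular p M) {x : G} (hx : ∃ k : ℕ, orderOf x = p ^ k)
  [Fintype (Subgroup.centralizer ({x} : Set G))]
include hM hx

theorem inducedBlockDefined_centralizer
    {b : Set (IrrCharacter (Subgroup.centralizer ({x} : Set G)))} (hb : IsPBlock M b) :
    InducedBlockDefined M (Subgroup.centralizer ({x} : Set G)) b := by
  obtain ⟨k, hk⟩ := hx
  have hP : IsPGroup p (Subgroup.zpowers x) :=
    IsPGroup.of_card (n := k) (by rw [Nat.card_zpowers, hk])
  refine exists_isInducedBlock hM hP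
    (Subgroup.zpowers_le.2 (mem_centralizer_singleton.2 (Commute.refl x))) (fun c hc => ?_)
    (le_trans (fun c hc => ?_) (centralizer_le_normalizer' _)) hb
  · exact mem_centralizer_singleton.2
      (Subgroup.mem_centralizer_iff.1 hc x (Subgroup.mem_zpowers x)).symm
  · rw [mem_centralizer_iff_le, Subgroup.zpowers_le, mem_centralizer_singleton]
    exact (mem_centralizer_singleton.1 hc).symm

/-- The principal block of `C(x)` is the only block inducing the principal block. -/
theorem isInducedBlock_principal_iff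
    {b : Set (IrrCharacter (Subgroup.centralizer ({x} : Set G)))} (hb : IsPBlock M b) :
    IsInducedBlock M (Subgroup.centralizer ({x} : Set G)) b (principalBlock M G) ↔
      b = principalBlock M (Subgroup.centralizer ({x} : Set G)) :=
  isInducedBlock_iff_of_height_zero hM (χ := Char.trivChar G) Char.isIrrCharacter_one
    (blockHeight_trivChar _)
    (blockHeight_trivChar (K := Subgroup.centralizer ({x} : Set G)) _)
    (inducedBlockDefined_centralizer hM hx hb)

omit [Fact p.Prime] [M.IsPrime] hM hx in
theorem isClassFunction_translate (χ : IrrCharacter G) :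
    IsClassFunction (Subgroup.centralizer ({x} : Set G))
      (fun c => (χ : G → ℂ) (x * (c : G))) := by
  intro c d
  have hd : Commute (d : G) x := mem_centralizer_singleton.1 d.2
  show (χ : G → ℂ) (x * ((d * c * d⁻¹ : Subgroup.centralizer ({x} : Set G)) : G)) = _
  rw [show x * ((d * c * d⁻¹ : Subgroup.centralizer ({x} : Set G)) : G)
      = (d : G) * (x * c) * (d : G)⁻¹ by
    simp only [Subgroup.coe_mul, Subgroup.coe_inv]
    rw [← mul_assoc, ← mul_assoc, ← hd.eq]
    group]
  exact Char.IsIrr.isClassFunction χ.2 _ _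

open scoped Classical in
/-- The second main theorem for the principal block. -/
theorem blockPart_principal_translate (χ : IrrCharacter G)
    {y : Subgroup.centralizer ({x} : Set G)} (hy : ¬ p ∣ orderOf y) :
    blockPart (principalBlock M (Subgroup.centralizer ({x} : Set G)))
        (fun c => (χ : G → ℂ) (x * (c : G))) y =
      if χ ∈ principalBlock M G then (χ : G → ℂ) (x * (y : G)) else 0 := by
  classical
  split_ifs with hχ
  · have := Fintype.ofFinite
      {b : Set (IrrCharacter (Subgroup.centralizer ({x} : Set G))) // IsPBlock M b}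
    rw [← sum_blockPart (M := M) (isClassFunction_translate χ) y,
      Finset.sum_eq_single ⟨principalBlock M _, isPBlock_principalBlock⟩]
    · intro b _ hb
      exact blockPart_eq_zero_of_not_induced hM hx isPBlock_principalBlock hχ b.2
        (fun h => hb (Subtype.ext ((isInducedBlock_principal_iff hM hx b.2).1 h))) hy
    · exact fun h => absurd (Finset.mem_univ _) h
  · refine blockPart_eq_zero_of_not_induced hM hx (isPBlock_blockOf χ) (mem_blockOf_self χ)
      isPBlock_principalBlock (fun h => hχ ?_) hy
    rw [IsInducedBlock.eq ((isInducedBlock_principal_iff hM hx isPBlock_principalBlock).2 rfl) h]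
    exact mem_blockOf_self χ

/-- Principal block characters are constant on `x O_{p'}(C(x))`. -/
theorem apply_mul_eq_of_mem_principalBlock {χ : IrrCharacter G} (hχ : χ ∈ principalBlock M G)
    {N : Subgroup (Subgroup.centralizer ({x} : Set G))} [N.Normal] (hN : ¬ p ∣ Nat.card N)
    {v : Subgroup.centralizer ({x} : Set G)} (hv : v ∈ N) :
    (χ : G → ℂ) (x * (v : G)) = (χ : G → ℂ) x := by
  classical
  have hvr : ¬ p ∣ orderOf v := fun hd => hN (hd.trans (by
    rw [← Subgroup.orderOf_mk v hv]; exact orderOf_dvd_natCard _))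
  have h1r : ¬ p ∣ orderOf (1 : Subgroup.centralizer ({x} : Set G)) := by simp [hM.1.ne_one]
  have e1 := blockPart_principal_translate hM hx χ hvr
  have e2 := blockPart_principal_translate hM hx χ h1r
  rw [if_pos hχ] at e1 e2
  rw [OneMemClass.coe_one, mul_one] at e2
  rw [← e1, ← e2, blockPart_eq, blockPart_eq]
  exact finsum_mem_congr rfl fun ψ hψ => by rw [apply_eq_of_mem_principalBlock N hM hN hψ v hv]

/-- The principal block norm at a `p`-section is that of the centralizer. -/
theorem sum_principalBlock_norm_sq {y : Subgroup.centralizer ({x} : Set G)}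
    (hy : ¬ p ∣ orderOf y) :
    ∑ᶠ ζ ∈ principalBlock M G, ‖(ζ : G → ℂ) (x * (y : G))‖ ^ 2 =
      ∑ᶠ ψ ∈ principalBlock M (Subgroup.centralizer ({x} : Set G)),
        ‖(ψ : Subgroup.centralizer ({x} : Set G) → ℂ) y‖ ^ 2 := by
  classical
  have := Fintype.ofFinite (IrrCharacter G)
  have := Fintype.ofFinite (IrrCharacter (Subgroup.centralizer ({x} : Set G)))
  set θG : (Subgroup.centralizer ({x} : Set G)) → ℂ := fun c => ∑ ζ : IrrCharacter G,
    conj ((ζ : G → ℂ) (x * (y : G))) * (ζ : G → ℂ) (x * (c : G)) with hθG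
  set θH : (Subgroup.centralizer ({x} : Set G)) → ℂ := fun c => ∑ ψ : IrrCharacter (Subgroup.centralizer ({x} : Set G)), conj ((ψ : (Subgroup.centralizer ({x} : Set G)) → ℂ) y) * (ψ : (Subgroup.centralizer ({x} : Set G)) → ℂ) c with hθH
  set b₀ := principalBlock M (Subgroup.centralizer ({x} : Set G))
  have hlin : ∀ {ι : Type _} [Fintype ι] (a : ι → ℂ) (f : ι → (Subgroup.centralizer ({x} : Set G)) → ℂ) (u : (Subgroup.centralizer ({x} : Set G))),
      blockPart b₀ (fun c => ∑ i, a i * f i c) u = ∑ i, a i * blockPart b₀ (f i) u := by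
    intro ι _ a f u
    simp only [blockPart_apply, Finset.sum_mul, Finset.mul_sum]
    rw [Finset.sum_comm]
    exact Finset.sum_congr rfl fun i _ => Finset.sum_congr rfl fun w _ => by ring
  have hlinH : blockPart b₀ θH y
      = ∑ ψ : IrrCharacter (Subgroup.centralizer ({x} : Set G)), conj ((ψ : (Subgroup.centralizer ({x} : Set G)) → ℂ) y) * blockPart b₀ (ψ : (Subgroup.centralizer ({x} : Set G)) → ℂ) y := hlin _ _ _
  have hlinG : blockPart b₀ θG y = ∑ ζ : IrrCharacter G,
      conj ((ζ : G → ℂ) (x * (y : G))) * blockPart b₀ (fun c : (Subgroup.centralizer ({x} : Set G)) => (ζ : G → ℂ) (x * (c : G))) y :=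
    hlin _ _ _
  have hsq : ∀ z : ℂ, conj z * z = ((‖z‖ ^ 2 : ℝ) : ℂ) := fun z => by
    rw [Complex.conj_mul', Complex.ofReal_pow]
  have hG1 : blockPart b₀ θG y =
      ((∑ᶠ ζ ∈ principalBlock M G, ‖(ζ : G → ℂ) (x * (y : G))‖ ^ 2 : ℝ) : ℂ) := by
    rw [hlinG, finsum_mem_eq_finite_toFinset_sum _ (Set.toFinite _), Complex.ofReal_sum]
    simp only [blockPart_principal_translate hM hx _ hy, mul_ite, mul_zero, ← Finset.sum_filter,
      hsq, b₀]
    exact Finset.sum_congr (by ext; simp) fun _ _ => rfl
  have hH1 : blockPart b₀ θH y =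
      ((∑ᶠ ψ ∈ b₀, ‖(ψ : (Subgroup.centralizer ({x} : Set G)) → ℂ) y‖ ^ 2 : ℝ) : ℂ) := by
    rw [hlinH, finsum_mem_eq_finite_toFinset_sum _ (Set.toFinite _), Complex.ofReal_sum]
    have hψ : ∀ ψ : IrrCharacter (Subgroup.centralizer ({x} : Set G)), blockPart b₀ (ψ : (Subgroup.centralizer ({x} : Set G)) → ℂ) y =
        if ψ ∈ b₀ then (ψ : (Subgroup.centralizer ({x} : Set G)) → ℂ) y else 0 := fun ψ => by
      rw [blockPart_eq, finsum_mem_eq_finite_toFinset_sum _ (Set.toFinite _)]
      simp only [Char.classInner_irr, ite_mul, one_mul, zero_mul, Finset.sum_ite_eq,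
        Set.Finite.mem_toFinset]
    simp only [hψ, mul_ite, mul_zero, ← Finset.sum_filter, hsq]
    exact Finset.sum_congr (by ext; simp) fun _ _ => rfl
  obtain ⟨k, hk⟩ := hx
  have hpart : ∀ c : (Subgroup.centralizer ({x} : Set G)), ¬ p ∣ orderOf c → IsPPart p (x * (c : G)) x := fun c hc =>
    ⟨c, rfl, (mem_centralizer_singleton.1 c.2).symm, ⟨k, hk⟩, by rwa [Subgroup.orderOf_coe]⟩
  have hcc : ∀ c : (Subgroup.centralizer ({x} : Set G)), ¬ p ∣ orderOf c →
      (IsConj (x * (c : G)) (x * (y : G)) ↔ IsConj c y) := by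
    intro c hc
    constructor
    · intro h
      obtain ⟨g, hg⟩ := isConj_iff.1 h
      have h2 : g * x * g⁻¹ = x := by
        have := conj_pPart_eq hM.1 (hpart c hc) (hpart y hy) (x := g⁻¹) (j := 1)
          (by simpa using hM.1.ne_one) (by rw [pow_one, pow_one, ← hg]; group)
        simpa using this
      have hgH : g ∈ (Subgroup.centralizer ({x} : Set G)) := mem_centralizer_singleton.2 (mul_inv_eq_iff_eq_mul.1 h2)
      refine isConj_iff.2 ⟨⟨g, hgH⟩, Subtype.ext ?_⟩
      show g * (c : G) * g⁻¹ = (y : G)
      refine mul_left_cancel (a := x) ?_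
      rw [← hg, show g * (x * (c : G)) * g⁻¹ = g * x * g⁻¹ * (g * (c : G) * g⁻¹) by group, h2]
    · intro h
      obtain ⟨d, hd⟩ := isConj_iff.1 h
      refine isConj_iff.2 ⟨(d : G), ?_⟩
      rw [← hd, Subgroup.coe_mul, Subgroup.coe_mul, Subgroup.coe_inv,
        ← mul_assoc (d : G), (mem_centralizer_singleton.1 d.2).eq]
      group
  have hreg : ∀ c : (Subgroup.centralizer ({x} : Set G)), ¬ p ∣ orderOf c → θG c = θH c := by
    intro c hc
    simp only [hθG, hθH, mul_comm (starRingEnd ℂ _)]
    rw [Char.column_orthogonality, Char.column_orthogonality]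
    refine ite_congr (propext (hcc c hc)) (fun hcy => ?_) fun _ => rfl
    congr 1
    have hle : ∀ g ∈ Subgroup.centralizer ({x * (c : G)} : Set G), g ∈ (Subgroup.centralizer ({x} : Set G)) := fun g hg => by
      have := conj_pPart_eq hM.1 (hpart c hc) (hpart c hc) (x := g) (j := 1)
        (by simpa using hM.1.ne_one) (by rw [pow_one]; exact (mem_centralizer_singleton.1 hg).symm)
      refine mem_centralizer_singleton.2 ?_
      show g * x = x * g
      conv_lhs => rw [← this]
      group
    refine Nat.card_congr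
      { toFun := fun g => ⟨⟨g, hle g g.2⟩, mem_centralizer_singleton.2 (Subtype.ext ?_)⟩
        invFun := fun g => ⟨(g : (Subgroup.centralizer ({x} : Set G))), mem_centralizer_singleton.2 ?_⟩
        left_inv := fun _ => rfl
        right_inv := fun _ => rfl }
    · show (g : G) * (c : G) = (c : G) * (g : G)
      have h1 : (g : G) * (x * (c : G)) = x * (c : G) * (g : G) := mem_centralizer_singleton.1 g.2
      have h2 : (g : G) * x = x * (g : G) := mem_centralizer_singleton.1 (hle g g.2)
      rw [← mul_assoc, h2, mul_assoc, mul_assoc] at h1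
      exact mul_left_cancel h1
    · have h2 : Commute ((g : (Subgroup.centralizer ({x} : Set G))) : G) x := mem_centralizer_singleton.1 (g : (Subgroup.centralizer ({x} : Set G))).2
      exact h2.mul_right ((mem_centralizer_singleton.1 g.2).map (Subgroup.centralizer ({x} : Set G)).subtype)
  have heq : blockPart b₀ θG y = blockPart b₀ θH y := by
    have h0 : blockPart b₀ (fun c => θG c - θH c) y = 0 := by
      refine blockPart_eq_zero_of_section hM isPBlock_principalBlock (x := 1) (fun u z hu hz => ?_)
        (isPPart_one_of_isPRegular hy) (IsConj.refl 1)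
      rw [isConj_one_right] at hz
      subst hz
      obtain ⟨w, hw, -, -, hwr⟩ := hu
      rw [one_mul] at hw
      rw [hreg u (hw ▸ hwr), sub_self]
    simp only [blockPart_apply, sub_mul, Finset.sum_sub_distrib, mul_sub, sub_eq_zero] at h0
    rwa [blockPart_apply, blockPart_apply]
  rw [hG1, hH1] at heq
  exact_mod_cast heq

end CfsgLib.Blocks
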