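import Cfsg.Agent.Lib.Blocks.Sections
import Cfsg.Agent.Lib.Char.Complete
import Mathlib.Data.Nat.ChineseRemainder
import Mathlib.FieldTheory.AlgebraicClosure
import Mathlib.GroupTheory.Sylow
import Mathlib.LinearAlgebra.Finsupp.LinearCombination
import Mathlib.LinearAlgebra.Basis.VectorSpace

/-!
# Weak block orthogonality, block parts, and projective decompositions

For a set `A` of irreducible characters satisfying weak orthogonality, the class functions
`θ φ` (`φ ∈ S`) of `exists_projective_decomposition` vanish on `p`-singular elements, so their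
degrees are divisible by the full power of `p` in the group order; consequently the coefficients
of `blockIdem A` lie in the local ring (`blockCoeff_mem_of_orth`).
-/

namespace CfsgLib.Blocks

open Cfsg
open scoped ComplexConjugate

variable {G : Type*} [Group G] {p : ℕ}

theorem exists_pPart [Finite G] (hp : p.Prime) (g : G) : ∃ u, IsPPart p g u := by
  have hn : orderOf g ≠ 0 := (orderOf_pos g).ne'
  obtain ⟨k, m, hm, hkm⟩ := Nat.exists_eq_pow_mul_and_not_dvd hn p hp.ne_one
  have hcop : (p ^ k).Coprime m := ((hp.coprime_iff_not_dvd).2 hm).pow_left k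
  let a := Nat.chineseRemainder hcop 1 0
  let b := Nat.chineseRemainder hcop 0 1
  have hab : (a : ℕ) + b ≡ 1 [MOD orderOf g] := by
    rw [hkm]
    refine (Nat.modEq_and_modEq_iff_modEq_mul hcop).1 ⟨?_, ?_⟩
    · exact a.2.1.add b.2.1
    · exact a.2.2.add b.2.2
  refine ⟨g ^ (a : ℕ), g ^ (b : ℕ), ?_, (Commute.refl g).pow_pow _ _, ?_, ?_⟩
  · rw [← pow_add]
    exact (pow_eq_pow_iff_modEq.2 hab).trans (pow_one g)
  · have : orderOf (g ^ (a : ℕ)) ∣ p ^ k := by
      refine orderOf_dvd_of_pow_eq_one ?_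
      rw [← pow_mul, ← orderOf_dvd_iff_pow_eq_one, hkm, mul_comm (a : ℕ)]
      exact mul_dvd_mul_left _ (Nat.modEq_zero_iff_dvd.1 a.2.2)
    obtain ⟨i, -, hi⟩ := (Nat.dvd_prime_pow hp).1 this
    exact ⟨i, hi⟩
  · intro hd
    have : orderOf (g ^ (b : ℕ)) ∣ m := by
      refine orderOf_dvd_of_pow_eq_one ?_
      rw [← pow_mul, ← orderOf_dvd_iff_pow_eq_one, hkm]
      exact mul_dvd_mul_right (Nat.modEq_zero_iff_dvd.1 b.2.1) _
    exact hm (hd.trans this)

theorem isPPart_one_of_isPRegular {g : G} (hg : ¬ p ∣ orderOf g) : IsPPart p g 1 :=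
  ⟨g, one_mul g, Commute.one_left g, ⟨0, by simp⟩, hg⟩

theorem IsPPart.dvd_orderOf_iff (hp : p.Prime) {g u : G} (h : IsPPart p g u) :
    p ∣ orderOf g ↔ u ≠ 1 := by
  obtain ⟨y, rfl, hc, ⟨k, hk⟩, hy⟩ := h
  constructor
  · rintro hd rfl
    rw [one_mul] at hd
    exact hy hd
  · intro hu
    have hk0 : k ≠ 0 := fun h => hu (orderOf_eq_one_iff.1 (by rw [hk, h, pow_zero]))
    rw [hc.orderOf_mul_eq_mul_orderOf_of_coprime
      (by rw [hk]; exact ((hp.coprime_iff_not_dvd).2 hy).pow_left k), hk]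
    exact Dvd.dvd.mul_right (dvd_pow_self p hk0) _

theorem IsPPart.orderOf_inv {g : G} : ¬ p ∣ orderOf g ↔ ¬ p ∣ orderOf g⁻¹ := by simp

variable {M : Ideal AlgInt} [M.IsPrime] [Fintype G]

/-- **Weak block orthogonality**. -/
theorem sum_block_regular_singular (hM : IsPModular p M) {B : Set (IrrCharacter G)}
    (hB : IsPBlock M B) {x y : G} (hx : ¬ p ∣ orderOf x) (hy : p ∣ orderOf y) :
    ∑ᶠ χ ∈ B, (χ : G → ℂ) x * (χ : G → ℂ) y = 0 := by
  have hy' : p ∣ orderOf y⁻¹ := by rwa [orderOf_inv]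
  obtain ⟨v, hv⟩ := exists_pPart hM.1 y⁻¹
  have h := sum_block_apply_mul_eq_zero hM hB (isPPart_one_of_isPRegular hx) hv
    fun hc => (IsPPart.dvd_orderOf_iff hM.1 hv).1 hy' (isConj_one_right.1 hc)
  simpa using h

/-! ### Block parts -/

theorem blockPart_eq (B : Set (IrrCharacter G)) (ϑ : G → ℂ) (g : G) :
    blockPart B ϑ g = ∑ᶠ χ ∈ B, classInner ϑ (χ : G → ℂ) * (χ : G → ℂ) g := by
  unfold blockPart
  congr!

theorem blockPart_apply (B : Set (IrrCharacter G)) (ϑ : G → ℂ) (u : G) :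
    blockPart B ϑ u =
      (Nat.card G : ℂ)⁻¹ * ∑ w, ϑ w * ∑ᶠ χ ∈ B, (χ : G → ℂ) u * (χ : G → ℂ) w⁻¹ := by
  classical
  simp only [blockPart_eq, classInner]
  rw [finsum_mem_eq_finite_toFinset_sum _ (Set.toFinite B)]
  simp only [finsum_mem_eq_finite_toFinset_sum _ (Set.toFinite B), Finset.mul_sum, Finset.sum_mul]
  rw [Finset.sum_comm]
  refine Finset.sum_congr rfl fun w _ =>
    Finset.sum_congr rfl fun χ _ => ?_
  rw [Char.IsIrr.map_inv χ.2]
  ring

/-- Block parts of functions vanishing on a `p`-section vanish there. -/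
theorem blockPart_eq_zero_of_section (hM : IsPModular p M) {B : Set (IrrCharacter G)}
    (hB : IsPBlock M B) {ϑ : G → ℂ} {x : G}
    (hϑ : ∀ u z : G, IsPPart p u z → IsConj x z → ϑ u = 0)
    {u z : G} (hu : IsPPart p u z) (hxz : IsConj x z) : blockPart B ϑ u = 0 := by
  rw [blockPart_apply, Finset.sum_eq_zero fun w _ => ?_, mul_zero]
  obtain ⟨z', hw⟩ := exists_pPart hM.1 w
  by_cases hc : IsConj z z'
  · rw [hϑ w z' hw (hxz.trans hc), zero_mul]
  · rw [sum_block_apply_mul_eq_zero hM hB hu hw hc, mul_zero]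

theorem classInner_blockPart [Fintype (IrrCharacter G)] (B : Set (IrrCharacter G)) (ϑ : G → ℂ)
    (χ : IrrCharacter G) [Decidable (χ ∈ B)] :
    classInner (blockPart B ϑ) (χ : G → ℂ) =
      if χ ∈ B then classInner ϑ (χ : G → ℂ) else 0 := by
  classical
  have h : blockPart B ϑ =
      ∑ ψ : IrrCharacter G, (if ψ ∈ B then classInner ϑ (ψ : G → ℂ) else 0) • (ψ : G → ℂ) := by
    funext g
    simp only [blockPart_eq, Finset.sum_apply, Pi.smul_apply, smul_eq_mul]
    rw [finsum_mem_eq_finite_toFinset_sum _ (Set.toFinite B)]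
    simp only [ite_mul, zero_mul, ← Finset.sum_filter]
    exact Finset.sum_congr (by ext; simp) fun _ _ => rfl
  rw [h, Char.classInner_sum_irr]
  congr

/-- Characters of different blocks are orthogonal on the `p`-regular elements. -/
theorem sum_regular_eq_zero (hM : IsPModular p M) {χ ψ : IrrCharacter G}
    (h : ¬ SameBlock M (χ : G → ℂ) (ψ : G → ℂ)) :
    ∑ x ∈ Finset.univ.filter (fun x : G => ¬ p ∣ orderOf x),
      (χ : G → ℂ) x * (ψ : G → ℂ) x⁻¹ = 0 := by
  classical
  have := Fintype.ofFinite (IrrCharacter G)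
  set B := blockOf M (ψ : G → ℂ) with hBdef
  have hB : IsPBlock M B := isPBlock_blockOf ψ
  have hχ : χ ∉ B := fun hm => h (SameBlock.symm' hm)
  let ϑ : G → ℂ := fun x => if p ∣ orderOf x then 0 else (χ : G → ℂ) x
  let ϑ' : G → ℂ := fun x => if p ∣ orderOf x then (χ : G → ℂ) x else 0
  have hadd : ∀ u, blockPart B ϑ u + blockPart B ϑ' u = 0 := by
    intro u
    have h0 : blockPart B (χ : G → ℂ) u = 0 := by
      have : ∀ φ : IrrCharacter G, φ ∈ B → classInner (χ : G → ℂ) (φ : G → ℂ) = 0 :=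
        fun φ hφ => Char.classInner_irr_of_ne fun e => hχ (e ▸ hφ)
      rw [blockPart_eq]
      refine (finsum_mem_congr rfl fun φ hφ => ?_).trans (finsum_mem_zero _)
      rw [this φ hφ, zero_mul]
    rw [← h0, blockPart_apply, blockPart_apply, blockPart_apply, ← mul_add,
      ← Finset.sum_add_distrib]
    congr 1
    refine Finset.sum_congr rfl fun w _ => ?_
    by_cases hw : p ∣ orderOf w <;> simp [ϑ, ϑ', hw]
  have hzero : blockPart B ϑ = 0 := by
    funext u
    obtain ⟨z, hz⟩ := exists_pPart hM.1 u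
    by_cases hu : p ∣ orderOf u
    · refine blockPart_eq_zero_of_section hM hB (x := z) (fun w z' hw hzz => ?_) hz (IsConj.refl z)
      exact if_pos ((IsPPart.dvd_orderOf_iff hM.1 hw).2 fun e =>
        (IsPPart.dvd_orderOf_iff hM.1 hz).1 hu (isConj_one_left.1 (e ▸ hzz)))
    · have h' : blockPart B ϑ' u = 0 := by
        refine blockPart_eq_zero_of_section hM hB (x := z) (fun w z' hw hzz => ?_) hz (IsConj.refl z)
        refine if_neg fun hwd => (IsPPart.dvd_orderOf_iff hM.1 hw).1 hwd ?_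
        have hz1 : z = 1 := by
          by_contra e
          exact hu ((IsPPart.dvd_orderOf_iff hM.1 hz).2 e)
        exact isConj_one_right.1 (hz1 ▸ hzz)
      simpa [h'] using hadd u
  have h1 := classInner_blockPart B ϑ ψ
  rw [hzero, if_pos (mem_blockOf_self ψ), Char.classInner_zero_left, classInner, eq_comm,
    mul_eq_zero] at h1
  have h2 := h1.resolve_left (inv_ne_zero (Nat.cast_ne_zero.2 Nat.card_pos.ne'))
  rw [Finset.sum_filter]
  refine Eq.trans (Finset.sum_congr rfl fun x _ => ?_) h2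
  by_cases hx : p ∣ orderOf x <;> simp [ϑ, hx, Char.IsIrr.map_inv ψ.2]

/-! ### Projective decompositions -/

/-- Some set of characters is independent on the `p`-regular elements and spans the restrictions
of all characters over the local ring. -/
theorem exists_regular_basis (hM : IsPModular p M) (A : Finset (IrrCharacter G)) :
    ∃ (S : Finset (IrrCharacter G)) (d : IrrCharacter G → IrrCharacter G → localRing M),
      S ⊆ A ∧ (∀ c : IrrCharacter G → ℂ,
        (∀ x : G, ¬ p ∣ orderOf x → ∑ φ ∈ S, c φ * (φ : G → ℂ) x = 0) → ∀ φ ∈ S, c φ = 0) ∧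
      ∀ χ ∈ A, ∀ x : G, ¬ p ∣ orderOf x →
        (χ : G → ℂ) x = ∑ φ ∈ S, (d χ φ : ℂ) * (φ : G → ℂ) x := by
  classical
  have := Fintype.ofFinite (IrrCharacter G)
  let K := algebraicClosure ℚ ℂ
  have hval : ∀ (φ : IrrCharacter G) (x : G), (φ : G → ℂ) x ∈ K := fun φ x =>
    mem_algebraicClosure_iff.2 (Char.IsChar.isIntegral (Char.IsIrr.isCharacter φ.2) x).tower_top.isAlgebraic
  let v : IrrCharacter G → G → K := fun φ x => if p ∣ orderOf x then 0 else ⟨_, hval φ x⟩
  suffices key : ∀ T : Finset (IrrCharacter G),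
      (T ⊆ A ∧ ∀ χ ∈ A, ∃ d : IrrCharacter G → localRing M, ∀ x : G, ¬ p ∣ orderOf x →
        (χ : G → ℂ) x = ∑ φ ∈ T, (d φ : ℂ) * (φ : G → ℂ) x) →
      ∃ S : Finset (IrrCharacter G), S ⊆ A ∧ LinearIndependent K (fun φ : S => v φ) ∧
      (∀ χ ∈ A, ∃ d : IrrCharacter G → localRing M, ∀ x : G, ¬ p ∣ orderOf x →
        (χ : G → ℂ) x = ∑ φ ∈ S, (d φ : ℂ) * (φ : G → ℂ) x) by
    obtain ⟨S, hSA, hind, hspan⟩ := key A ⟨subset_rfl, fun χ hχ => ⟨Pi.single χ 1, fun x _ => by
      simp [Pi.single_apply, apply_ite Subtype.val, hχ]⟩⟩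
    choose d hd using hspan
    refine ⟨S, fun χ => if h : χ ∈ A then d χ h else 0, hSA, fun c hc => ?_,
      fun χ hχ x hx => by simp only [dif_pos hχ]; exact hd χ hχ x hx⟩
    obtain ⟨L, hL⟩ := LinearMap.exists_leftInverse_of_injective
      (Fintype.linearCombination K (fun φ : S => v φ))
      (LinearMap.ker_eq_bot.2 hind.fintypeLinearCombination_injective)
    intro φ₀ hφ₀
    have hA : ∀ φ ψ : S, ∑ x, (L (Pi.single x 1) φ : ℂ) * (v ψ x : ℂ) = if ψ = φ then 1 else 0 := by
      intro φ ψ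
      have h1 := congrArg (fun f : (S → K) →ₗ[K] (S → K) => (f (Pi.single ψ 1) φ : ℂ)) hL
      simp only [LinearMap.comp_apply, Fintype.linearCombination_apply_single, one_smul,
        LinearMap.id_apply] at h1
      have h2 : v ψ = ∑ x, v ψ x • Pi.single x (1 : K) := by
        funext y
        simp [Finset.sum_apply, Pi.single_apply]
      rw [h2, map_sum] at h1
      simp only [map_smul, Finset.sum_apply, Pi.smul_apply, smul_eq_mul, Pi.single_apply] at h1
      push_cast at h1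
      refine Eq.trans ?_ (h1.trans (by
        rcases eq_or_ne ψ φ with e | e
        · rw [if_pos e.symm, if_pos e]; norm_cast
        · rw [if_neg e.symm, if_neg e]; norm_cast))
      exact Finset.sum_congr rfl fun x _ => mul_comm _ _
    have h3 : ∀ x, ∑ ψ : S, c ψ * (v ψ x : ℂ) = 0 := fun x => by
      by_cases hx : p ∣ orderOf x
      · simp [v, hx]
      · have := hc x hx
        rw [← Finset.sum_coe_sort S] at this
        simpa [v, hx] using this
    have h4 := Finset.sum_eq_zero (s := Finset.univ) (f := fun x =>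
      (L (Pi.single x 1) ⟨φ₀, hφ₀⟩ : ℂ) * ∑ ψ : S, c ψ * (v ψ x : ℂ)) fun x _ => by
        rw [h3, mul_zero]
    simp only [Finset.mul_sum] at h4
    rw [Finset.sum_comm] at h4
    simp only [mul_left_comm _ (c _)] at h4
    simp only [← Finset.mul_sum, hA, mul_ite, mul_one, mul_zero, Finset.sum_ite_eq',
      Finset.mem_univ, if_true] at h4
    exact h4
  intro T
  induction T using Finset.strongInduction with
  | H T ih =>
    intro hT
    by_cases hind : LinearIndependent K (fun φ : T => v φ)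
    · exact ⟨T, hT.1, hind, hT.2⟩
    obtain ⟨c, hc, i₀, hi₀⟩ := Fintype.not_linearIndependent_iff.1 hind
    obtain ⟨i₁, hi₁, hdiv⟩ : ∃ i₁ : T, c i₁ ≠ 0 ∧ ∀ i, (c i : ℂ) / c i₁ ∈ localRing M := by
      suffices h : ∀ U : Finset T, i₀ ∈ U → ∃ i₁, c i₁ ≠ 0 ∧ ∀ i ∈ U, (c i : ℂ) / c i₁ ∈ localRing M by
        obtain ⟨i₁, h1, h2⟩ := h Finset.univ (Finset.mem_univ _)
        exact ⟨i₁, h1, fun i => h2 i (Finset.mem_univ _)⟩
      intro U hU
      rw [← Finset.insert_erase hU]
      generalize U.erase i₀ = U'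
      induction U' using Finset.induction with
      | empty =>
        exact ⟨i₀, hi₀, fun i hi => by
          simp only [Finset.mem_insert, Finset.notMem_empty, or_false] at hi
          subst hi
          rw [div_self (by simpa using hi₀)]
          exact one_mem _⟩
      | insert j U' _ ihU =>
        obtain ⟨i₁, h1, h2⟩ := ihU
        by_cases hj : (c j : ℂ) / c i₁ ∈ localRing M
        · refine ⟨i₁, h1, fun i hi => ?_⟩
          rw [Finset.insert_comm, Finset.mem_insert] at hi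
          rcases hi with rfl | hi
          · exact hj
          · exact h2 i hi
        · have halg : IsAlgebraic ℤ ((c j : ℂ) / c i₁) :=
            (IsFractionRing.isAlgebraic_iff ℤ ℚ ℂ).2
              (mem_algebraicClosure_iff.1 (div_mem (c j).2 (c i₁).2))
          have hinv := (mem_localRing_or_inv_mem hM halg).resolve_left hj
          rw [inv_div] at hinv
          have hj0 : c j ≠ 0 := fun e => hj (by simp [e, zero_mem])
          refine ⟨j, hj0, fun i hi => ?_⟩
          rw [Finset.insert_comm, Finset.mem_insert] at hi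
          rcases hi with rfl | hi
          · rw [div_self (by simpa using hj0)]
            exact one_mem _
          · rw [← div_mul_div_cancel₀ (b := (c i₁ : ℂ)) (by simpa using h1)]
            exact mul_mem (h2 i hi) hinv
    refine Exists.imp (fun S => id) (ih (T.erase i₁) (Finset.erase_ssubset i₁.2)
      ⟨(Finset.erase_subset _ _).trans hT.1, fun χ hχ => ?_⟩)
    obtain ⟨d, hd⟩ := hT.2 χ hχ
    refine ⟨fun φ => d φ - d i₁ * (if h : φ ∈ T then ⟨_, hdiv ⟨φ, h⟩⟩ else 0), fun x hx => ?_⟩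
    have hrel : ∑ φ : T, (c φ : ℂ) * ((φ : IrrCharacter G) : G → ℂ) x = 0 := by
      have h1 := congrArg (fun f : G → K => (f x : ℂ)) hc
      simpa [v, hx, Finset.sum_apply] using h1
    have hc1 : (c i₁ : ℂ) ≠ 0 := by simpa using hi₁
    rw [hd x hx, ← Finset.sum_coe_sort T]
    have hkey : ∑ φ ∈ T, ((d φ - d i₁ * (if h : φ ∈ T then ⟨_, hdiv ⟨φ, h⟩⟩ else 0) :
        localRing M) : ℂ) * (φ : G → ℂ) x =
        ∑ φ : T, (d φ : ℂ) * ((φ : IrrCharacter G) : G → ℂ) x := by
      rw [← Finset.sum_coe_sort T]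
      simp only [Finset.coe_mem, dif_pos, AddSubgroupClass.coe_sub, Subring.coe_mul, sub_mul,
        Finset.sum_sub_distrib, sub_eq_self, mul_assoc, ← Finset.mul_sum]
      simp only [div_mul_eq_mul_div, ← Finset.sum_div, hrel, zero_div, mul_zero]
    rw [← hkey, ← Finset.add_sum_erase _ _ i₁.2]
    simp [dif_pos i₁.2, div_self hc1]

/-- A class function over the local ring vanishing on singular elements has degree divisible by
the `p`-part of the group order. -/
theorem sum_degree_div_mem (hM : IsPModular p M) (A : Finset (IrrCharacter G))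
    (a : IrrCharacter G → localRing M)
    (hvan : ∀ y : G, p ∣ orderOf y → ∑ χ ∈ A, (a χ : ℂ) * (χ : G → ℂ) y = 0) :
    (∑ χ ∈ A, (a χ : ℂ) * (χ : G → ℂ) 1) / (p ^ (Nat.card G).factorization p : ℕ) ∈
      localRing M := by
  classical
  have : Fact p.Prime := ⟨hM.1⟩
  obtain ⟨P⟩ := (inferInstance : Nonempty (Sylow p G))
  have := Fintype.ofFinite (P : Subgroup G)
  have hn : ∀ χ : IrrCharacter G,
      ∃ n : ℕ, ∑ u : (P : Subgroup G), (χ : G → ℂ) u = n * Nat.card (P : Subgroup G) := fun χ => by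
    obtain ⟨n, hn⟩ := Char.IsChar.classInner_eq_natCast
      (Char.IsChar.restrict (P : Subgroup G) (Char.IsIrr.isCharacter χ.2)) Char.isCharacter_one
    refine ⟨n, ?_⟩
    rw [← hn, classInner]
    have h0 : (Nat.card (P : Subgroup G) : ℂ) ≠ 0 := Nat.cast_ne_zero.2 Nat.card_pos.ne'
    simp only [map_one, mul_one]
    field_simp
  choose n hn using hn
  have h1 : ∑ u : (P : Subgroup G), ∑ χ ∈ A, (a χ : ℂ) * (χ : G → ℂ) u =
      ∑ χ ∈ A, (a χ : ℂ) * (χ : G → ℂ) 1 := by
    rw [Finset.sum_eq_single (1 : (P : Subgroup G))]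
    · rfl
    · intro u _ hu
      refine hvan _ ?_
      obtain ⟨k, hk⟩ := IsPGroup.iff_orderOf.1 P.2 u
      rw [Subgroup.orderOf_coe, hk]
      exact dvd_pow_self p fun e => hu (orderOf_eq_one_iff.1 (by rw [hk, e, pow_zero]))
    · exact fun h => absurd (Finset.mem_univ _) h
  rw [← h1, Finset.sum_comm, ← Sylow.card_eq_multiplicity P]
  simp only [← Finset.mul_sum, hn, ← mul_assoc, ← Finset.sum_mul]
  rw [mul_div_cancel_right₀ _ (Nat.cast_ne_zero.2 Nat.card_pos.ne')]
  exact Subring.sum_mem _ fun χ _ => mul_mem (a χ).2 (natCast_mem _ _)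

/-- Weak orthogonality gives a decomposition with factors vanishing on singular elements. -/
theorem exists_projective_decomposition (hM : IsPModular p M) (A : Finset (IrrCharacter G))
    (horth : ∀ x y : G, ¬ p ∣ orderOf x → p ∣ orderOf y →
      ∑ χ ∈ A, (χ : G → ℂ) x * (χ : G → ℂ) y = 0) :
    ∃ (S : Finset (IrrCharacter G)) (d : IrrCharacter G → IrrCharacter G → localRing M),
      S ⊆ A ∧ (∀ x y : G, ¬ p ∣ orderOf x → ∑ χ ∈ A, (χ : G → ℂ) x * (χ : G → ℂ) y =
        ∑ φ ∈ S, (φ : G → ℂ) x * ∑ χ ∈ A, (d χ φ : ℂ) * (χ : G → ℂ) y) ∧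
      ∀ φ ∈ S, ∀ y : G, p ∣ orderOf y → ∑ χ ∈ A, (d χ φ : ℂ) * (χ : G → ℂ) y = 0 := by
  obtain ⟨S, d, hSA, hind, hd⟩ := exists_regular_basis (G := G) hM A
  have hexp : ∀ x y : G, ¬ p ∣ orderOf x → ∑ χ ∈ A, (χ : G → ℂ) x * (χ : G → ℂ) y =
      ∑ φ ∈ S, (φ : G → ℂ) x * ∑ χ ∈ A, (d χ φ : ℂ) * (χ : G → ℂ) y := fun x y hx => by
    simp only [Finset.mul_sum]
    rw [Finset.sum_comm]
    refine Finset.sum_congr rfl fun χ hχ => ?_
    rw [hd χ hχ x hx, Finset.sum_mul]
    exact Finset.sum_congr rfl fun φ _ => by ring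
  refine ⟨S, d, hSA, hexp, fun φ hφ y hy =>
    hind (fun ψ => ∑ χ ∈ A, (d χ ψ : ℂ) * (χ : G → ℂ) y) (fun x hx => ?_) φ hφ⟩
  rw [← horth x y hx hy, hexp x y hx]
  exact Finset.sum_congr rfl fun φ _ => mul_comm _ _

/-- Weak orthogonality forces the idempotent coefficients into the local ring. -/
theorem blockCoeff_mem_of_orth (hM : IsPModular p M) (A : Set (IrrCharacter G))
    (horth : ∀ x y : G, ¬ p ∣ orderOf x → p ∣ orderOf y →
      ∑ᶠ χ ∈ A, (χ : G → ℂ) x * (χ : G → ℂ) y = 0) (g : G) :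
    blockCoeff A g ∈ localRing M := by
  classical
  have := Fintype.ofFinite (IrrCharacter G)
  rw [blockCoeff_eq_sum]
  simp only [finsum_mem_eq_finite_toFinset_sum _ (Set.toFinite A)] at horth
  have hfin : (Set.toFinite A).toFinset = Finset.univ.filter (· ∈ A) := by ext; simp
  rw [hfin] at horth
  by_cases hg : p ∣ orderOf g
  · rw [horth 1 g⁻¹ (by simp [hM.1.ne_one]) (by rwa [orderOf_inv]), mul_zero]
    exact zero_mem _
  obtain ⟨S, d, -, hexp, hvan⟩ := exists_projective_decomposition hM _ horth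
  have hg' : ¬ p ∣ orderOf g⁻¹ := by rwa [orderOf_inv]
  rw [show ∑ χ ∈ Finset.univ.filter (· ∈ A), (χ : G → ℂ) 1 * (χ : G → ℂ) g⁻¹ =
      ∑ χ ∈ Finset.univ.filter (· ∈ A), (χ : G → ℂ) g⁻¹ * (χ : G → ℂ) 1 from
      Finset.sum_congr rfl fun χ _ => mul_comm _ _, hexp _ _ hg', Finset.mul_sum]
  refine Subring.sum_mem _ fun φ hφ => ?_
  have hq := sum_degree_div_mem hM _ (fun χ => d χ φ) (hvan φ hφ)
  set q := p ^ (Nat.card G).factorization p with hqdef
  have hq0 : (q : ℂ) ≠ 0 := Nat.cast_ne_zero.2 (pow_ne_zero _ hM.1.ne_zero)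
  obtain ⟨r, hr⟩ : q ∣ Nat.card G := Nat.ordProj_dvd _ _
  have hrp : ¬ p ∣ r := by
    intro hd
    have : r = Nat.card G / q := by rw [hr, Nat.mul_div_cancel_left _ (pow_pos hM.1.pos _)]
    exact Nat.not_dvd_ordCompl hM.1 Nat.card_pos.ne' (this ▸ hd)
  rw [hr, Nat.cast_mul, mul_inv,
    show (q : ℂ)⁻¹ * (r : ℂ)⁻¹ * ((φ : G → ℂ) g⁻¹ *
      ∑ χ ∈ Finset.univ.filter (· ∈ A), (d χ φ : ℂ) * (χ : G → ℂ) 1) =
      (r : ℂ)⁻¹ * (φ : G → ℂ) g⁻¹ *
      ((∑ χ ∈ Finset.univ.filter (· ∈ A), (d χ φ : ℂ) * (χ : G → ℂ) 1) / (q : ℂ)) by ring]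
  exact mul_mem (mul_mem (inv_natCast_mem hM hrp) (mem_localRing_of_isIntegral
    (Char.IsChar.isIntegral (Char.IsIrr.isCharacter φ.2) _))) hq

end CfsgLib.Blocks
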