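import Cfsg.Agent.Lib.Blocks.RegularValues
import Cfsg.Agent.Lib.CharAction.PrincipalOverOdd
import Cfsg.Agent.Lib.Char.Gallagher
import Cfsg.Agent.Lib.Char.Brauer
import Cfsg.Agent.Lib.CharDegree.Twist
import Cfsg.Agent.Lib.CharDegree.Basic
import Cfsg.Agent.Lib.Char.Exceptional.SuperMonomial
import Mathlib.GroupTheory.Solvable

/-!
# The theorem of Alperin and Dade on principal blocks

`N` is normal of index prime to `p` and `C` centralizes a Sylow `p`-subgroup, with `G = N C`.
A character is normalized when `η x / η 1` is congruent to `1` at the elements of `C`: for an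
extension of a character in the principal block this is membership in the principal block, and
it is inherited by subgroups. Over a cyclic quotient the normalized extension exists and is unique,
and these extensions glue to a character of `G` by Brauer's criterion.
-/

namespace CfsgLib.AlperinDade

open Cfsg CfsgLib.Blocks CfsgLib.Char CfsgLib.Gallagher
open scoped ComplexConjugate commutatorElement

/-- The hypotheses. -/
structure Setting (p : ℕ) {G : Type*} [Group G] (N C : Subgroup G) : Prop where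
  sup : N ⊔ C = ⊤
  idx : ¬ p ∣ N.index
  sylow : ∃ P : Subgroup G, P ≤ N ∧ ¬ p ∣ P.index ∧
    ∀ x ∈ C, P ≤ Subgroup.centralizer ({x} : Set G)

variable {G : Type*} [Group G] [Fintype G] {p : ℕ} [Fact p.Prime] {N C : Subgroup G}

theorem Setting.not_dvd_class (S : Setting p N C) {x : G} (hx : x ∈ C) :
    ¬ p ∣ (Subgroup.centralizer ({x} : Set G)).index := by
  obtain ⟨P, -, hP, hPC⟩ := S.sylow
  exact fun h => hP (h.trans (Subgroup.index_dvd_of_le (hPC x hx)))

theorem Setting.exists_mul (S : Setting p N C) [N.Normal] (g : G) :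
    ∃ n ∈ N, ∃ c ∈ C, n * c = g := by
  have h : g ∈ N ⊔ C := S.sup ▸ Subgroup.mem_top g
  rwa [← SetLike.mem_coe, Subgroup.normal_mul N C, Set.mem_mul] at h

theorem Setting.sub (S : Setting p N C) [N.Normal] {H : Subgroup G} (hNH : N ≤ H) :
    Setting p (N.subgroupOf H) (C.subgroupOf H) where
  sup := by
    refine eq_top_iff.2 fun h _ => ?_
    obtain ⟨n, hn, c, hc, he⟩ := S.exists_mul (h : G)
    have hcH : c ∈ H := by
      rw [show c = n⁻¹ * (h : G) by rw [← he]; group]
      exact mul_mem (inv_mem (hNH hn)) h.2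
    rw [show h = ⟨n, hNH hn⟩ * ⟨c, hcH⟩ from Subtype.ext he.symm]
    exact Subgroup.mul_mem_sup (Subgroup.mem_subgroupOf.2 hn) (Subgroup.mem_subgroupOf.2 hc)
  idx := fun h => S.idx (h.trans (Subgroup.relIndex_dvd_index_of_normal N H))
  sylow := by
    obtain ⟨P, hPN, hP, hPC⟩ := S.sylow
    refine ⟨P.subgroupOf H, fun x hx => hPN hx, fun h => hP (h.trans ?_), fun x hx y hy => ?_⟩
    · exact Dvd.intro _ (Subgroup.relIndex_mul_index (hPN.trans hNH))
    · exact mem_centralizer_singleton.2 (Subtype.ext (mem_centralizer_singleton.1 (hPC _ hx hy)))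

variable {M : Ideal AlgInt} [M.IsPrime]

/-- Congruent to `1`. -/
def IsOne (M : Ideal AlgInt) [M.IsPrime] (z : ℂ) : Prop := z ∈ localRing M ∧ rv M z = 1

/-- Normalized values congruent to `1` on `C`. -/
def Good (M : Ideal AlgInt) [M.IsPrime] (C : Subgroup G) (η : G → ℂ) : Prop :=
  ∀ x ∈ C, IsOne M (η x / η 1)

theorem IsOne.ne_zero {z : ℂ} (h : IsOne M z) : z ≠ 0 := fun e => by
  have h1 := h.2
  rw [e, ← Nat.cast_zero, rv_natCast, Nat.cast_zero] at h1
  exact zero_ne_one h1

theorem good_iff (hM : IsPModular p M) (S : Setting p N C) (η : IrrCharacter G) :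
    Good M C (η : G → ℂ) ↔
      ∀ x ∈ C, centralCharBar M η x = centralCharBar M (Char.trivChar G) x := by
  refine forall₂_congr fun x hx => ?_
  have hi := S.not_dvd_class hx
  set i := (Subgroup.centralizer ({x} : Set G)).index with hidef
  have hi0 : (i : ℂ) ≠ 0 := Nat.cast_ne_zero.2 fun e => hi (e ▸ dvd_zero p)
  set v := (η : G → ℂ) x / (η : G → ℂ) 1
  have hω : centralChar (η : G → ℂ) x = (i : ℂ) * v := by rw [centralChar, ← hidef, mul_div_assoc]
  have hv : v ∈ localRing M := by
    rw [show v = (i : ℂ)⁻¹ * centralChar (η : G → ℂ) x by rw [hω, inv_mul_cancel_left₀ hi0]]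
    exact mul_mem (inv_natCast_mem hM hi) (centralCharO M η x).2
  have hbar : centralCharBar M η x = (i : Res M) * rv M v := by
    rw [centralCharBar, ← rv_coe, ← rv_natCast, ← rv_mul (natCast_mem _ _) hv]
    exact congrArg (rv M) hω
  rw [centralCharBar_trivChar, hbar]
  constructor
  · rintro ⟨-, h⟩
    rw [h, mul_one]
  · exact fun h => ⟨hv, mul_left_cancel₀ (natCast_ne_zero' hM hi) (h.trans (mul_one _).symm)⟩

theorem good_of_mem (hM : IsPModular p M) (S : Setting p N C) {η : IrrCharacter G}
    (hη : η ∈ principalBlock M G) : Good M C (η : G → ℂ) := by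
  rw [good_iff hM S]
  exact fun x _ => (sameBlock_iff.1 (show SameBlock M ((Char.trivChar G : IrrCharacter G) : G → ℂ)
    (η : G → ℂ) from hη) x).symm

variable [hN : N.Normal] [Fintype N]

/-- A character of the quotient normalized on `C` is trivial. -/
theorem apply_eq_one_of_isOne (hM : IsPModular p M) (S : Setting p N C)
    (β : IrrCharacter (G ⧸ N))
    (h : ∀ c ∈ C, IsOne M ((β : G ⧸ N → ℂ) (QuotientGroup.mk' N c) / (β : G ⧸ N → ℂ) 1)) :
    ∀ q, (β : G ⧸ N → ℂ) q = 1 := by
  classical
  have := Fintype.ofFinite (G ⧸ N)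
  by_cases hb : β = Char.trivChar (G ⧸ N)
  · intro q
    rw [hb, Char.trivChar_apply]
  exfalso
  have hd : ¬ p ∣ charDegree (β : G ⧸ N → ℂ) := fun hd =>
    S.idx (hd.trans (charDegree_dvd_card β))
  have hval : ∀ q : G ⧸ N, rv M ((β : G ⧸ N → ℂ) q) = (charDegree (β : G ⧸ N → ℂ) : Res M) := by
    intro q
    induction q using QuotientGroup.induction_on with
    | H g =>
      obtain ⟨n, hn, c, hc, rfl⟩ := S.exists_mul g
      have h1 := h c hc
      have hq : ((n * c : G) : G ⧸ N) = QuotientGroup.mk' N c := by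
        rw [QuotientGroup.mk_mul, (QuotientGroup.eq_one_iff n).2 hn, one_mul]
        rfl
      rw [hq, ← mul_one ((charDegree (β : G ⧸ N → ℂ) : Res M)), ← h1.2, ← rv_natCast,
        ← rv_mul (natCast_mem _ _) h1.1, ← apply_one_eq_charDegree,
        mul_div_cancel₀ _ (IsIrr.apply_one_ne_zero β.2)]
  have h0 : ∑ q : G ⧸ N, (β : G ⧸ N → ℂ) q = 0 := by
    have h2 := Char.classInner_irr_of_ne (χ := β) hb
    rw [classInner, mul_eq_zero] at h2
    simpa using h2.resolve_left (inv_ne_zero (Nat.cast_ne_zero.2 Nat.card_pos.ne'))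
  have h1 := congrArg (rv M) h0
  rw [rv_sum _ _ fun q _ => apply_mem_localRing β q, ← Nat.cast_zero, rv_natCast,
    Finset.sum_congr rfl fun q _ => hval q, Finset.sum_const, Finset.card_univ, nsmul_eq_mul,
    Nat.cast_zero, mul_eq_zero] at h1
  exact h1.elim (natCast_ne_zero' hM (by rw [← Nat.card_eq_fintype_card]; exact S.idx))
    (natCast_ne_zero' hM hd)

/-- Normalized extensions of an irreducible character are unique. -/
theorem eq_of_good (hM : IsPModular p M) (S : Setting p N C) {η η' : IrrCharacter G}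
    (hres : IsIrrCharacter N fun n : N => (η : G → ℂ) n)
    (hover : classInner (fun n : N => (η' : G → ℂ) n) (fun n : N => (η : G → ℂ) n) ≠ 0)
    (hη : Good M C (η : G → ℂ)) (hη' : Good M C (η' : G → ℂ)) : η' = η := by
  have := Fintype.ofFinite (G ⧸ N)
  obtain ⟨β, hβ⟩ := exists_eq_twistBy (IsIrr.isCharacter η.2) hres η' hover
  have hd : ¬ p ∣ charDegree (β : G ⧸ N → ℂ) := fun hd =>
    S.idx (hd.trans (charDegree_dvd_card β))
  have hone : ∀ c ∈ C,
      IsOne M ((β : G ⧸ N → ℂ) (QuotientGroup.mk' N c) / (β : G ⧸ N → ℂ) 1) := by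
    intro c hc
    have hb : (β : G ⧸ N → ℂ) (QuotientGroup.mk' N c) / (β : G ⧸ N → ℂ) 1 ∈ localRing M := by
      rw [div_eq_mul_inv, apply_one_eq_charDegree]
      exact mul_mem (apply_mem_localRing β _) (inv_natCast_mem hM hd)
    refine ⟨hb, ?_⟩
    have h1 := (hη' c hc).2
    rw [hβ, twistBy_apply, twistBy_apply, map_one, mul_div_mul_comm, rv_mul hb (hη c hc).1,
      (hη c hc).2, mul_one] at h1
    exact h1
  refine Subtype.ext (funext fun g => ?_)
  rw [hβ, twistBy_apply, apply_eq_one_of_isOne hM S β hone, one_mul]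

/-- The characters trivial on `N` that are normalized on `C` are principal. -/
theorem eq_trivChar_of_good (hM : IsPModular p M) (S : Setting p N C) {ξ : IrrCharacter G}
    (hξ : ∀ n : N, (ξ : G → ℂ) n = (ξ : G → ℂ) 1) (hgood : Good M C (ξ : G → ℂ)) :
    ξ = Char.trivChar G := by
  refine eq_of_good hM S ?_ ?_ (fun x _ => ?_) hgood
  · rw [show (fun n : N => ((Char.trivChar G : IrrCharacter G) : G → ℂ) n) = fun _ => 1 from
      funext fun n => Char.trivChar_apply _]
    exact Char.isIrrCharacter_one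
  · rw [show (fun n : N => ((Char.trivChar G : IrrCharacter G) : G → ℂ) n) =
        ((Char.trivChar N : IrrCharacter N) : N → ℂ) from funext fun n => by simp,
      show (fun n : N => (ξ : G → ℂ) n) = (ξ : G → ℂ) 1 •
        ((Char.trivChar N : IrrCharacter N) : N → ℂ) from funext fun n => by
          rw [Pi.smul_apply, Char.trivChar_apply, smul_eq_mul, mul_one, hξ],
      classInner_smul_left, classInner_irr_self, mul_one]
    exact IsIrr.apply_one_ne_zero ξ.2
  · refine ⟨by simp [one_mem], ?_⟩
    rw [show ((Char.trivChar G : IrrCharacter G) : G → ℂ) x /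
      ((Char.trivChar G : IrrCharacter G) : G → ℂ) 1 = ((1 : ℕ) : ℂ) by simp, rv_natCast,
      Nat.cast_one]

omit [Fact p.Prime] hN in
theorem classInner_restrict_self {η : IrrCharacter G} {θ : IrrCharacter N}
    (hext : ∀ n : N, (η : G → ℂ) n = (θ : N → ℂ) n) :
    classInner (fun n : N => (η : G → ℂ) n) (θ : N → ℂ) = 1 := by
  rw [funext hext, classInner_irr_self]

/-- A normalized extension of a character of the principal block lies in the principal block. -/
theorem mem_of_good (hM : IsPModular p M) (S : Setting p N C) {η : IrrCharacter G}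
    {θ : IrrCharacter N} (hθ : θ ∈ principalBlock M N)
    (hext : ∀ n : N, (η : G → ℂ) n = (θ : N → ℂ) n) (hη : Good M C (η : G → ℂ)) :
    η ∈ principalBlock M G := by
  obtain ⟨ξ, hξ, htriv⟩ := CharAction.exists_trivial_mem (p := p) N hM hθ
    (χ := η) (by rw [classInner_restrict_self hext]; exact one_ne_zero)
  have hgood : Good M C (ξ : G → ℂ) := by
    rw [good_iff hM S] at hη ⊢
    exact fun x hx => (sameBlock_iff.1 hξ x).symm.trans (hη x hx)
  rw [eq_trivChar_of_good hM S htriv hgood] at hξ
  exact SameBlock.symm' hξ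

/-- The case of a commutative quotient: the restriction is irreducible. -/
theorem restrict_mem_of_comm (hM : IsPModular p M) (S : Setting p N C)
    (hab : ∀ a b : G ⧸ N, a * b = b * a) {χ : IrrCharacter G} (hχ : χ ∈ principalBlock M G) :
    ∃ θ ∈ principalBlock M N, ∀ n : N, (χ : G → ℂ) n = (θ : N → ℂ) n := by
  classical
  have := Fintype.ofFinite (IrrCharacter (G ⧸ N))
  have hgood := good_of_mem hM S hχ
  have hres : IsIrrCharacter N fun n : N => (χ : G → ℂ) n := by
    refine IsChar.isIrr_of_classInner_eq_one (IsChar.restrict N (IsIrr.isCharacter χ.2)) ?_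
    have hind : classInner (indFun N fun n : N => (χ : G → ℂ) n) (χ : G → ℂ) = 1 := by
      rw [indFun_restrict_eq_sum (IsIrr.isClassFunction χ.2), classInner_sum_left,
        Finset.sum_eq_single (Char.trivChar (G ⧸ N))]
      · rw [show twistBy (χ : G → ℂ) ((Char.trivChar (G ⧸ N) : IrrCharacter (G ⧸ N)) : G ⧸ N → ℂ)
          = (χ : G → ℂ) from funext fun g => by simp [twistBy_apply],
          classInner_smul_left, classInner_irr_self, Char.trivChar_apply, mul_one]
      · intro β _ hne
        rw [classInner_smul_left]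
        refine mul_eq_zero_of_right _ ?_
        obtain ⟨l, hl⟩ := CharDegree.exists_hom_of_degree_one β
          (CharDegree.charDegree_of_comm hab β)
        have htw : IsIrrCharacter G (twistBy (χ : G → ℂ) (β : G ⧸ N → ℂ)) := by
          rw [show twistBy (χ : G → ℂ) (β : G ⧸ N → ℂ) =
            fun g => (χ : G → ℂ) g * ((l.comp (QuotientGroup.mk' N)) g : ℂ) from funext fun g => by
              rw [twistBy_apply, hl, mul_comm]; rfl]
          exact CharDegree.isIrr_mul_linear χ _
        refine Char.classInner_irr_of_ne (χ := ⟨_, htw⟩) fun e => hne (Subtype.ext ?_)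
        funext q
        rw [Char.trivChar_apply]
        induction q using QuotientGroup.induction_on with
        | H g =>
          obtain ⟨n, hn, c, hc, rfl⟩ := S.exists_mul g
          have hc0 : (χ : G → ℂ) c ≠ 0 := fun h0 => (hgood c hc).ne_zero (by rw [h0, zero_div])
          have h1 := congrFun (congrArg Subtype.val e) c
          replace h1 : (β : G ⧸ N → ℂ) (QuotientGroup.mk' N c) * (χ : G → ℂ) c = (χ : G → ℂ) c := h1
          rw [mul_eq_right₀ hc0] at h1
          rw [QuotientGroup.mk_mul, (QuotientGroup.eq_one_iff n).2 hn, one_mul]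
          exact h1
      · exact fun h => absurd (Finset.mem_univ _) h
    rwa [frobenius_reciprocity N _ (IsIrr.isClassFunction χ.2)] at hind
  exact ⟨⟨_, hres⟩, CharAction.mem_principalBlock_of_constituent (M := M) N hχ
    (by rw [classInner_irr_self ⟨_, hres⟩]; exact one_ne_zero), fun _ => rfl⟩

/-- The case of a commutative quotient: extensions exist. -/
theorem exists_ext_of_comm (hM : IsPModular p M) (S : Setting p N C)
    (hab : ∀ a b : G ⧸ N, a * b = b * a) {θ : IrrCharacter N} (hθ : θ ∈ principalBlock M N) :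
    ∃ χ ∈ principalBlock M G, ∀ n : N, (χ : G → ℂ) n = (θ : N → ℂ) n := by
  classical
  obtain ⟨χ, hχ⟩ := exists_irr_over N θ
  obtain ⟨ξ, hξ, htriv⟩ := CharAction.exists_trivial_mem (p := p) N hM hθ hχ
  obtain ⟨β, hβ⟩ := CharDegree.exists_infl (N := N) ξ (fun n hn => htriv ⟨n, hn⟩)
  obtain ⟨l, hl⟩ := CharDegree.exists_hom_of_degree_one β (CharDegree.charDegree_of_comm hab β)
  let L : G →* ℂˣ := l.comp (QuotientGroup.mk' N)
  have hξL : ∀ g, (ξ : G → ℂ) g = (L g : ℂ) := fun g => by
    rw [← hβ, CharDegree.infl_apply, hl]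
    rfl
  let χ' : IrrCharacter G :=
    ⟨_, CharDegree.isIrr_mul_linear χ L⁻¹⟩
  have hχ'B : χ' ∈ principalBlock M G := by
    show SameBlock M ((Char.trivChar G : IrrCharacter G) : G → ℂ) (χ' : G → ℂ)
    rw [sameBlock_iff]
    intro g
    have h1 := sameBlock_iff.1 hξ g
    have hLmem : ((L⁻¹ g : ℂˣ) : ℂ) ∈ localRing M := by
      have hfin : (L⁻¹ g) ^ Nat.card G = 1 := by rw [← map_pow, pow_card_eq_one', map_one]
      refine mem_localRing_of_pow_eq_one (M := M) (Nat.card_pos (α := G)).ne' ?_
      rw [← Units.val_pow_eq_pow_val, hfin, Units.val_one]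
    have e1 : centralChar (χ' : G → ℂ) g = ((L⁻¹ g : ℂˣ) : ℂ) * centralChar (χ : G → ℂ) g := by
      simp only [centralChar, χ', map_one, Units.val_one, mul_one]
      ring
    have e2 : centralChar ((Char.trivChar G : IrrCharacter G) : G → ℂ) g =
        ((L⁻¹ g : ℂˣ) : ℂ) * centralChar (ξ : G → ℂ) g := by
      simp only [centralChar, hξL, map_one, Units.val_one, div_one, Char.trivChar_apply,
        MonoidHom.inv_apply, Units.val_inv_eq_inv_val, mul_one]
      field_simp
    have hbar : ∀ ψ : IrrCharacter G,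
        centralCharBar M ψ g = rv M (centralChar (ψ : G → ℂ) g) :=
      fun ψ => (rv_coe (centralCharO M ψ g)).symm
    have hm : ∀ ψ : IrrCharacter G, centralChar (ψ : G → ℂ) g ∈ localRing M :=
      fun ψ => (centralCharO M ψ g).2
    rw [hbar, hbar, e1, e2, rv_mul hLmem (hm ξ), rv_mul hLmem (hm χ), ← hbar, ← hbar, h1]
  obtain ⟨θ', -, hext⟩ := restrict_mem_of_comm hM S hab hχ'B
  refine ⟨χ', hχ'B, ?_⟩
  have hLN : ∀ n : N, L (n : G) = 1 := fun n => by
    show l (QuotientGroup.mk' N n) = 1
    rw [show QuotientGroup.mk' N (n : G) = 1 from (QuotientGroup.eq_one_iff _).2 n.2, map_one]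
  have hχ'χ : ∀ n : N, (χ' : G → ℂ) n = (χ : G → ℂ) n := fun n => by
    simp [χ', hLN]
  have he : θ' = θ := by
    by_contra hne
    refine hχ ?_
    rw [show (fun n : N => (χ : G → ℂ) n) = (θ' : N → ℂ) from funext fun n => by
      rw [← hext, hχ'χ]]
    exact classInner_irr_of_ne hne
  exact he ▸ hext

/-- The norms on the cosets of `N` of a character with irreducible restriction. -/
theorem sum_coset_norm {η : G → ℂ} (hη : IsCharacter G η)
    (hres : IsIrrCharacter N fun n : N => η n) (g : G) :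
    ∑ n : N, η (g * n) * conj (η (g * n)) = (Nat.card N : ℂ) := by
  classical
  have := Fintype.ofFinite (G ⧸ N)
  set k : G → ℂ := fun g => ∑ n : N, η (g * n) * conj (η (g * n)) - (Nat.card N : ℂ) with hk
  have hkN : ∀ g, ∀ m : N, k (g * m) = k g := fun g m => by
    simp only [hk]
    congr 1
    exact Fintype.sum_equiv (Equiv.mulLeft m) _ _ fun n => by simp [mul_assoc]
  have hkc : IsClassFunction G k := fun g t => by
    simp only [hk]
    congr 1
    refine (Fintype.sum_equiv (MulAut.conjNormal t).toEquiv _ _ fun n => ?_).symm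
    have he : t * g * t⁻¹ * (((MulAut.conjNormal t).toEquiv n : N) : G) = t * (g * n) * t⁻¹ := by
      simp [mul_assoc]
    rw [he, IsChar.isClassFunction hη _ t]
  let kq : G ⧸ N → ℂ := fun q => k q.out
  have hkq : ∀ g : G, kq (QuotientGroup.mk' N g) = k g := fun g => by
    obtain ⟨m, hm⟩ := QuotientGroup.mk_out_eq_mul N g
    show k (Quotient.out (g : G ⧸ N)) = k g
    rw [hm, hkN]
  have hzero : kq = 0 := by
    refine Char.eq_zero_of_classInner_eq_zero (fun q r => ?_) fun β => ?_
    · induction q using QuotientGroup.induction_on with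
      | H a =>
        induction r using QuotientGroup.induction_on with
        | H b =>
          have h1 : ((b : G ⧸ N) * a * (b : G ⧸ N)⁻¹) = QuotientGroup.mk' N (b * a * b⁻¹) := rfl
          rw [h1, hkq, show (a : G ⧸ N) = QuotientGroup.mk' N a from rfl, hkq]
          exact hkc a b
    · -- the twists are orthonormal
      have h1 := classInner_twistBy hη hres (Char.trivChar (G ⧸ N)) β
      rw [show twistBy η ((Char.trivChar (G ⧸ N) : IrrCharacter (G ⧸ N)) : G ⧸ N → ℂ) = η from
        funext fun g => by simp [twistBy_apply]] at h1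
      have h2 := Char.classInner_irr (Char.trivChar (G ⧸ N)) β
      have key : ∑ g : G, k g * conj ((β : G ⧸ N → ℂ) (QuotientGroup.mk' N g)) = 0 := by
        simp only [hk, sub_mul, Finset.sum_sub_distrib, Finset.sum_mul]
        have hshift : ∀ n : N, ∑ g : G, η (g * n) * conj (η (g * n)) *
            conj ((β : G ⧸ N → ℂ) (QuotientGroup.mk' N g)) =
            ∑ g : G, η g * conj (η g) * conj ((β : G ⧸ N → ℂ) (QuotientGroup.mk' N g)) := fun n =>
          Fintype.sum_equiv (Equiv.mulRight (n : G)) _ _ fun g => by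
            rw [Equiv.coe_mulRight, show QuotientGroup.mk' N (g * n) = QuotientGroup.mk' N g by
              rw [map_mul, show QuotientGroup.mk' N (n : G) = 1 from
                (QuotientGroup.eq_one_iff _).2 n.2, mul_one]]
        rw [Finset.sum_comm]
        simp only [hshift]
        rw [
          Finset.sum_const, Finset.card_univ, nsmul_eq_mul, ← Nat.card_eq_fintype_card, sub_eq_zero,
          ← Finset.mul_sum]
        congr 1
        have hG : (Nat.card G : ℂ) ≠ 0 := Nat.cast_ne_zero.2 Nat.card_pos.ne'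
        have hQ : (Nat.card (G ⧸ N) : ℂ) ≠ 0 := Nat.cast_ne_zero.2 Nat.card_pos.ne'
        rw [classInner, inv_mul_eq_iff_eq_mul₀ hG] at h1
        rw [classInner, inv_mul_eq_iff_eq_mul₀ hQ] at h2
        rw [show ∑ g : G, η g * conj (η g) * conj ((β : G ⧸ N → ℂ) (QuotientGroup.mk' N g)) =
          ∑ g : G, η g * conj (twistBy η (β : G ⧸ N → ℂ) g) from Finset.sum_congr rfl fun g _ => by
            rw [twistBy_apply, map_mul]; ring, h1]
        simp only [QuotientGroup.mk'_apply]
        rw [CharDegree.sum_mk (N := N) fun q => conj ((β : G ⧸ N → ℂ) q)]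
        simp only [Char.trivChar_apply, one_mul] at h2
        rw [h2, Subgroup.card_eq_card_quotient_mul_card_subgroup N]
        push_cast
        ring
      rw [classInner]
      refine mul_eq_zero_of_right _ ?_
      have h3 := CharDegree.sum_mk (N := N) fun q => kq q * conj ((β : G ⧸ N → ℂ) q)
      replace h3 : ∑ g : G, k g * conj ((β : G ⧸ N → ℂ) (QuotientGroup.mk' N g)) =
          (Nat.card N : ℂ) * ∑ q, kq q * conj ((β : G ⧸ N → ℂ) q) :=
        (Finset.sum_congr rfl fun g _ => by rw [← hkq]; rfl).trans h3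
      have hN0 : (Nat.card N : ℂ) ≠ 0 := Nat.cast_ne_zero.2 Nat.card_pos.ne'
      exact (mul_eq_zero.1 (h3.symm.trans key)).resolve_left hN0
  have h := hkq g
  rw [hzero] at h
  exact sub_eq_zero.1 h.symm

/-! ### Subgroups containing `N` -/

omit [Fintype G] [Fact p.Prime] hN [Fintype N] in
theorem Setting.mono (S : Setting p N C) {M₀ : Subgroup G} (hle : N ≤ M₀) : Setting p M₀ C where
  sup := eq_top_iff.2 (S.sup ▸ sup_le_sup_right hle C)
  idx := fun h => S.idx (h.trans (Subgroup.index_dvd_of_le hle))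
  sylow := S.sylow.imp fun _ h => ⟨h.1.trans hle, h.2⟩

omit [Fintype G] [Fintype N] hN [M.IsPrime] [Fact p.Prime] in
theorem pullEquiv_mem_principalBlock {K L : Type*} [Group K] [Group L] (e : K ≃* L)
    {θ : IrrCharacter L} (hθ : θ ∈ principalBlock M L) :
    pullEquiv e θ ∈ principalBlock M K := by
  show SameBlock M _ _
  intro x
  rw [centralChar_pullEquiv]
  have h := hθ (e x)
  have h1 := centralChar_pullEquiv e (Char.trivChar L) x
  have h2 : (fun _ : K => (1 : ℂ)) = (pullEquiv e (Char.trivChar L) : K → ℂ) :=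
    funext fun y => by simp
  rw [h2, h1]
  exact h

/-- The restriction to `N` is `θ`. -/
def IsExt (θ : IrrCharacter N) (H : Subgroup G) (η : H → ℂ) : Prop :=
  ∀ (x : H) (hx : (x : G) ∈ N), η x = (θ : N → ℂ) ⟨x, hx⟩

/-- A character of the principal block moved to a copy of `N` inside `H`. -/
def θIn (θ : IrrCharacter N) {H : Subgroup G} (hNH : N ≤ H) : IrrCharacter (N.subgroupOf H) :=
  pullEquiv (Subgroup.subgroupOfEquivOfLe hNH) θ

omit [Fintype G] [Fintype N] hN in
theorem θIn_apply (θ : IrrCharacter N) {H : Subgroup G} (hNH : N ≤ H) (x : N.subgroupOf H) :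
    (θIn θ hNH : N.subgroupOf H → ℂ) x = (θ : N → ℂ) ⟨((x : H) : G), x.2⟩ := rfl

open scoped Classical in
/-- Normalized extensions inside a subgroup are unique. -/
theorem eq_of_isExt (hM : IsPModular p M) (S : Setting p N C) (θ : IrrCharacter N)
    {H : Subgroup G} (hNH : N ≤ H) {η η' : IrrCharacter H} (hη : IsExt θ H (η : H → ℂ))
    (hη' : IsExt θ H (η' : H → ℂ)) (hg : Good M (C.subgroupOf H) (η : H → ℂ))
    (hg' : Good M (C.subgroupOf H) (η' : H → ℂ)) : η' = η := by
  have := Fintype.ofFinite H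
  have := Fintype.ofFinite (N.subgroupOf H)
  have h1 : (fun n : N.subgroupOf H => (η : H → ℂ) n) = (θIn θ hNH : N.subgroupOf H → ℂ) :=
    funext fun n => hη n n.2
  have h2 : (fun n : N.subgroupOf H => (η' : H → ℂ) n) = (θIn θ hNH : N.subgroupOf H → ℂ) :=
    funext fun n => hη' n n.2
  refine eq_of_good hM (S.sub hNH) (h1 ▸ (θIn θ hNH).2) ?_ hg hg'
  rw [h1, h2, classInner_irr_self]
  exact one_ne_zero

open scoped Classical in
/-- Normalized extensions to `N E` exist for solvable `E`. -/
theorem exists_isExt (hM : IsPModular p M) (S : Setting p N C) {θ : IrrCharacter N}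
    (hθ : θ ∈ principalBlock M N) :
    ∀ (H E : Subgroup G), Group.IsSolvable E → H = N ⊔ E →
      ∃ η : IrrCharacter H, IsExt θ H (η : H → ℂ) ∧ Good M (C.subgroupOf H) (η : H → ℂ) := by
  intro H
  induction H using (wellFounded_lt (α := Subgroup G)).induction with
  | h H ih =>
    intro E hE hHE
    have hNH : N ≤ H := hHE ▸ le_sup_left
    have := Fintype.ofFinite H
    have := Fintype.ofFinite (N.subgroupOf H)
    have hθ' : θIn θ hNH ∈ principalBlock M (N.subgroupOf H) :=
      pullEquiv_mem_principalBlock _ hθ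
    have SH := S.sub hNH
    by_cases hEN : H ≤ N
    · let e : H ≃* N := MulEquiv.subgroupCongr (le_antisymm hEN hNH)
      refine ⟨pullEquiv e θ, fun x hx => rfl, good_of_mem hM SH ?_⟩
      exact pullEquiv_mem_principalBlock e hθ
    -- a proper normal subgroup with commutative quotient
    set M₀ : Subgroup H := commutator H ⊔ N.subgroupOf H with hM₀
    have hM₀n : M₀.Normal := inferInstanceAs (commutator H ⊔ N.subgroupOf H).Normal
    have hM₀t : M₀ ≠ ⊤ := by
      intro htop
      let π := QuotientGroup.mk' (N.subgroupOf H)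
      let f : E →* H ⧸ N.subgroupOf H := π.comp (Subgroup.inclusion (hHE ▸ le_sup_right))
      have hf : Function.Surjective f := by
        intro q
        induction q using QuotientGroup.induction_on with
        | H h =>
          have hh : (h : G) ∈ N ⊔ E := hHE ▸ h.2
          rw [← SetLike.mem_coe, Subgroup.normal_mul N E, Set.mem_mul] at hh
          obtain ⟨n, hn, e, he, hne⟩ := hh
          refine ⟨⟨e, he⟩, ?_⟩
          have h3 : h = ⟨n, hNH hn⟩ * Subgroup.inclusion (hHE ▸ le_sup_right) (⟨e, he⟩ : E) :=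
            Subtype.ext hne.symm
          show _ = π h
          rw [h3, map_mul, show π ⟨n, hNH hn⟩ = 1 from
            (QuotientGroup.eq_one_iff _).2 (Subgroup.mem_subgroupOf.2 hn), one_mul]
          rfl
      have hsol : Group.IsSolvable (H ⧸ N.subgroupOf H) := Group.isSolvable_of_surjective hf
      have hperf : commutator (H ⧸ N.subgroupOf H) = ⊤ := by
        have h1 := congrArg (Subgroup.map π) htop
        rw [hM₀, Subgroup.map_sup, QuotientGroup.map_mk'_self, sup_bot_eq,
          Subgroup.map_top_of_surjective π (QuotientGroup.mk'_surjective _), commutator_def,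
          Subgroup.map_commutator, Subgroup.map_top_of_surjective π
            (QuotientGroup.mk'_surjective _), ← commutator_def] at h1
        exact h1
      have hnt : Nontrivial (H ⧸ N.subgroupOf H) := by
        obtain ⟨x, hxH, hxN⟩ := SetLike.not_le_iff_exists.1 hEN
        exact ⟨⟨(⟨x, hxH⟩ : H), 1, fun h => hxN ((QuotientGroup.eq_one_iff (⟨x, hxH⟩ : H)).1 h)⟩⟩
      exact (Group.IsSolvable.commutator_lt_top_of_nontrivial _).ne hperf
    have hab : ∀ a b : H ⧸ M₀, a * b = b * a := by
      intro a b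
      induction a using QuotientGroup.induction_on with
      | H a =>
        induction b using QuotientGroup.induction_on with
        | H b =>
          rw [← QuotientGroup.mk_mul, ← QuotientGroup.mk_mul, QuotientGroup.eq]
          refine Subgroup.mem_sup_left ?_
          rw [show (a * b)⁻¹ * (b * a) = b⁻¹ * a⁻¹ * (b⁻¹)⁻¹ * (a⁻¹)⁻¹ by group]
          rw [show b⁻¹ * a⁻¹ * (b⁻¹)⁻¹ * (a⁻¹)⁻¹ = ⁅b⁻¹, a⁻¹⁆ by rw [commutatorElement_def]]
          exact Subgroup.commutator_mem_commutator (Subgroup.mem_top _) (Subgroup.mem_top _)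
    set L : Subgroup G := M₀.map H.subtype with hL
    have hLH : L ≤ H := Subgroup.map_subtype_le _
    have hNL : N ≤ L := fun n hn => ⟨⟨n, hNH hn⟩, Subgroup.mem_sup_right hn, rfl⟩
    have hlt : L < H := lt_of_le_of_ne hLH fun he => hM₀t (eq_top_iff.2 fun x _ => by
      obtain ⟨y, hy, hyx⟩ := he.ge x.2
      rwa [← Subtype.ext hyx])
    have hLE : L = N ⊔ E ⊓ L := by
      refine le_antisymm (fun x hx => ?_) (sup_le hNL inf_le_right)
      have hh : x ∈ N ⊔ E := hHE ▸ hLH hx
      rw [← SetLike.mem_coe, Subgroup.normal_mul N E, Set.mem_mul] at hh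
      obtain ⟨n, hn, e, he, rfl⟩ := hh
      refine Subgroup.mul_mem_sup hn ⟨he, ?_⟩
      simpa using L.mul_mem (L.inv_mem (hNL hn)) hx
    obtain ⟨η₀, hext₀, hgood₀⟩ := ih L hlt (E ⊓ L)
      (Group.isSolvable_of_isSolvable_injective
        (f := Subgroup.inclusion (inf_le_left : E ⊓ L ≤ E)) (Subgroup.inclusion_injective _)) hLE
    have := Fintype.ofFinite L
    have := Fintype.ofFinite (N.subgroupOf L)
    have hη₀ : η₀ ∈ principalBlock M L := mem_of_good hM (S.sub hNL)
      (θ := θIn θ hNL) (pullEquiv_mem_principalBlock _ hθ) (fun n => hext₀ n n.2) hgood₀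
    let e : M₀ ≃* L := M₀.equivMapOfInjective H.subtype H.subtype_injective
    have := Fintype.ofFinite M₀
    obtain ⟨χ, hχ, hres⟩ := exists_ext_of_comm hM (SH.mono (M₀ := M₀) le_sup_right) hab
      (pullEquiv_mem_principalBlock (M := M) e hη₀)
    refine ⟨χ, fun x hx => ?_, good_of_mem hM SH hχ⟩
    have h1 := hres ⟨x, Subgroup.mem_sup_right hx⟩
    rw [pullEquiv_apply] at h1
    exact h1.trans (hext₀ _ hx)

open scoped Classical in
/-- Every character of the principal block of `N` extends to the principal block of `G`. -/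
theorem exists_ext (hM : IsPModular p M) (S : Setting p N C) {θ : IrrCharacter N}
    (hθ : θ ∈ principalBlock M N) :
    ∃ χ : IrrCharacter G, (∀ n : N, (χ : G → ℂ) n = (θ : N → ℂ) n) ∧
      Good M C (χ : G → ℂ) := by
  have hcyc : ∀ g : G, Group.IsSolvable (Subgroup.zpowers g) := fun g =>
    Group.isSolvable_of_comm fun a b => mul_comm' a b
  choose ext hext hgood using fun g : G =>
    exists_isExt hM S hθ (N ⊔ Subgroup.zpowers g) (Subgroup.zpowers g) (hcyc g) rfl
  have hgmem : ∀ g : G, g ∈ N ⊔ Subgroup.zpowers g := fun g =>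
    Subgroup.mem_sup_right (Subgroup.mem_zpowers g)
  let Φ : G → ℂ := fun g => (ext g : ↥(N ⊔ Subgroup.zpowers g) → ℂ) ⟨g, hgmem g⟩
  -- the values of normalized extensions
  have key : ∀ (H : Subgroup G) (η : IrrCharacter H), N ≤ H → IsExt θ H (η : H → ℂ) →
      Good M (C.subgroupOf H) (η : H → ℂ) → ∀ h : H, (η : H → ℂ) h = Φ h := by
    intro H η hNH hη hηg h
    have hle : N ⊔ Subgroup.zpowers (h : G) ≤ H := sup_le hNH (Subgroup.zpowers_le.2 h.2)
    let ι := Subgroup.inclusion hle
    have := Fintype.ofFinite (N.subgroupOf (N ⊔ Subgroup.zpowers (h : G)))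
    have hirr : IsIrrCharacter _ fun x => (η : H → ℂ) (ι x) := by
      refine Exceptional.irr_of_restrict_irr
        (N.subgroupOf (N ⊔ Subgroup.zpowers (h : G))).subtype
        (IsChar.comp ι (IsIrr.isCharacter η.2)) ?_
      rw [show (fun x : N.subgroupOf (N ⊔ Subgroup.zpowers (h : G)) => (η : H → ℂ)
        (ι ((N.subgroupOf (N ⊔ Subgroup.zpowers (h : G))).subtype x))) =
          ((θIn θ (le_sup_left : N ≤ N ⊔ Subgroup.zpowers (h : G))) :
            N.subgroupOf (N ⊔ Subgroup.zpowers (h : G)) → ℂ) from funext fun x => hη (ι x.1) (Subgroup.mem_subgroupOf.1 x.2)]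
      exact (θIn θ le_sup_left).2
    have he := eq_of_isExt hM S θ le_sup_left (η := ext h) (η' := ⟨_, hirr⟩) (hext h)
      (fun x hx => hη (ι x) hx) (hgood h) fun x hx => hηg (ι x) hx
    exact congrFun (congrArg Subtype.val he) ⟨(h : G), hgmem h⟩
  have hΦN : ∀ n : N, Φ n = (θ : N → ℂ) n := fun n => hext n ⟨n, hgmem n⟩ n.2
  -- conjugation by `N`
  have hconjN : ∀ g : G, ∀ n ∈ N, Φ (n * g * n⁻¹) = Φ g := by
    intro g n hn
    let h : ↥(N ⊔ Subgroup.zpowers g) := ⟨n, Subgroup.mem_sup_left hn⟩
    have h1 := key _ (ext g) le_sup_left (hext g) (hgood g) (h * ⟨g, hgmem g⟩ * h⁻¹)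
    rw [IsIrr.isClassFunction (ext g).2] at h1
    exact h1.symm
  -- invariance of `θ`
  have hinv : ∀ c ∈ C, ∀ n : N,
      (θ : N → ℂ) ⟨c * n * c⁻¹, hN.conj_mem n n.2 c⟩ = (θ : N → ℂ) n := by
    intro c hc n
    let h : ↥(N ⊔ Subgroup.zpowers c) := ⟨c, hgmem c⟩
    let m : ↥(N ⊔ Subgroup.zpowers c) := ⟨n, Subgroup.mem_sup_left n.2⟩
    have h1 := IsIrr.isClassFunction (ext c).2 m h
    rw [hext c m n.2, hext c (h * m * h⁻¹) (hN.conj_mem n n.2 c)] at h1
    exact h1
  have hconjC : ∀ g : G, ∀ c ∈ C, Φ (c * g * c⁻¹) = Φ g := by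
    intro g c hc
    set H := N ⊔ Subgroup.zpowers (c * g * c⁻¹) with hH
    have hmap : ∀ x : H, c⁻¹ * (x : G) * c ∈ N ⊔ Subgroup.zpowers g := by
      intro x
      have hx : (x : G) ∈ (N ⊔ Subgroup.zpowers g).map (MulAut.conj c).toMonoidHom := by
        refine (sup_le ?_ ?_ : H ≤ _) x.2
        · exact fun n hn => ⟨c⁻¹ * n * c, Subgroup.mem_sup_left (by
            simpa using hN.conj_mem n hn c⁻¹), by simp [mul_assoc]⟩
        · exact Subgroup.zpowers_le.2 ⟨g, hgmem g, by simp⟩
      obtain ⟨y, hy, hyx⟩ := hx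
      rw [← hyx]
      simpa [mul_assoc] using hy
    let f : H →* ↥(N ⊔ Subgroup.zpowers g) :=
      MonoidHom.mk' (fun x => ⟨c⁻¹ * (x : G) * c, hmap x⟩) fun x y => Subtype.ext (by
        simp [mul_assoc])
    have hfs : Function.Surjective f := by
      intro y
      have hy : c * (y : G) * c⁻¹ ∈ H := by
        have hy' : (y : G) ∈ H.map (MulAut.conj c⁻¹).toMonoidHom := by
          refine (sup_le ?_ ?_ : N ⊔ Subgroup.zpowers g ≤ _) y.2
          · exact fun n hn => ⟨c * n * c⁻¹, Subgroup.mem_sup_left (hN.conj_mem n hn c), by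
              simp [mul_assoc]⟩
          · exact Subgroup.zpowers_le.2 ⟨c * g * c⁻¹, hgmem _, by simp [mul_assoc]⟩
        obtain ⟨z, hz, hzy⟩ := hy'
        rw [← hzy]
        simpa [mul_assoc] using hz
      exact ⟨⟨_, hy⟩, Subtype.ext (by simp [f, mul_assoc])⟩
    let η : IrrCharacter H := ⟨_, IsIrr.comp_surjective f hfs (ext g).2⟩
    have h1 : IsExt θ H (η : H → ℂ) := by
      intro x hx
      have hx' : c⁻¹ * (x : G) * c ∈ N := by simpa using hN.conj_mem _ hx c⁻¹
      refine (hext g (f x) hx').trans ?_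
      refine (hinv c hc ⟨_, hx'⟩).symm.trans ?_
      exact congrArg (θ : N → ℂ) (Subtype.ext (by
        show c * (c⁻¹ * (x : G) * c) * c⁻¹ = _
        group))
    have h2 : Good M (C.subgroupOf H) (η : H → ℂ) := by
      intro x hx
      have h := hgood g (f x) (C.mul_mem (C.mul_mem (C.inv_mem hc) hx) hc)
      rwa [← map_one f] at h
    have h3 := key H η le_sup_left h1 h2 ⟨_, hgmem _⟩
    rw [← h3]
    exact congrArg (ext g : ↥(N ⊔ Subgroup.zpowers g) → ℂ) (Subtype.ext (by simp [f, mul_assoc]))
  have hclass : IsClassFunction G Φ := by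
    intro g t
    obtain ⟨n, hn, c, hc, rfl⟩ := S.exists_mul t
    rw [show n * c * g * (n * c)⁻¹ = n * (c * g * c⁻¹) * n⁻¹ by group, hconjN _ n hn, hconjC g c hc]
  have hgen : IsGeneralizedCharacter G Φ := by
    refine Brauer.isGeneralizedCharacter_of_elementary hclass fun E q hq hE => ?_
    have hnil := Brauer.isNilpotent_of_isElementary hq hE
    obtain ⟨η, hη, hηg⟩ := exists_isExt hM S hθ (N ⊔ E) E inferInstance rfl
    refine IsGen.of_isCharacter ?_
    rw [show (fun e : E => Φ e) = fun e : E => (η : ↥(N ⊔ E) → ℂ) (Subgroup.inclusion le_sup_right e) from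
      funext fun e => (key _ η le_sup_left hη hηg (Subgroup.inclusion le_sup_right e)).symm]
    exact IsChar.comp _ (IsIrr.isCharacter η.2)
  have hnorm : classInner Φ Φ = 1 := by
    have hcoset : ∀ g : G, ∑ n : N, Φ (g * n) * conj (Φ (g * n)) = (Nat.card N : ℂ) := by
      intro g
      set H := N ⊔ Subgroup.zpowers g with hH
      have := Fintype.ofFinite H
      have := Fintype.ofFinite (N.subgroupOf H)
      have h := sum_coset_norm (N := N.subgroupOf H) (IsIrr.isCharacter (ext g).2) (by
        rw [show (fun n : N.subgroupOf H => (ext g : H → ℂ) n) =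
            ((θIn θ (le_sup_left : N ≤ H)) : N.subgroupOf H → ℂ) from
          funext fun n => hext g n n.2]
        exact (θIn θ le_sup_left).2) ⟨g, hgmem g⟩
      rw [Nat.card_congr (Subgroup.subgroupOfEquivOfLe (le_sup_left : N ≤ H)).toEquiv] at h
      rw [← h]
      refine Fintype.sum_equiv (Subgroup.subgroupOfEquivOfLe (le_sup_left : N ≤ H)).symm.toEquiv _ _
        fun n => ?_
      rw [key H (ext g) le_sup_left (hext g) (hgood g)]
      rfl
    have h0 : (Nat.card N : ℂ) ≠ 0 := Nat.cast_ne_zero.2 Nat.card_pos.ne'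
    have htot : ∑ g : G, Φ g * conj (Φ g) = (Nat.card G : ℂ) := by
      refine mul_left_cancel₀ h0 ?_
      calc (Nat.card N : ℂ) * ∑ g : G, Φ g * conj (Φ g)
          = ∑ n : N, ∑ g : G, Φ (g * n) * conj (Φ (g * n)) := by
            rw [Finset.sum_congr rfl (g := fun _ => ∑ g : G, Φ g * conj (Φ g)) fun (n : N) _ =>
              Fintype.sum_equiv (Equiv.mulRight (n : G))
                (fun g => Φ (g * n) * conj (Φ (g * n))) (fun g => Φ g * conj (Φ g)) fun g => rfl,
              Finset.sum_const, Finset.card_univ, nsmul_eq_mul, ← Nat.card_eq_fintype_card]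
        _ = (Nat.card N : ℂ) * Nat.card G := by
            rw [Finset.sum_comm, Finset.sum_congr rfl fun g _ => hcoset g, Finset.sum_const,
              Finset.card_univ, nsmul_eq_mul, ← Nat.card_eq_fintype_card, mul_comm]
    rw [classInner, htot, inv_mul_cancel₀ (Nat.cast_ne_zero.2 Nat.card_pos.ne')]
  have hpos : 0 < (Φ 1).re := by
    rw [show Φ 1 = (θ : N → ℂ) 1 from hΦN 1, apply_one_eq_charDegree, Complex.natCast_re]
    exact Nat.cast_pos.2 (charDegree_pos θ)
  refine ⟨⟨Φ, IsGen.isIrr_of_norm_one hgen hnorm hpos⟩, hΦN, fun x hx => ?_⟩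
  have h := hgood x ⟨x, hgmem x⟩ hx
  rwa [key _ (ext x) le_sup_left (hext x) (hgood x),
    key _ (ext x) le_sup_left (hext x) (hgood x)] at h

open scoped Classical in
/-- **Alperin–Dade**: restriction is a bijection of principal blocks. -/
theorem bijection (hM : IsPModular p M) (S : Setting p N C) :
    (∀ χ ∈ principalBlock M G, ∃ θ ∈ principalBlock M N, ∀ n : N, (χ : G → ℂ) n = (θ : N → ℂ) n) ∧
      ∀ θ ∈ principalBlock M N, ∃! χ : IrrCharacter G,
        χ ∈ principalBlock M G ∧ ∀ n : N, (χ : G → ℂ) n = (θ : N → ℂ) n := by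
  constructor
  · intro χ hχ
    obtain ⟨θ, hc⟩ := exists_constituent N χ
    have hθ := CharAction.mem_principalBlock_of_constituent (M := M) N hχ hc
    obtain ⟨χ₀, hres, hgood⟩ := exists_ext hM S hθ
    have he : (fun n : N => (χ₀ : G → ℂ) n) = (θ : N → ℂ) := funext hres
    rw [eq_of_good hM S (he ▸ θ.2) (by rwa [he]) hgood (good_of_mem hM S hχ)]
    exact ⟨θ, hθ, hres⟩
  · intro θ hθ
    obtain ⟨χ₀, hres, hgood⟩ := exists_ext hM S hθ
    refine ⟨χ₀, ⟨mem_of_good hM S hθ hres hgood, hres⟩, fun χ hχ => ?_⟩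
    have he : (fun n : N => (χ₀ : G → ℂ) n) = (θ : N → ℂ) := funext hres
    refine eq_of_good hM S (he ▸ θ.2) ?_ hgood (good_of_mem hM S hχ.1)
    rw [he, show (fun n : N => (χ : G → ℂ) n) = (θ : N → ℂ) from funext hχ.2, classInner_irr_self]
    exact one_ne_zero

end CfsgLib.AlperinDade
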