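import Cfsg.Agent.Lib.Blocks.GroupAlg
import Mathlib.Algebra.MonoidAlgebra.MapDomain
import Mathlib.RingTheory.Nilpotent.Basic

/-!
# Blocks as the algebra homomorphisms of the centre of the group algebra over the residue field

`Res M` is the residue field at `M`.  `omegaBar χ` is the reduced central character, multiplicative
on central elements of `(Res M)[G]`.  `SameBlock` is equality of reduced central characters, the
block idempotent has coefficients in the local ring (`blockCoeff_mem`), its reduction is
`blockIdemBar`, and every unital multiplicative functional on the centre is some `omegaBar χ`.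
-/

namespace CfsgLib.Blocks

open Cfsg MonoidAlgebra

variable (M : Ideal AlgInt) [M.IsPrime]

/-- The residue field at `M`. -/
abbrev Res : Type := IsLocalRing.ResidueField (localRing M)

/-- The residue map at `M`. -/
noncomputable abbrev resHom : localRing M →+* Res M := IsLocalRing.residue (localRing M)

variable {G : Type*} [Group G]

/-- The inclusion of the group algebra over the local ring. -/
noncomputable def inc : MonoidAlgebra (localRing M) G →+* MonoidAlgebra ℂ G :=
  mapRingHom G (localRing M).subtype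

/-- The reduction of the group algebra over the local ring. -/
noncomputable def red : MonoidAlgebra (localRing M) G →+* MonoidAlgebra (Res M) G :=
  mapRingHom G (resHom M)

variable {M}

@[simp]
theorem coeff_inc (a : MonoidAlgebra (localRing M) G) (g : G) :
    (inc M a).coeff g = (a.coeff g : ℂ) := coeff_mapRingHom _ _ _

@[simp]
theorem coeff_red (a : MonoidAlgebra (localRing M) G) (g : G) :
    (red M a).coeff g = resHom M (a.coeff g) := coeff_mapRingHom _ _ _

theorem inc_injective : Function.Injective (inc M (G := G)) := fun a b h => by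
  ext g
  exact_mod_cast (by simpa using congrArg (fun c => c.coeff g) h : (a.coeff g : ℂ) = b.coeff g)

theorem isCentralElt_inc {a : MonoidAlgebra (localRing M) G} (ha : IsCentralElt a) :
    IsCentralElt (inc M a) := fun g h => by simp [ha g h]

theorem isCentralElt_red {a : MonoidAlgebra (localRing M) G} (ha : IsCentralElt a) :
    IsCentralElt (red M a) := fun g h => by simp [ha g h]

variable [Fintype G]

theorem inc_classSum (g : G) : inc M (classSum (localRing M) g) = classSum ℂ g := by
  classical
  ext x
  rw [coeff_inc, coeff_classSum, coeff_classSum]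
  split_ifs <;> simp

theorem red_classSum (g : G) : red M (classSum (localRing M) g) = classSum (Res M) g := by
  classical
  ext x
  rw [coeff_red, coeff_classSum, coeff_classSum]
  split_ifs <;> simp

/-- The central character value as an element of the local ring. -/
noncomputable def centralCharO (M : Ideal AlgInt) [M.IsPrime] (χ : IrrCharacter G) (g : G) :
    localRing M :=
  ⟨centralChar (χ : G → ℂ) g, mem_localRing_of_isIntegral (isIntegral_centralChar χ g)⟩

/-- The reduced central character at a group element. -/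
noncomputable def centralCharBar (M : Ideal AlgInt) [M.IsPrime] (χ : IrrCharacter G) (g : G) :
    Res M :=
  resHom M (centralCharO M χ g)

theorem centralCharBar_eq_iff {χ ψ : IrrCharacter G} {g h : G} :
    centralCharBar M χ g = centralCharBar M ψ h ↔
      MemLocalIdeal M (centralChar (χ : G → ℂ) g - centralChar (ψ : G → ℂ) h) :=
  residue_eq_iff

theorem centralCharBar_eq_zero_iff {χ : IrrCharacter G} {g : G} :
    centralCharBar M χ g = 0 ↔ MemLocalIdeal M (centralChar (χ : G → ℂ) g) :=
  residue_eq_zero_iff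

open scoped Classical in
/-- The reduced central character, on the group algebra over the residue field. -/
noncomputable def omegaBar (χ : IrrCharacter G) (a : MonoidAlgebra (Res M) G) : Res M :=
  ∑ C : ConjClasses G, a.coeff (Quotient.out C) * centralCharBar M χ (Quotient.out C)

theorem omegaBar_add (χ : IrrCharacter G) (a b : MonoidAlgebra (Res M) G) :
    omegaBar χ (a + b) = omegaBar χ a + omegaBar χ b := by
  simp [omegaBar, add_mul, Finset.sum_add_distrib]

theorem omegaBar_sub (χ : IrrCharacter G) (a b : MonoidAlgebra (Res M) G) :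
    omegaBar χ (a - b) = omegaBar χ a - omegaBar χ b := by
  simp [omegaBar, sub_mul, Finset.sum_sub_distrib]

theorem omegaBar_zero (χ : IrrCharacter G) : omegaBar χ (0 : MonoidAlgebra (Res M) G) = 0 := by
  simp [omegaBar]

theorem omegaBar_smul (χ : IrrCharacter G) (c : Res M) (a : MonoidAlgebra (Res M) G) :
    omegaBar χ (c • a) = c * omegaBar χ a := by
  simp [omegaBar, mul_assoc, Finset.mul_sum]

theorem omegaBar_sum {ι : Type*} (χ : IrrCharacter G) (s : Finset ι)
    (a : ι → MonoidAlgebra (Res M) G) : omegaBar χ (∑ i ∈ s, a i) = ∑ i ∈ s, omegaBar χ (a i) := by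
  classical
  induction s using Finset.induction with
  | empty => simp [omegaBar_zero]
  | insert i s hi ih => rw [Finset.sum_insert hi, Finset.sum_insert hi, omegaBar_add, ih]

/-- The value of `omega` on a central element over the local ring. -/
theorem omega_inc_eq (χ : IrrCharacter G) {a : MonoidAlgebra (localRing M) G} (ha : IsCentralElt a)
    [Fintype (ConjClasses G)] :
    omega (χ : G → ℂ) (inc M a) =
      (∑ C : ConjClasses G, a.coeff (Quotient.out C) * centralCharO M χ (Quotient.out C) :
        localRing M) := by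
  conv_lhs => rw [central_eq_sum_classSum (isCentralElt_inc ha)]
  simp [omega_classSum (Char.IsIrr.isClassFunction χ.2), centralCharO]

theorem omega_inc_mem (χ : IrrCharacter G) {a : MonoidAlgebra (localRing M) G}
    (ha : IsCentralElt a) : omega (χ : G → ℂ) (inc M a) ∈ localRing M := by
  classical
  rw [omega_inc_eq χ ha]
  exact SetLike.coe_mem _

theorem omegaBar_red (χ : IrrCharacter G) {a : MonoidAlgebra (localRing M) G}
    (ha : IsCentralElt a) :
    omegaBar χ (red M a) = resHom M ⟨omega (χ : G → ℂ) (inc M a), omega_inc_mem χ ha⟩ := by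
  classical
  have h : (⟨omega (χ : G → ℂ) (inc M a), omega_inc_mem χ ha⟩ : localRing M) =
      ∑ C : ConjClasses G, a.coeff (Quotient.out C) * centralCharO M χ (Quotient.out C) :=
    Subtype.ext (omega_inc_eq χ ha)
  rw [h]
  simp [omegaBar, centralCharBar]

/-- Central elements over the residue field lift. -/
theorem exists_central_lift {a : MonoidAlgebra (Res M) G} (ha : IsCentralElt a) :
    ∃ b : MonoidAlgebra (localRing M) G, IsCentralElt b ∧ red M b = a := by
  refine ⟨ofFun fun g => Function.surjInv IsLocalRing.residue_surjective (a.coeff g),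
    fun g h => by simp [ha g h], ?_⟩
  ext g
  rw [coeff_red, coeff_ofFun]
  exact Function.surjInv_eq _ _

theorem omegaBar_mul (χ : IrrCharacter G) {a b : MonoidAlgebra (Res M) G} (ha : IsCentralElt a)
    (hb : IsCentralElt b) : omegaBar χ (a * b) = omegaBar χ a * omegaBar χ b := by
  obtain ⟨a', ha', rfl⟩ := exists_central_lift ha
  obtain ⟨b', hb', rfl⟩ := exists_central_lift hb
  rw [← map_mul (red M), omegaBar_red χ (ha'.mul hb'), omegaBar_red χ ha', omegaBar_red χ hb',
    ← map_mul]
  congr 1
  refine Subtype.ext ?_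
  show omega (χ : G → ℂ) (inc M (a' * b')) = omega (χ : G → ℂ) (inc M a') * omega (χ : G → ℂ) (inc M b')
  rw [map_mul, omega_mul χ (isCentralElt_inc ha')]

theorem omegaBar_one (χ : IrrCharacter G) : omegaBar χ (1 : MonoidAlgebra (Res M) G) = 1 := by
  rw [← map_one (red M), omegaBar_red χ IsCentralElt.one, ← map_one (resHom M)]
  congr 1
  exact Subtype.ext (by simp [omega_one])

theorem omegaBar_pow (χ : IrrCharacter G) {a : MonoidAlgebra (Res M) G} (ha : IsCentralElt a)
    (n : ℕ) : omegaBar χ (a ^ n) = omegaBar χ a ^ n := by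
  induction n with
  | zero => simp [omegaBar_one]
  | succ n ih => rw [pow_succ, omegaBar_mul χ (ha.pow n) ha, ih, pow_succ]

theorem omegaBar_classSum (χ : IrrCharacter G) (g : G) :
    omegaBar χ (classSum (Res M) g) = centralCharBar M χ g := by
  rw [← red_classSum, omegaBar_red χ (isCentralElt_classSum _ g)]
  congr 1
  exact Subtype.ext (by simp [inc_classSum, omega_classSum (Char.IsIrr.isClassFunction χ.2),
    centralCharO])

/-! ### Blocks -/

theorem sameBlock_iff {χ ψ : IrrCharacter G} :
    SameBlock M (χ : G → ℂ) (ψ : G → ℂ) ↔ ∀ g, centralCharBar M χ g = centralCharBar M ψ g :=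
  forall_congr' fun _ => centralCharBar_eq_iff.symm

theorem sameBlock_refl (χ : IrrCharacter G) : SameBlock M (χ : G → ℂ) (χ : G → ℂ) :=
  sameBlock_iff.2 fun _ => rfl

theorem SameBlock.symm' {χ ψ : IrrCharacter G} (h : SameBlock M (χ : G → ℂ) (ψ : G → ℂ)) :
    SameBlock M (ψ : G → ℂ) (χ : G → ℂ) :=
  sameBlock_iff.2 fun g => (sameBlock_iff.1 h g).symm

theorem SameBlock.trans' {χ ψ θ : IrrCharacter G} (h : SameBlock M (χ : G → ℂ) (ψ : G → ℂ))
    (h' : SameBlock M (ψ : G → ℂ) (θ : G → ℂ)) : SameBlock M (χ : G → ℂ) (θ : G → ℂ) :=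
  sameBlock_iff.2 fun g => (sameBlock_iff.1 h g).trans (sameBlock_iff.1 h' g)

theorem mem_blockOf {χ ψ : IrrCharacter G} :
    ψ ∈ blockOf M (χ : G → ℂ) ↔ SameBlock M (χ : G → ℂ) (ψ : G → ℂ) := Iff.rfl

theorem mem_blockOf_self (χ : IrrCharacter G) : χ ∈ blockOf M (χ : G → ℂ) := sameBlock_refl χ

theorem isPBlock_blockOf (χ : IrrCharacter G) : IsPBlock M (blockOf M (χ : G → ℂ)) := ⟨χ, rfl⟩

theorem IsPBlock.eq_blockOf {B : Set (IrrCharacter G)} (hB : IsPBlock M B) {χ : IrrCharacter G}
    (hχ : χ ∈ B) : B = blockOf M (χ : G → ℂ) := by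
  obtain ⟨ψ, rfl⟩ := hB
  ext θ
  exact ⟨fun h => SameBlock.trans' (SameBlock.symm' hχ) h, fun h => SameBlock.trans' hχ h⟩

theorem IsPBlock.nonempty {B : Set (IrrCharacter G)} (hB : IsPBlock M B) : B.Nonempty := by
  obtain ⟨ψ, rfl⟩ := hB
  exact ⟨ψ, mem_blockOf_self ψ⟩

theorem IsPBlock.sameBlock {B : Set (IrrCharacter G)} (hB : IsPBlock M B) {χ ψ : IrrCharacter G}
    (hχ : χ ∈ B) (hψ : ψ ∈ B) : SameBlock M (χ : G → ℂ) (ψ : G → ℂ) := by
  rw [IsPBlock.eq_blockOf hB hχ] at hψ
  exact hψ

theorem IsPBlock.eq_of_mem {B B' : Set (IrrCharacter G)} (hB : IsPBlock M B)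
    (hB' : IsPBlock M B') {χ : IrrCharacter G} (hχ : χ ∈ B) (hχ' : χ ∈ B') : B = B' := by
  rw [IsPBlock.eq_blockOf hB hχ, IsPBlock.eq_blockOf hB' hχ']

theorem omegaBar_congr {χ ψ : IrrCharacter G} (h : SameBlock M (χ : G → ℂ) (ψ : G → ℂ))
    (a : MonoidAlgebra (Res M) G) : omegaBar χ a = omegaBar ψ a := by
  unfold omegaBar
  exact Finset.sum_congr rfl fun C _ => by rw [sameBlock_iff.1 h]

theorem sameBlock_of_omegaBar_eq {χ ψ : IrrCharacter G}
    (h : ∀ a : MonoidAlgebra (Res M) G, IsCentralElt a → omegaBar χ a = omegaBar ψ a) :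
    SameBlock M (χ : G → ℂ) (ψ : G → ℂ) :=
  sameBlock_iff.2 fun g => by
    rw [← omegaBar_classSum, ← omegaBar_classSum]
    exact h _ (isCentralElt_classSum _ g)

/-- An element over the local ring vanishing at given central characters outside a block. -/
theorem exists_separating (χ₀ : IrrCharacter G) (s : Finset (IrrCharacter G))
    (hs : ∀ ψ ∈ s, ψ ∉ blockOf M (χ₀ : G → ℂ)) :
    ∃ f : MonoidAlgebra (localRing M) G, IsCentralElt f ∧
      (∀ ψ ∈ s, omega (ψ : G → ℂ) (inc M f) = 0) ∧ omegaBar χ₀ (red M f) ≠ 0 := by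
  classical
  induction s using Finset.induction with
  | empty => exact ⟨1, IsCentralElt.one, by simp, by simp [omegaBar_one]⟩
  | insert ψ s _ ih =>
    obtain ⟨f, hf, hf0, hf1⟩ := ih fun θ hθ => hs θ (Finset.mem_insert_of_mem hθ)
    obtain ⟨g, hg⟩ : ∃ g, centralCharBar M χ₀ g ≠ centralCharBar M ψ g := by
      by_contra hcon
      push Not at hcon
      exact hs ψ (Finset.mem_insert_self _ _) (sameBlock_iff.2 hcon)
    let t : MonoidAlgebra (localRing M) G := classSum _ g - centralCharO M ψ g • 1
    have ht : IsCentralElt t := (isCentralElt_classSum _ g).sub (IsCentralElt.one.smul _)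
    have hinc : inc M t = classSum ℂ g - centralChar (ψ : G → ℂ) g • 1 := by
      ext x
      simp [t, ← inc_classSum (M := M), centralCharO, coeff_inc, one_def,
        Finsupp.single_apply, apply_ite Subtype.val]
    refine ⟨f * t, hf.mul ht, fun θ hθ => ?_, ?_⟩
    · rw [map_mul, omega_mul θ (isCentralElt_inc hf)]
      rcases Finset.mem_insert.1 hθ with rfl | hθ
      · simp [hinc, omega_classSum (Char.IsIrr.isClassFunction θ.2), omega_one]
      · rw [hf0 θ hθ, zero_mul]
    · have hred : red M t = classSum (Res M) g - centralCharBar M ψ g • 1 := by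
        ext x
        simp [t, ← red_classSum (M := M), centralCharBar, one_def, Finsupp.single_apply,
          apply_ite (resHom M)]
      rw [map_mul, omegaBar_mul χ₀ (isCentralElt_red hf) (isCentralElt_red ht), hred,
        omegaBar_sub, omegaBar_smul, omegaBar_one, omegaBar_classSum, mul_one]
      exact mul_ne_zero hf1 (sub_ne_zero.2 hg)

/-- The idempotent of a block has coefficients in the local ring. -/
theorem exists_blockIdem_integral {B : Set (IrrCharacter G)} (hB : IsPBlock M B) :
    ∃ e : MonoidAlgebra (localRing M) G, IsCentralElt e ∧ inc M e = blockIdem B := by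
  classical
  have := Fintype.ofFinite (IrrCharacter G)
  obtain ⟨χ₀, rfl⟩ := hB
  obtain ⟨f, hf, hf0, hf1⟩ :=
    exists_separating (M := M) χ₀ (Finset.univ.filter (· ∉ blockOf M (χ₀ : G → ℂ))) (by simp)
  suffices key : ∀ s : Finset (IrrCharacter G), (∀ χ ∈ s, χ ∈ blockOf M (χ₀ : G → ℂ)) →
      ∃ e : MonoidAlgebra (localRing M) G, IsCentralElt e ∧
        (∀ χ ∈ s, omega (χ : G → ℂ) (inc M e) = 1) ∧
        ∀ χ ∉ blockOf M (χ₀ : G → ℂ), omega (χ : G → ℂ) (inc M e) = 0 by
    obtain ⟨e, he, he1, he0⟩ := key (Finset.univ.filter (· ∈ blockOf M (χ₀ : G → ℂ))) (by simp)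
    refine ⟨e, he, eq_of_omega_eq (isCentralElt_inc he) (isCentralElt_blockIdem _) fun χ => ?_⟩
    rw [omega_blockIdem]
    by_cases h : χ ∈ blockOf M (χ₀ : G → ℂ)
    · rw [if_pos h, he1 χ (by simpa using h)]
    · rw [if_neg h, he0 χ h]
  intro s
  induction s using Finset.induction with
  | empty => exact fun _ => ⟨0, IsCentralElt.zero, by simp, by simp⟩
  | insert χ s _ ih =>
    intro hs
    obtain ⟨e, he, he1, he0⟩ := ih fun θ hθ => hs θ (Finset.mem_insert_of_mem hθ)
    have hu : IsUnit (⟨omega (χ : G → ℂ) (inc M f), omega_inc_mem χ hf⟩ : localRing M) := by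
      rw [← IsLocalRing.residue_ne_zero_iff_isUnit, ← omegaBar_red χ hf,
        ← omegaBar_congr (hs χ (Finset.mem_insert_self _ _))]
      exact hf1
    obtain ⟨w, hw⟩ := isUnit_iff_exists_inv.1 hu
    have hw' : omega (χ : G → ℂ) (inc M f) * w = 1 := congrArg Subtype.val hw
    let t : MonoidAlgebra (localRing M) G := w • f
    have ht : IsCentralElt t := hf.smul w
    have homega : ∀ θ : IrrCharacter G, omega (θ : G → ℂ) (inc M t) =
        w * omega (θ : G → ℂ) (inc M f) := fun θ => by
      rw [show inc M t = (w : ℂ) • inc M f by ext x; simp [t], map_smul, smul_eq_mul]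
    have hval : ∀ θ : IrrCharacter G, omega (θ : G → ℂ) (inc M (e + t - e * t)) =
        omega (θ : G → ℂ) (inc M e) + omega (θ : G → ℂ) (inc M t) -
          omega (θ : G → ℂ) (inc M e) * omega (θ : G → ℂ) (inc M t) := fun θ => by
      simp [omega_mul θ (isCentralElt_inc he)]
    refine ⟨e + t - e * t, (he.add ht).sub (he.mul ht), fun θ hθ => ?_, fun θ hθ => ?_⟩
    · rw [hval]
      rcases Finset.mem_insert.1 hθ with rfl | hθ
      · rw [homega]; linear_combination (1 - omega (θ : G → ℂ) (inc M e)) * hw'
      · rw [he1 θ hθ]; ring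
    · rw [hval, he0 θ hθ, homega, hf0 θ (by simpa using hθ)]
      ring

theorem blockCoeff_mem {B : Set (IrrCharacter G)} (hB : IsPBlock M B) (g : G) :
    blockCoeff B g ∈ localRing M := by
  obtain ⟨e, -, he⟩ := exists_blockIdem_integral hB
  rw [← coeff_blockIdem, ← he, coeff_inc]
  exact SetLike.coe_mem _

open scoped Classical in
/-- The idempotent of a block, over the local ring. -/
noncomputable def blockIdemO (M : Ideal AlgInt) [M.IsPrime] (B : Set (IrrCharacter G)) :
    MonoidAlgebra (localRing M) G :=
  ofFun fun g => if h : blockCoeff B g ∈ localRing M then ⟨_, h⟩ else 0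

theorem inc_blockIdemO {B : Set (IrrCharacter G)} (hB : IsPBlock M B) :
    inc M (blockIdemO M B) = blockIdem B := by
  ext g
  rw [coeff_inc, blockIdemO, coeff_ofFun, dif_pos (blockCoeff_mem hB g)]
  rfl

theorem isCentralElt_blockIdemO {B : Set (IrrCharacter G)} (hB : IsPBlock M B) :
    IsCentralElt (blockIdemO M B) := fun g h => by
  have := isCentralElt_blockIdem B g h
  rw [← inc_blockIdemO hB, coeff_inc, coeff_inc] at this
  exact Subtype.ext this

theorem blockIdemO_mul_self {B : Set (IrrCharacter G)} (hB : IsPBlock M B) :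
    blockIdemO M B * blockIdemO M B = blockIdemO M B :=
  inc_injective (by rw [map_mul, inc_blockIdemO hB, blockIdem_mul_self])

/-- The reduced idempotent of a block. -/
noncomputable def blockIdemBar (M : Ideal AlgInt) [M.IsPrime] (B : Set (IrrCharacter G)) :
    MonoidAlgebra (Res M) G :=
  red M (blockIdemO M B)

theorem isCentralElt_blockIdemBar {B : Set (IrrCharacter G)} (hB : IsPBlock M B) :
    IsCentralElt (blockIdemBar M B) := isCentralElt_red (isCentralElt_blockIdemO hB)

theorem blockIdemBar_mul_self {B : Set (IrrCharacter G)} (hB : IsPBlock M B) :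
    blockIdemBar M B * blockIdemBar M B = blockIdemBar M B := by
  rw [blockIdemBar, ← map_mul, blockIdemO_mul_self hB]

theorem coeff_blockIdemBar_eq_zero_iff {B : Set (IrrCharacter G)} (hB : IsPBlock M B) {g : G} :
    (blockIdemBar M B).coeff g = 0 ↔ MemLocalIdeal M (blockCoeff B g) := by
  rw [blockIdemBar, coeff_red, residue_eq_zero_iff, blockIdemO, coeff_ofFun,
    dif_pos (blockCoeff_mem hB g)]

theorem omegaBar_blockIdemBar {B : Set (IrrCharacter G)} (hB : IsPBlock M B) (χ : IrrCharacter G)
    [Decidable (χ ∈ B)] : omegaBar χ (blockIdemBar M B) = if χ ∈ B then 1 else 0 := by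
  classical
  rw [blockIdemBar, omegaBar_red χ (isCentralElt_blockIdemO hB)]
  split_ifs with h
  · rw [← map_one (resHom M)]
    congr 1
    exact Subtype.ext (by simp [inc_blockIdemO hB, omega_blockIdem, h])
  · rw [← map_zero (resHom M)]
    congr 1
    exact Subtype.ext (by simp [inc_blockIdemO hB, omega_blockIdem, h])

/-- A central element killed by all reduced central characters is nilpotent. -/
theorem isNilpotent_of_omegaBar_eq_zero {a : MonoidAlgebra (Res M) G} (ha : IsCentralElt a)
    (h : ∀ χ : IrrCharacter G, omegaBar χ a = 0) : IsNilpotent a := by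
  classical
  have := Fintype.ofFinite (IrrCharacter G)
  obtain ⟨b, hb, rfl⟩ := exists_central_lift ha
  suffices key : ∀ s : Finset (IrrCharacter G), ∃ c : MonoidAlgebra (localRing M) G, IsCentralElt c ∧
      (∀ χ ∈ s, omega (χ : G → ℂ) (inc M c) = 0) ∧ red M c = red M b ^ s.card by
    obtain ⟨c, hc, hc0, hc1⟩ := key Finset.univ
    refine ⟨_, hc1.symm.trans ?_⟩
    rw [show c = 0 from inc_injective (by
      rw [map_zero, eq_zero_of_omega_eq_zero (isCentralElt_inc hc) fun χ =>
        hc0 χ (Finset.mem_univ _)]), map_zero]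
  intro s
  induction s using Finset.induction with
  | empty => exact ⟨1, IsCentralElt.one, by simp, by simp⟩
  | insert χ s hχ ih =>
    obtain ⟨c, hc, hc0, hc1⟩ := ih
    set w : localRing M := ⟨omega (χ : G → ℂ) (inc M b), omega_inc_mem χ hb⟩ with hwdef
    have hw : resHom M w = 0 := (omegaBar_red χ hb).symm.trans (h χ)
    refine ⟨(b - w • 1) * c, (hb.sub (IsCentralElt.one.smul w)).mul hc, fun θ hθ => ?_, ?_⟩
    · rw [map_mul, omega_mul θ (isCentralElt_inc (hb.sub (IsCentralElt.one.smul w)))]
      rcases Finset.mem_insert.1 hθ with rfl | hθ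
      · have : inc M (b - w • 1) = inc M b - (w : ℂ) • 1 := by
          ext x
          simp [one_def, Finsupp.single_apply, apply_ite Subtype.val]
        rw [this, map_sub, map_smul, omega_one, smul_eq_mul, mul_one]
        exact mul_eq_zero_of_left (sub_self _) _
      · rw [hc0 θ hθ, mul_zero]
    · have : red M (b - w • 1) = red M b := by
        ext x
        simp [hw]
      rw [map_mul, this, hc1, Finset.card_insert_of_notMem hχ, pow_succ']

/-- The reduced idempotents of all blocks sum to `1`. -/
theorem sum_blockIdemBar [Fintype {B : Set (IrrCharacter G) // IsPBlock M B}] :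
    ∑ B : {B : Set (IrrCharacter G) // IsPBlock M B}, blockIdemBar M B.1 = 1 := by
  classical
  have h : ∑ B : {B : Set (IrrCharacter G) // IsPBlock M B}, blockIdemO M B.1 = 1 := by
    refine inc_injective (eq_of_omega_eq ?_ ?_ fun χ => ?_)
    · exact isCentralElt_inc (IsCentralElt.sum _ fun B _ => isCentralElt_blockIdemO B.2)
    · exact isCentralElt_inc IsCentralElt.one
    · simp only [map_sum, inc_blockIdemO (Subtype.prop _), map_one, omega_one, omega_blockIdem]
      rw [Finset.sum_eq_single ⟨_, isPBlock_blockOf χ⟩ (fun B _ hB => if_neg fun h =>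
        hB (Subtype.ext (IsPBlock.eq_blockOf B.2 h))) (by simp), if_pos (mem_blockOf_self χ)]
  simp only [blockIdemBar, ← map_sum, h, map_one]

/-- Every unital multiplicative functional on the centre is a reduced central character. -/
theorem exists_omegaBar_eq (φ : MonoidAlgebra (Res M) G → Res M) (h1 : φ 1 = 1)
    (hadd : ∀ a b, IsCentralElt a → IsCentralElt b → φ (a + b) = φ a + φ b)
    (hsmul : ∀ (c : Res M) a, IsCentralElt a → φ (c • a) = c * φ a)
    (hmul : ∀ a b, IsCentralElt a → IsCentralElt b → φ (a * b) = φ a * φ b) :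
    ∃ χ : IrrCharacter G, ∀ a, IsCentralElt a → φ a = omegaBar χ a := by
  classical
  have := Fintype.ofFinite {B : Set (IrrCharacter G) // IsPBlock M B}
  have h0 : φ 0 = 0 := by simpa using hsmul 0 1 IsCentralElt.one
  have hsum : ∀ s : Finset {B : Set (IrrCharacter G) // IsPBlock M B},
      φ (∑ B ∈ s, blockIdemBar M B.1) = ∑ B ∈ s, φ (blockIdemBar M B.1) := by
    intro s
    induction s using Finset.induction with
    | empty => simp [h0]
    | insert B s hB ih =>
      rw [Finset.sum_insert hB, Finset.sum_insert hB, hadd _ _ (isCentralElt_blockIdemBar B.2)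
        (IsCentralElt.sum _ fun C _ => isCentralElt_blockIdemBar C.2), ih]
  obtain ⟨B, -, hB⟩ := Finset.exists_ne_zero_of_sum_ne_zero
    (s := Finset.univ) (f := fun B : {B : Set (IrrCharacter G) // IsPBlock M B} =>
      φ (blockIdemBar M B.1)) (by rw [← hsum, sum_blockIdemBar, h1]; exact one_ne_zero)
  obtain ⟨χ, hχ⟩ := IsPBlock.nonempty B.2
  refine ⟨χ, fun a ha => ?_⟩
  set e := blockIdemBar M B.1
  have he : IsCentralElt e := isCentralElt_blockIdemBar B.2
  have hφe : φ e = 1 := by
    have := hmul e e he he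
    rw [blockIdemBar_mul_self B.2] at this
    exact (mul_right_eq_self₀.1 this.symm).resolve_right hB
  have hd : IsCentralElt (a - omegaBar χ a • 1) := ha.sub (IsCentralElt.one.smul _)
  have hnil : IsNilpotent ((a - omegaBar χ a • 1) * e) :=
    isNilpotent_of_omegaBar_eq_zero (hd.mul he) fun ψ => by
      rw [omegaBar_mul ψ hd he, omegaBar_blockIdemBar B.2]
      split_ifs with hψ
      · simp only [omegaBar_sub, omegaBar_smul, omegaBar_one, mul_one,
          ← omegaBar_congr (IsPBlock.sameBlock B.2 hχ hψ), sub_self]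
      · rw [mul_zero]
  obtain ⟨n, hn⟩ := hnil
  have hpow : φ (((a - omegaBar χ a • 1) * e) ^ n) = φ ((a - omegaBar χ a • 1) * e) ^ n := by
    clear hn
    induction n with
    | zero => simpa using h1
    | succ n ih => rw [pow_succ, hmul _ _ ((hd.mul he).pow n) (hd.mul he), ih, pow_succ]
  rw [hn, h0, hmul _ _ hd he, hφe, mul_one] at hpow
  have hz := pow_eq_zero_iff (n := n) (a := φ (a - omegaBar χ a • 1))
  have hn0 : n ≠ 0 := fun h => by simp [h] at hpow
  have hz2 := (hz hn0).1 hpow.symm
  have h3 := hadd _ _ hd (IsCentralElt.one.smul (omegaBar χ a))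
  rwa [sub_add_cancel, hz2, zero_add, hsmul _ _ IsCentralElt.one, h1, mul_one] at h3

/-- A central element not killed by the block divides the block idempotent. -/
theorem exists_mul_eq_blockIdemBar {B : Set (IrrCharacter G)} (hB : IsPBlock M B)
    {χ : IrrCharacter G} (hχ : χ ∈ B) {a : MonoidAlgebra (Res M) G} (ha : IsCentralElt a)
    (hne : omegaBar χ a ≠ 0) :
    ∃ z : MonoidAlgebra (Res M) G, IsCentralElt z ∧ a * z = blockIdemBar M B := by
  classical
  set e := blockIdemBar M B
  have he : IsCentralElt e := isCentralElt_blockIdemBar hB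
  set c := omegaBar χ a with hc
  set h := e - c⁻¹ • (a * e) with hh
  have hhc : IsCentralElt h := he.sub ((ha.mul he).smul _)
  have hnil : IsNilpotent h := isNilpotent_of_omegaBar_eq_zero hhc fun ψ => by
    rw [hh, omegaBar_sub, omegaBar_smul, omegaBar_mul ψ ha he, omegaBar_blockIdemBar hB]
    split_ifs with hψ
    · rw [← omegaBar_congr (IsPBlock.sameBlock hB hχ hψ), ← hc, mul_one, inv_mul_cancel₀ hne,
        sub_self]
    · simp
  obtain ⟨n, hn⟩ := hnil
  refine ⟨c⁻¹ • (e * ∑ i ∈ Finset.range n, h ^ i),
    (he.mul (IsCentralElt.sum _ fun i _ => hhc.pow i)).smul _, ?_⟩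
  have h1 := mul_neg_geom_sum h n
  rw [hn, sub_zero] at h1
  have h2 : e * (1 - h) = c⁻¹ • (a * e) := by
    rw [hh, mul_sub, mul_one, mul_sub, blockIdemBar_mul_self hB, mul_smul_comm, ← mul_assoc,
      (he.commute a).eq, mul_assoc, blockIdemBar_mul_self hB, sub_sub_cancel]
  rw [mul_smul_comm, ← mul_assoc, ← smul_mul_assoc, ← h2, mul_assoc, h1, mul_one]

end CfsgLib.Blocks
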