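import Cfsg.Agent.Lib.Blocks.SecondMain
import Cfsg.Agent.Lib.CharAction.Rank
import Cfsg.Agent.Lib.Char.Complete

/-!
# Norms of subsections

For a `p`-element `x`, a block `B` of `G` and a block `b` of `C(x)` inducing `B`, the `b`-parts of
`c ↦ χ (x c)`, `χ ∈ B`, have total norm on the `p`-regular elements equal to the rank of `b`.
-/

namespace CfsgLib.Blocks

open Cfsg CfsgLib.Char CfsgLib.CharAction
open scoped ComplexConjugate Classical

variable {G : Type*} [Group G] [Fintype G] {p : ℕ} [Fact p.Prime] {x : G}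

omit [Fintype G] [Fact p.Prime] in
/-- `x` is the `p`-part of `x * w` for `p`-regular `w` in the centralizer of `x`. -/
theorem isPPart_mul_of_mem_centralizer (hx : ∃ k : ℕ, orderOf x = p ^ k)
    {w : Subgroup.centralizer ({x} : Set G)} (hw : ¬ p ∣ orderOf w) :
    IsPPart p (x * (w : G)) x :=
  ⟨w, rfl, (mem_centralizer_singleton.1 w.2).symm, hx, by rwa [Subgroup.orderOf_coe]⟩

omit [Fintype G] in
/-- An element conjugating `x * w` to `x * w'` centralizes `x` and conjugates `w` to `w'`. -/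
theorem conj_section_eq (hx : ∃ k : ℕ, orderOf x = p ^ k)
    {w w' : Subgroup.centralizer ({x} : Set G)} (hw : ¬ p ∣ orderOf w) (hw' : ¬ p ∣ orderOf w')
    {g : G} (h : g * (x * (w : G)) * g⁻¹ = x * (w' : G)) :
    g ∈ Subgroup.centralizer ({x} : Set G) ∧ g * (w : G) * g⁻¹ = w' := by
  have hp : p.Prime := Fact.out
  have hc := conj_pPart_eq hp (isPPart_mul_of_mem_centralizer hx hw')
    (isPPart_mul_of_mem_centralizer hx hw) (x := g) (j := 1) (by simpa using hp.ne_one)
    (by rw [pow_one, pow_one, ← h]; group)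
  have hgx : Commute g x := by
    show g * x = x * g
    calc g * x = g * (g⁻¹ * x * g) := by rw [hc]
      _ = x * g := by group
  refine ⟨mem_centralizer_singleton.2 hgx, mul_left_cancel (a := x) ?_⟩
  rw [← h, ← mul_assoc, ← mul_assoc, ← hgx.eq]
  group

omit [Fact p.Prime] in
theorem card_conj_eq_zero_of_not_isConj {w w' : Subgroup.centralizer ({x} : Set G)}
    (h : ¬ IsConj (x * (w : G)) (x * (w' : G))) :
    (Finset.univ.filter fun c : Subgroup.centralizer ({x} : Set G) => c * w * c⁻¹ = w').card = 0 := by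
  rw [Finset.card_eq_zero, Finset.filter_eq_empty_iff]
  intro c _ hc
  refine h (isConj_iff.2 ⟨c, ?_⟩)
  rw [← hc]
  have hcx : Commute (c : G) x := mem_centralizer_singleton.1 c.2
  simp only [Subgroup.coe_mul, Subgroup.coe_inv, ← mul_assoc, ← hcx.eq]

/-- The number of conjugators inside `C(x)` is the order of the centralizer in `G`. -/
theorem card_conj_eq_centralizer (hx : ∃ k : ℕ, orderOf x = p ^ k)
    {w w' : Subgroup.centralizer ({x} : Set G)} (hw : ¬ p ∣ orderOf w) (hw' : ¬ p ∣ orderOf w') :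
    ((Finset.univ.filter fun c : Subgroup.centralizer ({x} : Set G) => c * w * c⁻¹ = w').card : ℂ) =
      if IsConj (x * (w : G)) (x * (w' : G)) then
        (Nat.card (Subgroup.centralizer ({x * (w : G)} : Set G)) : ℂ) else 0 := by
  split_ifs with h
  · obtain ⟨g, hg⟩ := isConj_iff.1 h
    have hgC := conj_section_eq hx hw hw' hg
    rw [Nat.card_eq_fintype_card, ← Finset.card_univ]
    norm_cast
    symm
    refine Finset.card_bij (fun z _ => (⟨g * (z : G), mul_mem hgC.1 ?_⟩ :
      Subgroup.centralizer ({x} : Set G))) ?_ ?_ ?_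
    · refine (conj_section_eq hx hw hw (g := (z : G)) ?_).1
      rw [(mem_centralizer_singleton.1 z.2).eq]
      group
    · intro z _
      have hz : (z : G) * (w : G) * (z : G)⁻¹ = w := (conj_section_eq hx hw hw (g := (z : G)) (by
        rw [(mem_centralizer_singleton.1 z.2).eq]
        group)).2
      simp only [Finset.mem_filter, Finset.mem_univ, true_and]
      refine Subtype.ext (Eq.trans ?_ hgC.2)
      rw [Subgroup.coe_mul, Subgroup.coe_mul, Subgroup.coe_inv]
      calc g * (z : G) * (w : G) * (g * (z : G))⁻¹ = g * ((z : G) * (w : G) * (z : G)⁻¹) * g⁻¹ := by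
            group
        _ = g * (w : G) * g⁻¹ := by rw [hz]
    · intro z _ z' _ e
      exact Subtype.ext (mul_left_cancel (congrArg Subtype.val e))
    · intro c hc
      have hc' : (c : G) * (w : G) * (c : G)⁻¹ = w' :=
        congrArg Subtype.val (Finset.mem_filter.1 hc).2
      refine ⟨⟨g⁻¹ * c, mem_centralizer_singleton.2 ?_⟩, Finset.mem_univ _, Subtype.ext (by simp)⟩
      have hcx : Commute (c : G) x := mem_centralizer_singleton.1 c.2
      show g⁻¹ * (c : G) * (x * (w : G)) = x * (w : G) * (g⁻¹ * (c : G))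
      calc g⁻¹ * (c : G) * (x * (w : G))
          = g⁻¹ * (x * ((c : G) * (w : G) * (c : G)⁻¹)) * c := by
            rw [mul_assoc g⁻¹ (c : G), ← mul_assoc (c : G) x, hcx.eq]; group
        _ = g⁻¹ * (g * (x * (w : G)) * g⁻¹) * c := by rw [hc', hg]
        _ = x * (w : G) * (g⁻¹ * (c : G)) := by group
  · rw [card_conj_eq_zero_of_not_isConj h, Nat.cast_zero]

omit [Fact p.Prime] in
theorem isClassFunction_apply_mul {χ : G → ℂ} (hχ : IsClassFunction G χ) :
    IsClassFunction (Subgroup.centralizer ({x} : Set G))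
      fun c => χ (x * (c : G)) := by
  intro c d
  show χ (x * ((d * c * d⁻¹ : Subgroup.centralizer ({x} : Set G)) : G)) = χ (x * (c : G))
  have hd : Commute (d : G) x := mem_centralizer_singleton.1 d.2
  rw [show x * ((d * c * d⁻¹ : Subgroup.centralizer ({x} : Set G)) : G) =
      (d : G) * (x * c) * (d : G)⁻¹ by
    simp only [Subgroup.coe_mul, Subgroup.coe_inv, ← mul_assoc, ← hd.eq]]
  exact hχ _ _

/-- Weighted count of a `p`-section. -/
theorem sum_section (hx : ∃ k : ℕ, orderOf x = p ^ k) {f : G → ℂ} (hf : IsClassFunction G f) :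
    (Nat.card (Subgroup.centralizer ({x} : Set G)) : ℂ) *
        ∑ g ∈ Finset.univ.filter (fun g : G => ∃ u, IsPPart p g u ∧ IsConj u x), f g =
      (Nat.card G : ℂ) * ∑ y ∈ Finset.univ.filter
        (fun y : Subgroup.centralizer ({x} : Set G) => ¬ p ∣ orderOf y), f (x * (y : G)) := by
  set R := Finset.univ.filter fun y : (Subgroup.centralizer ({x} : Set G)) => ¬ p ∣ orderOf y with hR
  let φ : G × (Subgroup.centralizer ({x} : Set G)) → G := fun q => q.1 * (x * (q.2 : G)) * q.1⁻¹
  have hrhs : (Nat.card G : ℂ) * ∑ y ∈ R, f (x * (y : G)) =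
      ∑ q ∈ (Finset.univ : Finset G) ×ˢ R, f (φ q) := by
    rw [Finset.sum_product, Nat.card_eq_fintype_card, ← Finset.card_univ, ← nsmul_eq_mul,
      ← Finset.sum_const]
    exact Finset.sum_congr rfl fun h _ => Finset.sum_congr rfl fun y _ => (hf _ _).symm
  have hmaps : ∀ q ∈ (Finset.univ : Finset G) ×ˢ R,
      φ q ∈ Finset.univ.filter fun g : G => ∃ u, IsPPart p g u ∧ IsConj u x := by
    rintro ⟨h, y⟩ hq
    have hy : ¬ p ∣ orderOf y := (Finset.mem_filter.1 (Finset.mem_product.1 hq).2).2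
    obtain ⟨w, e, hc, ⟨k, hk⟩, hw⟩ := isPPart_mul_of_mem_centralizer hx hy
    simp only [Finset.mem_filter, Finset.mem_univ, true_and]
    refine ⟨h * x * h⁻¹, ⟨h * w * h⁻¹, ?_, ?_, ⟨k, ?_⟩, ?_⟩, isConj_iff.2 ⟨h⁻¹, by group⟩⟩
    · simp only [φ]
      rw [← e]; group
    · exact hc.map (MulAut.conj h).toMonoidHom
    · rw [← hk]; exact (MulEquiv.orderOf_eq (MulAut.conj h) x).symm ▸ rfl
    · intro hd
      refine hw ?_
      rwa [← MulEquiv.orderOf_eq (MulAut.conj h) w]
  rw [hrhs, ← Finset.sum_fiberwise_of_maps_to hmaps, Finset.mul_sum]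
  refine Finset.sum_congr rfl fun g hg => ?_
  obtain ⟨u, ⟨w, rfl, hc, -, hw⟩, hux⟩ := (Finset.mem_filter.1 hg).2
  obtain ⟨a, rfl⟩ := isConj_iff.1 hux
  have hyC : a * w * a⁻¹ ∈ (Subgroup.centralizer ({a * u * a⁻¹} : Set G)) := mem_centralizer_singleton.2 (hc.map (MulAut.conj a).toMonoidHom).symm
  set y₀ : (Subgroup.centralizer ({a * u * a⁻¹} : Set G)) := ⟨a * w * a⁻¹, hyC⟩ with hy₀
  have hy₀r : ¬ p ∣ orderOf y₀ := by
    rw [← Subgroup.orderOf_coe]
    intro hd
    exact hw (by rwa [← MulEquiv.orderOf_eq (MulAut.conj a) w])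
  have hval : ∀ q ∈ Finset.filter (fun q => φ q = u * w) ((Finset.univ : Finset G) ×ˢ R),
      f (φ q) = f (u * w) := fun q hq => by rw [(Finset.mem_filter.1 hq).2]
  rw [Finset.sum_congr rfl hval, Finset.sum_const, nsmul_eq_mul]
  congr 1
  rw [Nat.card_eq_fintype_card, ← Finset.card_univ]
  norm_cast
  refine Finset.card_bij (fun c _ => (a⁻¹ * (c : G), c⁻¹ * y₀ * c)) ?_ ?_ ?_
  · intro c _
    have hcx : Commute (c : G) (a * u * a⁻¹) := mem_centralizer_singleton.1 c.2
    simp only [Finset.mem_filter, Finset.mem_product, Finset.mem_univ, true_and, hR]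
    refine ⟨fun hd => hy₀r ?_, ?_⟩
    · rw [← Subgroup.orderOf_coe] at hd ⊢
      rwa [← MulEquiv.orderOf_eq (MulAut.conj (c : G)⁻¹) (y₀ : G),
        show MulAut.conj (c : G)⁻¹ (y₀ : G) = ((c⁻¹ * y₀ * c : (Subgroup.centralizer ({a * u * a⁻¹} : Set G))) : G) by simp]
    · show a⁻¹ * (c : G) * (a * u * a⁻¹ * ((c⁻¹ * y₀ * c : (Subgroup.centralizer ({a * u * a⁻¹} : Set G))) : G)) * (a⁻¹ * (c : G))⁻¹ = u * w
      simp only [Subgroup.coe_mul, Subgroup.coe_inv, hy₀]
      calc a⁻¹ * (c : G) * (a * u * a⁻¹ * ((c : G)⁻¹ * (a * w * a⁻¹) * c)) * (a⁻¹ * (c : G))⁻¹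
          = a⁻¹ * ((c : G) * (a * u * a⁻¹) * (c : G)⁻¹) * (a * w * a⁻¹) * a := by group
        _ = u * w := by rw [hcx.eq]; group
  · intro c _ c' _ e
    exact Subtype.ext (mul_left_cancel (congrArg Prod.fst e))
  · rintro ⟨h, y⟩ hq
    simp only [Finset.mem_filter, Finset.mem_product, Finset.mem_univ, true_and, hR] at hq
    obtain ⟨hy, hh⟩ := hq
    have hh' : a * h * (a * u * a⁻¹ * (y : G)) * (a * h)⁻¹ = a * u * a⁻¹ * (y₀ : G) := by
      calc a * h * (a * u * a⁻¹ * (y : G)) * (a * h)⁻¹ = a * (φ (h, y)) * a⁻¹ := by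
            simp only [φ]; group
        _ = a * u * a⁻¹ * (y₀ : G) := by rw [hh, hy₀]; group
    obtain ⟨hc, hcy⟩ := conj_section_eq hx hy hy₀r hh'
    refine ⟨⟨a * h, hc⟩, Finset.mem_univ _, Prod.ext (by simp) (Subtype.ext ?_)⟩
    simp only [Subgroup.coe_mul, Subgroup.coe_inv, ← hcy]
    group

variable {M : Ideal AlgInt} [M.IsPrime] (hM : IsPModular p M)
include hM

/-- Idempotency of the regular kernel of a block. -/
theorem sum_regular_kernel_mul {C : Type*} [Group C] [Fintype C] {b : Set (IrrCharacter C)}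
    (hb : IsPBlock M b) {y : C} (hy : ¬ p ∣ orderOf y) (y' : C) :
    ∑ w ∈ Finset.univ.filter (fun w : C => ¬ p ∣ orderOf w),
        (∑ ψ ∈ (Set.toFinite b).toFinset, (ψ : C → ℂ) y * conj ((ψ : C → ℂ) w)) *
          conj (∑ ψ ∈ (Set.toFinite b).toFinset, (ψ : C → ℂ) y' * conj ((ψ : C → ℂ) w)) =
      (Nat.card C : ℂ) *
        ∑ ψ ∈ (Set.toFinite b).toFinset, (ψ : C → ℂ) y * conj ((ψ : C → ℂ) y') := by
  set A := (Set.toFinite b).toFinset
  have hc : ∀ ψ ψ' : IrrCharacter C, ∑ w ∈ Finset.univ.filter (fun w : C => ¬ p ∣ orderOf w),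
      (ψ' : C → ℂ) w * conj ((ψ : C → ℂ) w) =
        (Nat.card C : ℂ) * classInner (regCut p (ψ' : C → ℂ)) (ψ : C → ℂ) := by
    intro ψ ψ'
    rw [classInner, mul_inv_cancel_left₀ (Nat.cast_ne_zero.2 Nat.card_pos.ne'), Finset.sum_filter]
    refine Finset.sum_congr rfl fun w _ => ?_
    by_cases hw : p ∣ orderOf w <;> simp [regCut, hw]
  calc ∑ w ∈ Finset.univ.filter (fun w : C => ¬ p ∣ orderOf w),
        (∑ ψ ∈ A, (ψ : C → ℂ) y * conj ((ψ : C → ℂ) w)) *
          conj (∑ ψ ∈ A, (ψ : C → ℂ) y' * conj ((ψ : C → ℂ) w))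
      = ∑ ψ' ∈ A, ∑ ψ ∈ A, conj ((ψ' : C → ℂ) y') * ((ψ : C → ℂ) y *
          ∑ w ∈ Finset.univ.filter (fun w : C => ¬ p ∣ orderOf w),
            (ψ' : C → ℂ) w * conj ((ψ : C → ℂ) w)) := by
        simp only [map_sum, map_mul, Complex.conj_conj, Finset.sum_mul, Finset.mul_sum]
        rw [Finset.sum_comm]
        refine Finset.sum_congr rfl fun ψ _ => ?_
        rw [Finset.sum_comm]
        exact Finset.sum_congr rfl fun ψ' _ => Finset.sum_congr rfl fun w _ => by ring
    _ = ∑ ψ' ∈ A, (Nat.card C : ℂ) * ((ψ' : C → ℂ) y * conj ((ψ' : C → ℂ) y')) := by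
        refine Finset.sum_congr rfl fun ψ' hψ' => ?_
        have h := congrFun (regCut_eq_sum hM hb ((Set.Finite.mem_toFinset _).1 hψ')) y
        simp only [Finset.sum_apply, Pi.smul_apply, smul_eq_mul, regCut, if_neg hy] at h
        simp only [hc]
        rw [Finset.sum_congr rfl (g := fun ψ : IrrCharacter C =>
          ((Nat.card C : ℂ) * conj ((ψ' : C → ℂ) y')) *
            (classInner (regCut p (ψ' : C → ℂ)) (ψ : C → ℂ) * (ψ : C → ℂ) y))
          fun ψ _ => by ring, ← Finset.mul_sum, ← h]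
        ring
    _ = _ := by rw [← Finset.mul_sum]

/-- The block parts of all `c ↦ χ (x c)` have product `∑ ψ ∈ b, ψ y * conj (ψ y')`. -/
theorem sum_all_blockPart_mul (hx : ∃ k : ℕ, orderOf x = p ^ k) [Fintype (IrrCharacter G)]
    {b : Set (IrrCharacter (Subgroup.centralizer ({x} : Set G)))} (hb : IsPBlock M b)
    {y y' : Subgroup.centralizer ({x} : Set G)} (hy : ¬ p ∣ orderOf y) (hy' : ¬ p ∣ orderOf y') :
    ∑ χ : IrrCharacter G,
        blockPart b (fun c : Subgroup.centralizer ({x} : Set G) => (χ : G → ℂ) (x * (c : G))) y *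
          conj (blockPart b
            (fun c : Subgroup.centralizer ({x} : Set G) => (χ : G → ℂ) (x * (c : G))) y') =
      ∑ ψ ∈ (Set.toFinite b).toFinset,
        (ψ : Subgroup.centralizer ({x} : Set G) → ℂ) y *
          conj ((ψ : Subgroup.centralizer ({x} : Set G) → ℂ) y') := by
  set A := (Set.toFinite b).toFinset
  set R := Finset.univ.filter fun w : (Subgroup.centralizer ({x} : Set G)) => ¬ p ∣ orderOf w with hR
  let K : (Subgroup.centralizer ({x} : Set G)) → (Subgroup.centralizer ({x} : Set G)) → ℂ := fun v w => ∑ ψ ∈ A, (ψ : (Subgroup.centralizer ({x} : Set G)) → ℂ) v * conj ((ψ : (Subgroup.centralizer ({x} : Set G)) → ℂ) w)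
  have hK : ∀ v, IsClassFunction (Subgroup.centralizer ({x} : Set G)) (K v) := fun v w c => Finset.sum_congr rfl fun ψ _ => by
    rw [Char.IsIrr.isClassFunction ψ.2 w c]
  have hbp : ∀ (v : (Subgroup.centralizer ({x} : Set G))), ¬ p ∣ orderOf v → ∀ χ : IrrCharacter G,
      blockPart b (fun c : (Subgroup.centralizer ({x} : Set G)) => (χ : G → ℂ) (x * (c : G))) v =
      (Nat.card (Subgroup.centralizer ({x} : Set G)) : ℂ)⁻¹ * ∑ w ∈ R, (χ : G → ℂ) (x * (w : G)) * K v w := fun v hv χ => by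
    rw [blockPart_apply, hR, Finset.sum_filter]
    congr 1
    refine Finset.sum_congr rfl fun w _ => ?_
    by_cases hw : p ∣ orderOf w
    · rw [if_neg (not_not.2 hw), sum_block_regular_singular hM hb hv (by rwa [orderOf_inv]),
        mul_zero]
    · rw [if_pos hw, finsum_mem_eq_finite_toFinset_sum _ (Set.toFinite b)]
      exact congrArg _ (Finset.sum_congr rfl fun ψ _ => by rw [Char.IsIrr.map_inv ψ.2])
  have hinner : ∀ w ∈ R, ∑ w' ∈ R, conj (K y' w') *
      ∑ χ : IrrCharacter G, (χ : G → ℂ) (x * (w : G)) * conj ((χ : G → ℂ) (x * (w' : G))) =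
        (Nat.card (Subgroup.centralizer ({x} : Set G)) : ℂ) * conj (K y' w) := by
    intro w hw
    have hwr : ¬ p ∣ orderOf w := (Finset.mem_filter.1 hw).2
    have hmaps : ∀ c ∈ (Finset.univ : Finset (Subgroup.centralizer ({x} : Set G))), c * w * c⁻¹ ∈ R := fun c _ => by
      simp only [hR, Finset.mem_filter, Finset.mem_univ, true_and]
      rwa [show c * w * c⁻¹ = MulAut.conj c w from rfl, MulEquiv.orderOf_eq]
    rw [Nat.card_eq_fintype_card, ← Finset.card_univ, ← nsmul_eq_mul, ← Finset.sum_const,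
      ← Finset.sum_fiberwise_of_maps_to hmaps]
    refine Finset.sum_congr rfl fun w' hw' => ?_
    rw [Char.column_orthogonality,
      ← card_conj_eq_centralizer hx hwr (Finset.mem_filter.1 hw').2, Finset.sum_congr rfl
        (g := fun _ => conj (K y' w')) fun c hc => ?_, Finset.sum_const, nsmul_eq_mul, mul_comm]
    rw [← (Finset.mem_filter.1 hc).2, hK y']
  have hC0 : (Nat.card (Subgroup.centralizer ({x} : Set G)) : ℂ) ≠ 0 := Nat.cast_ne_zero.2 Nat.card_pos.ne'
  calc ∑ χ : IrrCharacter G, blockPart b (fun c : (Subgroup.centralizer ({x} : Set G)) => (χ : G → ℂ) (x * (c : G))) y *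
        conj (blockPart b (fun c : (Subgroup.centralizer ({x} : Set G)) => (χ : G → ℂ) (x * (c : G))) y')
      = ((Nat.card (Subgroup.centralizer ({x} : Set G)) : ℂ)⁻¹ * (Nat.card (Subgroup.centralizer ({x} : Set G)) : ℂ)⁻¹) * ∑ w ∈ R, K y w * ∑ w' ∈ R, conj (K y' w') *
          ∑ χ : IrrCharacter G, (χ : G → ℂ) (x * (w : G)) * conj ((χ : G → ℂ) (x * (w' : G))) := by
        simp only [hbp y hy, hbp y' hy', map_mul, map_inv₀, map_natCast, map_sum, Finset.mul_sum, Finset.sum_mul]
        rw [Finset.sum_comm]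
        refine ((Finset.sum_congr rfl fun w' _ => Finset.sum_comm).trans Finset.sum_comm).trans ?_
        exact Finset.sum_congr rfl fun w _ => Finset.sum_congr rfl fun w' _ =>
          Finset.sum_congr rfl fun χ _ => by ring
    _ = ((Nat.card (Subgroup.centralizer ({x} : Set G)) : ℂ)⁻¹ * (Nat.card (Subgroup.centralizer ({x} : Set G)) : ℂ)⁻¹) * ∑ w ∈ R,
          (Nat.card (Subgroup.centralizer ({x} : Set G)) : ℂ) * (K y w * conj (K y' w)) := by
        refine congrArg _ (Finset.sum_congr rfl fun w hw => ?_)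
        rw [hinner w hw]
        ring
    _ = _ := by
        rw [← Finset.mul_sum, sum_regular_kernel_mul hM hb hy y']
        field_simp
        ring

/-- The block parts of all `c ↦ χ (x c)` have pointwise norm `∑ ψ ∈ b, ‖ψ y‖²`. -/
theorem sum_all_blockPart_norm (hx : ∃ k : ℕ, orderOf x = p ^ k) [Fintype (IrrCharacter G)]
    {b : Set (IrrCharacter (Subgroup.centralizer ({x} : Set G)))} (hb : IsPBlock M b)
    {y : Subgroup.centralizer ({x} : Set G)} (hy : ¬ p ∣ orderOf y) :
    ∑ χ : IrrCharacter G,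
        blockPart b (fun c : Subgroup.centralizer ({x} : Set G) => (χ : G → ℂ) (x * (c : G))) y *
          conj (blockPart b
            (fun c : Subgroup.centralizer ({x} : Set G) => (χ : G → ℂ) (x * (c : G))) y) =
      ∑ ψ ∈ (Set.toFinite b).toFinset,
        (ψ : Subgroup.centralizer ({x} : Set G) → ℂ) y *
          conj ((ψ : Subgroup.centralizer ({x} : Set G) → ℂ) y) := by
  exact sum_all_blockPart_mul hM hx hb hy hy

/-- The subsection norm identity. -/
theorem sum_block_blockPart_norm (hx : ∃ k : ℕ, orderOf x = p ^ k) {B : Set (IrrCharacter G)}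
    {b : Set (IrrCharacter (Subgroup.centralizer ({x} : Set G)))}
    (hind : IsInducedBlock M (Subgroup.centralizer ({x} : Set G)) b B) :
    ∑ᶠ χ ∈ B, ∑ y ∈ Finset.univ.filter
        (fun y : Subgroup.centralizer ({x} : Set G) => ¬ p ∣ orderOf y),
        blockPart b (fun c : Subgroup.centralizer ({x} : Set G) => (χ : G → ℂ) (x * (c : G))) y *
          conj (blockPart b
            (fun c : Subgroup.centralizer ({x} : Set G) => (χ : G → ℂ) (x * (c : G))) y) =
      (Nat.card (Subgroup.centralizer ({x} : Set G)) : ℂ) * (blockRank p b : ℂ) := by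
  have := Fintype.ofFinite (IrrCharacter G)
  obtain ⟨hb, hB, -⟩ := isInducedBlock_iff.1 hind
  rw [card_mul_blockRank hM hb, finsum_mem_eq_finite_toFinset_sum _ (Set.toFinite B),
    Finset.sum_comm]
  rw [Finset.sum_filter]
  refine Finset.sum_congr rfl fun y _ => ?_
  rw [finsum_mem_eq_finite_toFinset_sum _ (Set.toFinite b)]
  by_cases hy : p ∣ orderOf y
  · rw [if_neg (not_not.2 hy)]
    symm
    refine Finset.sum_eq_zero fun ψ _ => ?_
    simp [pRegularPart_eq_regCut, regCut, hy]
  · rw [if_pos hy, Finset.sum_subset (Finset.subset_univ _) fun χ _ hχ => ?_,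
      sum_all_blockPart_norm hM hx hb hy]
    · refine Finset.sum_congr rfl fun ψ _ => ?_
      rw [pRegularPart_eq_regCut, regCut, if_neg hy, Char.IsIrr.map_inv ψ.2]
    · rw [Set.Finite.mem_toFinset] at hχ
      rw [blockPart_eq_zero_of_not_induced hM hx (isPBlock_blockOf χ) (mem_blockOf_self χ) hb
        (fun h => hχ (IsInducedBlock.eq hind h ▸ mem_blockOf_self χ)) hy, zero_mul]

/-- On the section of `x` a character of `B` is the sum of its parts in the blocks inducing `B`. -/
theorem apply_mul_eq_sum_blockPart (hx : ∃ k : ℕ, orderOf x = p ^ k) {B : Set (IrrCharacter G)}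
    (hB : IsPBlock M B) {χ : IrrCharacter G} (hχ : χ ∈ B)
    [Fintype (IrrCharacter (Subgroup.centralizer ({x} : Set G)))]
    {y : Subgroup.centralizer ({x} : Set G)} (hy : ¬ p ∣ orderOf y) :
    (χ : G → ℂ) (x * (y : G)) = ∑ b ∈ ((Finset.univ.image
        fun ψ : IrrCharacter (Subgroup.centralizer ({x} : Set G)) =>
          blockOf M (ψ : Subgroup.centralizer ({x} : Set G) → ℂ)).filter
        fun b => IsInducedBlock M (Subgroup.centralizer ({x} : Set G)) b B),
      blockPart b (fun c : Subgroup.centralizer ({x} : Set G) => (χ : G → ℂ) (x * (c : G))) y := by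
  rw [Finset.sum_filter]
  calc (χ : G → ℂ) (x * (y : G))
      = ∑ ψ : IrrCharacter (Subgroup.centralizer ({x} : Set G)), classInner (fun c : (Subgroup.centralizer ({x} : Set G)) => (χ : G → ℂ) (x * (c : G))) (ψ : (Subgroup.centralizer ({x} : Set G)) → ℂ) *
          (ψ : (Subgroup.centralizer ({x} : Set G)) → ℂ) y :=
        Char.classFunction_apply_eq_sum
          (isClassFunction_apply_mul (Char.IsIrr.isClassFunction χ.2)) y
    _ = _ := by
      rw [← Finset.sum_fiberwise_of_maps_to (g := fun ψ : IrrCharacter (Subgroup.centralizer ({x} : Set G)) => blockOf M (ψ : (Subgroup.centralizer ({x} : Set G)) → ℂ))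
        fun ψ _ => Finset.mem_image.2 ⟨ψ, Finset.mem_univ ψ, rfl⟩]
      refine Finset.sum_congr rfl fun b hb => ?_
      obtain ⟨ψ₀, -, rfl⟩ := Finset.mem_image.1 hb
      have hb' : IsPBlock M (blockOf M (ψ₀ : (Subgroup.centralizer ({x} : Set G)) → ℂ)) := isPBlock_blockOf ψ₀
      have heq : ∑ ψ ∈ Finset.univ.filter
            (fun ψ : IrrCharacter (Subgroup.centralizer ({x} : Set G)) => blockOf M (ψ : (Subgroup.centralizer ({x} : Set G)) → ℂ) = blockOf M (ψ₀ : (Subgroup.centralizer ({x} : Set G)) → ℂ)),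
          classInner (fun c : (Subgroup.centralizer ({x} : Set G)) => (χ : G → ℂ) (x * (c : G))) (ψ : (Subgroup.centralizer ({x} : Set G)) → ℂ) * (ψ : (Subgroup.centralizer ({x} : Set G)) → ℂ) y =
          blockPart (blockOf M (ψ₀ : (Subgroup.centralizer ({x} : Set G)) → ℂ)) (fun c : (Subgroup.centralizer ({x} : Set G)) => (χ : G → ℂ) (x * (c : G))) y := by
        rw [blockPart_eq, finsum_mem_eq_finite_toFinset_sum _ (Set.toFinite _)]
        refine Finset.sum_congr ?_ fun _ _ => rfl
        ext ψ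
        simp only [Finset.mem_filter, Finset.mem_univ, true_and, Set.Finite.mem_toFinset]
        exact ⟨fun h => h ▸ mem_blockOf_self ψ, fun h => (IsPBlock.eq_blockOf hb' h).symm⟩
      rw [heq]
      split_ifs with hi
      · rfl
      · exact blockPart_eq_zero_of_not_induced hM hx hB hχ hb' hi hy

/-- Block parts for different blocks are orthogonal on the regular elements. -/
theorem sum_regular_blockPart_mul_eq_zero {C : Type*} [Group C] [Fintype C]
    {b b' : Set (IrrCharacter C)} (hb : IsPBlock M b) (hb' : IsPBlock M b') (hne : b ≠ b')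
    (θ θ' : C → ℂ) :
    ∑ y ∈ Finset.univ.filter (fun y : C => ¬ p ∣ orderOf y),
      blockPart b θ y * conj (blockPart b' θ' y) = 0 := by
  simp only [blockPart_eq, finsum_mem_eq_finite_toFinset_sum _ (Set.toFinite b),
    finsum_mem_eq_finite_toFinset_sum _ (Set.toFinite b'), map_sum, map_mul, Finset.sum_mul,
    Finset.mul_sum]
  rw [Finset.sum_comm]
  refine Finset.sum_eq_zero fun ψ' hψ' => ?_
  rw [Finset.sum_comm]
  refine Finset.sum_eq_zero fun ψ hψ => ?_
  rw [Set.Finite.mem_toFinset] at hψ hψ'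
  have h := sum_regular_eq_zero hM (χ := ψ) (ψ := ψ') fun hs =>
    hne (IsPBlock.eq_of_mem hb hb' hψ (by rw [IsPBlock.eq_blockOf hb' hψ']; exact SameBlock.symm' hs))
  refine Eq.trans (Finset.sum_congr rfl fun y _ => ?_)
    (by rw [← Finset.mul_sum, h, mul_zero] : ∑ y ∈ Finset.univ.filter (fun y : C => ¬ p ∣ orderOf y),
      (classInner θ (ψ : C → ℂ) * conj (classInner θ' (ψ' : C → ℂ))) *
        ((ψ : C → ℂ) y * (ψ' : C → ℂ) y⁻¹) = 0)
  rw [Char.IsIrr.map_inv ψ'.2]
  ring

end CfsgLib.Blocks
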