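import Cfsg.Agent.Lib.CharDegree.InvertedSylow
import Mathlib.GroupTheory.QuotientGroup.Finite
import Mathlib.GroupTheory.Perm.Basic
import Mathlib.Algebra.BigOperators.Group.Finset.Sigma
import Mathlib.GroupTheory.GroupAction.Quotient

/-!
# A finite group with bounded Sylow `2`-subgroup and three small involution centralizers is bounded

For commuting involutions `t`, `u` with `|C(t)|, |C(u)|, |C(tu)| ≤ m`, normal subgroups of odd order
have at most `m ^ 3` elements, some class `≠ 1` is small, and this bounds a minimal normal subgroup;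
induction on the `2`-part of the order finishes.
-/

namespace CfsgLib.Blocks.InvolutionBound

open scoped Classical

universe u

variable {G : Type u} [Group G] [Finite G]

/-- The number of elements commuting with `x`. -/
noncomputable def cent (x : G) : ℕ := Nat.card (Subgroup.centralizer ({x} : Set G))

theorem cent_one : cent (1 : G) = Nat.card G := by
  rw [cent, show Subgroup.centralizer ({1} : Set G) = ⊤ from
    eq_top_iff.2 fun g _ => Subgroup.mem_centralizer_singleton_iff.2 (by simp), Subgroup.card_top]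

theorem cent_conj (c x : G) : cent (c * x * c⁻¹) = cent x := by
  refine Nat.card_congr
    { toFun := fun g => ⟨c⁻¹ * g * c, Subgroup.mem_centralizer_singleton_iff.2 ?_⟩
      invFun := fun g => ⟨c * g * c⁻¹, Subgroup.mem_centralizer_singleton_iff.2 ?_⟩
      left_inv := fun g => Subtype.ext (show c * (c⁻¹ * g * c) * c⁻¹ = (g : G) by group)
      right_inv := fun g => Subtype.ext (show c⁻¹ * (c * g * c⁻¹) * c = (g : G) by group) }
  · have h := Subgroup.mem_centralizer_singleton_iff.1 g.2
    calc c⁻¹ * (g : G) * c * x = c⁻¹ * ((g : G) * (c * x * c⁻¹)) * c := by group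
      _ = x * (c⁻¹ * g * c) := by rw [h]; group
  · have h := Subgroup.mem_centralizer_singleton_iff.1 g.2
    calc c * (g : G) * c⁻¹ * (c * x * c⁻¹) = c * ((g : G) * x) * c⁻¹ := by group
      _ = c * x * c⁻¹ * (c * g * c⁻¹) := by rw [h]; group

/-- Centralizers in a quotient. -/
theorem cent_mk_le (R : Subgroup G) [R.Normal] (x : G) :
    cent (x : G ⧸ R) ≤ Nat.card R * cent x := by
  have : Fintype G := Fintype.ofFinite G
  set S := Finset.univ.filter fun g : G => g * x * g⁻¹ * x⁻¹ ∈ R with hS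
  have h1 : cent (x : G ⧸ R) ≤ S.card := by
    rw [cent, ← Fintype.card_coe, ← Nat.card_eq_fintype_card]
    refine Nat.card_le_card_of_injective (fun q => (⟨Quotient.out (q : G ⧸ R), Finset.mem_filter.2
      ⟨Finset.mem_univ _, ?_⟩⟩ : S)) fun q r h => Subtype.ext ?_
    · rw [← QuotientGroup.eq_one_iff]
      have h := Subgroup.mem_centralizer_singleton_iff.1 q.2
      simp only [QuotientGroup.mk_mul, QuotientGroup.mk_inv, QuotientGroup.out_eq', h]
      group
    · simpa using congrArg (fun z : S => ((z : G) : G ⧸ R)) h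
  refine h1.trans ?_
  rw [mul_comm]
  refine (Finset.card_le_mul_card_image (f := fun g => g * x * g⁻¹ * x⁻¹) S (cent x) fun v hv => ?_).trans ?_
  · obtain ⟨g₀, -, hg₀⟩ := Finset.mem_image.1 hv
    rw [cent, ← Fintype.card_coe, ← Nat.card_eq_fintype_card]
    refine Nat.card_le_card_of_injective (fun g => (⟨g₀⁻¹ * (g : G),
      Subgroup.mem_centralizer_singleton_iff.2 ?_⟩ : Subgroup.centralizer ({x} : Set G)))
      fun g h hgh => Subtype.ext (mul_left_cancel (congrArg Subtype.val hgh))
    have h := (Finset.mem_filter.1 g.2).2.trans hg₀.symm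
    rw [mul_left_inj] at h
    calc g₀⁻¹ * (g : G) * x = g₀⁻¹ * ((g : G) * x * (g : G)⁻¹) * g := by group
      _ = g₀⁻¹ * (g₀ * x * g₀⁻¹) * g := by rw [h]
      _ = x * (g₀⁻¹ * g) := by group
  · refine Nat.mul_le_mul le_rfl ?_
    rw [Nat.card_eq_fintype_card, Fintype.card_subtype]
    refine Finset.card_le_card fun v hv => ?_
    obtain ⟨g, hg, rfl⟩ := Finset.mem_image.1 hv
    exact Finset.mem_filter.2 ⟨Finset.mem_univ _, (Finset.mem_filter.1 hg).2⟩

/-- The three involutions of a four-group. -/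
def Hyp (t u : G) (m : ℕ) : Prop :=
  t * t = 1 ∧ u * u = 1 ∧ Commute t u ∧ t ≠ 1 ∧ u ≠ 1 ∧ t ≠ u ∧
    cent t ≤ m ∧ cent u ≤ m ∧ cent (t * u) ≤ m

/-- Normal subgroups of odd order. -/
theorem card_le_of_odd {t u : G} {m : ℕ} (h : Hyp t u m) (X : Subgroup G) [X.Normal]
    (hX : Odd (Nat.card X)) : Nat.card X ≤ m ^ 3 := by
  obtain ⟨ht, hu, htu, -, -, -, hct, hcu, hctu⟩ := h
  have : Fintype G := Fintype.ofFinite G
  set S := (Finset.univ.filter (· ∈ X)).image fun y => y * u * y⁻¹ with hS
  set Z := Finset.univ.filter fun z : G => t * z = z * t ∧ cent z ≤ m with hZ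
  have hXS : Nat.card X ≤ m * S.card := by
    rw [Nat.card_eq_fintype_card, Fintype.card_subtype]
    refine Finset.card_le_mul_card_image _ m fun v hv => ?_
    obtain ⟨y₀, -, hy₀⟩ := Finset.mem_image.1 hv
    refine le_trans ?_ hcu
    rw [cent, ← Fintype.card_coe, ← Nat.card_eq_fintype_card]
    refine Nat.card_le_card_of_injective (fun g => (⟨y₀⁻¹ * (g : G),
      Subgroup.mem_centralizer_singleton_iff.2 ?_⟩ : Subgroup.centralizer ({u} : Set G)))
      fun g h hgh => Subtype.ext (mul_left_cancel (congrArg Subtype.val hgh))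
    have h := (Finset.mem_filter.1 g.2).2.trans hy₀.symm
    calc y₀⁻¹ * (g : G) * u = y₀⁻¹ * ((g : G) * u * (g : G)⁻¹) * g := by group
      _ = y₀⁻¹ * (y₀ * u * y₀⁻¹) * g := by rw [h]
      _ = u * (y₀⁻¹ * g) := by group
  have hSZ : S.card ≤ Z.card * m := by
    refine (Finset.card_le_card fun s hs => ?_).trans
      ((Finset.card_biUnion_le (s := Z) (t := fun z => Finset.univ.filter fun s : G => s * z = z * s)).trans
        ((Finset.sum_le_card_nsmul _ _ m fun z hz => ?_).trans (smul_eq_mul _ _).le))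
    swap
    · refine le_trans (le_of_eq ?_) (Finset.mem_filter.1 hz).2.2
      rw [cent, Nat.card_eq_fintype_card, Fintype.card_subtype]
      congr 1
      ext s
      simp [Subgroup.mem_centralizer_singleton_iff]
    obtain ⟨y, hy, rfl⟩ := Finset.mem_image.1 hs
    have hyX : y ∈ X := (Finset.mem_filter.1 hy).2
    set s := y * u * y⁻¹
    have hs2 : s * s = 1 := by
      calc s * s = y * (u * u) * y⁻¹ := by simp only [s]; group
        _ = 1 := by rw [hu, mul_one, mul_inv_cancel]
    have hti : t⁻¹ = t := inv_eq_of_mul_eq_one_right ht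
    have htu2 : t * u * (t * u) = 1 := by
      calc t * u * (t * u) = t * (u * t) * u := by group
        _ = t * (t * u) * u := by rw [htu.eq]
        _ = (t * t) * (u * u) := by group
        _ = 1 := by rw [ht, hu, one_mul]
    set w := t * s
    have hwX : ((w : G) : G ⧸ X) = ((t * u : G) : G ⧸ X) := by
      simp only [w, s, QuotientGroup.mk_mul, QuotientGroup.mk_inv, (QuotientGroup.eq_one_iff y).2 hyX]
      group
    have hw2 : w ^ 2 ∈ X := by
      rw [← QuotientGroup.eq_one_iff, QuotientGroup.mk_pow, hwX, ← QuotientGroup.mk_pow, pow_two, htu2]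
      rfl
    set d := orderOf (w ^ 2)
    have hd : Odd d := hX.of_dvd_nat (Subgroup.orderOf_dvd_natCard _ hw2)
    set z := w ^ d
    have hz2 : z * z = 1 := by
      rw [← pow_add, ← two_mul, pow_mul, pow_orderOf_eq_one]
    have hzX : z * (t * u) ∈ X := by
      obtain ⟨k, hk⟩ := hd
      rw [← QuotientGroup.eq_one_iff, QuotientGroup.mk_mul, QuotientGroup.mk_pow, hwX, hk, pow_succ,
        pow_mul, ← QuotientGroup.mk_pow, pow_two, htu2]
      simp only [QuotientGroup.mk_one, one_pow, one_mul]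
      rw [← QuotientGroup.mk_mul, htu2, QuotientGroup.mk_one]
    obtain ⟨c, hc⟩ := isConj_iff.1 (CharDegree.isConj_of_odd_orderOf_mul hz2 htu2
      (hX.of_dvd_nat (Subgroup.orderOf_dvd_natCard _ hzX)))
    have hwt : t * w * t⁻¹ = w⁻¹ := by
      simp only [w]
      rw [mul_inv_rev, inv_eq_of_mul_eq_one_right hs2, hti, ← mul_assoc t t, ht, one_mul]
    have htz : t * z = z * t := by
      have : t * z * t⁻¹ = z := by
        rw [← conj_pow, hwt, inv_pow, inv_eq_of_mul_eq_one_right hz2]
      exact mul_inv_eq_iff_eq_mul.1 this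
    refine Finset.mem_biUnion.2 ⟨z, Finset.mem_filter.2 ⟨Finset.mem_univ _, htz, ?_⟩,
      Finset.mem_filter.2 ⟨Finset.mem_univ _, ?_⟩⟩
    · rw [← hc, cent_conj]
      exact hctu
    · have hsw : s = t * w := by simp only [w]; rw [← mul_assoc, ht, one_mul]
      have hcw : Commute w z := Commute.self_pow w d
      show s * z = z * s
      rw [hsw, mul_assoc, hcw.eq, ← mul_assoc, htz, mul_assoc]
  have hZm : Z.card ≤ m := by
    refine le_trans ?_ hct
    rw [cent, Nat.card_eq_fintype_card, Fintype.card_subtype]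
    refine Finset.card_le_card fun z hz => ?_
    simp only [Finset.mem_filter, Finset.mem_univ, true_and, Z] at hz ⊢
    exact Subgroup.mem_centralizer_singleton_iff.2 hz.1.symm
  calc Nat.card X ≤ m * S.card := hXS
    _ ≤ m * (Z.card * m) := Nat.mul_le_mul le_rfl hSZ
    _ ≤ m * (m * m) := Nat.mul_le_mul le_rfl (Nat.mul_le_mul hZm le_rfl)
    _ = m ^ 3 := by ring

/-- Brauer–Fowler: some class other than `1` is small. -/
theorem exists_small_class {t : G} (ht : t * t = 1) (ht1 : t ≠ 1) {m : ℕ} (hm : cent t ≤ m) :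
    ∃ x : G, x ≠ 1 ∧ Nat.card G ≤ 2 * m ^ 2 * cent x := by
  have : Fintype G := Fintype.ofFinite G
  set S := Finset.univ.image fun g : G => g * t * g⁻¹ with hS
  have hGn : Nat.card G ≤ m * S.card := by
    rw [Nat.card_eq_fintype_card, ← Finset.card_univ]
    refine Finset.card_le_mul_card_image _ m fun v hv => ?_
    obtain ⟨y₀, -, hy₀⟩ := Finset.mem_image.1 hv
    refine le_trans ?_ hm
    rw [cent, ← Fintype.card_coe, ← Nat.card_eq_fintype_card]
    refine Nat.card_le_card_of_injective (fun g => (⟨y₀⁻¹ * (g : G),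
      Subgroup.mem_centralizer_singleton_iff.2 ?_⟩ : Subgroup.centralizer ({t} : Set G)))
      fun g h hgh => Subtype.ext (mul_left_cancel (congrArg Subtype.val hgh))
    have h := (Finset.mem_filter.1 g.2).2.trans hy₀.symm
    calc y₀⁻¹ * (g : G) * t = y₀⁻¹ * ((g : G) * t * (g : G)⁻¹) * g := by group
      _ = y₀⁻¹ * (y₀ * t * y₀⁻¹) * g := by rw [h]
      _ = t * (y₀⁻¹ * g) := by group
  have hm1 : 1 ≤ m := le_trans Nat.card_pos hm
  rcases Nat.lt_or_ge S.card 2 with h2 | h2
  · refine ⟨t, ht1, le_trans (hGn.trans (Nat.mul_le_mul le_rfl (by omega : S.card ≤ 1))) ?_⟩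
    have : 1 ≤ cent t := Nat.card_pos
    calc m * 1 ≤ 2 * m ^ 2 * 1 := by nlinarith
      _ ≤ 2 * m ^ 2 * cent t := Nat.mul_le_mul le_rfl this
  obtain ⟨x, hx, hmax⟩ := Finset.exists_max_image (Finset.univ.filter fun x : G => x ≠ 1) cent
    ⟨t, Finset.mem_filter.2 ⟨Finset.mem_univ _, ht1⟩⟩
  refine ⟨x, (Finset.mem_filter.1 hx).2, ?_⟩
  have hinv : ∀ s ∈ S, s * s = 1 := fun s hs => by
    obtain ⟨g, -, rfl⟩ := Finset.mem_image.1 hs
    calc g * t * g⁻¹ * (g * t * g⁻¹) = g * (t * t) * g⁻¹ := by group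
      _ = 1 := by rw [ht, mul_one, mul_inv_cancel]
  have hsplit : S.card * S.card ≤ S.card + Fintype.card G * cent x := by
    rw [← Finset.card_product, ← Finset.card_filter_add_card_filter_not (s := S ×ˢ S)
      (fun q : G × G => q.1 * q.2 = 1)]
    refine Nat.add_le_add (Finset.card_le_card_of_injOn Prod.fst
      (fun q hq => (Finset.mem_product.1 (Finset.mem_filter.1 hq).1).1) fun q hq r hr h => ?_) ?_
    · refine Prod.ext h ?_
      have h1 := (Finset.mem_filter.1 hq).2
      have h2 := (Finset.mem_filter.1 hr).2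
      rw [← h] at h2
      exact mul_left_cancel (h1.trans h2.symm)
    · refine le_trans (Finset.card_le_mul_card_image (f := fun q : G × G => q.1 * q.2) _ (cent x)
        fun v hv => ?_) (by rw [mul_comm]; exact Nat.mul_le_mul (Finset.card_le_univ _) le_rfl)
      obtain ⟨q₀, hq₀, hv₀⟩ := Finset.mem_image.1 hv
      have hv1 : v ≠ 1 := hv₀ ▸ (Finset.mem_filter.1 hq₀).2
      refine le_trans ?_ (hmax v (Finset.mem_filter.2 ⟨Finset.mem_univ _, hv1⟩))
      rw [cent, ← Fintype.card_coe, ← Nat.card_eq_fintype_card]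
      have hrev : ∀ q : G × G, q ∈ S ×ˢ S → q.1 * q.2 = v → q.1 * v * q.1 = v⁻¹ := fun q hq hqv => by
        obtain ⟨a1, a2⟩ := Finset.mem_product.1 hq
        rw [← hqv, mul_inv_rev, inv_eq_of_mul_eq_one_right (hinv _ a1),
          inv_eq_of_mul_eq_one_right (hinv _ a2), ← mul_assoc q.1 q.1, hinv _ a1, one_mul]
      refine Nat.card_le_card_of_injective (fun q => (⟨q₀.1 * (q : G × G).1,
        Subgroup.mem_centralizer_singleton_iff.2 ?_⟩ : Subgroup.centralizer ({v} : Set G)))
        fun q r h => Subtype.ext ?_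
      · obtain ⟨hq1, hq2⟩ := Finset.mem_filter.1 q.2
        have e1 := hrev _ (Finset.mem_filter.1 hq1).1 hq2
        have e2 := hrev _ (Finset.mem_filter.1 hq₀).1 hv₀
        have f1 := hinv _ (Finset.mem_product.1 (Finset.mem_filter.1 hq1).1).1
        have f2 := hinv _ (Finset.mem_product.1 (Finset.mem_filter.1 hq₀).1).1
        set s := (q : G × G).1
        set s₀ := q₀.1
        have g1 : s * v = v⁻¹ * s := by rw [← e1, mul_assoc, f1, mul_one]
        have g2 : s₀ * v⁻¹ = v * s₀ := by
          rw [← e2, ← mul_assoc, ← mul_assoc, f2, one_mul]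
        rw [mul_assoc, g1, ← mul_assoc, g2, mul_assoc]
      · have h1 : (q : G × G).1 = (r : G × G).1 := mul_left_cancel (congrArg Subtype.val h)
        refine Prod.ext h1 (mul_left_cancel (a := (q : G × G).1) ?_)
        rw [(Finset.mem_filter.1 q.2).2, h1, (Finset.mem_filter.1 r.2).2]
  rw [← Nat.card_eq_fintype_card] at hsplit
  have h4 : S.card * S.card ≤ 2 * (Nat.card G * cent x) := by
    have : 2 * S.card ≤ S.card * S.card := Nat.mul_le_mul h2 le_rfl
    omega
  have h5 : Nat.card G * Nat.card G ≤ Nat.card G * (2 * m ^ 2 * cent x) := by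
    calc Nat.card G * Nat.card G ≤ m * S.card * (m * S.card) := Nat.mul_le_mul hGn hGn
      _ = m ^ 2 * (S.card * S.card) := by ring
      _ ≤ m ^ 2 * (2 * (Nat.card G * cent x)) := Nat.mul_le_mul le_rfl h4
      _ = Nat.card G * (2 * m ^ 2 * cent x) := by ring
  exact Nat.le_of_mul_le_mul_left h5 Nat.card_pos

theorem Hyp.map {t u : G} {m : ℕ} (h : Hyp t u m) (R : Subgroup G) [R.Normal] (h1 : t ∉ R)
    (h2 : u ∉ R) (h3 : t * u ∉ R) :
    Hyp (t : G ⧸ R) (u : G ⧸ R) (Nat.card R * m) := by
  obtain ⟨ht, hu, htu, -, -, -, hct, hcu, hctu⟩ := h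
  refine ⟨by rw [← QuotientGroup.mk_mul, ht, QuotientGroup.mk_one],
    by rw [← QuotientGroup.mk_mul, hu, QuotientGroup.mk_one],
    by rw [Commute, SemiconjBy, ← QuotientGroup.mk_mul, htu.eq, QuotientGroup.mk_mul],
    fun e => h1 ((QuotientGroup.eq_one_iff t).1 e), fun e => h2 ((QuotientGroup.eq_one_iff u).1 e),
    fun e => h3 ?_, (cent_mk_le R t).trans (Nat.mul_le_mul le_rfl hct),
    (cent_mk_le R u).trans (Nat.mul_le_mul le_rfl hcu), ?_⟩
  · rw [← QuotientGroup.eq_one_iff, QuotientGroup.mk_mul, e, ← QuotientGroup.mk_mul, hu]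
    rfl
  · rw [← QuotientGroup.mk_mul]
    exact (cent_mk_le R (t * u)).trans (Nat.mul_le_mul le_rfl hctu)

theorem card_quotient_le {m : ℕ} (R : Subgroup G) [R.Normal] {x : G} (hx : cent x ≤ m) (hxR : x ∈ R) :
    Nat.card (G ⧸ R) ≤ Nat.card R * m := by
  rw [← cent_one (G := G ⧸ R), ← (QuotientGroup.eq_one_iff x).2 hxR]
  exact (cent_mk_le R x).trans (Nat.mul_le_mul le_rfl hx)

/-- Without normal subgroups of odd order, a nontrivial normal subgroup of even order is
bounded. -/
theorem exists_small_even_normal {t u : G} {m a : ℕ} (h : Hyp t u m)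
    (hodd : ∀ X : Subgroup G, X.Normal → Odd (Nat.card X) → X = ⊥)
    (ha : (Nat.card G).factorization 2 ≤ a) :
    ∃ R : Subgroup G, R.Normal ∧ 2 ∣ Nat.card R ∧
      Nat.card R ≤ max (2 * m ^ 2).factorial (2 ^ a) := by
  obtain ⟨x, hx1, hx⟩ := exists_small_class h.1 h.2.2.2.1 h.2.2.2.2.2.2.1
  set C := Subgroup.centralizer ({x} : Set G)
  have hCi : C.index ≤ 2 * m ^ 2 := by
    refine Nat.le_of_mul_le_mul_left (?_ : Nat.card C * C.index ≤ Nat.card C * (2 * m ^ 2)) Nat.card_pos
    rw [Subgroup.card_mul_index]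
    exact hx.trans (le_of_eq (mul_comm _ _))
  set K := C.normalCore
  have hKi : K.index ≤ (2 * m ^ 2).factorial := by
    refine le_trans ?_ (Nat.factorial_le hCi)
    show C.normalCore.index ≤ _
    rw [Subgroup.normalCore_eq_ker, Subgroup.index_ker]
    refine (Subgroup.card_le_card_group _).trans (le_of_eq ?_)
    have : Fintype (G ⧸ C) := Fintype.ofFinite _
    rw [Subgroup.index, Nat.card_eq_fintype_card, Nat.card_eq_fintype_card, Fintype.card_perm]
  set X := Subgroup.normalClosure ({x} : Set G)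
  have hX1 : X ≠ ⊥ := fun e => hx1 (Subgroup.mem_bot.1
    (e ▸ Subgroup.subset_normalClosure (Set.mem_singleton x)))
  have hKX : X ≤ Subgroup.centralizer (K : Set G) := by
    refine Subgroup.normalClosure_le_normal (Set.singleton_subset_iff.2 ?_)
    exact Subgroup.mem_centralizer_iff.2 fun k hk =>
      Subgroup.mem_centralizer_singleton_iff.1 (C.normalCore_le hk)
  -- a normal subgroup minimal below `X`
  have : Fintype G := Fintype.ofFinite G
  have : Fintype (Subgroup G) := Fintype.ofFinite _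
  obtain ⟨R, hR, hRmin⟩ := Finset.exists_min_image
    (Finset.univ.filter fun R : Subgroup G => R.Normal ∧ R ≤ X ∧ R ≠ ⊥) (fun R => Nat.card R)
    ⟨X, Finset.mem_filter.2 ⟨Finset.mem_univ _, Subgroup.normalClosure_normal, le_rfl, hX1⟩⟩
  obtain ⟨-, hRn, hRX, hR1⟩ := Finset.mem_filter.1 hR
  have hReven : 2 ∣ Nat.card R := by
    by_contra hd
    exact hR1 (hodd R hRn (Nat.not_even_iff_odd.1 fun he => hd (even_iff_two_dvd.1 he)))
  refine ⟨R, hRn, hReven, ?_⟩
  by_cases hRK : R ⊓ K = ⊥
  · refine le_max_of_le_left (le_trans ?_ hKi)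
    refine Nat.card_le_card_of_injective (fun v : R => ((v : G) : G ⧸ K)) fun v w hvw => Subtype.ext ?_
    have hmem : (v : G)⁻¹ * w ∈ R ⊓ K := Subgroup.mem_inf.2
      ⟨R.mul_mem (R.inv_mem v.2) w.2, QuotientGroup.eq.1 hvw⟩
    rw [hRK, Subgroup.mem_bot, inv_mul_eq_one] at hmem
    exact hmem
  · have hle : R ≤ K := by
      by_contra hle
      refine absurd (hRmin (R ⊓ K) (Finset.mem_filter.2 ⟨Finset.mem_univ _, inferInstance,
        inf_le_left.trans hRX, hRK⟩)) ?_
      exact not_le.2 (lt_of_not_ge fun hge => hle ((Subgroup.eq_of_le_of_card_ge inf_le_left hge) ▸ inf_le_right))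
    have hcomm : ∀ v ∈ R, ∀ w ∈ R, v * w = w * v := fun v hv w hw =>
      Subgroup.mem_centralizer_iff.1 (hKX (hRX hw)) v (hle hv)
    have h2 : ∀ v ∈ R, v * v = 1 := by
      let R2 : Subgroup G :=
        { carrier := {v | v ∈ R ∧ v * v = 1}
          one_mem' := ⟨one_mem _, one_mul _⟩
          mul_mem' := fun {v w} hv hw => ⟨mul_mem hv.1 hw.1, by
            calc v * w * (v * w) = v * (w * v) * w := by group
              _ = (v * v) * (w * w) := by rw [hcomm w hw.1 v hv.1]; group
              _ = 1 := by rw [hv.2, hw.2, one_mul]⟩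
          inv_mem' := fun {v} hv => ⟨inv_mem hv.1, by rw [← mul_inv_rev, hv.2, inv_one]⟩ }
      have hR2n : R2.Normal := ⟨fun v hv g => ⟨hRn.conj_mem v hv.1 g, by
        calc g * v * g⁻¹ * (g * v * g⁻¹) = g * (v * v) * g⁻¹ := by group
          _ = 1 := by rw [hv.2, mul_one, mul_inv_cancel]⟩⟩
      have hR21 : R2 ≠ ⊥ := by
        obtain ⟨v, hv⟩ := exists_prime_orderOf_dvd_card' (G := R) 2 hReven
        intro e
        have hv2 : (v : G) ∈ R2 := ⟨v.2, by
          rw [← pow_two, ← hv, ← Subgroup.orderOf_coe, pow_orderOf_eq_one]⟩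
        rw [e, Subgroup.mem_bot] at hv2
        rw [← Subgroup.orderOf_coe, hv2, orderOf_one] at hv
        exact absurd hv (by norm_num)
      have hle2 : R2 ≤ R := fun v hv => hv.1
      have heq := Subgroup.eq_of_le_of_card_ge hle2 (hRmin R2 (Finset.mem_filter.2
        ⟨Finset.mem_univ _, hR2n, hle2.trans hRX, hR21⟩))
      intro v hv
      rw [← heq] at hv
      exact hv.2
    refine le_max_of_le_right ?_
    have hp : IsPGroup 2 R := fun v => ⟨1, Subtype.ext (by
      rw [SubmonoidClass.coe_pow, pow_one, pow_two, h2 _ v.2]; rfl)⟩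
    obtain ⟨k, hk⟩ := IsPGroup.iff_card.1 hp
    rw [hk]
    refine Nat.pow_le_pow_right two_pos (le_trans ?_ ha)
    exact (Nat.prime_two.pow_dvd_iff_le_factorization Nat.card_pos.ne').1
      (hk ▸ Subgroup.card_subgroup_dvd_card R)

/-- The bound. -/
theorem exists_bound : ∀ a m : ℕ, ∃ N : ℕ, ∀ (G : Type u) [Group G] [Finite G] (t u : G),
    (Nat.card G).factorization 2 ≤ a → Hyp t u m → Nat.card G ≤ N := by
  intro a
  induction a with
  | zero =>
    refine fun m => ⟨0, fun G _ _ t u ha h => ?_⟩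
    have ht : orderOf t = 2 := orderOf_eq_prime (by rw [pow_two]; exact h.1) h.2.2.2.1
    have hd : 2 ∣ Nat.card G := ht ▸ orderOf_dvd_natCard t
    exact absurd (Nat.Prime.factorization_pos_of_dvd Nat.prime_two Nat.card_pos.ne' hd) (by omega)
  | succ a ih =>
    intro m
    set m₁ := m ^ 3 * m with hm₁
    set b := max (2 * m₁ ^ 2).factorial (2 ^ (a + 1)) with hb
    set m₂ := b * m₁ with hm₂
    obtain ⟨N, hN⟩ := ih m₂
    refine ⟨m ^ 3 * (b * max N m₂) + m ^ 3 * m₁, fun G _ _ t u ha h => ?_⟩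
    have : Fintype G := Fintype.ofFinite G
    have : Fintype (Subgroup G) := Fintype.ofFinite _
    obtain ⟨O, hO, hOmax⟩ := Finset.exists_max_image
      (Finset.univ.filter fun X : Subgroup G => X.Normal ∧ Odd (Nat.card X)) (fun X => Nat.card X)
      ⟨⊥, Finset.mem_filter.2 ⟨Finset.mem_univ _, inferInstance, by simp⟩⟩
    obtain ⟨-, hOn, hOodd⟩ := Finset.mem_filter.1 hO
    have hOm := card_le_of_odd h O hOodd
    have hnotO : ∀ z : G, z * z = 1 → z ≠ 1 → z ∉ O := fun z hz hz1 hzO => by
      have := hOodd.of_dvd_nat (Subgroup.orderOf_dvd_natCard _ hzO)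
      rw [orderOf_eq_prime (by rw [pow_two]; exact hz) hz1] at this
      exact absurd this (by decide)
    obtain ⟨ht, hu, htu, ht1, hu1, htne, -⟩ := id h
    have htu1 : t * u ≠ 1 := fun e => htne ((inv_eq_of_mul_eq_one_left e).symm.trans
      (inv_eq_of_mul_eq_one_right hu))
    have htu2 : t * u * (t * u) = 1 := by
      calc t * u * (t * u) = t * (u * t) * u := by group
        _ = t * (t * u) * u := by rw [htu.eq]
        _ = (t * t) * (u * u) := by group
        _ = 1 := by rw [ht, hu, one_mul]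
    have h' := h.map O (hnotO t ht ht1) (hnotO u hu hu1) (hnotO _ htu2 htu1)
    have h₁ : Hyp (t : G ⧸ O) (u : G ⧸ O) m₁ := by
      obtain ⟨a1, a2, a3, a4, a5, a6, a7, a8, a9⟩ := h'
      have hle : Nat.card O * m ≤ m₁ := Nat.mul_le_mul hOm le_rfl
      exact ⟨a1, a2, a3, a4, a5, a6, a7.trans hle, a8.trans hle, a9.trans hle⟩
    have hodd' : ∀ X : Subgroup (G ⧸ O), X.Normal → Odd (Nat.card X) → X = ⊥ := by
      intro X hX hXo
      have hc : Nat.card (X.comap (QuotientGroup.mk' O)) = Nat.card O * Nat.card X := by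
        refine mul_right_cancel₀ (b := X.index) Subgroup.index_ne_zero_of_finite ?_
        have h0 := Subgroup.card_mul_index (X.comap (QuotientGroup.mk' O))
        rw [Subgroup.index_comap_of_surjective _ (QuotientGroup.mk'_surjective O)] at h0
        rw [h0, mul_assoc, Subgroup.card_mul_index, Subgroup.card_eq_card_quotient_mul_card_subgroup O,
          mul_comm]
      have hle : O ≤ X.comap (QuotientGroup.mk' O) := fun v hv => by
        show ((v : G ⧸ O)) ∈ X
        rw [(QuotientGroup.eq_one_iff v).2 hv]; exact one_mem _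
      have := hOmax _ (Finset.mem_filter.2 ⟨Finset.mem_univ _, hX.comap _, hc ▸ hOodd.mul hXo⟩)
      rw [hc] at this
      exact Subgroup.eq_bot_of_card_le _ (Nat.le_of_mul_le_mul_left (by rw [mul_one]; exact this : Nat.card O * Nat.card X ≤ Nat.card O * 1) Nat.card_pos)
    have hfac : (Nat.card (G ⧸ O)).factorization 2 ≤ a + 1 :=
      le_trans ((Nat.factorization_le_iff_dvd Nat.card_pos.ne' Nat.card_pos.ne').2
        (Subgroup.card_quotient_dvd_card O) 2) ha
    obtain ⟨R, hRn, hR2, hRb⟩ := exists_small_even_normal h₁ hodd' hfac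
    have hGR : Nat.card ((G ⧸ O) ⧸ R) ≤ max N m₂ := by
      obtain ⟨-, -, -, -, -, -, c1, c2, c3⟩ := id h₁
      have hle : Nat.card R * m₁ ≤ m₂ := Nat.mul_le_mul hRb le_rfl
      by_cases hin : (t : G ⧸ O) ∈ R ∨ (u : G ⧸ O) ∈ R ∨ (t : G ⧸ O) * u ∈ R
      · refine le_max_of_le_right (le_trans ?_ hle)
        rcases hin with hi | hi | hi
        · exact card_quotient_le R c1 hi
        · exact card_quotient_le R c2 hi
        · exact card_quotient_le R c3 hi
      simp only [not_or] at hin
      refine le_max_of_le_left (hN _ _ _ ?_ (by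
        obtain ⟨a1, a2, a3, a4, a5, a6, a7, a8, a9⟩ := h₁.map R hin.1 hin.2.1 hin.2.2
        exact ⟨a1, a2, a3, a4, a5, a6, a7.trans hle, a8.trans hle, a9.trans hle⟩))
      have hmul := Subgroup.card_eq_card_quotient_mul_card_subgroup R
      have hf := congrArg (fun n : ℕ => n.factorization 2) hmul
      simp only [Nat.factorization_mul Nat.card_pos.ne' Nat.card_pos.ne', Finsupp.add_apply] at hf
      have := Nat.Prime.factorization_pos_of_dvd Nat.prime_two Nat.card_pos.ne' hR2
      omega
    rw [Subgroup.card_eq_card_quotient_mul_card_subgroup O,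
      Subgroup.card_eq_card_quotient_mul_card_subgroup R]
    calc Nat.card ((G ⧸ O) ⧸ R) * Nat.card R * Nat.card O ≤ max N m₂ * b * m ^ 3 :=
          Nat.mul_le_mul (Nat.mul_le_mul hGR hRb) hOm
      _ ≤ _ := by rw [mul_comm (max N m₂) b, mul_comm _ (m ^ 3)]; exact Nat.le_add_right _ _

end CfsgLib.Blocks.InvolutionBound
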