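import Cfsg.Agent.Lib.Blocks.GroupAlg
import Mathlib.GroupTheory.PGroup
import Mathlib.Algebra.CharP.Algebra
import Mathlib.LinearAlgebra.Dual.Lemmas
import Mathlib.GroupTheory.QuotientGroup.Basic

/-!
# The Brauer map, and nilpotency of central elements vanishing on `C(P)` for a normal `p`-group `P`
-/

namespace CfsgLib.Blocks

open MonoidAlgebra

variable {G : Type*} [Group G] {p : ℕ} [Fact p.Prime]

/-- In characteristic `p`, a sum of a function invariant under a `p`-group is its sum over the
fixed points. -/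
theorem sum_eq_sum_fixedPoints {U : Type*} [Group U] (hU : IsPGroup p U) {X : Type*} [Fintype X]
    [MulAction U X] {R : Type*} [Ring R] [CharP R p] (f : X → R)
    (hf : ∀ (u : U) x, f (u • x) = f x) [DecidablePred (· ∈ MulAction.fixedPoints U X)] :
    ∑ x, f x = ∑ x ∈ Finset.univ.filter (· ∈ MulAction.fixedPoints U X), f x := by
  classical
  rw [← Finset.sum_fiberwise_of_maps_to (t := Finset.univ.image f)
      (fun x hx => Finset.mem_image_of_mem f hx) f,
    ← Finset.sum_fiberwise_of_maps_to (t := Finset.univ.image f)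
      (fun x _ => Finset.mem_image_of_mem f (Finset.mem_univ x)) f]
  refine Finset.sum_congr rfl fun v _ => ?_
  rw [Finset.sum_congr rfl fun x hx => (Finset.mem_filter.1 hx).2,
    Finset.sum_congr (s₁ := ((Finset.univ.filter (· ∈ MulAction.fixedPoints U X)).filter
      fun x => f x = v)) rfl fun x hx => (Finset.mem_filter.1 hx).2,
    Finset.sum_const, Finset.sum_const, nsmul_eq_mul, nsmul_eq_mul]
  congr 1
  let Y := {x : X // f x = v}
  let act : MulAction U Y :=
    { smul := fun u x => ⟨u • x.1, (hf u x.1).trans x.2⟩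
      one_smul := fun x => Subtype.ext (one_smul U x.1)
      mul_smul := fun a b x => Subtype.ext (mul_smul a b x.1) }
  have h := @IsPGroup.card_modEq_card_fixedPoints p U _ hU _ Y act _
  rw [CharP.natCast_eq_natCast R p]
  convert h using 2
  · rw [Nat.card_eq_fintype_card, Fintype.card_subtype]
  · rw [Finset.filter_filter, ← Fintype.card_subtype, ← Nat.card_eq_fintype_card]
    refine Nat.card_congr
      { toFun := fun x => ⟨⟨x.1, x.2.2⟩, fun u => Subtype.ext (x.2.1 u)⟩
        invFun := fun y => ⟨y.1.1, fun u => congrArg Subtype.val (y.2 u), y.1.2⟩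
        left_inv := fun x => rfl
        right_inv := fun y => rfl }

section Product

variable [Fintype G] {F : Type*} [CommRing F] [CharP F p]

/-- The coefficient at a point centralized by the `p`-group `P` of a product of `P`-invariant
elements only sees the centralizer of `P`. -/
theorem coeff_mul_eq_sum_centralizer {P : Subgroup G} (hP : IsPGroup p P) {a b : MonoidAlgebra F G}
    (ha : ∀ u ∈ P, ∀ x, a.coeff (u * x * u⁻¹) = a.coeff x)
    (hb : ∀ u ∈ P, ∀ x, b.coeff (u * x * u⁻¹) = b.coeff x)
    {c : G} (hc : c ∈ Subgroup.centralizer (P : Set G))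
    [DecidablePred (· ∈ Subgroup.centralizer (P : Set G))] :
    (a * b).coeff c = ∑ x ∈ Finset.univ.filter (· ∈ Subgroup.centralizer (P : Set G)),
      a.coeff x * b.coeff (x⁻¹ * c) := by
  classical
  rw [coeff_mul_eq_sum]
  let act : MulAction P G := MulAction.compHom G ((MulAut.conj (G := G)).comp P.subtype)
  have hsmul : ∀ (u : P) (x : G), u • x = (u : G) * x * (u : G)⁻¹ := fun _ _ => rfl
  rw [sum_eq_sum_fixedPoints hP (fun x => a.coeff x * b.coeff (x⁻¹ * c)) fun u x => ?_]
  · refine Finset.sum_congr ?_ fun _ _ => rfl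
    ext x
    simp only [Finset.mem_filter, Finset.mem_univ, true_and, MulAction.mem_fixedPoints, hsmul,
      Subgroup.mem_centralizer_iff, SetLike.mem_coe, Subtype.forall, mul_inv_eq_iff_eq_mul]
  · rw [hsmul, ha _ u.2]
    congr 1
    rw [← hb _ u.2 (x⁻¹ * c)]
    congr 1
    have h1 : (u : G) * c = c * u := Subgroup.mem_centralizer_iff.1 hc u u.2
    calc ((u : G) * x * (u : G)⁻¹)⁻¹ * c = u * x⁻¹ * ((u : G)⁻¹ * c) := by group
      _ = u * x⁻¹ * (c * (u : G)⁻¹) := by
          rw [show (u : G)⁻¹ * c = c * (u : G)⁻¹ by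
            rw [inv_mul_eq_iff_eq_mul, ← mul_assoc, h1, mul_inv_cancel_right]]
      _ = u * (x⁻¹ * c) * (u : G)⁻¹ := by group

open scoped Classical in
/-- The Brauer map at `P`, with values in the group algebra of the subgroup `H`. -/
noncomputable def brauerMap (P H : Subgroup G) (a : MonoidAlgebra F G) : MonoidAlgebra F H :=
  ofFun fun h => if (h : G) ∈ Subgroup.centralizer (P : Set G) then a.coeff h else 0

omit [Fact p.Prime] [CharP F p] in
theorem coeff_brauerMap (P H : Subgroup G) (a : MonoidAlgebra F G) (h : H)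
    [Decidable ((h : G) ∈ Subgroup.centralizer (P : Set G))] :
    (brauerMap P H a).coeff h =
      if (h : G) ∈ Subgroup.centralizer (P : Set G) then a.coeff h else 0 := by
  simp only [brauerMap, coeff_ofFun]
  split_ifs <;> rfl

omit [Fact p.Prime] [CharP F p] in
theorem brauerMap_add (P H : Subgroup G) (a b : MonoidAlgebra F G) :
    brauerMap P H (a + b) = brauerMap P H a + brauerMap P H b := by
  classical
  ext h
  simp only [coeff_brauerMap, coeff_add, Finsupp.add_apply]
  split_ifs <;> simp

omit [Fact p.Prime] [CharP F p] in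
theorem brauerMap_smul (P H : Subgroup G) (c : F) (a : MonoidAlgebra F G) :
    brauerMap P H (c • a) = c • brauerMap P H a := by
  classical
  ext h
  simp only [coeff_brauerMap, coeff_smul, Finsupp.smul_apply]
  split_ifs <;> simp

omit [Fact p.Prime] [CharP F p] in
theorem brauerMap_one (P H : Subgroup G) : brauerMap P H (1 : MonoidAlgebra F G) = 1 := by
  classical
  ext h
  rw [coeff_brauerMap, one_def, one_def, coeff_single, coeff_single, Finsupp.single_apply,
    Finsupp.single_apply]
  by_cases h1 : h = 1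
  · subst h1; simp
  · rw [if_neg (Ne.symm h1)]
    simp [show (1 : G) ≠ h from fun e => h1 (Subtype.ext e.symm)]

theorem brauerMap_mul {P H : Subgroup G} (hP : IsPGroup p P)
    (hH : Subgroup.centralizer (P : Set G) ≤ H) {a b : MonoidAlgebra F G}
    (ha : IsCentralElt a) (hb : IsCentralElt b) :
    brauerMap P H (a * b) = brauerMap P H a * brauerMap P H b := by
  classical
  ext h
  rw [coeff_brauerMap, coeff_mul_eq_sum (brauerMap P H a)]
  simp only [coeff_brauerMap]
  split_ifs with hc
  · rw [coeff_mul_eq_sum_centralizer hP (fun u _ x => ha x u) (fun u _ x => hb x u) hc,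
      ← Finset.sum_filter_of_ne (p := fun x : H => (x : G) ∈ Subgroup.centralizer (P : Set G))
        (s := Finset.univ) fun x _ hne => by by_contra hx; simp [hx] at hne]
    refine Finset.sum_nbij' (fun x => if hx : x ∈ H then (⟨x, hx⟩ : H) else 1) Subtype.val
      ?_ ?_ ?_ ?_ ?_
    · intro x hx
      have hx' := (Finset.mem_filter.1 hx).2
      simp [hx', hH hx']
    · intro x hx
      simpa using hx
    · intro x hx
      simp [hH (Finset.mem_filter.1 hx).2]
    · intro x _
      simp
    · intro x hx
      have hx' := (Finset.mem_filter.1 hx).2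
      rw [dif_pos (hH hx'), if_pos hx', if_pos]
      · rfl
      · exact mul_mem (inv_mem hx') hc
  · refine (Finset.sum_eq_zero fun x _ => ?_).symm
    split_ifs with h1 h2 <;> try simp
    exact absurd (by simpa using mul_mem h1 h2) hc

omit [Fact p.Prime] [CharP F p] in
theorem isCentralElt_brauerMap {P H : Subgroup G} (hN : H ≤ Subgroup.normalizer (P : Set G))
    {a : MonoidAlgebra F G} (ha : IsCentralElt a) : IsCentralElt (brauerMap P H a) := by
  classical
  intro g h
  rw [coeff_brauerMap, coeff_brauerMap]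
  have hn := hN h.2
  refine if_congr ?_ (ha _ _) rfl
  have key : ∀ n ∈ Subgroup.normalizer (P : Set G), ∀ x ∈ Subgroup.centralizer (P : Set G),
      n * x * n⁻¹ ∈ Subgroup.centralizer (P : Set G) := fun n hn x hx =>
    Subgroup.mem_centralizer_iff.2 fun u hu => by
      have hu' : n⁻¹ * u * n ∈ P := (Subgroup.mem_normalizer_iff''.1 hn u).1 hu
      have := Subgroup.mem_centralizer_iff.1 hx _ hu'
      calc u * (n * x * n⁻¹) = n * (n⁻¹ * u * n * x) * n⁻¹ := by group
        _ = n * (x * (n⁻¹ * u * n)) * n⁻¹ := by rw [this]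
        _ = n * x * n⁻¹ * u := by group
  constructor
  · intro hm
    have := key _ (inv_mem hn) _ hm
    simpa [mul_assoc] using this
  · intro hm
    simpa using key _ hn _ hm

end Product

section Nilpotent

variable [Fintype G] {F : Type*} [Field F] [CharP F p]

omit [Fintype G] in
/-- A nonzero module of a `p`-group in characteristic `p` has a nonzero fixed vector. -/
theorem exists_fixed_ne_zero {U : Type*} [Group U] [Finite U] (hU : IsPGroup p U) {W : Type*}
    [AddCommGroup W] [Module F W] (ρ : Representation F U W) {v : W} (hv : v ≠ 0) :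
    ∃ w : W, w ≠ 0 ∧ ∀ u, ρ u w = w := by
  classical
  have := Fintype.ofFinite U
  let φ : (U → ZMod p) → W := fun c => ∑ u, (ZMod.castHom dvd_rfl F (c u)) • ρ u v
  let S : Set W := Set.range φ
  have hS : ∀ (u : U), ∀ w ∈ S, ρ u w ∈ S := by
    rintro u _ ⟨c, rfl⟩
    refine ⟨fun x => c (u⁻¹ * x), ?_⟩
    simp only [φ, map_sum, map_smul]
    refine Fintype.sum_equiv (Equiv.mulLeft u⁻¹) _ _ fun x => ?_
    simp only [Equiv.coe_mulLeft]
    rw [← Module.End.mul_apply, ← map_mul, mul_inv_cancel_left]
  let act : MulAction U S :=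
    { smul := fun u w => ⟨ρ u w.1, hS u _ w.2⟩
      one_smul := fun w => Subtype.ext (by show ρ 1 w.1 = w.1; simp)
      mul_smul := fun a b w => Subtype.ext (by show ρ (a * b) w.1 = ρ a (ρ b w.1); simp) }
  have hcard : p ∣ Nat.card S := by
    let Φ : (U → ZMod p) →+ W :=
      { toFun := φ
        map_zero' := by simp [φ]
        map_add' := fun a b => by simp [φ, add_smul, Finset.sum_add_distrib] }
    have hd : Nat.card Φ.range ∣ Nat.card (U → ZMod p) :=
      AddSubgroup.card_dvd_of_surjective Φ.rangeRestrict Φ.rangeRestrict_surjective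
    have hne : Nat.card Φ.range ≠ 1 := fun h1 => by
      have hmem : v ∈ Φ.range := ⟨Pi.single 1 1, by
        show φ _ = v
        simp only [φ]
        rw [Finset.sum_eq_single (1 : U) (fun x _ hx => by rw [Pi.single_eq_of_ne hx, map_zero, zero_smul])
          (by simp), Pi.single_eq_same, map_one, one_smul, map_one, Module.End.one_apply]⟩
      rw [AddSubgroup.card_eq_one.1 h1] at hmem
      exact hv hmem
    rw [Nat.card_fun, Nat.card_zmod] at hd
    obtain ⟨i, -, hi⟩ := (Nat.dvd_prime_pow (Fact.out : p.Prime)).1 hd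
    have hi0 : i ≠ 0 := fun h => hne (by rw [hi, h, pow_zero])
    show p ∣ Nat.card Φ.range
    rw [hi]
    exact dvd_pow_self p hi0
  have h0 : (0 : W) ∈ S := ⟨0, by simp [φ]⟩
  have : Finite S := Set.finite_coe_iff.2 (Set.finite_range φ)
  obtain ⟨w, hw, hw0⟩ := hU.exists_fixed_point_of_prime_dvd_card_of_fixed_point S hcard
    (a := (⟨0, h0⟩ : S)) (MulAction.mem_fixedPoints.2 fun u => Subtype.ext (map_zero (ρ u)))
  exact ⟨w.1, fun e => hw0 (Subtype.ext e.symm),
    fun u => congrArg Subtype.val (MulAction.mem_fixedPoints.1 hw u)⟩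

/-- A central element vanishing on the centralizer of a normal `p`-subgroup is nilpotent. -/
theorem isNilpotent_of_vanish_centralizer {P : Subgroup G} [P.Normal] (hP : IsPGroup p P)
    {a : MonoidAlgebra F G} (ha : IsCentralElt a)
    (hvan : ∀ c ∈ Subgroup.centralizer (P : Set G), a.coeff c = 0) : IsNilpotent a := by
  classical
  have : FiniteDimensional F (MonoidAlgebra F G) := inferInstanceAs (Module.Finite F (MonoidAlgebra F G))
  let R : ℕ → Submodule F (MonoidAlgebra F G) := fun n => LinearMap.range (LinearMap.mulLeft F (a ^ n))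
  have hR : ∀ n, R (n + 1) ≤ R n := by
    rintro n _ ⟨v, rfl⟩
    exact ⟨a * v, by simp [pow_succ, mul_assoc]⟩
  obtain ⟨N, hN⟩ : ∃ N, R (N + 1) = R N := by
    let N := Function.argmin (fun n => Module.finrank F (R n))
    exact ⟨N, Submodule.eq_of_le_of_finrank_le (hR N)
      (Function.argmin_le (fun n => Module.finrank F (R n)) (N + 1))⟩
  have hstab : ∀ (x : MonoidAlgebra F G), ∀ w ∈ R N, x * w ∈ R N := by
    rintro x _ ⟨v, rfl⟩
    exact ⟨x * v, by simp only [LinearMap.mulLeft_apply, ← mul_assoc, ((ha.pow N).commute x).eq]⟩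
  by_cases hW : R N = ⊥
  · refine ⟨N, (Submodule.eq_bot_iff _).1 hW _ ⟨1, mul_one _⟩⟩
  exfalso
  let W := R N
  let ρ : Representation F P W :=
    { toFun := fun u =>
        (LinearMap.mulLeft F (single (u : G) (1 : F))).restrict fun w hw => hstab _ w hw
      map_one' := LinearMap.ext fun w => Subtype.ext (by
        show single ((1 : P) : G) (1 : F) * w.1 = w.1
        rw [Subgroup.coe_one, ← one_def, one_mul])
      map_mul' := fun u u' => LinearMap.ext fun w => Subtype.ext (by
        show single (((u * u' : P) : P) : G) (1 : F) * w.1 =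
          single (u : G) (1 : F) * (single (u' : G) (1 : F) * w.1)
        rw [← mul_assoc, single_mul_single, Subgroup.coe_mul, one_mul]) }
  obtain ⟨v₀, hv₀, hv0⟩ := Submodule.exists_mem_ne_zero_of_ne_bot hW
  obtain ⟨φ₀, hφ₀⟩ : ∃ φ : Module.Dual F W, φ ≠ 0 := by
    by_contra hcon
    push Not at hcon
    exact hv0 (congrArg Subtype.val
      ((Module.forall_dual_apply_eq_zero_iff F (⟨v₀, hv₀⟩ : W)).1 fun φ => by simp [hcon φ]))
  obtain ⟨φ, hφ, hfix⟩ := exists_fixed_ne_zero hP ρ.dual hφ₀
  have hfix' : ∀ (u : P) (w : W), φ (ρ u w) = φ w := fun u w => by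
    have h := LinearMap.congr_fun (hfix u⁻¹) w
    simpa [Representation.dual, Module.Dual.transpose] using h
  let r : G → G := fun x => Quotient.out (QuotientGroup.mk x : G ⧸ P)
  have hzero : ∑ x : G, a.coeff x • single (r x) (1 : F) = 0 := by
    have hq : ∀ q : G ⧸ P, ∑ x ∈ Finset.univ.filter (fun x : G => (x : G ⧸ P) = q), a.coeff x = 0 := by
      intro q
      let X := {x : G // (x : G ⧸ P) = q}
      let act : MulAction P X :=
        { smul := fun u x => ⟨(u : G) * x * (u : G)⁻¹, by
            refine Eq.trans ?_ x.2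
            rw [QuotientGroup.eq]
            have h1 : (x.1)⁻¹ * (u : G)⁻¹ * x.1 ∈ P := by
              simpa [mul_assoc] using Subgroup.Normal.conj_mem ‹_› _ (inv_mem u.2) (x.1)⁻¹
            have h2 := mul_mem u.2 h1
            convert h2 using 1
            group⟩
          one_smul := fun x => Subtype.ext (by
            show ((1 : P) : G) * x.1 * ((1 : P) : G)⁻¹ = x.1
            simp)
          mul_smul := fun u u' x => Subtype.ext (by
            show ((u * u' : P) : G) * x.1 * ((u * u' : P) : G)⁻¹ =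
              (u : G) * ((u' : G) * x.1 * (u' : G)⁻¹) * (u : G)⁻¹
            simp [mul_assoc]) }
      have hsmul : ∀ (u : P) (x : X), (u • x : X).1 = (u : G) * x.1 * (u : G)⁻¹ := fun _ _ => rfl
      rw [Finset.sum_subtype (p := fun x : G => (x : G ⧸ P) = q) _ (by simp) fun x => a.coeff x,
        sum_eq_sum_fixedPoints (R := F) hP (fun x : X => a.coeff x.1) fun u x => by
          rw [hsmul]; exact ha _ _]
      refine Finset.sum_eq_zero fun x hx => hvan _ (Subgroup.mem_centralizer_iff.2 fun u hu => ?_)
      have h := congrArg Subtype.val ((Finset.mem_filter.1 hx).2 ⟨u, hu⟩)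
      rw [hsmul, mul_inv_eq_iff_eq_mul] at h
      exact h
    rw [← Finset.sum_fiberwise (g := fun x : G => (x : G ⧸ P))]
    refine Finset.sum_eq_zero fun q _ => ?_
    rw [Finset.sum_congr rfl (g := fun x => a.coeff x • single (Quotient.out q) (1 : F))
      fun x hx => by rw [← (Finset.mem_filter.1 hx).2], ← Finset.sum_smul, hq, zero_smul]
  have hkill : ∀ w : W, φ ⟨a * w.1, hstab a w.1 w.2⟩ = 0 := by
    intro w
    have hterm : ∀ x : G, φ ⟨single x (1 : F) * w.1, hstab _ _ w.2⟩ =
        φ ⟨single (r x) (1 : F) * w.1, hstab _ _ w.2⟩ := by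
      intro x
      have hmem : x * (r x)⁻¹ ∈ P := by
        have h1 : ((r x : G) : G ⧸ P) = (x : G ⧸ P) := Quotient.out_eq _
        have h2 := QuotientGroup.eq.1 h1
        simpa [mul_assoc] using Subgroup.Normal.conj_mem ‹_› _ h2 (r x)
      rw [← hfix' ⟨_, hmem⟩ ⟨single (r x) (1 : F) * w.1, hstab _ _ w.2⟩]
      congr 1
      refine Subtype.ext ?_
      show single x (1 : F) * w.1 = single (x * (r x)⁻¹) (1 : F) * (single (r x) (1 : F) * w.1)
      rw [← mul_assoc, single_mul_single, inv_mul_cancel_right, one_mul]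
    have e1 : (⟨a * w.1, hstab a w.1 w.2⟩ : W) =
        ∑ x : G, a.coeff x • ⟨single x (1 : F) * w.1, hstab _ _ w.2⟩ := by
      refine Subtype.ext ?_
      simp only [Submodule.coe_sum, Submodule.coe_smul, ← smul_mul_assoc, ← Finset.sum_mul]
      congr 1
      ext y
      simp only [coeff_sum, Finsupp.coe_finsetSum, Finset.sum_apply, coeff_smul, Finsupp.smul_apply,
        coeff_single, Finsupp.single_apply, smul_eq_mul, mul_ite, mul_one, mul_zero,
        Finset.sum_ite_eq', Finset.mem_univ, if_true]
    have e0 : ∑ x : G, a.coeff x • (⟨single (r x) (1 : F) * w.1, hstab _ _ w.2⟩ : W) = 0 := by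
      refine Subtype.ext ?_
      simp only [Submodule.coe_sum, Submodule.coe_smul, ← smul_mul_assoc, ← Finset.sum_mul, hzero,
        zero_mul, ZeroMemClass.coe_zero]
    rw [e1, map_sum, Finset.sum_congr rfl fun x _ => by rw [map_smul, hterm x, ← map_smul],
      ← map_sum, e0, map_zero]
  refine hφ (LinearMap.ext fun w => ?_)
  obtain ⟨v, hv⟩ : (w : MonoidAlgebra F G) ∈ R (N + 1) := hN.symm ▸ w.2
  rw [LinearMap.mulLeft_apply] at hv
  rw [show w = ⟨a * (a ^ N * v), hstab a _ ⟨v, rfl⟩⟩ from Subtype.ext (by
    rw [← hv, pow_succ', mul_assoc])]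
  exact hkill ⟨a ^ N * v, v, rfl⟩

end Nilpotent

end CfsgLib.Blocks
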