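import Cfsg.Agent.Lib.Blocks.Induced
import Cfsg.Agent.Lib.Char.CliffordRestrict

/-!
# The induced central character as the central character of the induced function
-/

namespace CfsgLib.Blocks

open Cfsg MonoidAlgebra
open scoped ComplexConjugate

variable {G : Type*} [Group G] [Fintype G]

/-- The central character of an induced function is the induced central character. -/
theorem centralChar_indFun (H : Subgroup G) {θ : H → ℂ} (h1 : θ 1 ≠ 0) (g : G) :
    centralChar (indFun H θ) g = inducedCentralChar H θ g := by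
  classical
  have := Fintype.ofFinite H
  let F : G → ℂ := fun t => ∑ x : G, extendByZero H θ (x⁻¹ * t * x)
  have hF : IsClassFunction G F := fun t y => by
    refine Fintype.sum_equiv (Equiv.mulLeft y⁻¹) _ _ fun x => ?_
    simp [mul_assoc]
  have hS : ∑ t ∈ Finset.univ.filter (IsConj g), extendByZero H θ t
      = ∑ᶠ h ∈ {h : H | IsConj g (h : G)}, θ h := by
    rw [finsum_mem_eq_finite_toFinset_sum _ (Set.toFinite _), Finset.sum_filter]
    have := Char.sum_extendByZero_mul H θ (fun t => if IsConj g t then 1 else 0)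
    simp only [mul_ite, mul_one, mul_zero] at this
    rw [this, ← Finset.sum_filter]
    exact Finset.sum_congr (by ext; simp) fun _ _ => rfl
  have hcount : (Nat.card {x // IsConj g x} : ℂ) * F g
      = (Nat.card G : ℂ) * ∑ t ∈ Finset.univ.filter (IsConj g), extendByZero H θ t := by
    rw [Nat.card_eq_fintype_card, Fintype.card_subtype, ← nsmul_eq_mul,
      ← Finset.sum_eq_card_nsmul (fun t ht =>
        Char.isClassFunction_iff_isConj.1 hF t g (Finset.mem_filter.1 ht).2.symm)]
    simp only [F]
    rw [Finset.sum_comm, Nat.card_eq_fintype_card, ← nsmul_eq_mul, ← Finset.card_univ,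
      ← Finset.sum_const]
    refine Finset.sum_congr rfl fun x _ => ?_
    refine Finset.sum_equiv (MulAut.conj x⁻¹).toEquiv (fun t => ?_) fun t _ => by simp
    have hx : IsConj t (x⁻¹ * t * x) := isConj_iff.2 ⟨x⁻¹, by simp⟩
    simp only [Finset.mem_filter, Finset.mem_univ, true_and, MulEquiv.toEquiv_eq_coe,
      MulEquiv.coe_toEquiv, MulAut.conj_apply, inv_inv]
    exact ⟨fun e => e.trans hx, fun e => e.trans hx.symm⟩
  have hG : (Nat.card G : ℂ) ≠ 0 := Nat.cast_ne_zero.2 Nat.card_pos.ne'
  have hH : (Nat.card H : ℂ) ≠ 0 := Nat.cast_ne_zero.2 Nat.card_pos.ne'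
  have hI : (H.index : ℂ) ≠ 0 := Nat.cast_ne_zero.2 Subgroup.index_ne_zero_of_finite
  rw [centralChar, Char.indFun_apply_one, ← card_isConj_eq_index, inducedCentralChar,
    finsum_mem_eq_finite_toFinset_sum _ (Set.toFinite _), ← Finset.sum_div,
    ← finsum_mem_eq_finite_toFinset_sum _ (Set.toFinite _), ← hS,
    show indFun H θ g = (Nat.card H : ℂ)⁻¹ * F g from rfl]
  have hGH : (Nat.card G : ℂ) = (Nat.card H : ℂ) * (H.index : ℂ) := by
    rw [← Nat.cast_mul, H.card_mul_index]
  rw [hGH] at hcount
  generalize ∑ t ∈ Finset.univ.filter (IsConj g), extendByZero H θ t = S at hcount ⊢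
  field_simp
  linear_combination hcount

end CfsgLib.Blocks
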