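import Cfsg.Agent.Lib.Blocks.Induced
import Cfsg.Agent.Lib.Blocks.Union
import Cfsg.Agent.S0963

/-!
# Blocks of a normal subgroup and the blocks covering them

If `θ` is a constituent of the restriction of `χ` to the normal subgroup `N`, the central
characters of `χ` and `θ` agree on central elements supported in `N`; characters of `N` with the
same values on those elements lie in conjugate blocks.
-/

namespace CfsgLib.Blocks

open Cfsg MonoidAlgebra
open scoped ComplexConjugate

/-! ### Transport along isomorphisms -/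

section Transport

variable {K L : Type*} [Group K] [Group L]

/-- Pullback of irreducible characters along an isomorphism. -/
def pullEquiv (e : K ≃* L) : IrrCharacter L ≃ IrrCharacter K where
  toFun χ := ⟨fun x => (χ : L → ℂ) (e x),
    Char.IsIrr.comp_surjective e.toMonoidHom e.surjective χ.2⟩
  invFun χ := ⟨fun x => (χ : K → ℂ) (e.symm x),
    Char.IsIrr.comp_surjective e.symm.toMonoidHom e.symm.surjective χ.2⟩
  left_inv χ := Subtype.ext (funext fun x => by simp)
  right_inv χ := Subtype.ext (funext fun x => by simp)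

@[simp]
theorem pullEquiv_apply (e : K ≃* L) (χ : IrrCharacter L) (x : K) :
    (pullEquiv e χ : K → ℂ) x = (χ : L → ℂ) (e x) := rfl

theorem centralChar_pullEquiv (e : K ≃* L) (χ : IrrCharacter L) (x : K) :
    centralChar (pullEquiv e χ : K → ℂ) x = centralChar (χ : L → ℂ) (e x) := by
  have h : Subgroup.centralizer ({x} : Set K) =
      (Subgroup.centralizer ({e x} : Set L)).comap e.toMonoidHom := by
    ext y
    simp only [Subgroup.mem_comap, Subgroup.mem_centralizer_singleton_iff, MulEquiv.coe_toMonoidHom]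
    rw [← map_mul, ← map_mul, e.injective.eq_iff]
  rw [centralChar, centralChar, pullEquiv_apply, pullEquiv_apply, map_one, h,
    Subgroup.index_comap_of_surjective (f := e.toMonoidHom) _ e.surjective]

theorem image_pullEquiv_blockOf (M : Ideal AlgInt) (e : K ≃* L) (χ : IrrCharacter L) :
    pullEquiv e '' blockOf M (χ : L → ℂ) = blockOf M (pullEquiv e χ : K → ℂ) := by
  ext ψ
  constructor
  · rintro ⟨η, hη, rfl⟩ x
    rw [centralChar_pullEquiv, centralChar_pullEquiv]
    exact hη (e x)
  · intro hψ
    refine ⟨(pullEquiv e).symm ψ, fun y => ?_, Equiv.apply_symm_apply _ _⟩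
    have h := hψ (e.symm y)
    rw [centralChar_pullEquiv, MulEquiv.apply_symm_apply] at h
    have h2 := centralChar_pullEquiv e ((pullEquiv e).symm ψ) (e.symm y)
    rw [Equiv.apply_symm_apply, MulEquiv.apply_symm_apply] at h2
    rwa [h2] at h

theorem blockCoeff_image_pullEquiv (e : K ≃* L) (B : Set (IrrCharacter L)) (x : K) :
    blockCoeff (pullEquiv e '' B) x = blockCoeff B (e x) := by
  rw [blockCoeff, blockCoeff, Nat.card_congr e.toEquiv,
    finsum_mem_image ((pullEquiv e).injective.injOn)]
  simp only [pullEquiv_apply, map_one]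

theorem coeff_blockIdemBar_pullEquiv [Fintype K] [Fintype L] {M : Ideal AlgInt} [M.IsPrime]
    (e : K ≃* L) {B : Set (IrrCharacter L)} (hB : IsPBlock M B)
    (hB' : IsPBlock M (pullEquiv e '' B)) (x : K) :
    (blockIdemBar M (pullEquiv e '' B)).coeff x = (blockIdemBar M B).coeff (e x) := by
  rw [blockIdemBar, blockIdemBar, coeff_red, coeff_red]
  congr 1
  refine Subtype.ext ?_
  rw [← coeff_inc, ← coeff_inc, inc_blockIdemO hB, inc_blockIdemO hB', coeff_blockIdem,
    coeff_blockIdem, blockCoeff_image_pullEquiv]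

end Transport

/-! ### Conjugate characters and covering -/

variable {G : Type*} [Group G] (N : Subgroup G) [hN : N.Normal]

/-- Conjugation of irreducible characters of a normal subgroup. -/
def conjIrr (g : G) : IrrCharacter N ≃ IrrCharacter N := pullEquiv (MulAut.conjNormal g)

theorem conjIrr_apply (g : G) (θ : IrrCharacter N) (n : N) :
    (conjIrr N g θ : N → ℂ) n = (θ : N → ℂ) ⟨g * n * g⁻¹, hN.conj_mem n n.2 g⟩ := by
  rw [conjIrr, pullEquiv_apply]
  exact congrArg _ (Subtype.ext (MulAut.conjNormal_apply g n))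

theorem classInner_conjIrr [Fintype N] (g : G) (χ : IrrCharacter G) (θ : IrrCharacter N) :
    classInner (fun n : N => (χ : G → ℂ) n) (conjIrr N g θ : N → ℂ) =
      classInner (fun n : N => (χ : G → ℂ) n) (θ : N → ℂ) := by
  simp only [classInner]
  congr 1
  refine Fintype.sum_equiv (MulAut.conjNormal g).toEquiv _ _ fun n => ?_
  simp only [MulEquiv.toEquiv_eq_coe, MulEquiv.coe_toEquiv, conjIrr, pullEquiv_apply,
    MulAut.conjNormal_apply]
  rw [Char.IsIrr.isClassFunction χ.2 (n : G) g]

variable [Fintype G] [Fintype N]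

theorem exists_irr_over (θ : IrrCharacter N) :
    ∃ χ : IrrCharacter G, classInner (fun n : N => (χ : G → ℂ) n) (θ : N → ℂ) ≠ 0 := by
  by_contra hcon
  push Not at hcon
  have h0 : indFun N (θ : N → ℂ) = 0 := by
    refine Char.eq_zero_of_classInner_eq_zero (Char.isClassFunction_indFun N _) fun χ => ?_
    rw [Char.frobenius_reciprocity N _ (Char.IsIrr.isClassFunction χ.2),
      ← Char.classInner_conj_symm, hcon χ, map_zero]
  have h1 := congrFun h0 1
  rw [Char.indFun_apply_one, Pi.zero_apply, mul_eq_zero] at h1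
  exact h1.elim (Nat.cast_ne_zero.2 Subgroup.index_ne_zero_of_finite)
    (Char.IsIrr.apply_one_ne_zero θ.2)

omit hN [Fintype G] in
theorem exists_constituent (χ : IrrCharacter G) :
    ∃ θ : IrrCharacter N, classInner (fun n : N => (χ : G → ℂ) n) (θ : N → ℂ) ≠ 0 := by
  by_contra hcon
  push Not at hcon
  have hc : IsClassFunction N fun n : N => (χ : G → ℂ) n := fun n m => by
    exact Char.IsIrr.isClassFunction χ.2 (n : G) (m : G)
  have h0 := congrFun (Char.eq_zero_of_classInner_eq_zero hc hcon) 1
  exact Char.IsIrr.apply_one_ne_zero χ.2 h0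

variable {M : Ideal AlgInt} [M.IsPrime]

/-- Central characters of a character and its constituents agree on elements supported in `N`. -/
theorem omegaBar_eq_omegaBar_resElt {χ : IrrCharacter G} {θ : IrrCharacter N}
    (h : classInner (fun n : N => (χ : G → ℂ) n) (θ : N → ℂ) ≠ 0)
    {a : MonoidAlgebra (Res M) G} (ha : IsCentralElt a) (hsupp : ∀ g, g ∉ N → a.coeff g = 0) :
    omegaBar χ a = omegaBar θ (resElt N a) := by
  classical
  have hres : resElt N a = ∑ C : ConjClasses G,
      a.coeff (Quotient.out C) • resElt N (classSum (Res M) (Quotient.out C)) := by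
    refine MonoidAlgebra.ext (Finsupp.ext fun x => ?_)
    conv_lhs => rw [coeff_resElt, central_eq_sum_classSum ha]
    simp only [coeff_sum, Finsupp.coe_finsetSum, Finset.sum_apply, coeff_smul, Finsupp.smul_apply,
      coeff_resElt]
  rw [hres, omegaBar_sum, omegaBar]
  refine Finset.sum_congr rfl fun C _ => ?_
  rw [omegaBar_smul]
  by_cases hC : Quotient.out C ∈ N
  · congr 1
    refine ((memLocalIdeal_inducedCentralChar_sub_iff θ χ _).1 ?_).symm
    rw [← (Cfsg.Agent.S0963.result N χ θ).1 h ⟨_, hC⟩, sub_self]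
    exact ⟨0, 1, M.zero_mem, one_notMem, by simp⟩
  · rw [hsupp _ hC, zero_mul, zero_mul]

/-- The part of a central element inside `N`. -/
noncomputable def insideElt (a : MonoidAlgebra (Res M) G) : MonoidAlgebra (Res M) G :=
  ofFun (Set.indicator (N : Set G) fun g => a.coeff g)

omit [Fintype N] in
theorem isCentralElt_insideElt {a : MonoidAlgebra (Res M) G} (ha : IsCentralElt a) :
    IsCentralElt (insideElt N a) := fun g h => by
  classical
  simp only [insideElt, coeff_ofFun, Set.indicator_apply, SetLike.mem_coe]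
  refine if_congr ⟨fun hm => ?_, fun hm => hN.conj_mem g hm h⟩ (ha g h) rfl
  have := hN.conj_mem _ hm h⁻¹
  simpa [mul_assoc] using this

omit hN [Fintype N] in
theorem resElt_insideElt (a : MonoidAlgebra (Res M) G) :
    resElt N (insideElt N a) = resElt N a := by
  ext x
  simp [insideElt]

omit hN [Fintype N] in
theorem coeff_insideElt_of_notMem (a : MonoidAlgebra (Res M) G) {g : G} (hg : g ∉ N) :
    (insideElt N a).coeff g = 0 := by
  simp [insideElt, hg]

/-- Constituents of characters of one block have the same values on restricted central elements. -/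
theorem omegaBar_resElt_eq_of_sameBlock {χ χ' : IrrCharacter G}
    (hs : SameBlock M (χ : G → ℂ) (χ' : G → ℂ)) {θ θ' : IrrCharacter N}
    (h : classInner (fun n : N => (χ : G → ℂ) n) (θ : N → ℂ) ≠ 0)
    (h' : classInner (fun n : N => (χ' : G → ℂ) n) (θ' : N → ℂ) ≠ 0)
    (a : MonoidAlgebra (Res M) G) (ha : IsCentralElt a) :
    omegaBar θ (resElt N a) = omegaBar θ' (resElt N a) := by
  have hc := isCentralElt_insideElt N ha
  have hs' := fun g (hg : g ∉ N) => coeff_insideElt_of_notMem N a hg
  rw [← resElt_insideElt N a, ← omegaBar_eq_omegaBar_resElt N h hc hs',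
    ← omegaBar_eq_omegaBar_resElt N h' hc hs', omegaBar_congr hs]

/-- Characters of `N` not separated by central elements of `G` lie in conjugate blocks. -/
theorem exists_conj_mem_blockOf {θ ψ : IrrCharacter N}
    (h : ∀ a : MonoidAlgebra (Res M) G, IsCentralElt a →
      omegaBar θ (resElt N a) = omegaBar ψ (resElt N a)) :
    ∃ g : G, ψ ∈ blockOf M (conjIrr N g θ : N → ℂ) := by
  classical
  let S : Finset (Set (IrrCharacter N)) :=
    Finset.univ.image fun g : G => blockOf M (conjIrr N g θ : N → ℂ)
  have hS : ∀ b ∈ S, IsPBlock M b := fun b hb => by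
    obtain ⟨g, -, rfl⟩ := Finset.mem_image.1 hb
    exact isPBlock_blockOf _
  have hstable : ∀ (x : G) b, b ∈ S → pullEquiv (MulAut.conjNormal x) '' b ∈ S := fun x b hb => by
    obtain ⟨g, -, rfl⟩ := Finset.mem_image.1 hb
    refine Finset.mem_image.2 ⟨g * x, Finset.mem_univ _, ?_⟩
    rw [image_pullEquiv_blockOf]
    congr 1
    funext n
    rw [pullEquiv_apply, conjIrr, conjIrr, pullEquiv_apply, pullEquiv_apply, map_mul]
    rfl
  let a : MonoidAlgebra (Res M) G :=
    ofFun fun g => if hg : g ∈ N then ∑ b ∈ S, (blockIdemBar M b).coeff ⟨g, hg⟩ else 0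
  have ha : IsCentralElt a := by
    intro g x
    simp only [a, coeff_ofFun]
    by_cases hg : g ∈ N
    · rw [dif_pos hg, dif_pos (hN.conj_mem g hg x)]
      have hinj : Set.InjOn (fun b : Set (IrrCharacter N) => pullEquiv (MulAut.conjNormal x) '' b)
          ↑S := (Function.Injective.image_injective (pullEquiv _).injective).injOn
      have himage : S.image (fun b => pullEquiv (MulAut.conjNormal x) '' b) = S :=
        Finset.eq_of_subset_of_card_le (fun b hb => by
          obtain ⟨b', hb', rfl⟩ := Finset.mem_image.1 hb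
          exact hstable x b' hb') (le_of_eq (Finset.card_image_of_injOn hinj).symm)
      conv_rhs => rw [← himage, Finset.sum_image hinj]
      refine Finset.sum_congr rfl fun b hb => ?_
      rw [coeff_blockIdemBar_pullEquiv _ (hS b hb) (hS _ (hstable x b hb))]
      exact congrArg _ (Subtype.ext (MulAut.conjNormal_apply x ⟨g, hg⟩).symm)
    · rw [dif_neg hg, dif_neg fun hm => hg ?_]
      have := hN.conj_mem _ hm x⁻¹
      simpa [mul_assoc] using this
  have hres : resElt N a = ∑ b ∈ S, blockIdemBar M b :=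
    MonoidAlgebra.ext (Finsupp.ext fun n => by simp [a])
  have hval : ∀ η : IrrCharacter N,
      omegaBar η (resElt N a) = if blockOf M (η : N → ℂ) ∈ S then (1 : Res M) else 0 := fun η => by
    rw [hres, omegaBar_sum, Finset.sum_congr rfl (g := fun b =>
      if blockOf M (η : N → ℂ) = b then (1 : Res M) else 0) fun b hb => ?_, Finset.sum_ite_eq]
    rw [omegaBar_blockIdemBar (hS b hb)]
    exact if_congr ⟨fun hm => (IsPBlock.eq_blockOf (hS b hb) hm).symm,
      fun e => e ▸ mem_blockOf_self η⟩ rfl rfl
  have hθ : blockOf M (θ : N → ℂ) ∈ S := Finset.mem_image.2 ⟨1, Finset.mem_univ _, by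
    congr 1
    funext n
    rw [conjIrr, pullEquiv_apply, map_one]
    rfl⟩
  have h1 := h a ha
  rw [hval, hval, if_pos hθ] at h1
  by_cases hψ : blockOf M (ψ : N → ℂ) ∈ S
  · obtain ⟨g, -, hg⟩ := Finset.mem_image.1 hψ
    exact ⟨g, hg ▸ mem_blockOf_self ψ⟩
  · rw [if_neg hψ] at h1
    exact absurd h1 one_ne_zero

/-- Constituents of characters in one block lie in conjugate blocks. -/
theorem exists_conj_of_sameBlock {χ χ' : IrrCharacter G}
    (hs : SameBlock M (χ : G → ℂ) (χ' : G → ℂ)) {θ θ' : IrrCharacter N}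
    (h : classInner (fun n : N => (χ : G → ℂ) n) (θ : N → ℂ) ≠ 0)
    (h' : classInner (fun n : N => (χ' : G → ℂ) n) (θ' : N → ℂ) ≠ 0) :
    ∃ g : G, θ' ∈ blockOf M (conjIrr N g θ : N → ℂ) :=
  exists_conj_mem_blockOf N (omegaBar_resElt_eq_of_sameBlock N hs h h')

variable {p : ℕ} (hM : IsPModular p M)
include hM

/-- Over a normal `p'`-subgroup a block determines the constituents. -/
theorem constituent_of_sameBlock (hNp : ¬ p ∣ Nat.card N) {χ χ' : IrrCharacter G}
    (hs : SameBlock M (χ : G → ℂ) (χ' : G → ℂ)) {θ : IrrCharacter N}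
    (h : classInner (fun n : N => (χ : G → ℂ) n) (θ : N → ℂ) ≠ 0) :
    classInner (fun n : N => (χ' : G → ℂ) n) (θ : N → ℂ) ≠ 0 := by
  obtain ⟨θ', h'⟩ := exists_constituent N χ'
  obtain ⟨g, hg⟩ := exists_conj_of_sameBlock N hs h h'
  have hsingle : blockOf M (conjIrr N g θ : N → ℂ) = {conjIrr N g θ} := by
    refine blockOf_eq_singleton hM _ ?_
    obtain ⟨d, hd⟩ := charDegree_dvd_card (conjIrr N g θ)
    rw [hd, Nat.mul_div_cancel_left _ (charDegree_pos _)]
    exact fun hp => hNp (hd ▸ hp.mul_left _)
  rw [hsingle, Set.mem_singleton_iff] at hg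
  rwa [hg, classInner_conjIrr] at h'

omit [Fintype N] in
theorem coeff_blockIdemBar_eq_zero_of_index {k : ℕ} (hidx : N.index = p ^ k)
    {B : Set (IrrCharacter G)} (hB : IsPBlock M B) {g : G} (hg : g ∉ N) :
    (blockIdemBar M B).coeff g = 0 := by
  have hd : p ∣ orderOf g := by
    by_contra hcon
    refine hg ((QuotientGroup.eq_one_iff g).1 (orderOf_eq_one_iff.1 ?_))
    have h2 : orderOf (g : G ⧸ N) ∣ p ^ k := hidx ▸ orderOf_dvd_natCard _
    exact Nat.eq_one_of_dvd_coprimes
      (((Nat.Prime.coprime_iff_not_dvd hM.1).2 hcon).pow_left k) h2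
      (orderOf_map_dvd (QuotientGroup.mk' N) g)
  rw [coeff_blockIdemBar_eq_zero_iff hB, blockCoeff,
    finsum_mem_eq_finite_toFinset_sum _ (Set.toFinite B),
    Finset.sum_congr rfl fun χ _ => by rw [← Char.IsIrr.map_inv χ.2],
    ← finsum_mem_eq_finite_toFinset_sum _ (Set.toFinite B),
    sum_block_regular_singular hM hB (by simp [hM.1.ne_one]) (by rwa [orderOf_inv]), mul_zero]
  exact ⟨0, 1, M.zero_mem, one_notMem, by simp⟩

/-- With `p`-power index, characters over characters of one block lie in one block. -/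
theorem sameBlock_of_constituent {k : ℕ} (hidx : N.index = p ^ k) {χ χ' : IrrCharacter G}
    {θ θ' : IrrCharacter N} (h : classInner (fun n : N => (χ : G → ℂ) n) (θ : N → ℂ) ≠ 0)
    (h' : classInner (fun n : N => (χ' : G → ℂ) n) (θ' : N → ℂ) ≠ 0)
    (hs : SameBlock M (θ : N → ℂ) (θ' : N → ℂ)) : SameBlock M (χ : G → ℂ) (χ' : G → ℂ) := by
  classical
  have hB := isPBlock_blockOf (M := M) χ
  have hc := isCentralElt_blockIdemBar hB
  have hsupp := fun g (hg : g ∉ N) => coeff_blockIdemBar_eq_zero_of_index N hM hidx hB hg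
  have h1 := omegaBar_eq_omegaBar_resElt N h hc hsupp
  have h2 := omegaBar_eq_omegaBar_resElt N h' hc hsupp
  rw [omegaBar_congr hs, ← h2, omegaBar_blockIdemBar hB, omegaBar_blockIdemBar hB,
    if_pos (mem_blockOf_self χ)] at h1
  by_contra hcon
  rw [if_neg (show χ' ∉ blockOf M (χ : G → ℂ) from hcon)] at h1
  exact one_ne_zero h1

end CfsgLib.Blocks
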