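import Cfsg.Agent.Lib.Blocks.RegularValues
import Cfsg.Agent.Lib.Blocks.Covering
import Cfsg.Agent.Lib.Char.Gallagher
import Cfsg.Agent.Lib.Char.Extension
import Cfsg.Agent.Lib.Char.AbelianInertia
import Cfsg.Agent.Lib.Char.PowerTwist
import Cfsg.Agent.Lib.CharAction.DegreeSum
import Cfsg.Agent.S0886

/-!
# The canonical extension over a normal subgroup when `G = N C(Q)` up to a `p`-group

`N` is normal, `θ` is an invariant character of `N` of degree and determinantal order prime to `p`
congruent to its degree at the `p`-regular elements centralizing a Sylow subgroup. If every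
`p`-regular element of `G` lies in `N C(Q)`, then `θ` has exactly one such extension to each
subgroup with nilpotent quotient over `N`, and these glue to an irreducible character of `G`.
-/

namespace CfsgLib.CanonExt

open Cfsg CfsgLib.Blocks CfsgLib.Char
open CfsgLib.CharExt (detHom cn)
open scoped ComplexConjugate

variable {G : Type*} [Group G] [Fintype G] {p : ℕ} [Fact p.Prime] {M : Ideal AlgInt} [M.IsPrime]
  {N : Subgroup G} [N.Normal]

/-- A Sylow subgroup of `N` as a subgroup of `G`. -/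
abbrev img (R : Sylow p N) : Subgroup G := (R : Subgroup N).map N.subtype

/-- The hypotheses. -/
structure Data (hM : IsPModular p M) (θ : IrrCharacter N) (Q : Sylow p N) : Prop where
  inv : ∀ (g : G) (n : N), (θ : N → ℂ) (cn g n) = (θ : N → ℂ) n
  deg : ¬ p ∣ charDegree (θ : N → ℂ)
  det : ¬ p ∣ detOrder (θ : N → ℂ)
  good : ∀ g : N, ¬ p ∣ orderOf g → (∃ R : Sylow p N, (g : G) ∈ Subgroup.centralizer (img R : Set G)) →
    rv M ((θ : N → ℂ) g) = (charDegree (θ : N → ℂ) : Res M)
  dec : ∀ y : G, ¬ p ∣ orderOf y → ∃ n ∈ N, ∃ c : G, ¬ p ∣ orderOf c ∧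
    c ∈ Subgroup.centralizer (img Q : Set G) ∧ y = n * c

/-- A canonical extension of `θ` to `T`. -/
structure Canon (θ : IrrCharacter N) (T : Subgroup G) (η : IrrCharacter T) (M : Ideal AlgInt)
    [M.IsPrime] (p : ℕ) : Prop where
  le : N ≤ T
  ext : ∀ n : N, (η : T → ℂ) (Subgroup.inclusion le n) = (θ : N → ℂ) n
  det : ¬ p ∣ detOrder (η : T → ℂ)
  good : ∀ g : T, ¬ p ∣ orderOf g → (∃ R : Sylow p N, (g : G) ∈ Subgroup.centralizer (img R : Set G)) →
    rv M ((η : T → ℂ) g) = (charDegree (θ : N → ℂ) : Res M)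

omit [Fintype G] [Fact p.Prime] [M.IsPrime] [N.Normal] in
theorem irreducible_of_comp {X H V : Type*} [Group X] [Group H] [Finite H] [AddCommGroup V]
    [Module ℂ V] [FiniteDimensional ℂ V] (ρ : Representation ℂ X V) (f : H →* X)
    (h : IsIrrCharacter H fun x => ρ.character (f x)) : ρ.IsIrreducible := by
  obtain ⟨k, σ, hσ, hσc⟩ := h
  have := hσ
  let τ : Representation ℂ H V := ρ.comp f
  obtain ⟨φ⟩ := nonempty_equiv_of_character_eq τ σ (show τ.character = σ.character by
    rw [hσc]; rfl)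
  have : τ.IsIrreducible := (isIrreducible_iff_of_equiv φ).mpr hσ
  exact CharExt.isIrreducible_of_restrict ρ f τ fun _ => rfl

omit [Fintype G] [Fact p.Prime] [M.IsPrime] in
theorem detOrder_dvd {X H V W : Type*} [Group X] [Group H] [Finite X] [Finite H] [AddCommGroup V]
    [Module ℂ V] [FiniteDimensional ℂ V] [AddCommGroup W] [Module ℂ W] [FiniteDimensional ℂ W]
    (ρ : Representation ℂ X V) (σ : Representation ℂ H W) (f : H →* X)
    (h : σ.character = fun x => ρ.character (f x)) :
    detOrder σ.character ∣ detOrder ρ.character := by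
  rw [CharExt.detOrder_eq, CharExt.detOrder_eq]
  let τ : Representation ℂ H V := ρ.comp f
  rw [CharExt.detHom_eq_of_character_eq σ τ (by rw [h]; rfl)]
  refine orderOf_dvd_of_pow_eq_one (MonoidHom.ext fun x => ?_)
  show detHom τ x ^ _ = 1
  rw [show detHom τ x = detHom ρ (f x) from Units.ext (by rw [CharExt.detHom_apply, CharExt.detHom_apply]; rfl),
    ← MonoidHom.pow_apply, pow_orderOf_eq_one]
  rfl

variable {θ : IrrCharacter N} {T : Subgroup G} {η : IrrCharacter T}

omit [Fintype G] [Fact p.Prime] [N.Normal] in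
theorem Canon.degree (h : Canon θ T η M p) :
    charDegree (η : T → ℂ) = charDegree (θ : N → ℂ) := by
  have h1 := h.ext 1
  rw [map_one] at h1
  simp [charDegree, h1]

/-- Pulling a canonical extension back along a homomorphism. -/
theorem Canon.pull (h : Canon θ T η M p) {T' : Subgroup G} (h' : N ≤ T') (f : T' →* T)
    (hθ : ∀ n : N, (η : T → ℂ) (f (Subgroup.inclusion h' n)) = (θ : N → ℂ) n)
    (hg : ∀ g : T', ¬ p ∣ orderOf g →
      (∃ R : Sylow p N, (g : G) ∈ Subgroup.centralizer (img R : Set G)) →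
      ∃ R : Sylow p N, (f g : G) ∈ Subgroup.centralizer (img R : Set G)) :
    ∃ η' : IrrCharacter T', Canon θ T' η' M p ∧ ∀ x, (η' : T' → ℂ) x = (η : T → ℂ) (f x) := by
  obtain ⟨k, ρ, hρ, hρc⟩ := η.2
  let σ : Representation ℂ T' (Fin k → ℂ) := ρ.comp f
  have hσc : ∀ x, σ.character x = (η : T → ℂ) (f x) := fun x => congrFun hρc (f x)
  have hirr : σ.IsIrreducible := irreducible_of_comp σ (Subgroup.inclusion h') (by
    rw [show (fun n => σ.character (Subgroup.inclusion h' n)) = (θ : N → ℂ) from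
      funext fun n => by rw [hσc, hθ]]
    exact θ.2)
  refine ⟨⟨σ.character, k, σ, hirr, rfl⟩, ⟨h', fun n => ?_, fun hd => h.det ?_, fun g hg1 hg2 => ?_⟩, hσc⟩
  · exact (hσc _).trans (hθ n)
  · refine hd.trans ?_
    show detOrder σ.character ∣ detOrder (η : T → ℂ)
    rw [← hρc]
    exact detOrder_dvd ρ σ f rfl
  · show rv M (σ.character g) = _
    rw [hσc]
    exact h.good (f g) (fun hd => hg1 (hd.trans (orderOf_map_dvd f g))) (hg g hg1 hg2)

/-- Restriction. -/
theorem Canon.restrict (h : Canon θ T η M p) {T' : Subgroup G} (h' : N ≤ T') (hle : T' ≤ T) :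
    ∃ η' : IrrCharacter T', Canon θ T' η' M p ∧
      ∀ x : T', (η' : T' → ℂ) x = (η : T → ℂ) ⟨x, hle x.2⟩ :=
  h.pull h' (Subgroup.inclusion hle) (fun n => h.ext n) fun _ _ hR => hR

variable {hM : IsPModular p M} {Q : Sylow p N} (D : Data hM θ Q)
include D

/-- Conjugation of Sylow subgroups of `N`. -/
theorem exists_centralizes_conj {x g : G} (hR : ∃ R : Sylow p N, g ∈ Subgroup.centralizer (img R : Set G)) :
    ∃ R : Sylow p N, x * g * x⁻¹ ∈ Subgroup.centralizer (img R : Set G) := by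
  obtain ⟨R, hR⟩ := hR
  obtain ⟨R', hR'⟩ := (R.isPGroup'.map (MulAut.conjNormal (H := N) x).toMonoidHom).exists_le_sylow
  refine ⟨R', Subgroup.mem_centralizer_iff.mpr ?_⟩
  rintro _ ⟨r, hr, rfl⟩
  have hcard : Nat.card (R' : Subgroup N) ≤
      Nat.card ((R : Subgroup N).map (MulAut.conjNormal (H := N) x).toMonoidHom) := by
    rw [← Nat.card_congr (Subgroup.equivMapOfInjective (R : Subgroup N)
        (MulAut.conjNormal (H := N) x).toMonoidHom (MulAut.conjNormal (H := N) x).injective).toEquiv,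
      Sylow.card_eq_multiplicity, Sylow.card_eq_multiplicity]
  rw [← Subgroup.eq_of_le_of_card_ge hR' hcard] at hr
  obtain ⟨s, hs, rfl⟩ := hr
  have h := Subgroup.mem_centralizer_iff.mp hR (s : G) ⟨s, hs, rfl⟩
  show x * (s : G) * x⁻¹ * (x * g * x⁻¹) = x * g * x⁻¹ * (x * (s : G) * x⁻¹)
  calc x * (s : G) * x⁻¹ * (x * g * x⁻¹) = x * ((s : G) * g) * x⁻¹ := by group
    _ = _ := by rw [h]; group

/-- A canonical extension moves to the conjugate subgroup. -/
theorem Canon.conj (h : Canon θ T η M p) (x : G) {T' : Subgroup G} (h' : N ≤ T')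
    (hT' : ∀ y ∈ T', x * y * x⁻¹ ∈ T) :
    ∃ η' : IrrCharacter T', Canon θ T' η' M p ∧
      ∀ y : T', (η' : T' → ℂ) y = (η : T → ℂ) ⟨x * y * x⁻¹, hT' y y.2⟩ :=
  h.pull h'
    { toFun := fun y => ⟨x * y * x⁻¹, hT' y y.2⟩
      map_one' := Subtype.ext (by simp)
      map_mul' := fun a b => Subtype.ext (by simp [mul_assoc]) }
    (fun n => (congrArg (η : T → ℂ) (Subtype.ext rfl)).trans ((h.ext (cn x n)).trans (D.inv x n)))
    fun _ _ hR => exists_centralizes_conj D hR

/-- The trivial extension. -/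
theorem canon_self : Canon θ N θ M p :=
  ⟨le_rfl, fun _ => rfl, D.det, D.good⟩

/-- Canonical extensions are unique. -/
theorem Canon.unique (h : Canon θ T η M p) {η' : IrrCharacter T} (h' : Canon θ T η' M p) :
    η' = η := by
  classical
  have hp := (Fact.out : p.Prime)
  have := Fintype.ofFinite T
  set K := N.subgroupOf T
  have := Fintype.ofFinite K
  let e := Subgroup.subgroupOfEquivOfLe h.le
  have hres : IsIrrCharacter K fun n : K => (η : T → ℂ) n := by
    rw [show (fun n : K => (η : T → ℂ) n) = fun n => (θ : N → ℂ) (e.toMonoidHom n) from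
      funext fun n => (congrArg (η : T → ℂ) (Subtype.ext rfl)).trans (h.ext (e n))]
    exact IsIrr.comp_surjective e.toMonoidHom e.surjective θ.2
  have hsame : ∀ n : K, (η' : T → ℂ) n = (η : T → ℂ) n := fun n =>
    ((congrArg (η' : T → ℂ) (Subtype.ext rfl)).trans (h'.ext (e n))).trans
      ((congrArg (η : T → ℂ) (Subtype.ext rfl)).trans (h.ext (e n))).symm
  obtain ⟨β, hβ⟩ := Gallagher.exists_eq_twistBy (IsIrr.isCharacter η.2) hres η' (by
    rw [show (fun n : K => (η' : T → ℂ) n) = fun n : K => (η : T → ℂ) n from funext hsame,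
      classInner_irr_self ⟨_, hres⟩]
    exact one_ne_zero)
  have hβ1 : (β : T ⧸ K → ℂ) 1 = 1 := by
    have h1 := congrFun hβ ((1 : K) : T)
    rw [Gallagher.twistBy_apply_coe, hsame] at h1
    exact (mul_eq_right₀ (IsIrr.apply_one_ne_zero hres)).mp h1.symm
  obtain ⟨l, hl⟩ := exists_linear_of_degree_one (IsIrr.isCharacter β.2) hβ1
  set L : T →* ℂˣ := l.comp (QuotientGroup.mk' K)
  have hval : ∀ g, (η' : T → ℂ) g = (L g : ℂ) * (η : T → ℂ) g := fun g => by
    rw [hβ, Gallagher.twistBy_apply, hl]; rfl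
  obtain ⟨k, ρ, hρ, hρc⟩ := η.2
  obtain ⟨k', τ, hτ, hτc⟩ := η'.2
  have hdet : detHom τ = L ^ Module.finrank ℂ (Fin k → ℂ) * detHom ρ := by
    rw [CharExt.detHom_eq_of_character_eq τ (CharExt.twistRep ρ L) ?_, CharExt.detHom_twistRep]
    rw [CharExt.character_twistRep, hτc, hρc]
    exact funext hval
  have hk : k = charDegree (θ : N → ℂ) := by
    rw [← h.degree, ← hρc]
    simp [charDegree, Representation.char_one]
  set o := k * (orderOf (detHom τ) * orderOf (detHom ρ)) with hodef
  have hLo : ∀ g : T, L g ^ o = 1 := fun g => by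
    have hpow : ∀ f : T →* ℂˣ, f g ^ orderOf f = 1 := fun f => by
      rw [← MonoidHom.pow_apply, pow_orderOf_eq_one]; rfl
    have e : L g ^ k = detHom τ g * (detHom ρ g)⁻¹ := by
      rw [hdet, Module.finrank_fin_fun, MonoidHom.mul_apply, MonoidHom.pow_apply,
        mul_inv_cancel_right]
    rw [hodef, pow_mul, e, mul_pow, inv_pow, pow_mul, hpow, one_pow, mul_comm (orderOf _), pow_mul,
      hpow, one_pow, inv_one, one_mul]
  have hop : ¬ p ∣ o := by
    have h1 := h.det
    have h2 := h'.det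
    rw [← hρc, CharExt.detOrder_eq] at h1
    rw [← hτc, CharExt.detOrder_eq] at h2
    rw [hodef, hp.dvd_mul, hp.dvd_mul]
    exact fun hd => hd.elim (fun h0 => D.deg (hk ▸ h0)) fun hd => hd.elim h2 h1
  have hL1 : ∀ g : T, L g = 1 := by
    intro g
    obtain ⟨u, hu⟩ := exists_pPart hp g
    obtain ⟨y, hy, hcomm, ⟨j, hj⟩, hyr⟩ := hu
    have hLu : L u = 1 := by
      refine pow_eq_one_iff_of_coprime (m := p ^ j) (n := o) ?_ |>.mp ⟨?_, ?_⟩
      · exact ((hp.coprime_iff_not_dvd).mpr hop).pow_left j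
      · rw [← map_pow, ← hj, pow_orderOf_eq_one, map_one]
      · exact hLo u
    rw [← hy, map_mul, hLu, one_mul]
    have hyG : ¬ p ∣ orderOf (y : G) := by rwa [Subgroup.orderOf_coe]
    obtain ⟨n, hn, c, hcr, hcQ, hyc⟩ := D.dec y hyG
    have hcT : c ∈ T := by
      rw [show c = n⁻¹ * (y : G) by rw [hyc, inv_mul_cancel_left]]
      exact T.mul_mem (T.inv_mem (h.le hn)) y.2
    have hyc' : y = Subgroup.inclusion h.le ⟨n, hn⟩ * ⟨c, hcT⟩ := Subtype.ext hyc
    have hLn : L (Subgroup.inclusion h.le ⟨n, hn⟩) = 1 := by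
      show l (QuotientGroup.mk' K _) = 1
      rw [QuotientGroup.mk'_apply, (QuotientGroup.eq_one_iff _).mpr (show _ ∈ K from hn), map_one]
    rw [hyc', map_mul, hLn, one_mul]
    set c' : T := ⟨c, hcT⟩
    have hreg : ¬ p ∣ orderOf c' := by rwa [Subgroup.orderOf_mk]
    have h1 := h'.good c' hreg ⟨Q, hcQ⟩
    have hLint : (L c' : ℂ) ^ o = 1 := by
      rw [← Units.val_pow_eq_pow_val, hLo]; rfl
    have ho0 : o ≠ 0 := fun e => hop (e ▸ dvd_zero p)
    rw [hval, rv_mul (mem_localRing_of_pow_eq_one ho0 hLint) (apply_mem_localRing η c'),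
      h.good c' hreg ⟨Q, hcQ⟩] at h1
    exact Units.ext (eq_one_of_rv_eq_one hM hop hLint
      ((mul_eq_right₀ (natCast_ne_zero' hM D.deg)).mp h1))
  exact Subtype.ext (funext fun g => by rw [hval, hL1, Units.val_one, one_mul])


omit [Fintype G] [Fact p.Prime] [M.IsPrime] [N.Normal] D in
/-- A coatom of a nilpotent group is normal of prime index. -/
theorem coatom_nilpotent {X : Type*} [Group X] [Finite X] [Group.IsNilpotent X] {C : Subgroup X}
    (hC : IsCoatom C) : C.Normal ∧ C.index.Prime := by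
  have hn : C.Normal := Subgroup.NormalizerCondition.normal_of_coatom C
    Group.normalizerCondition_of_isNilpotent hC
  refine ⟨hn, ?_⟩
  have hne : C.index ≠ 1 := fun h => hC.1 (Subgroup.index_eq_one.mp h)
  obtain ⟨r, hr, hrd⟩ := Nat.exists_prime_and_dvd hne
  rw [Subgroup.index_eq_card] at hrd ⊢
  have := Fact.mk hr
  obtain ⟨z, hz⟩ := exists_prime_orderOf_dvd_card' (G := X ⧸ C) r hrd
  have htop : Subgroup.zpowers z = ⊤ := by
    have hlt : C < (Subgroup.zpowers z).comap (QuotientGroup.mk' C) := by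
      refine lt_of_le_of_ne (fun a ha => ?_) fun he => ?_
      · rw [Subgroup.mem_comap, QuotientGroup.mk'_apply, (QuotientGroup.eq_one_iff a).mpr ha]
        exact one_mem _
      · obtain ⟨a, rfl⟩ := QuotientGroup.mk_surjective z
        have ha : a ∈ (Subgroup.zpowers (a : X ⧸ C)).comap (QuotientGroup.mk' C) :=
          Subgroup.mem_zpowers _
        rw [← he] at ha
        rw [(QuotientGroup.eq_one_iff a).mpr ha, orderOf_one] at hz
        exact hr.one_lt.ne hz
    have h := congrArg (Subgroup.map (QuotientGroup.mk' C)) (hC.2 _ hlt)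
    rwa [Subgroup.map_comap_eq_self_of_surjective (QuotientGroup.mk'_surjective C),
      Subgroup.map_top_of_surjective _ (QuotientGroup.mk'_surjective C)] at h
  rw [← Subgroup.card_top (G := X ⧸ C), ← htop, Nat.card_zpowers, hz]
  exact hr

omit [Fintype G] [M.IsPrime] [N.Normal] D in
/-- A nontrivial nilpotent group has a coatom of index `p` when `p` divides its order. -/
theorem exists_coatom {X : Type*} [Group X] [Finite X] [Group.IsNilpotent X] [Nontrivial X] :
    ∃ C : Subgroup X, C.Normal ∧ C.index.Prime ∧ (p ∣ Nat.card X → C.index = p) := by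
  have hp := (Fact.out : p.Prime)
  obtain ⟨P⟩ := (inferInstance : Nonempty (Sylow p X))
  have : (P : Subgroup X).Normal :=
    ((Group.isNilpotent_of_finite_tfae (G := X)).out 0 3 rfl rfl).mp ‹_› p inferInstance P
  obtain ⟨k, hk⟩ := IsPGroup.iff_card.mp P.isPGroup'
  obtain ⟨K, hK⟩ := Subgroup.exists_right_complement'_of_coprime (N := (P : Subgroup X)) (by
    rw [hk]; exact ((hp.coprime_iff_not_dvd).mpr (Sylow.not_dvd_index P)).pow_left k)
  by_cases hd : p ∣ Nat.card X
  · have hKne : K ≠ ⊤ := by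
      intro h
      have h1 : Nat.card K = (P : Subgroup X).index := hK.symm.index_eq_card.symm
      rw [h, Subgroup.card_top] at h1
      exact Sylow.not_dvd_index P (h1 ▸ hd)
    obtain h | ⟨C, hC, hKC⟩ := eq_top_or_exists_le_coatom K
    · exact absurd h hKne
    obtain ⟨hn, hpr⟩ := coatom_nilpotent hC
    refine ⟨C, hn, hpr, fun _ => ?_⟩
    have h1 : C.index ∣ K.index := Subgroup.index_dvd_of_le hKC
    rw [hK.index_eq_card, hk] at h1
    exact (Nat.prime_dvd_prime_iff_eq hpr hp).mp (hpr.dvd_of_dvd_pow h1)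
  · obtain h | ⟨C, hC, -⟩ := eq_top_or_exists_le_coatom (⊥ : Subgroup X)
    · exact absurd h bot_ne_top
    obtain ⟨hn, hpr⟩ := coatom_nilpotent hC
    exact ⟨C, hn, hpr, fun h => absurd h hd⟩

omit [Fintype G] [M.IsPrime] [N.Normal] D in
/-- Regular elements of `T` over a subgroup of `p`-power index lie in it. -/
theorem mem_of_regular_of_index {X : Type*} [Group X] {C : Subgroup X} [C.Normal]
    (hC : C.index = p) {g : X} (hg : ¬ p ∣ orderOf g) : g ∈ C := by
  rw [← QuotientGroup.eq_one_iff, ← orderOf_eq_one_iff]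
  refine Nat.eq_one_of_dvd_coprimes ((Fact.out : p.Prime).coprime_iff_not_dvd.mpr hg) ?_
    (orderOf_map_dvd (QuotientGroup.mk' C) g)
  rw [← hC, Subgroup.index_eq_card]
  exact orderOf_dvd_natCard _

omit [Fintype G] [M.IsPrime] [N.Normal] D in
/-- Elements of class size prime to `p` centralize a Sylow subgroup of a normal subgroup. -/
theorem exists_sylow_commute {X : Type*} [Group X] [Finite X] {A : Type*} [Group A] [Finite A]
    (i : A →* X) (hi : Function.Injective i) (hin : i.range.Normal) {g : X}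
    (hg : ¬ p ∣ (Subgroup.centralizer ({g} : Set X)).index) :
    ∃ R : Sylow p A, ∀ r ∈ (R : Subgroup A), i r * g = g * i r := by
  obtain ⟨S⟩ := (inferInstance : Nonempty (Sylow p (Subgroup.centralizer ({g} : Set X))))
  obtain ⟨R₀⟩ := (inferInstance : Nonempty (Sylow p A))
  obtain ⟨S₂, hS₂⟩ := (R₀.isPGroup'.map i).exists_le_sylow
  obtain ⟨S', hS'⟩ := (S.isPGroup'.map (Subgroup.centralizer ({g} : Set X)).subtype).exists_le_sylow
  have hcard : Nat.card (S' : Subgroup X) ≤
      Nat.card ((S : Subgroup _).map (Subgroup.centralizer ({g} : Set X)).subtype) := by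
    rw [← Nat.card_congr (Subgroup.equivMapOfInjective (S : Subgroup _) _
      (Subgroup.centralizer ({g} : Set X)).subtype_injective).toEquiv,
      Sylow.card_eq_multiplicity, Sylow.card_eq_multiplicity,
      ← (Subgroup.centralizer ({g} : Set X)).card_mul_index,
      Nat.factorization_mul Nat.card_pos.ne' Subgroup.index_ne_zero_of_finite]
    simp [Nat.factorization_eq_zero_of_not_dvd hg]
  have hS'le : (S' : Subgroup X) ≤ Subgroup.centralizer ({g} : Set X) := by
    rw [← Subgroup.eq_of_le_of_card_ge hS' hcard]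
    exact Subgroup.map_subtype_le _
  obtain ⟨x, hx⟩ := MulAction.exists_smul_eq X S₂ S'
  obtain ⟨R, hR⟩ : ∃ R : Sylow p A, ∀ r ∈ (R : Subgroup A), i r ∈ (S' : Subgroup X) := by
    have hRp : IsPGroup p ((S' : Subgroup X).comap i) :=
      (S'.isPGroup').comap_of_injective i hi
    obtain ⟨R, hR⟩ := hRp.exists_le_sylow
    refine ⟨R, fun r hr => ?_⟩
    have hc : Nat.card (R : Subgroup A) ≤ Nat.card ((S' : Subgroup X).comap i) := by
      rw [Sylow.card_eq_multiplicity, ← Sylow.card_eq_multiplicity R₀]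
      let F : ↥(R₀ : Subgroup A) → (S' : Subgroup X).comap i := fun a =>
        ⟨(Function.invFun i (x * i a * x⁻¹)), by
          obtain ⟨b, hb⟩ := hin.conj_mem (i a) ⟨_, rfl⟩ x
          rw [Subgroup.mem_comap, Function.invFun_eq ⟨b, hb⟩, ← hx]
          exact Subgroup.smul_mem_pointwise_smul _ (MulAut.conj x) _ (hS₂ ⟨a, a.2, rfl⟩)⟩
      refine Nat.card_le_card_of_injective F fun a b h => ?_
      obtain ⟨ba, hba⟩ := hin.conj_mem (i a) ⟨_, rfl⟩ x
      obtain ⟨bb, hbb⟩ := hin.conj_mem (i b) ⟨_, rfl⟩ x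
      have h' := congrArg i (congrArg Subtype.val h)
      rw [Function.invFun_eq ⟨ba, hba⟩, Function.invFun_eq ⟨bb, hbb⟩] at h'
      exact Subtype.ext (hi (mul_left_cancel (mul_right_cancel h')))
    rwa [← Subgroup.eq_of_le_of_card_ge hR hc] at hr
  exact ⟨R, fun r hr => Subgroup.mem_centralizer_singleton_iff.mp (hS'le (hR r hr))⟩

/-- Existence of canonical extensions for nilpotent quotients. -/
theorem exists_canon : ∀ (T : Subgroup G), N ≤ T → Group.IsNilpotent (T ⧸ N.subgroupOf T) →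
    ∃ η : IrrCharacter T, Canon θ T η M p := by
  classical
  intro T
  induction hcard : Nat.card T using Nat.strong_induction_on generalizing T with
  | _ n ih =>
  intro hNT hnil
  subst hcard
  have hp := (Fact.out : p.Prime)
  by_cases hT : T = N
  · subst hT
    exact ⟨θ, canon_self D⟩
  set K := N.subgroupOf T
  have : Nontrivial (T ⧸ K) := by
    rw [← Finite.one_lt_card_iff_nontrivial, ← Subgroup.index_eq_card]
    refine Nat.one_lt_iff_ne_zero_and_ne_one.mpr ⟨Subgroup.index_ne_zero_of_finite, fun h => ?_⟩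
    exact hT (le_antisymm (Subgroup.subgroupOf_eq_top.mp (Subgroup.index_eq_one.mp h)) hNT)
  obtain ⟨C₀, hC₀n, hC₀p, hC₀i⟩ := exists_coatom (p := p) (X := T ⧸ K)
  set T₁' : Subgroup T := C₀.comap (QuotientGroup.mk' K) with hT₁'
  have hT₁n : T₁'.Normal := inferInstance
  have hT₁i : T₁'.index = C₀.index :=
    Subgroup.index_comap_of_surjective _ (QuotientGroup.mk'_surjective K)
  set T₁ : Subgroup G := T₁'.map T.subtype with hT₁
  have hle : T₁ ≤ T := Subgroup.map_subtype_le _
  have hmem : ∀ x : T, (x : G) ∈ T₁ ↔ x ∈ T₁' := fun x => by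
    rw [hT₁, Subgroup.mem_map]
    exact ⟨fun ⟨y, hy, e⟩ => Subtype.ext (show (y : G) = x from e) ▸ hy, fun h => ⟨x, h, rfl⟩⟩
  have hN₁ : N ≤ T₁ := fun a ha => (hmem ⟨a, hNT ha⟩).mpr (by
    rw [hT₁', Subgroup.mem_comap, QuotientGroup.mk'_apply,
      (QuotientGroup.eq_one_iff (N := K) ⟨a, hNT ha⟩).mpr ha]
    exact one_mem _)
  have hlt : Nat.card T₁ < Nat.card T := by
    rw [hT₁, ← Nat.card_congr (Subgroup.equivMapOfInjective T₁' T.subtype T.subtype_injective).toEquiv,
      ← T₁'.card_mul_index]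
    exact lt_mul_of_one_lt_right Nat.card_pos (hT₁i ▸ hC₀p.one_lt)
  have hnil₁ : Group.IsNilpotent (T₁ ⧸ N.subgroupOf T₁) := by
    let f : T₁ →* C₀ :=
      ((QuotientGroup.mk' K).comp (Subgroup.inclusion hle)).codRestrict C₀ fun x =>
        (hmem ⟨x, hle x.2⟩).mp x.2
    have hker : f.ker = N.subgroupOf T₁ := by
      ext x
      rw [MonoidHom.mem_ker, Subtype.ext_iff]
      show QuotientGroup.mk' K (Subgroup.inclusion hle x) = 1 ↔ _
      rw [QuotientGroup.mk'_apply, QuotientGroup.eq_one_iff]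
      rfl
    have : Group.IsNilpotent C₀ := Subgroup.isNilpotent C₀
    have : Group.IsNilpotent f.range := Subgroup.isNilpotent _
    have e : T₁ ⧸ N.subgroupOf T₁ ≃* f.range :=
      (QuotientGroup.quotientMulEquivOfEq hker.symm).trans (QuotientGroup.quotientKerEquivRange f)
    exact (Group.isNilpotent_congr e).mpr ‹_›
  obtain ⟨ψ₁, hψ₁⟩ := ih (Nat.card T₁) hlt T₁ rfl hN₁ hnil₁
  -- invariance
  have hinv : ∀ (t : T) (x : T₁') ,
      (ψ₁ : T₁ → ℂ) ⟨((cn t x : T₁') : T), (hmem _).mpr (cn t x).2⟩ =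
        (ψ₁ : T₁ → ℂ) ⟨((x : T) : G), (hmem _).mpr x.2⟩ := by
    intro t x
    have hmap : ∀ y ∈ T₁, (t : G) * y * (t : G)⁻¹ ∈ T₁ := fun y hy => by
      have h1 := hT₁n.conj_mem ⟨y, hle hy⟩ ((hmem ⟨y, hle hy⟩).mp hy) t
      exact (hmem _).mpr h1
    obtain ⟨ψ', hψ', hval⟩ := Canon.conj D hψ₁ (t : G) hN₁ hmap
    have h := hval ⟨((x : T) : G), (hmem _).mpr x.2⟩
    rw [Canon.unique D hψ₁ hψ'] at h
    exact h.symm
  -- transport to `T₁'`
  let e : T₁' →* T₁ :=
    { toFun := fun x => ⟨((x : T) : G), (hmem _).mpr x.2⟩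
      map_one' := rfl
      map_mul' := fun _ _ => rfl }
  have he : Function.Surjective e := fun y =>
    ⟨⟨⟨y, hle y.2⟩, (hmem _).mp y.2⟩, Subtype.ext rfl⟩
  obtain ⟨k, ρ₁, hρ₁, hρ₁c⟩ := ψ₁.2
  let σ : Representation ℂ T₁' (Fin k → ℂ) := ρ₁.comp e
  have hσc : ∀ x, σ.character x = (ψ₁ : T₁ → ℂ) (e x) := fun x => congrFun hρ₁c (e x)
  have hσirr' : IsIrrCharacter T₁' fun x => (ψ₁ : T₁ → ℂ) (e x) :=
    IsIrr.comp_surjective e he ψ₁.2
  have : σ.IsIrreducible := irreducible_of_comp σ (MonoidHom.id T₁') (by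
    rw [show (fun x => σ.character (MonoidHom.id T₁' x)) = fun x => (ψ₁ : T₁ → ℂ) (e x) from
      funext hσc]
    exact hσirr')
  have hkd : k = charDegree (θ : N → ℂ) := by
    rw [← hψ₁.degree, ← hρ₁c]
    simp [charDegree, Representation.char_one]
  have hσdet : ¬ p ∣ orderOf (detHom σ) := fun hd => hψ₁.det (hd.trans (by
    rw [← CharExt.detOrder_eq, ← hρ₁c]
    exact detOrder_dvd ρ₁ σ e rfl))
  have hdegT : ∀ η : IrrCharacter T, (∀ x : T₁', (η : T → ℂ) x = (ψ₁ : T₁ → ℂ) (e x)) →
      ∀ n : N, (η : T → ℂ) (Subgroup.inclusion hNT n) = (θ : N → ℂ) n := fun η hη n => by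
    rw [← hψ₁.ext n]
    exact hη ⟨Subgroup.inclusion hNT n, (hmem _).mp (hN₁ n.2)⟩
  by_cases hpd : p ∣ Nat.card (T ⧸ K)
  · -- a step of index `p`
    have hip : T₁'.index = p := hT₁i.trans (hC₀i hpd)
    obtain ⟨ρ, hρ, hρdet⟩ := CharExt.exists_canonical_extension σ (fun t x => by
        rw [hσc, hσc]; exact hinv t x) (by
      rw [hip, Module.finrank_fin_fun]
      refine ((hp.coprime_iff_not_dvd).mpr fun hd => ?_).symm
      rcases hp.dvd_mul.mp hd with h | h
      · exact hσdet h
      · exact D.deg (hkd ▸ h))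
    have hirr := CharExt.isIrreducible_of_restrict ρ T₁'.subtype σ hρ
    have hres : ∀ x : T₁', ρ.character x = (ψ₁ : T₁ → ℂ) (e x) := fun x => by
      rw [← hσc]
      show LinearMap.trace ℂ _ (ρ x) = LinearMap.trace ℂ _ (σ x)
      rw [hρ]
    refine ⟨⟨ρ.character, k, ρ, hirr, rfl⟩, hNT, hdegT _ hres, ?_, fun g hg hR => ?_⟩
    · show ¬ p ∣ detOrder ρ.character
      rwa [CharExt.detOrder_eq, hρdet]
    · have hg₁ : g ∈ T₁' := mem_of_regular_of_index hip hg
      have h1 := hres ⟨g, hg₁⟩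
      show rv M (ρ.character g) = _
      rw [h1]
      exact hψ₁.good _ (fun hd => hg (hd.trans (orderOf_map_dvd e ⟨g, hg₁⟩ |>.trans
        (dvd_of_eq (Subgroup.orderOf_mk g hg₁))))) hR
  · -- a step of index prime to `p`
    have hKi : ¬ p ∣ K.index := by rwa [Subgroup.index_eq_card]
    have hqp : ¬ p ∣ T₁'.index := fun h => hKi (h.trans
      (Subgroup.index_dvd_of_le fun a ha => by
        rw [hT₁', Subgroup.mem_comap, QuotientGroup.mk'_apply, (QuotientGroup.eq_one_iff a).mpr ha]
        exact one_mem _))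
    have := Fintype.ofFinite T
    have := Fintype.ofFinite T₁'
    have : Fact (T₁'.index.Prime) := ⟨hT₁i ▸ hC₀p⟩
    have hcyc : IsCyclic (T ⧸ T₁') :=
      isCyclic_of_prime_card (p := T₁'.index) (Subgroup.index_eq_card _).symm
    obtain ⟨χ₀, hχ₀, hχ₀res⟩ := Cfsg.Agent.S0886.result T₁' hcyc (fun x => (ψ₁ : T₁ → ℂ) (e x))
      hσirr' fun t x => hinv t x
    -- `ψ₁` is in the principal block of `T₁'`
    set ψ' : IrrCharacter T₁' := ⟨fun x => (ψ₁ : T₁ → ℂ) (e x), hσirr'⟩ with hψ'
    have hdψ' : charDegree (ψ' : T₁' → ℂ) = charDegree (θ : N → ℂ) := by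
      rw [← hψ₁.degree]
      show charDegree (fun x => (ψ₁ : T₁ → ℂ) (e x)) = _
      simp [charDegree]
    obtain ⟨Pp⟩ := (inferInstance : Nonempty (Sylow p T₁'))
    let j : N →* T₁' :=
      { toFun := fun n => ⟨Subgroup.inclusion hNT n, (hmem _).mp (hN₁ n.2)⟩
        map_one' := rfl
        map_mul' := fun _ _ => rfl }
    have hjinj : Function.Injective j := fun a b h => Subtype.ext (congrArg (fun z : T₁' => ((z : T) : G)) h)
    have hjidx : ¬ p ∣ j.range.index := fun h => hKi (h.trans (by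
      have : j.range.map T₁'.subtype = K := by
        ext x
        rw [Subgroup.mem_map]
        constructor
        · rintro ⟨_, ⟨n, rfl⟩, rfl⟩; exact n.2
        · exact fun hx => ⟨_, ⟨⟨(x : G), hx⟩, rfl⟩, rfl⟩
      rw [← this, Subgroup.index_map_subtype]
      exact dvd_mul_right _ _))
    have hjn : j.range.Normal := ⟨fun a ha x => by
      obtain ⟨n, rfl⟩ := ha
      exact ⟨⟨_, ‹N.Normal›.conj_mem n n.2 ((x : T) : G)⟩, Subtype.ext (Subtype.ext rfl)⟩⟩
    have hψ'B : ψ' ∈ principalBlock M T₁' := by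
      refine mem_principalBlock_of_rv hM (hdψ' ▸ D.deg) fun g hg hi => ?_
      rw [hdψ']
      obtain ⟨R, hR⟩ := exists_sylow_commute j hjinj hjn hi
      refine hψ₁.good (e g) (fun hd => hg (hd.trans (orderOf_map_dvd e g))) ⟨R,
        Subgroup.mem_centralizer_iff.mpr ?_⟩
      rintro _ ⟨r, hr, rfl⟩
      exact congrArg (fun z : T₁' => ((z : T) : G)) (hR r hr)
    have hne := sum_regular_ne_zero hM hψ'B (hdψ' ▸ D.deg)
    -- some extension has nonzero regular sum
    have hres₀ : IsIrrCharacter T₁' fun x : T₁' => χ₀ (x : T) := by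
      rw [funext hχ₀res]; exact hσirr'
    have := Fintype.ofFinite (IrrCharacter (T ⧸ T₁'))
    have hsum : ∑ g ∈ Finset.univ.filter (fun g : T => ¬ p ∣ orderOf g),
        indFun T₁' (fun x : T₁' => χ₀ (x : T)) g ≠ 0 := by
      have hval : ∀ g : T, indFun T₁' (fun x : T₁' => χ₀ (x : T)) g =
          if g ∈ T₁' then (T₁'.index : ℂ) * χ₀ g else 0 := by
        intro g
        rw [Gallagher.indFun_restrict_eq_sum (N := T₁') (IsIrr.isClassFunction hχ₀),
          Finset.sum_apply]
        simp only [Pi.smul_apply, Gallagher.twistBy_apply, smul_eq_mul, ← mul_assoc, ← Finset.sum_mul]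
        by_cases hg : g ∈ T₁'
        · rw [if_pos hg, QuotientGroup.mk'_apply, (QuotientGroup.eq_one_iff g).mpr hg]
          simp only [← sq]
          rw [sum_sq_degree, Subgroup.index_eq_card]
        · rw [if_neg hg, sum_degree_mul_apply_of_ne_one (g := QuotientGroup.mk' T₁' g)
            (fun h => hg ((QuotientGroup.eq_one_iff g).mp h)), zero_mul]
      rw [Finset.sum_congr rfl fun g _ => hval g, ← Finset.sum_filter, ← Finset.mul_sum]
      refine mul_ne_zero (Nat.cast_ne_zero.mpr Subgroup.index_ne_zero_of_finite) ?_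
      convert hne using 1
      symm
      refine (Finset.sum_bij (fun x _ => (x : T)) (fun x hx => ?_) (fun a _ b _ h => Subtype.ext h)
        (fun g hg => ?_) fun x _ => (hχ₀res x).symm)
      · simp only [Finset.mem_filter, Finset.mem_univ, true_and] at hx ⊢
        exact ⟨by rwa [Subgroup.orderOf_coe], x.2⟩
      · simp only [Finset.mem_filter, Finset.mem_univ, true_and] at hg
        exact ⟨⟨g, hg.2⟩, Finset.mem_filter.mpr ⟨Finset.mem_univ _, by
          rw [← Subgroup.orderOf_coe]; exact hg.1⟩, rfl⟩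
    rw [Gallagher.indFun_restrict_eq_sum (N := T₁') (IsIrr.isClassFunction hχ₀)] at hsum
    simp only [Finset.sum_apply, Pi.smul_apply, smul_eq_mul] at hsum
    rw [Finset.sum_comm] at hsum
    obtain ⟨β, -, hβ⟩ := Finset.exists_ne_zero_of_sum_ne_zero hsum
    rw [← Finset.mul_sum] at hβ
    let χ : IrrCharacter T := ⟨_, Gallagher.isIrr_twistBy (IsIrr.isCharacter hχ₀) hres₀ β⟩
    have hχB : χ ∈ principalBlock M T := mem_principalBlock_of_sum_regular hM (right_ne_zero_of_mul hβ)
    have hβ1 : (β : T ⧸ T₁' → ℂ) 1 = 1 := by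
      have := hcyc
      exact CfsgLib.Clifford.apply_one_eq_one_of_commute (fun a b => by
        obtain ⟨z, hz⟩ := IsCyclic.exists_generator (α := T ⧸ T₁')
        obtain ⟨i, rfl⟩ := Subgroup.mem_zpowers_iff.mp (hz a)
        obtain ⟨j, rfl⟩ := Subgroup.mem_zpowers_iff.mp (hz b)
        rw [← zpow_add, ← zpow_add, add_comm]) β
    have hχres : ∀ x : T₁', (χ : T → ℂ) x = (ψ₁ : T₁ → ℂ) (e x) := fun x => by
      show Gallagher.twistBy χ₀ (β : T ⧸ T₁' → ℂ) x = _
      rw [Gallagher.twistBy_apply_coe, hβ1, one_mul, hχ₀res]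
    have hdχ : charDegree (χ : T → ℂ) = charDegree (θ : N → ℂ) := by
      have h1 := hdegT χ hχres 1
      rw [map_one] at h1
      simp [charDegree, h1]
    refine ⟨χ, hNT, hdegT χ hχres, ?_, fun g hg hR => ?_⟩
    · obtain ⟨k', τ, hτ, hτc⟩ := χ.2
      rw [← hτc, CharExt.detOrder_eq]
      intro hd
      have hdvd : orderOf (detHom τ) ∣ orderOf (detHom σ) * T₁'.index := by
        refine orderOf_dvd_of_pow_eq_one (MonoidHom.ext fun g => ?_)
        rw [MonoidHom.pow_apply, mul_comm, pow_mul, ← map_pow]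
        have hmemg : g ^ T₁'.index ∈ T₁' := T₁'.pow_index_mem g
        let τ₁ : Representation ℂ T₁' (Fin k' → ℂ) := τ.comp T₁'.subtype
        have hch : τ₁.character = σ.character := funext fun x => by
          rw [hσc, ← hχres x]; exact congrFun hτc (x : T)
        have hdet := CharExt.detHom_eq_of_character_eq τ₁ σ hch
        have h1 : detHom τ (g ^ T₁'.index) = detHom σ ⟨_, hmemg⟩ := by
          rw [← hdet]
          exact Units.ext (by rw [CharExt.detHom_apply, CharExt.detHom_apply]; rfl)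
        rw [h1, ← MonoidHom.pow_apply, pow_orderOf_eq_one]
        rfl
      exact (hp.dvd_mul.mp (hd.trans hdvd)).elim hσdet hqp
    · obtain ⟨R, hR⟩ := hR
      rw [rv_of_mem hM hχB, hdχ]
      intro hd
      let jT : N →* T := Subgroup.inclusion hNT
      have hjT : ¬ p ∣ jT.range.index := by
        rwa [show jT.range = K from by
          ext x
          exact ⟨fun ⟨n, hn⟩ => hn ▸ n.2, fun hx => ⟨⟨(x : G), hx⟩, Subtype.ext rfl⟩⟩]
      have hsub : (R : Subgroup N).map jT ≤ Subgroup.centralizer ({g} : Set T) := by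
        rintro _ ⟨r, hr, rfl⟩
        exact Subgroup.mem_centralizer_singleton_iff.mpr
          (Subtype.ext (Subgroup.mem_centralizer_iff.mp hR (r : G) ⟨r, hr, rfl⟩))
      have hidx : ¬ p ∣ ((R : Subgroup N).map jT).index := by
        rw [Subgroup.index_map_of_injective _ (Subgroup.inclusion_injective hNT), hp.dvd_mul]
        exact fun h => h.elim (Sylow.not_dvd_index R) hjT
      exact hidx (hd.trans (Subgroup.index_dvd_of_le hsub))

end CfsgLib.CanonExt
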