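import Cfsg.Agent.Lib.Blocks.DerivedQuotient
import Cfsg.Agent.Lib.Char.CliffordRestrict
import Cfsg.Agent.Lib.Char.Complete
import Cfsg.Agent.Lib.Char.Induced

/-!
# The principal block of a central product

If `G = U₁U₂` with the factors commuting elementwise and `U₁ ∩ U₂` a `p`-group, an irreducible
character lies in the principal block exactly when its constituents on the factors do.
-/

set_option autoImplicit false

namespace CfsgLib.Blocks.CentralProduct

open Cfsg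

variable {G : Type*} [Group G]

section Basic

variable {U V : Subgroup G} (hcomm : ∀ u ∈ U, ∀ v ∈ V, u * v = v * u) (hgen : U ⊔ V = ⊤)

include hcomm hgen

theorem exists_mul (g : G) : ∃ u ∈ U, ∃ v ∈ V, u * v = g := by
  have hle : V ≤ Subgroup.normalizer (U : Set G) := fun v hv => by
    refine Subgroup.mem_normalizer_iff.2 fun n => ⟨fun hn => ?_, fun hn => ?_⟩
    · rwa [← hcomm n hn v hv, mul_inv_cancel_right]
    · have h : n = v⁻¹ * (v * n * v⁻¹) * v := by group
      rw [h, mul_assoc, hcomm _ hn v hv, ← mul_assoc, inv_mul_cancel, one_mul]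
      exact hn
  have h : g ∈ (U ⊔ V : Subgroup G) := hgen.ge (Subgroup.mem_top g)
  rw [← SetLike.mem_coe, Subgroup.coe_mul_of_right_le_normalizer_left U V hle] at h
  exact Set.mem_mul.1 h

theorem exists_conj_eq {u : G} (hu : u ∈ U) (x : G) :
    ∃ a ∈ U, x * u * x⁻¹ = a * u * a⁻¹ := by
  obtain ⟨a, ha, b, hb, rfl⟩ := exists_mul hcomm hgen x
  exact ⟨a, ha, by rw [show a * b * u * (a * b)⁻¹ = a * (b * u * b⁻¹) * a⁻¹ by group,
    ← hcomm u hu b hb, mul_inv_cancel_right]⟩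

theorem normal_left : U.Normal := ⟨fun n hn g => by
  obtain ⟨a, ha, e⟩ := exists_conj_eq hcomm hgen hn g
  rw [e]
  exact U.mul_mem (U.mul_mem ha hn) (U.inv_mem ha)⟩

/-- The class of an element of a factor is its class in the factor. -/
theorem index_centralizer_coe [Finite G] (u : U) :
    (Subgroup.centralizer ({(u : G)} : Set G)).index =
      (Subgroup.centralizer ({u} : Set U)).index := by
  rw [← CfsgLib.Char.card_carrier_eq_index, ← CfsgLib.Char.card_carrier_eq_index]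
  refine (Nat.card_congr (Equiv.ofBijective (fun x => ⟨(x.1 : G), ?_⟩) ⟨?_, ?_⟩)).symm
  rotate_left 2
  · rw [ConjClasses.mem_carrier_iff_mk_eq, ConjClasses.mk_eq_mk_iff_isConj]
    have h := ConjClasses.mk_eq_mk_iff_isConj.1 (ConjClasses.mem_carrier_iff_mk_eq.1 x.2)
    exact U.subtype.map_isConj h
  · intro x y h
    exact Subtype.ext (Subtype.ext (congrArg (fun z => (z.1 : G)) h))
  · intro y
    obtain ⟨g, hg⟩ := isConj_iff.1
      (ConjClasses.mk_eq_mk_iff_isConj.1 (ConjClasses.mem_carrier_iff_mk_eq.1 y.2)).symm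
    obtain ⟨a, ha, e⟩ := exists_conj_eq hcomm hgen u.2 g
    refine ⟨⟨⟨a, ha⟩ * u * ⟨a, ha⟩⁻¹, ?_⟩, Subtype.ext (e.symm.trans hg)⟩
    rw [ConjClasses.mem_carrier_iff_mk_eq, ConjClasses.mk_eq_mk_iff_isConj]
    exact (isConj_iff.2 ⟨(⟨a, ha⟩ : U), rfl⟩).symm

/-- On a factor an irreducible character is a multiple of its constituent. -/
theorem apply_mul_apply_one [Fintype G] [Fintype U] (χ : IrrCharacter G) (ψ : IrrCharacter U)
    (h : classInner (fun u : U => (χ : G → ℂ) u) (ψ : U → ℂ) ≠ 0) (u : U) :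
    (χ : G → ℂ) u * (ψ : U → ℂ) 1 = (χ : G → ℂ) 1 * (ψ : U → ℂ) u := by
  classical
  have hU := normal_left hcomm hgen
  have hinv : ∀ g : G, CfsgLib.Clifford.conjFn hU (ψ : U → ℂ) g = (ψ : U → ℂ) := by
    intro g
    funext n
    obtain ⟨a, ha, e⟩ := exists_conj_eq hcomm hgen n.2 g
    rw [CfsgLib.Clifford.conjFn_apply]
    exact (congrArg (ψ : U → ℂ) (Subtype.ext e)).trans
      (CfsgLib.Char.IsIrr.isClassFunction ψ.2 n ⟨a, ha⟩)
  have h2 := CfsgLib.Clifford.restrict_eq_smul_orbit_sum hU χ.2 ψ.2 h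
  have himg : Finset.univ.image (CfsgLib.Clifford.conjFn hU (ψ : U → ℂ)) = {(ψ : U → ℂ)} := by
    ext f
    simp only [Finset.mem_image, Finset.mem_univ, true_and, Finset.mem_singleton, hinv]
    exact ⟨fun ⟨_, h⟩ => h.symm, fun h => ⟨1, h.symm⟩⟩
  rw [himg, Finset.sum_singleton] at h2
  have hu := congrFun h2 u
  have h1 := congrFun h2 1
  simp only [Pi.smul_apply, smul_eq_mul, OneMemClass.coe_one] at hu h1
  rw [hu, h1]
  ring

theorem centralChar_coe [Fintype G] [Fintype U] (χ : IrrCharacter G) (ψ : IrrCharacter U)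
    (h : classInner (fun u : U => (χ : G → ℂ) u) (ψ : U → ℂ) ≠ 0) (u : U) :
    centralChar (χ : G → ℂ) (u : G) = centralChar (ψ : U → ℂ) u := by
  have := CfsgLib.Char.IsIrr.apply_one_ne_zero χ.2
  have := CfsgLib.Char.IsIrr.apply_one_ne_zero ψ.2
  rw [centralChar, centralChar, index_centralizer_coe hcomm hgen, div_eq_div_iff ‹_› ‹_›,
    mul_assoc, mul_assoc, apply_mul_apply_one hcomm hgen χ ψ h, mul_comm ((χ : G → ℂ) 1)]

/-- A character is multiplicative on commuting generating factors. -/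
theorem apply_mul_of_factors [Fintype G] (χ : IrrCharacter G) {u v : G} (hu : u ∈ U) (hv : v ∈ V) :
    (χ : G → ℂ) (u * v) * (χ : G → ℂ) 1 = (χ : G → ℂ) u * (χ : G → ℂ) v := by
  classical
  have := Fintype.ofFinite U
  obtain ⟨χ, n, ρ, hρ, rfl⟩ := χ
  show ρ.character (u * v) * ρ.character 1 = ρ.character u * ρ.character v
  set S : Module.End ℂ (Fin n → ℂ) := ∑ a : U, ρ ((a : G) * u * (a : G)⁻¹) with hS
  have hcommS : ∀ g : G, S * ρ g = ρ g * S := by
    intro g
    obtain ⟨b, hb, c, hc, rfl⟩ := exists_mul hcomm hgen g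
    rw [hS, Finset.sum_mul, Finset.mul_sum]
    refine Fintype.sum_equiv (Equiv.mulLeft (⟨b, hb⟩⁻¹ : U)) _ _ fun a => ?_
    rw [← map_mul, ← map_mul]
    refine congrArg ρ ?_
    have h1 : (a : G) * u * (a : G)⁻¹ ∈ U := U.mul_mem (U.mul_mem a.2 hu) (U.inv_mem a.2)
    simp only [Equiv.coe_mulLeft, Subgroup.coe_mul, InvMemClass.coe_inv]
    calc (a : G) * u * (a : G)⁻¹ * (b * c)
        = b * (b⁻¹ * ((a : G) * u * (a : G)⁻¹) * b * c) := by group
      _ = b * (c * (b⁻¹ * ((a : G) * u * (a : G)⁻¹) * b)) := by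
          rw [hcomm _ (U.mul_mem (U.mul_mem (U.inv_mem hb) h1) hb) c hc]
      _ = _ := by group
  obtain ⟨d, hd⟩ := CfsgLib.CharIntegral.exists_scalar_of_commute ρ S hcommS
  have htr : ∀ w : G, LinearMap.trace ℂ (Fin n → ℂ) (S * ρ w) = d * ρ.character w := by
    intro w
    rw [hd, smul_mul_assoc, map_smul, smul_eq_mul]
    rfl
  have hsum : ∀ w : G, (∀ a : U, ρ.character ((a : G) * u * (a : G)⁻¹ * w) = ρ.character (u * w)) →
      LinearMap.trace ℂ (Fin n → ℂ) (S * ρ w) = Fintype.card U * ρ.character (u * w) := by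
    intro w hw
    rw [hS, Finset.sum_mul, map_sum, ← Finset.card_univ, ← nsmul_eq_mul, ← Finset.sum_const]
    refine Finset.sum_congr rfl fun a _ => ?_
    rw [← map_mul]
    exact hw a
  have h1 := (hsum 1 fun a => by rw [mul_one, mul_one, ρ.char_conj]).symm.trans (htr 1)
  have h2 := (hsum v fun a => by
    rw [mul_assoc _ ((a : G)⁻¹), hcomm _ (U.inv_mem a.2) v hv, ← mul_assoc,
      mul_assoc (a : G) u, ρ.char_conj]).symm.trans (htr v)
  rw [mul_one] at h1
  have hU0 : (Fintype.card U : ℂ) ≠ 0 := Nat.cast_ne_zero.2 Fintype.card_ne_zero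
  refine mul_left_cancel₀ hU0 ?_
  linear_combination ρ.character 1 * h2 - ρ.character v * h1

end Basic

section Main

variable [Fintype G] {p : ℕ} [Fact p.Prime]
  {U V : Subgroup G} (hcomm : ∀ u ∈ U, ∀ v ∈ V, u * v = v * u) (hgen : U ⊔ V = ⊤)
  (hZ : IsPGroup p ↥(U ⊓ V))

include hcomm hgen

theorem inf_le_centralizer (s : Set G) : U ⊓ V ≤ Subgroup.centralizer s := fun z hz => by
  refine Subgroup.mem_centralizer_iff.2 fun g _ => ?_
  obtain ⟨a, ha, b, hb, rfl⟩ := exists_mul hcomm hgen g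
  rw [mul_assoc, ← hcomm z hz.1 b hb, ← mul_assoc, hcomm a ha z hz.2, mul_assoc]

include hZ

/-- The class of a product of `p`-regular elements of the factors. -/
theorem index_centralizer_mul {u v : G} (hu : u ∈ U) (hv : v ∈ V) (hur : ¬ p ∣ orderOf u) :
    (Subgroup.centralizer ({u * v} : Set G)).index =
      (Subgroup.centralizer ({u} : Set G)).index * (Subgroup.centralizer ({v} : Set G)).index := by
  have hcentral : ∀ (w : G), w ∈ U ⊓ V → ∀ g : G, g * w = w * g := fun w hw g =>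
    Subgroup.mem_centralizer_iff.1 (inf_le_centralizer hcomm hgen Set.univ hw) g trivial
  have hnorm : (U ⊓ V).Normal := ⟨fun n hn g => by
    rwa [hcentral n hn g, mul_inv_cancel_right]⟩
  have hcomm' : ∀ v ∈ V, ∀ u ∈ U, v * u = u * v := fun v hv u hu => (hcomm u hu v hv).symm
  have hmemU : ∀ x, IsConj u x → x ∈ U ∧ ∃ a ∈ U, a * u * a⁻¹ = x := by
    intro x hx
    obtain ⟨g, rfl⟩ := isConj_iff.1 hx
    obtain ⟨a, ha, e⟩ := exists_conj_eq hcomm hgen hu g
    exact ⟨e ▸ U.mul_mem (U.mul_mem ha hu) (U.inv_mem ha), a, ha, e.symm⟩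
  have hmemV : ∀ x, IsConj v x → x ∈ V ∧ ∃ b ∈ V, b * v * b⁻¹ = x := by
    intro x hx
    obtain ⟨g, rfl⟩ := isConj_iff.1 hx
    obtain ⟨b, hb, e⟩ := exists_conj_eq hcomm' (sup_comm U V ▸ hgen) hv g
    exact ⟨e ▸ V.mul_mem (V.mul_mem hb hv) (V.inv_mem hb), b, hb, e.symm⟩
  have hc : ∀ w : G, ∀ x : (ConjClasses.mk w).carrier, IsConj w x.1 := fun w x =>
    (ConjClasses.mk_eq_mk_iff_isConj.1 (ConjClasses.mem_carrier_iff_mk_eq.1 x.2)).symm
  have key : ∀ {a b : G}, a ∈ U → b ∈ V → a * b * (u * v) * (a * b)⁻¹ =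
      (a * u * a⁻¹) * (b * v * b⁻¹) := fun {a b} ha hb => by
    calc a * b * (u * v) * (a * b)⁻¹ = a * (b * u) * v * b⁻¹ * a⁻¹ := by group
      _ = a * (u * b) * v * b⁻¹ * a⁻¹ := by rw [← hcomm u hu b hb]
      _ = a * u * ((b * v * b⁻¹) * a⁻¹) := by group
      _ = a * u * (a⁻¹ * (b * v * b⁻¹)) := by
          rw [hcomm a⁻¹ (U.inv_mem ha) _ (V.mul_mem (V.mul_mem hb hv) (V.inv_mem hb))]
      _ = _ := by group
  rw [← CfsgLib.Char.card_carrier_eq_index, ← CfsgLib.Char.card_carrier_eq_index,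
    ← CfsgLib.Char.card_carrier_eq_index, ← Nat.card_prod]
  refine (Nat.card_congr (Equiv.ofBijective (fun x => ⟨x.1.1 * x.2.1, ?_⟩) ⟨?_, ?_⟩)).symm
  rotate_left 2
  · obtain ⟨-, a, ha, e1⟩ := hmemU _ (hc u x.1)
    obtain ⟨-, b, hb, e2⟩ := hmemV _ (hc v x.2)
    rw [ConjClasses.mem_carrier_iff_mk_eq, ConjClasses.mk_eq_mk_iff_isConj]
    exact (isConj_iff.2 ⟨a * b, by rw [key ha hb, e1, e2]⟩).symm
  · rintro ⟨x, y⟩ ⟨x', y'⟩ h
    have h : x.1 * y.1 = x'.1 * y'.1 := congrArg Subtype.val h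
    have hx := hmemU _ (hc u x)
    have hx' := hmemU _ (hc u x')
    have hz : x.1⁻¹ * x'.1 ∈ U ⊓ V := by
      refine ⟨U.mul_mem (U.inv_mem hx.1) hx'.1, ?_⟩
      have : x.1⁻¹ * x'.1 = y.1 * y'.1⁻¹ := by
        rw [inv_mul_eq_iff_eq_mul, ← mul_assoc, h, mul_inv_cancel_right]
      rw [this]
      exact V.mul_mem (hmemV _ (hc v y)).1 (V.inv_mem (hmemV _ (hc v y')).1)
    have hord : ∀ z : (ConjClasses.mk u).carrier, orderOf z.1 = orderOf u := fun z => by
      obtain ⟨-, a, -, e⟩ := hmemU _ (hc u z)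
      rw [← e, ← MulAut.conj_apply]
      exact MulEquiv.orderOf_eq (MulAut.conj a) u
    have h1 := eq_one_of_regular_mul_centralizer (U ⊓ V) hZ hz
      (g := x.1) (Subgroup.mem_centralizer_iff.2 fun w hw => (hcentral w hw _).symm)
      (by rw [hord]; exact hur) (by rw [mul_inv_cancel_left, hord]; exact hur)
    have hxx : x.1 = x'.1 := inv_mul_eq_one.1 h1
    exact Prod.ext (Subtype.ext hxx) (Subtype.ext (mul_left_cancel (h.trans (by rw [hxx]))))
  · intro y
    obtain ⟨g, hg⟩ := isConj_iff.1 (hc (u * v) y)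
    obtain ⟨a, ha, b, hb, rfl⟩ := exists_mul hcomm hgen g
    refine ⟨(⟨a * u * a⁻¹, ?_⟩, ⟨b * v * b⁻¹, ?_⟩), Subtype.ext ((key ha hb).symm.trans hg)⟩
    · rw [ConjClasses.mem_carrier_iff_mk_eq, ConjClasses.mk_eq_mk_iff_isConj]
      exact (isConj_iff.2 ⟨a, rfl⟩).symm
    · rw [ConjClasses.mem_carrier_iff_mk_eq, ConjClasses.mk_eq_mk_iff_isConj]
      exact (isConj_iff.2 ⟨b, rfl⟩).symm

theorem mem_principalBlock_iff {M : Ideal AlgInt} (hM : IsPModular p M) [Fintype U] [Fintype V]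
    (χ : IrrCharacter G) (ψ₁ : IrrCharacter U) (ψ₂ : IrrCharacter V)
    (h₁ : classInner (fun u : U => (χ : G → ℂ) u) (ψ₁ : U → ℂ) ≠ 0)
    (h₂ : classInner (fun u : V => (χ : G → ℂ) u) (ψ₂ : V → ℂ) ≠ 0) :
    χ ∈ principalBlock M G ↔ ψ₁ ∈ principalBlock M U ∧ ψ₂ ∈ principalBlock M V := by
  classical
  have : M.IsPrime := hM.2.1.isPrime
  have hcomm' : ∀ v ∈ V, ∀ u ∈ U, v * u = u * v := fun v hv u hu => (hcomm u hu v hv).symm
  have hgen' : V ⊔ U = ⊤ := sup_comm U V ▸ hgen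
  have htU : ∀ u : U, centralChar (fun _ : G => (1 : ℂ)) (u : G) =
      centralChar (fun _ : U => (1 : ℂ)) u := fun u => by
    rw [centralChar, centralChar, index_centralizer_coe hcomm hgen]
  have htV : ∀ v : V, centralChar (fun _ : G => (1 : ℂ)) (v : G) =
      centralChar (fun _ : V => (1 : ℂ)) v := fun v => by
    rw [centralChar, centralChar, index_centralizer_coe hcomm' hgen']
  constructor
  · intro h
    refine ⟨fun u => ?_, fun v => ?_⟩
    · rw [← htU, ← centralChar_coe hcomm hgen χ ψ₁ h₁]; exact h _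
    · rw [← htV, ← centralChar_coe hcomm' hgen' χ ψ₂ h₂]; exact h _
  rintro ⟨hU, hV⟩
  have hnorm : (U ⊓ V).Normal := ⟨fun n hn g => by
    rwa [Subgroup.mem_centralizer_iff.1 (inf_le_centralizer hcomm hgen Set.univ hn) g trivial,
      mul_inv_cancel_right]⟩
  refine sameBlock_of_regular_centralizer hM (U ⊓ V) hZ (χ := CfsgLib.Char.trivChar G) (ψ := χ)
    fun g _ hg => ?_
  obtain ⟨a, ha, b, hb, rfl⟩ := exists_mul hcomm hgen g
  set e := (Nat.card G).factorization p
  have hcop : Nat.Coprime (orderOf (a * b)) (p ^ e) :=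
    ((Fact.out : p.Prime).coprime_iff_not_dvd.2 hg).symm.pow_right e
  obtain ⟨k, hk1, hk0⟩ := Nat.chineseRemainder hcop 1 0
  have hk : (a * b) ^ k = a * b := by
    conv_rhs => rw [← pow_one (a * b)]
    exact pow_eq_pow_iff_modEq.2 hk1
  have hur : ∀ w : G, ¬ p ∣ orderOf (w ^ k) := by
    intro w hdvd
    obtain ⟨s, hs⟩ := Nat.modEq_zero_iff_dvd.1 hk0
    have hw : (w ^ k) ^ (Nat.card G / p ^ e) = 1 := by
      rw [← pow_mul, hs, mul_right_comm, Nat.mul_div_cancel' (Nat.ordProj_dvd _ _), pow_mul,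
        pow_card_eq_one', one_pow]
    exact Nat.not_dvd_ordCompl Fact.out Nat.card_pos.ne'
      (hdvd.trans (orderOf_dvd_of_pow_eq_one hw))
  rw [(show Commute a b from hcomm a ha b hb).mul_pow] at hk
  set u := a ^ k
  set v := b ^ k
  have hu : u ∈ U := U.pow_mem ha k
  have hv : v ∈ V := V.pow_mem hb k
  rw [← hk]
  have hmul : ∀ θ : IrrCharacter G, centralCharBar M θ (u * v) =
      centralCharBar M θ u * centralCharBar M θ v := by
    intro θ
    rw [centralCharBar, centralCharBar, centralCharBar, ← map_mul]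
    refine congrArg (resHom M) (Subtype.ext ?_)
    change centralChar (θ : G → ℂ) (u * v) = centralChar (θ : G → ℂ) u * centralChar (θ : G → ℂ) v
    have h1 := CfsgLib.Char.IsIrr.apply_one_ne_zero θ.2
    rw [centralChar, centralChar, centralChar,
      index_centralizer_mul hcomm hgen hZ hu hv (hur a)]
    push_cast
    field_simp
    linear_combination ((Subgroup.centralizer ({u} : Set G)).index : ℂ) *
      ((Subgroup.centralizer ({v} : Set G)).index : ℂ) * apply_mul_of_factors hcomm hgen θ hu hv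
  rw [hmul, hmul]
  congr 1
  · refine centralCharBar_eq_iff.2 ?_
    have h := hU ⟨u, hu⟩
    rw [← htU, ← centralChar_coe hcomm hgen χ ψ₁ h₁] at h
    exact h
  · refine centralCharBar_eq_iff.2 ?_
    have h := hV ⟨v, hv⟩
    rw [← htV, ← centralChar_coe hcomm' hgen' χ ψ₂ h₂] at h
    exact h

end Main

end CfsgLib.Blocks.CentralProduct
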