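import Cfsg.Agent.Lib.Blocks.CentralizerProduct
import Cfsg.Agent.Lib.Char.CliffordRestrict
import Cfsg.Agent.Lib.CharDegree.Basic

/-!
# Degrees in a block with defect group `P`, `G = P C(P)`

The members have the degrees `θ(1) λ(1)`, `λ` running over the irreducible characters of `P`.
-/

namespace CfsgLib.Blocks

open Cfsg MonoidAlgebra CfsgLib.Fusion
open scoped ComplexConjugate

variable {G : Type*} [Group G] [Fintype G] {p : ℕ} [Fact p.Prime] {P : Subgroup G}
  [Fintype P]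
  (hG : P ⊔ Subgroup.centralizer (P : Set G) = ⊤) (hP : IsPGroup p P)
  {M : Ideal AlgInt} [M.IsPrime] (hM : IsPModular p M) {B : Set (IrrCharacter G)}
  (hB : IsPBlock M B) (hD : IsDefectGroup p M B P)
  {θ : IrrCharacter G} (hθ : θ ∈ B) (hθP : ∀ x ∈ P, (θ : G → ℂ) x = (θ : G → ℂ) 1)
include hG hP hM hB hD hθ hθP

theorem sum_norm_sq_restrict {χ : IrrCharacter G} (hχ : χ ∈ B) :
    ∑ u : P, ‖(χ : G → ℂ) u‖ ^ 2 = (Nat.card P : ℝ) * (charDegree (θ : G → ℂ) : ℝ) ^ 2 := by
  classical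
  have := normal_of_sup_centralizer hG
  have hp : p.Prime := Fact.out
  obtain ⟨k, hk⟩ := exists_index_centralizer hG hP
  let f : P × {y : G // ¬ p ∣ orderOf y} → G := fun z => (z.1 : G) * (z.2 : G)
  have hpart : ∀ z, IsPPart p (f z) (z.1 : G) := fun z =>
    ⟨z.2, rfl, Subgroup.mem_centralizer_iff.1 (mem_centralizer_of_regular P hP hk z.2.2) z.1 z.1.2, by
      obtain ⟨j, hj⟩ := IsPGroup.iff_orderOf.1 hP z.1
      exact ⟨j, by rw [Subgroup.orderOf_coe, hj]⟩, z.2.2⟩
  have huniq : ∀ g u v : G, IsPPart p g u → IsPPart p g v → u = v := fun g u v h h' => by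
    have := conj_pPart_eq hp h h' (x := 1) (j := 1) (by simpa using hp.ne_one) (by simp)
    simpa using this
  have hinj : Function.Injective f := fun a b h => by
    have h1 : (a.1 : G) = b.1 := huniq (f b) _ _ (h ▸ hpart a) (hpart b)
    exact Prod.ext (Subtype.ext h1) (Subtype.ext (mul_left_cancel (a := (a.1 : G))
      (h.trans (show _ = _ by rw [h1]))))
  have hθ1 : ‖(θ : G → ℂ) 1‖ = (charDegree (θ : G → ℂ) : ℝ) := by
    rw [apply_one_eq_charDegree, Complex.norm_natCast]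
  set S := ∑ y : {y : G // ¬ p ∣ orderOf y}, ‖(θ : G → ℂ) y‖ ^ 2
  have hall : ∀ η ∈ B, (Nat.card G : ℝ) * (charDegree (θ : G → ℂ) : ℝ) ^ 2 =
      (∑ u : P, ‖(η : G → ℂ) u‖ ^ 2) * S := by
    intro η hη
    have h1 : ∑ g, ‖(η : G → ℂ) g‖ ^ 2 = (Nat.card G : ℝ) := by
      have h := Char.classInner_irr_self η
      rw [classInner, inv_mul_eq_iff_eq_mul₀ (Nat.cast_ne_zero.2 Nat.card_pos.ne'), mul_one] at h
      simp only [Complex.mul_conj'] at h
      exact_mod_cast h
    rw [← h1, ← Finset.sum_subset (Finset.subset_univ (Finset.univ.image f)) (fun g _ hg => ?_),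
      Finset.sum_image hinj.injOn, Fintype.sum_prod_type, Finset.sum_mul, Finset.sum_mul]
    · refine Finset.sum_congr rfl fun u _ => ?_
      rw [Finset.sum_mul, Finset.mul_sum]
      refine Finset.sum_congr rfl fun y _ => ?_
      rw [← mul_pow, ← mul_pow, ← hθ1, ← norm_mul, ← norm_mul]
      exact congrArg (‖·‖ ^ 2) (apply_mul_of_mem hG hP hM hB hD hθ hθP hη u.2 y.2)
    · obtain ⟨z, hz⟩ := exists_pPart hp g
      have h0 : (η : G → ℂ) g = 0 := by
        refine apply_eq_zero_of_pPart_notMem hM hB hη hz fun D hD' => ?_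
        rw [eq_of_isDefectGroup hG hM hB hD hD']
        intro hzP
        obtain ⟨y, rfl, -, -, hy⟩ := hz
        exact hg (Finset.mem_image.2 ⟨(⟨z, hzP⟩, ⟨y, hy⟩), Finset.mem_univ _, rfl⟩)
      simp [h0]
  have h2 := hall θ hθ
  have h3 : ∑ u : P, ‖(θ : G → ℂ) u‖ ^ 2 = (Nat.card P : ℝ) * (charDegree (θ : G → ℂ) : ℝ) ^ 2 := by
    rw [Finset.sum_congr rfl fun u _ => by rw [hθP u u.2, hθ1], Finset.sum_const, Finset.card_univ,
      nsmul_eq_mul, Nat.card_eq_fintype_card]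
  rw [h3] at h2
  refine mul_right_cancel₀ (b := S) (fun h0 => ?_) ((hall χ hχ).symm.trans h2)
  rw [h0, mul_zero] at h2
  exact (mul_ne_zero (Nat.cast_ne_zero.2 Nat.card_pos.ne')
    (pow_ne_zero 2 (Nat.cast_ne_zero.2 (charDegree_pos θ).ne'))) h2

theorem charDegree_eq_mul {χ : IrrCharacter G} (hχ : χ ∈ B) {ψ : IrrCharacter P}
    (hψ : classInner (fun u : P => (χ : G → ℂ) u) (ψ : P → ℂ) ≠ 0) :
    charDegree (χ : G → ℂ) = charDegree (θ : G → ℂ) * charDegree (ψ : P → ℂ) := by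
  classical
  have hN := normal_of_sup_centralizer hG
  have horb : Finset.univ.image (Clifford.conjFn hN (ψ : P → ℂ)) = {(ψ : P → ℂ)} := by
    refine Finset.eq_singleton_iff_unique_mem.2
      ⟨Finset.mem_image.2 ⟨1, Finset.mem_univ _, Clifford.conjFn_one hN _⟩, fun φ hφ => ?_⟩
    obtain ⟨g, -, rfl⟩ := Finset.mem_image.1 hφ
    obtain ⟨w, hw, c, hc, rfl⟩ := exists_mul_of_sup_centralizer hG g
    funext u
    rw [Clifford.conjFn_apply, ← Char.IsIrr.isClassFunction ψ.2 u ⟨w, hw⟩]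
    refine congrArg (ψ : P → ℂ) (Subtype.ext ?_)
    show w * c * u * (w * c)⁻¹ = w * u * w⁻¹
    have h1 : (u : G) * c = c * u := Subgroup.mem_centralizer_iff.1 hc u u.2
    calc w * c * u * (w * c)⁻¹ = w * (c * u * c⁻¹) * w⁻¹ := by group
      _ = w * u * w⁻¹ := by rw [← h1, mul_inv_cancel_right]
  have h := Clifford.restrict_eq_smul_orbit_sum hN χ.2 ψ.2 hψ
  rw [horb, Finset.sum_singleton] at h
  obtain ⟨e, he⟩ := Char.IsChar.classInner_eq_natCast
    (Char.IsChar.restrict P (Char.IsIrr.isCharacter χ.2)) (Char.IsIrr.isCharacter ψ.2)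
  rw [he] at h
  have hsum : ((∑ u : P, ‖(χ : G → ℂ) u‖ ^ 2 : ℝ) : ℂ) = (Nat.card P : ℂ) * (e : ℂ) ^ 2 := by
    have h1 : classInner (fun u : P => (χ : G → ℂ) u) (fun u : P => (χ : G → ℂ) u) = (e : ℂ) ^ 2 := by
      rw [h, Char.classInner_smul_left, Char.classInner_smul_right, Char.classInner_irr_self,
        Complex.conj_natCast, mul_one, sq]
    rw [classInner, inv_mul_eq_iff_eq_mul₀ (Nat.cast_ne_zero.2 Nat.card_pos.ne')] at h1
    simp only [Complex.mul_conj'] at h1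
    rw [← h1]
    push_cast
    rfl
  rw [sum_norm_sq_restrict hG hP hM hB hD hθ hθP hχ] at hsum
  push_cast at hsum
  have hnat : charDegree (θ : G → ℂ) ^ 2 = e ^ 2 := by
    exact_mod_cast mul_left_cancel₀ (Nat.cast_ne_zero.2 Nat.card_pos.ne') hsum
  have h1 := congrFun h 1
  rw [Pi.smul_apply, smul_eq_mul, OneMemClass.coe_one, apply_one_eq_charDegree,
    apply_one_eq_charDegree, ← Nat.cast_mul] at h1
  rw [Nat.cast_injective h1, Nat.pow_left_injective two_ne_zero hnat]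

theorem exists_charDegree_eq_mul (ψ : IrrCharacter P) :
    ∃ χ ∈ B, charDegree (χ : G → ℂ) = charDegree (θ : G → ℂ) * charDegree (ψ : P → ℂ) := by
  classical
  suffices h : ∃ χ ∈ B, classInner (fun u : P => (χ : G → ℂ) u) (ψ : P → ℂ) ≠ 0 by
    obtain ⟨χ, hχ, h⟩ := h
    exact ⟨χ, hχ, charDegree_eq_mul hG hP hM hB hD hθ hθP hχ h⟩
  by_contra hcon
  push Not at hcon
  have h0 : ∀ χ ∈ (Set.toFinite B).toFinset,
      (χ : G → ℂ) 1 * ∑ u : P, (χ : G → ℂ) u * conj ((ψ : P → ℂ) u) = 0 := fun χ hχ => by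
    have h := hcon χ ((Set.Finite.mem_toFinset _).1 hχ)
    rw [classInner, mul_eq_zero] at h
    rw [h.resolve_left (inv_ne_zero (Nat.cast_ne_zero.2 Nat.card_pos.ne')), mul_zero]
  have h1 := Finset.sum_eq_zero h0
  simp only [Finset.mul_sum, ← mul_assoc] at h1
  rw [Finset.sum_comm, Finset.sum_eq_single (1 : P) (fun u _ hu => ?_) (by simp)] at h1
  · rw [← Finset.sum_mul, mul_eq_zero] at h1
    refine h1.elim (fun hs => ?_) (fun hs => Char.IsIrr.apply_one_ne_zero ψ.2 ?_)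
    · simp only [OneMemClass.coe_one, apply_one_eq_charDegree, ← Nat.cast_mul] at hs
      rw [← Nat.cast_sum, Nat.cast_eq_zero, Finset.sum_eq_zero_iff] at hs
      exact (Nat.mul_pos (charDegree_pos θ) (charDegree_pos θ)).ne'
        (hs θ ((Set.Finite.mem_toFinset _).2 hθ))
    · simpa using hs
  · rw [← Finset.sum_mul]
    refine mul_eq_zero_of_left ?_ _
    have hp : p.Prime := Fact.out
    have hu' : p ∣ orderOf (u : G) := by
      obtain ⟨j, hj⟩ := IsPGroup.iff_orderOf.1 hP u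
      rw [Subgroup.orderOf_coe, hj]
      refine dvd_pow_self p fun h => hu (orderOf_eq_one_iff.1 (by rw [hj, h, pow_zero]))
    rw [← finsum_mem_eq_finite_toFinset_sum (fun χ : IrrCharacter G =>
      (χ : G → ℂ) 1 * (χ : G → ℂ) u) (Set.toFinite B)]
    exact sum_block_regular_singular hM hB (by simp [hp.ne_one]) hu'

omit hG hP hM hB hD hθ hθP in
theorem exists_charDegree_ne_one {K : Type*} [Group K] [Finite K]
    (h : ¬ ∀ a b : K, a * b = b * a) : ∃ χ : IrrCharacter K, charDegree (χ : K → ℂ) ≠ 1 := by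
  classical
  by_contra hcon
  push Not at hcon
  have := Fintype.ofFinite (IrrCharacter K)
  refine h fun a b => ?_
  have hmem : a * b * a⁻¹ * b⁻¹ ∈ commutator K :=
    Subgroup.commutator_mem_commutator (Subgroup.mem_top a) (Subgroup.mem_top b)
  by_contra hne
  have h1 : a * b * a⁻¹ * b⁻¹ ≠ 1 := fun e => hne (by
    rw [mul_inv_eq_one, mul_inv_eq_iff_eq_mul] at e
    exact e)
  have h2 := Char.sum_degree_mul_apply_of_ne_one h1
  simp only [fun χ : IrrCharacter K =>
    (CharDegree.charDegree_eq_one_iff_commutator χ).1 (hcon χ) _ hmem] at h2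
  simp only [← sq] at h2
  rw [Char.sum_sq_degree] at h2
  exact Nat.card_pos.ne' (Nat.cast_eq_zero.1 h2)

end CfsgLib.Blocks
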