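import Cfsg.Agent.Lib.Blocks.QuotientBlocks
import Cfsg.Agent.Lib.Blocks.SecondMain
import Cfsg.Agent.Lib.Blocks.HeightZero

/-!
# Blocks with defect group `P` when `G = P C(P)`

Such a block contains one character `θ` inflated from `G ⧸ P`, of full defect there, and every member
satisfies `χ(uy) θ(1) = χ(u) θ(y)` for `u ∈ P` and `p`-regular `y`, and vanishes at elements with
`p`-part outside `P`.  Hence the restrictions to `P` separate the members and span the class
functions of `P`.
-/

namespace CfsgLib.Blocks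

open Cfsg MonoidAlgebra CfsgLib.Fusion
open scoped ComplexConjugate

variable {G : Type*} [Group G] {p : ℕ} {P : Subgroup G}
  (hG : P ⊔ Subgroup.centralizer (P : Set G) = ⊤)
include hG

theorem normal_of_sup_centralizer : P.Normal := by
  rw [← Subgroup.normalizer_eq_top_iff, eq_top_iff, ← hG]
  refine sup_le Subgroup.le_normalizer fun x hx => Subgroup.mem_normalizer_iff.2 fun a => ?_
  constructor
  · intro ha
    rwa [← Subgroup.mem_centralizer_iff.1 hx a ha, mul_inv_cancel_right]
  · intro ha
    have h := Subgroup.mem_centralizer_iff.1 hx _ ha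
    rw [inv_mul_cancel_right, mul_left_cancel_iff] at h
    rwa [← h] at ha

theorem exists_mul_of_sup_centralizer (x : G) :
    ∃ v ∈ P, ∃ c ∈ Subgroup.centralizer (P : Set G), v * c = x := by
  have := normal_of_sup_centralizer hG
  have hx : x ∈ P ⊔ Subgroup.centralizer (P : Set G) := hG.symm ▸ Subgroup.mem_top x
  exact Subgroup.mem_sup_of_normal_left.1 hx

variable [Fintype G] [Fact p.Prime] (hP : IsPGroup p P)
include hP

theorem exists_index_centralizer : ∃ k, (Subgroup.centralizer (P : Set G)).index = p ^ k := by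
  have := normal_of_sup_centralizer hG
  have h : (Subgroup.centralizer (P : Set G)).index ∣ Nat.card P := by
    rw [← Subgroup.relIndex_top_right, ← hG, Subgroup.relIndex_sup_right]
    exact Subgroup.relIndex_dvd_card _ _
  obtain ⟨n, hn⟩ := IsPGroup.iff_card.1 hP
  obtain ⟨k, -, hk⟩ := (Nat.dvd_prime_pow (Fact.out : p.Prime)).1 (hn ▸ h)
  exact ⟨k, hk⟩

omit [Fact p.Prime] in
theorem isConj_subtype_iff {u v : P} (h : IsConj (u : G) (v : G)) : IsConj u v := by
  obtain ⟨x, hx⟩ := isConj_iff.1 h
  obtain ⟨w, hw, c, hc, rfl⟩ := exists_mul_of_sup_centralizer hG x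
  refine isConj_iff.2 ⟨⟨w, hw⟩, Subtype.ext ?_⟩
  show w * (u : G) * w⁻¹ = v
  rw [← hx]
  have h1 : (u : G) * c = c * u := Subgroup.mem_centralizer_iff.1 hc u u.2
  calc w * (u : G) * w⁻¹ = w * (u * c * c⁻¹) * w⁻¹ := by group
    _ = w * (c * u * c⁻¹) * w⁻¹ := by rw [h1]
    _ = w * c * u * (w * c)⁻¹ := by group

omit [Fact p.Prime] hP in
theorem regular_conj_mem {y : G} (hy : y ∈ Subgroup.centralizer (P : Set G)) (x : G) :
    x * y * x⁻¹ ∈ Subgroup.centralizer (P : Set G) := by
  have := normal_of_sup_centralizer hG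
  exact (inferInstance : (Subgroup.centralizer (P : Set G)).Normal).conj_mem y hy x

variable {M : Ideal AlgInt} [M.IsPrime] (hM : IsPModular p M) {B : Set (IrrCharacter G)}
  (hB : IsPBlock M B) (hD : IsDefectGroup p M B P)
include hM hB hD

omit [Fact p.Prime] hP in
theorem eq_of_isDefectGroup [Fact p.Prime] {D : Subgroup G} (hD' : IsDefectGroup p M B D) :
    D = P := by
  have := normal_of_sup_centralizer hG
  obtain ⟨x, hx⟩ := IsDefectGroup.exists_conj hM hB hD hD'
  rw [← hx]
  refine Subgroup.eq_of_le_of_card_ge ?_ (card_map_conj x P).ge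
  rintro _ ⟨v, hv, rfl⟩
  exact Subgroup.Normal.conj_mem ‹_› v hv x

/-- The inflated member of the block, with its degree. -/
theorem exists_canonical :
    ∃ θ ∈ B, (∀ x ∈ P, (θ : G → ℂ) x = (θ : G → ℂ) 1) ∧
      (charDegree (θ : G → ℂ)).factorization p = P.index.factorization p := by
  have := normal_of_sup_centralizer hG
  have := Fintype.ofFinite (G ⧸ P)
  obtain ⟨k, hk⟩ := exists_index_centralizer hG hP
  obtain ⟨χ, hχ⟩ := exists_inflate_mem hM P hP hk hB
  refine ⟨inflate P χ, hχ, fun x hx => inflate_apply_of_mem P χ hx, le_antisymm ?_ ?_⟩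
  · have hd : charDegree (inflate P χ : G → ℂ) = charDegree (χ : G ⧸ P → ℂ) :=
      charDegree_eq (χ := inflate P χ) (by rw [inflate_apply, QuotientGroup.mk_one, apply_one_eq_charDegree])
    rw [hd]
    exact (Nat.factorization_le_iff_dvd (charDegree_pos χ).ne' Subgroup.index_ne_zero_of_finite).2
      (by rw [Subgroup.index_eq_card]; exact charDegree_dvd_card χ) p
  · obtain ⟨g, hg, hle, hs⟩ := isDefectGroup_iff.1 hD
    by_contra hlt
    refine IsDefectClass.centralCharBar_ne_zero hg hχ (centralCharBar_eq_zero_of_lt hM _ ?_)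
    refine lt_of_lt_of_eq (not_le.1 hlt) ?_
    have h1 := factorization_card_eq_index_add (p := p) hM (G := G) P
    have h2 := factorization_card_eq_index_add (p := p) hM (G := G) (Subgroup.centralizer ({g} : Set G))
    rw [show (Nat.card P).factorization p =
        (Nat.card (Subgroup.centralizer ({g} : Set G))).factorization p by
      rw [(isSylowIn_iff_card hle).1 hs]; simp [(Fact.out : p.Prime).factorization_self]] at h1
    omega

theorem blockOf_quotient_eq_singleton [P.Normal] [Fintype (G ⧸ P)] {χ : IrrCharacter (G ⧸ P)}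
    (hχ : inflate P χ ∈ B) : blockOf M (χ : G ⧸ P → ℂ) = {χ} := by
  refine blockOf_eq_singleton hM χ ?_
  obtain ⟨g, hg, hle, hs⟩ := isDefectGroup_iff.1 hD
  obtain ⟨q, hq⟩ := charDegree_dvd_card χ
  rw [hq, Nat.mul_div_cancel_left _ (charDegree_pos _)]
  have hd : charDegree (inflate P χ : G → ℂ) = charDegree (χ : G ⧸ P → ℂ) :=
    charDegree_eq (χ := inflate P χ) (by rw [inflate_apply, QuotientGroup.mk_one, apply_one_eq_charDegree])
  intro hpq
  have hq0 : q ≠ 0 := fun e => Nat.card_pos.ne' (by rw [hq, e, mul_zero])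
  have h0 : (charDegree (χ : G ⧸ P → ℂ)).factorization p + 1 ≤ P.index.factorization p := by
    rw [Subgroup.index_eq_card, hq, Nat.factorization_mul (charDegree_pos χ).ne' hq0,
      Finsupp.add_apply]
    exact Nat.add_le_add_left ((Fact.out : p.Prime).factorization_pos_of_dvd hq0 hpq) _
  refine IsDefectClass.centralCharBar_ne_zero hg hχ (centralCharBar_eq_zero_of_lt hM _ ?_)
  have h1 := factorization_card_eq_index_add (p := p) hM (G := G) P
  have h2 := factorization_card_eq_index_add (p := p) hM (G := G) (Subgroup.centralizer ({g} : Set G))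
  rw [show (Nat.card P).factorization p =
      (Nat.card (Subgroup.centralizer ({g} : Set G))).factorization p by
    rw [(isSylowIn_iff_card hle).1 hs]; simp [(Fact.out : p.Prime).factorization_self]] at h1
  rw [hd]; omega

theorem eq_of_trivial_on {θ θ' : IrrCharacter G} (hθ : θ ∈ B) (hθ' : θ' ∈ B)
    (h : ∀ x ∈ P, (θ : G → ℂ) x = (θ : G → ℂ) 1)
    (h' : ∀ x ∈ P, (θ' : G → ℂ) x = (θ' : G → ℂ) 1) : θ = θ' := by
  have := normal_of_sup_centralizer hG
  have := Fintype.ofFinite (G ⧸ P)
  obtain ⟨k, hk⟩ := exists_index_centralizer hG hP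
  obtain ⟨χ, rfl⟩ := exists_inflate_eq P θ h
  obtain ⟨χ', rfl⟩ := exists_inflate_eq P θ' h'
  have hs := sameBlock_of_inflate_of_pGroup hM P hP hk (IsPBlock.sameBlock hB hθ hθ')
  have hm : χ' ∈ blockOf M (χ : G ⧸ P → ℂ) := hs
  rw [blockOf_quotient_eq_singleton hG hP hM hB hD hθ, Set.mem_singleton_iff] at hm
  rw [hm]

variable {θ : IrrCharacter G} (hθ : θ ∈ B) (hθP : ∀ x ∈ P, (θ : G → ℂ) x = (θ : G → ℂ) 1)
include hθ hθP

/-- Class functions in the span of the block are proportional to `θ` on `p`-regular elements. -/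
theorem apply_regular_of_span {F : G → ℂ} (hF : IsClassFunction G F)
    (hFB : ∀ ψ : IrrCharacter G, ψ ∉ B → classInner F (ψ : G → ℂ) = 0) {y : G}
    (hy : ¬ p ∣ orderOf y) : F y * (θ : G → ℂ) 1 = F 1 * (θ : G → ℂ) y := by
  classical
  have := normal_of_sup_centralizer hG
  have := Fintype.ofFinite (G ⧸ P)
  have := Fintype.ofFinite (IrrCharacter G)
  obtain ⟨k, hk⟩ := exists_index_centralizer hG hP
  obtain ⟨χ, rfl⟩ := exists_inflate_eq P θ hθP
  have hreg : ∀ ψ : IrrCharacter G, ψ ∉ B →
      ∑ x ∈ Finset.univ.filter (fun x : G => ¬ p ∣ orderOf x), F x * conj ((ψ : G → ℂ) x) = 0 := by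
    intro ψ hψ
    simp only [Char.classFunction_apply_eq_sum hF, Finset.sum_mul, mul_assoc]
    rw [Finset.sum_comm]
    refine Finset.sum_eq_zero fun η _ => ?_
    rw [← Finset.mul_sum]
    by_cases hη : η ∈ B
    · rw [Finset.sum_congr rfl fun x _ => by rw [← Char.IsIrr.map_inv ψ.2],
        sum_regular_eq_zero hM fun hs => hψ (by rw [IsPBlock.eq_blockOf hB hη]; exact hs), mul_zero]
    · rw [hFB η hη, zero_mul]
  let Fq : G ⧸ P → ℂ := fun q =>
    ∑ x ∈ Finset.univ.filter (fun x : G => ¬ p ∣ orderOf x ∧ (x : G ⧸ P) = q), F x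
  have hFq : IsClassFunction (G ⧸ P) Fq := by
    intro q c
    obtain ⟨g, rfl⟩ := QuotientGroup.mk_surjective c
    refine (Finset.sum_equiv (MulAut.conj g).toEquiv (fun x => ?_) fun x _ => ?_).symm
    · simp only [Finset.mem_filter, Finset.mem_univ, true_and, MulEquiv.toEquiv_eq_coe,
        MulEquiv.coe_toEquiv, MulEquiv.orderOf_eq]
      refine and_congr_right fun _ => ⟨fun e => ?_, fun e => ?_⟩
      · rw [MulAut.conj_apply, QuotientGroup.mk_mul, QuotientGroup.mk_mul, QuotientGroup.mk_inv, e]
      · rw [MulAut.conj_apply, QuotientGroup.mk_mul, QuotientGroup.mk_mul,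
          QuotientGroup.mk_inv] at e
        exact mul_left_cancel (mul_right_cancel e)
    · exact (hF x g).symm
  have hinner : ∀ η : IrrCharacter (G ⧸ P), classInner Fq (η : G ⧸ P → ℂ) =
      (Nat.card (G ⧸ P) : ℂ)⁻¹ * ∑ x ∈ Finset.univ.filter (fun x : G => ¬ p ∣ orderOf x),
        F x * conj ((inflate P η : G → ℂ) x) := by
    intro η
    rw [classInner, ← Finset.sum_fiberwise (Finset.univ.filter fun x : G => ¬ p ∣ orderOf x)
      (fun x : G => (x : G ⧸ P))]
    congr 1
    refine Finset.sum_congr rfl fun q _ => ?_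
    simp only [Fq, Finset.sum_mul, Finset.filter_filter]
    refine Finset.sum_congr rfl fun x hx => ?_
    rw [inflate_apply, (Finset.mem_filter.1 hx).2.2]
  have hzero : ∀ η : IrrCharacter (G ⧸ P), η ≠ χ → classInner Fq (η : G ⧸ P → ℂ) = 0 := by
    intro η hη
    rw [hinner, hreg, mul_zero]
    intro hm
    exact hη (inflate_injective P (eq_of_trivial_on hG hP hM hB hD hm hθ
      (fun x hx => inflate_apply_of_mem P η hx) fun x hx => inflate_apply_of_mem P χ hx))
  have hprop : ∀ q, Fq q = classInner Fq (χ : G ⧸ P → ℂ) * (χ : G ⧸ P → ℂ) q := by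
    intro q
    have := Fintype.ofFinite (IrrCharacter (G ⧸ P))
    rw [Char.classFunction_apply_eq_sum hFq,
      Finset.sum_eq_single χ (fun η _ hη => by rw [hzero η hη, zero_mul]) (by simp)]
  have hval : ∀ x : G, ¬ p ∣ orderOf x → Fq x = F x := by
    intro x hx
    refine Finset.sum_eq_single x (fun z hz hne => ?_) (fun h => absurd (by simp [hx]) h)
    obtain ⟨-, hz1, hz2⟩ := Finset.mem_filter.1 hz
    refine absurd ?_ hne
    have hu : x⁻¹ * z ∈ P := QuotientGroup.eq.1 hz2.symm
    have := eq_one_of_regular_mul P hP hk hu hx (by rwa [mul_inv_cancel_left])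
    exact (inv_mul_eq_one.1 this).symm
  have h1 : ¬ p ∣ orderOf (1 : G) := by simp [(Fact.out : p.Prime).ne_one]
  rw [← hval y hy, ← hval 1 h1, hprop, hprop, inflate_apply, inflate_apply]
  ring

/-- Values on the sections of `P`. -/
theorem apply_mul_of_mem {χ : IrrCharacter G} (hχ : χ ∈ B) {u y : G} (hu : u ∈ P)
    (hy : ¬ p ∣ orderOf y) :
    (χ : G → ℂ) (u * y) * (θ : G → ℂ) 1 = (χ : G → ℂ) u * (θ : G → ℂ) y := by
  classical
  have := normal_of_sup_centralizer hG
  have := Fintype.ofFinite (IrrCharacter G)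
  obtain ⟨k, hk⟩ := exists_index_centralizer hG hP
  set C := Subgroup.centralizer (P : Set G)
  let g : G → ℂ := fun x => if x ∈ C then (χ : G → ℂ) (u * x) else 0
  have hg : IsClassFunction G g := by
    intro x h
    simp only [g]
    by_cases hx : x ∈ C
    · rw [if_pos hx, if_pos (regular_conj_mem hG hx h)]
      obtain ⟨w, hw, c, hc, rfl⟩ := exists_mul_of_sup_centralizer hG h
      have h1 : (u : G) * c = c * u := Subgroup.mem_centralizer_iff.1 hc u hu
      have h2 : (c * x * c⁻¹) ∈ C := mul_mem (mul_mem hc hx) (inv_mem hc)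
      have h3 : w * (c * x * c⁻¹) * w⁻¹ = c * x * c⁻¹ := by
        rw [Subgroup.mem_centralizer_iff.1 h2 w hw, mul_inv_cancel_right]
      rw [show w * c * x * (w * c)⁻¹ = w * (c * x * c⁻¹) * w⁻¹ by group, h3,
        show u * (c * x * c⁻¹) = c * (u * x) * c⁻¹ by
          rw [← mul_assoc, ← mul_assoc, h1]; group,
        Char.IsIrr.isClassFunction χ.2]
    · rw [if_neg hx, if_neg]
      intro hm
      have := regular_conj_mem hG hm h⁻¹
      exact hx (by simpa [mul_assoc] using this)
  have heC : ∀ w, w ∉ C → (blockIdem B).coeff w = 0 := fun w hw => by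
    rw [coeff_blockIdem]
    exact blockCoeff_eq_zero_of_dvd hM hB
      (by_contra fun h => hw (mem_centralizer_of_regular P hP hk h))
  have hge : ∀ x, g x = ∑ w, (blockIdem B).coeff w * g (w * x) := by
    intro x
    by_cases hx : x ∈ C
    · rw [Finset.sum_congr rfl (g := fun w => (blockIdem B).coeff w * (χ : G → ℂ) (w * (u * x)))
        fun w _ => ?_]
      · rw [sum_apply_mul_eq_omega, omega_mul χ (isCentralElt_blockIdem B), omega_blockIdem,
          if_pos hχ, one_mul, omega_apply]
        simp [g, hx, coeff_single, Finsupp.single_apply,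
          mul_div_cancel₀ _ (Char.IsIrr.apply_one_ne_zero χ.2)]
      · by_cases hw : w ∈ C
        · simp only [g, if_pos (mul_mem hw hx)]
          rw [← mul_assoc w u, ← Subgroup.mem_centralizer_iff.1 hw u hu, mul_assoc]
        · rw [heC w hw, zero_mul, zero_mul]
    · rw [Finset.sum_eq_zero fun w _ => ?_]
      · exact if_neg hx
      · by_cases hw : w ∈ C
        · rw [show g (w * x) = 0 from if_neg fun h => hx (by
            simpa using mul_mem (inv_mem hw) h), mul_zero]
        · rw [heC w hw, zero_mul]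
  have hgB : ∀ ψ : IrrCharacter G, ψ ∉ B → classInner g (ψ : G → ℂ) = 0 := by
    intro ψ hψ
    rw [classInner]
    refine mul_eq_zero_of_right _ ?_
    calc ∑ x, g x * conj ((ψ : G → ℂ) x)
        = ∑ x, ∑ w, (blockIdem B).coeff w * g (w * x) * conj ((ψ : G → ℂ) x) := by
          exact Finset.sum_congr rfl fun x _ => by rw [hge x, Finset.sum_mul]
      _ = ∑ z, g z * ∑ w, (blockIdem B).coeff w * (ψ : G → ℂ) (w * z⁻¹) := by
          rw [Finset.sum_comm]
          simp only [Finset.mul_sum]
          conv_rhs => rw [Finset.sum_comm]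
          refine Finset.sum_congr rfl fun w _ => ?_
          refine Fintype.sum_equiv (Equiv.mulLeft w) _ _ fun x => ?_
          rw [Equiv.coe_mulLeft, ← Char.IsIrr.map_inv ψ.2,
            show w * (w * x)⁻¹ = w * x⁻¹ * w⁻¹ by group, Char.IsIrr.isClassFunction ψ.2]
          ring
      _ = 0 := Finset.sum_eq_zero fun z _ => by
          rw [sum_apply_mul_eq_omega, omega_mul ψ (isCentralElt_blockIdem B), omega_blockIdem,
            if_neg hψ, zero_mul, mul_zero, mul_zero]
  have h := apply_regular_of_span hG hP hM hB hD hθ hθP hg hgB hy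
  simp only [g] at h
  rw [if_pos (show y ∈ C from mem_centralizer_of_regular P hP hk hy), if_pos (one_mem C), mul_one] at h
  exact h

/-- The members correspond in number to the classes of `P`. -/
theorem card_eq_card_conjClasses : Nat.card B = Nat.card (ConjClasses P) := by
  classical
  have := normal_of_sup_centralizer hG
  have := Fintype.ofFinite (IrrCharacter G)
  have := Fintype.ofFinite (ConjClasses P)
  have hpart : ∀ v : P, IsPPart p (v : G) (v : G) := fun v => ⟨1, mul_one _, Commute.one_right _,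
    by obtain ⟨j, hj⟩ := IsPGroup.iff_orderOf.1 hP v; exact ⟨j, by rw [Subgroup.orderOf_coe, hj]⟩,
    by simp [(Fact.out : p.Prime).ne_one]⟩
  have hout : ∀ v : P, IsConj (v : G) ((Quotient.out (ConjClasses.mk v) : P) : G) := fun v => by
    have h : ConjClasses.mk (Quotient.out (ConjClasses.mk v) : P) = ConjClasses.mk v := Quotient.out_eq _
    obtain ⟨x, hx⟩ := isConj_iff.1 (ConjClasses.mk_eq_mk_iff_isConj.1 h.symm)
    exact isConj_iff.2 ⟨x, congrArg Subtype.val hx⟩
  let L : (B → ℂ) →ₗ[ℂ] (ConjClasses P → ℂ) :=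
    { toFun := fun a C => ∑ χ : B, a χ * (χ.1 : G → ℂ) ((Quotient.out C : P) : G)
      map_add' := fun a b => funext fun C => by simp [add_mul, Finset.sum_add_distrib]
      map_smul' := fun c a => funext fun C => by simp [mul_assoc, Finset.mul_sum] }
  have hL : Function.Injective L := by
    rw [← LinearMap.ker_eq_bot, LinearMap.ker_eq_bot']
    intro a ha
    have hP0 : ∀ v : P, ∑ χ : B, a χ * (χ.1 : G → ℂ) (v : G) = 0 := fun v => by
      have h := congrFun ha (ConjClasses.mk v)
      change ∑ χ : B, a χ * (χ.1 : G → ℂ) ((Quotient.out (ConjClasses.mk v) : P) : G) = 0 at h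
      rw [← h]
      exact Finset.sum_congr rfl fun χ _ => by
        rw [Char.isClassFunction_iff_isConj.1 (Char.IsIrr.isClassFunction χ.1.2) _ _ (hout v)]
    have hall : ∀ g : G, ∑ χ : B, a χ * (χ.1 : G → ℂ) g = 0 := by
      intro g
      obtain ⟨z, hz⟩ := exists_pPart hM.1 g
      by_cases hzP : z ∈ P
      · obtain ⟨y, rfl, -, -, hy⟩ := hz
        refine mul_right_cancel₀ (Char.IsIrr.apply_one_ne_zero θ.2) ?_
        rw [Finset.sum_mul, Finset.sum_congr rfl fun χ _ => by
          rw [mul_assoc, apply_mul_of_mem hG hP hM hB hD hθ hθP χ.2 hzP hy, ← mul_assoc],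
          ← Finset.sum_mul, hP0 ⟨z, hzP⟩, zero_mul, zero_mul]
      · refine Finset.sum_eq_zero fun χ _ => ?_
        rw [apply_eq_zero_of_pPart_notMem hM hB χ.2 hz
          (fun D hD' => (eq_of_isDefectGroup hG hM hB hD hD').symm ▸ hzP), mul_zero]
    funext χ₀
    have h : classInner (fun g => ∑ χ : B, a χ * (χ.1 : G → ℂ) g) (χ₀.1 : G → ℂ) = a χ₀ := by
      rw [show (fun g => ∑ χ : B, a χ * (χ.1 : G → ℂ) g) = ∑ χ : B, a χ • (χ.1 : G → ℂ) by
          funext g; simp,
        Char.classInner_sum_left, Finset.sum_eq_single χ₀ (fun χ _ hne => ?_) (by simp)]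
      · rw [Char.classInner_smul_left, Char.classInner_irr_self, mul_one]
      · rw [Char.classInner_smul_left, Char.classInner_irr_of_ne fun e => hne (Subtype.ext e),
          mul_zero]
    rw [funext hall] at h
    rw [Pi.zero_apply, ← h]
    simp [classInner]
  let L' : (ConjClasses P → ℂ) →ₗ[ℂ] (B → ℂ) :=
    { toFun := fun c χ => ∑ C, c C * conj ((χ.1 : G → ℂ) ((Quotient.out C : P) : G))
      map_add' := fun a b => funext fun C => by simp [add_mul, Finset.sum_add_distrib]
      map_smul' := fun c a => funext fun C => by simp [mul_assoc, Finset.mul_sum] }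
  have hL' : Function.Injective L' := by
    rw [← LinearMap.ker_eq_bot, LinearMap.ker_eq_bot']
    intro c hc
    funext C₀
    have h0 : L (L' c) C₀ = 0 := by simp [hc]
    change ∑ χ : B, (∑ C, c C * conj ((χ.1 : G → ℂ) ((Quotient.out C : P) : G))) *
      (χ.1 : G → ℂ) ((Quotient.out C₀ : P) : G) = 0 at h0
    simp only [Finset.sum_mul] at h0
    rw [Finset.sum_comm, Finset.sum_eq_single C₀ (fun C _ hC => ?_) (by simp)] at h0
    · simp only [mul_assoc, Complex.conj_mul', ← Finset.mul_sum] at h0
      refine (mul_eq_zero.1 h0).resolve_right fun hs => ?_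
      obtain ⟨ξ, hξ, hξ0⟩ := exists_height_zero (p := p) (IsPBlock.nonempty hB)
      obtain ⟨u, ⟨z, hz, hzc⟩, hne⟩ := (exists_apply_ne_zero_iff hM hB hD hξ hξ0
        (x := ((Quotient.out C₀ : P) : G))
        (by obtain ⟨j, hj⟩ := IsPGroup.iff_orderOf.1 hP (Quotient.out C₀ : P)
            exact ⟨j, by rw [Subgroup.orderOf_coe, hj]⟩)).1
        ⟨1, by simp⟩
      obtain ⟨y, rfl, -, -, hy⟩ := hz
      have hzP : z ∈ P := by
        obtain ⟨x, hx⟩ := isConj_iff.1 hzc
        exact hx ▸ (normal_of_sup_centralizer hG).conj_mem _ (SetLike.coe_mem _) x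
      have hne0 : (ξ : G → ℂ) z ≠ 0 := fun e => by
        have h := apply_mul_of_mem hG hP hM hB hD hθ hθP hξ hzP hy
        rw [e, zero_mul] at h
        exact hne ((mul_eq_zero.1 h).resolve_right (Char.IsIrr.apply_one_ne_zero θ.2))
      rw [← Char.isClassFunction_iff_isConj.1 (Char.IsIrr.isClassFunction ξ.2) _ _ hzc] at hne0
      have hs' : ∑ χ : B, ‖(χ.1 : G → ℂ) ((Quotient.out C₀ : P) : G)‖ ^ 2 = 0 := by exact_mod_cast hs
      have h2 := (Finset.sum_eq_zero_iff_of_nonneg fun _ _ => by positivity).1 hs' ⟨ξ, hξ⟩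
        (Finset.mem_univ _)
      exact hne0 (norm_eq_zero.1 (pow_eq_zero_iff two_ne_zero |>.1 h2))
    · simp only [mul_assoc, ← Finset.mul_sum]
      refine mul_eq_zero_of_right _ ?_
      have h := sum_block_apply_mul_eq_zero hM hB (hpart (Quotient.out C₀)) (hpart (Quotient.out C))
        fun hcj => hC (by
          have h' := ConjClasses.mk_eq_mk_iff_isConj.2 (isConj_subtype_iff hG hP hcj)
          rw [← Quotient.out_eq C, ← Quotient.out_eq C₀]
          exact h'.symm)
      rw [finsum_mem_eq_finite_toFinset_sum _ (Set.toFinite B)] at h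
      rw [← Finset.sum_subtype (Set.toFinite B).toFinset (by simp)
        (fun χ : IrrCharacter G => conj ((χ : G → ℂ) ((Quotient.out C : P) : G)) *
          (χ : G → ℂ) ((Quotient.out C₀ : P) : G))]
      refine Eq.trans (Finset.sum_congr rfl fun χ _ => ?_) h
      rw [Char.IsIrr.map_inv χ.2, mul_comm]
  have h1 := LinearMap.finrank_le_finrank_of_injective hL
  have h2 := LinearMap.finrank_le_finrank_of_injective hL'
  rw [Module.finrank_fintype_fun_eq_card, Module.finrank_fintype_fun_eq_card] at h1 h2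
  rw [Nat.card_eq_fintype_card, Nat.card_eq_fintype_card]
  omega

end CfsgLib.Blocks
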