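import Cfsg.Agent.Lib.Blocks.Covering
import Cfsg.Agent.Lib.Blocks.FirstMain

/-!
# The extended first main theorem

Blocks of `L = P C(P)` inducing a block `B` with defect group `P` have defect group `P`, and any two
of them are conjugate under `N(P)`: both are covered by the correspondent of `B` in `N(P)`.
-/

namespace CfsgLib.Blocks

open Cfsg MonoidAlgebra CfsgLib.Fusion

variable {M : Ideal AlgInt} [M.IsPrime]

theorem centralCharBar_pullEquiv {K L : Type*} [Group K] [Group L] [Fintype K] [Fintype L]
    (e : K ≃* L) (χ : IrrCharacter L) (x : K) :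
    centralCharBar M (pullEquiv e χ) x = centralCharBar M χ (e x) :=
  congrArg (resHom M) (Subtype.ext (centralChar_pullEquiv e χ x))

/-- Transport of reduced central characters along an isomorphism. -/
theorem omegaBar_pullEquiv {K L : Type*} [Group K] [Group L] [Fintype K] [Fintype L]
    (e : K ≃* L) (χ : IrrCharacter L) {a : MonoidAlgebra (Res M) K} (ha : IsCentralElt a)
    {c : MonoidAlgebra (Res M) L} (hac : ∀ x, a.coeff x = c.coeff (e x)) :
    omegaBar (pullEquiv e χ) a = omegaBar χ c := by
  obtain ⟨b, hb, rfl⟩ := exists_central_lift ha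
  let b' : MonoidAlgebra (localRing M) L := ofFun fun y => b.coeff (e.symm y)
  have hb' : IsCentralElt b' := fun g h => by simp [b', hb (e.symm g) (e.symm h)]
  have hc : red M b' = c := by
    refine MonoidAlgebra.ext (Finsupp.ext fun y => ?_)
    rw [coeff_red, coeff_ofFun, ← coeff_red, hac, MulEquiv.apply_symm_apply]
  rw [← hc, omegaBar_red _ hb, omegaBar_red _ hb']
  congr 1
  refine Subtype.ext ?_
  show omega (pullEquiv e χ : K → ℂ) (inc M b) = omega (χ : L → ℂ) (inc M b')
  rw [omega_apply, omega_apply, pullEquiv_apply, map_one]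
  congr 1
  refine Fintype.sum_equiv e.toEquiv _ _ fun x => ?_
  simp [b']

variable {G : Type*} [Group G] [Fintype G] {p : ℕ} [Fact p.Prime] (hM : IsPModular p M)
include hM

/-- A block of `L` inducing a block with defect group `P ⊴ L` has defect group `P`. -/
theorem isDefectGroup_of_induced_le {P L : Subgroup G} [Fintype L] (hPL : P ≤ L)
    (hLN : L ≤ Subgroup.normalizer (P : Set G))
    {b : Set (IrrCharacter L)} {B : Set (IrrCharacter G)} (h : IsInducedBlock M L b B)
    (hBP : IsDefectGroup p M B P) : IsDefectGroup p M b (P.subgroupOf L) := by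
  have : (P.subgroupOf L).Normal := (Subgroup.normal_subgroupOf_iff_le_normalizer hPL).2 hLN
  obtain ⟨hb, hB, -⟩ := isInducedBlock_iff.1 h
  obtain ⟨Db, hDb⟩ := exists_isDefectGroup (p := p) hb
  have hle := IsDefectGroup.normal_le hM hb hDb (P := P.subgroupOf L)
    ((IsDefectGroup.isPGroup hBP).comap_of_injective _ (Subgroup.subtype_injective _))
  obtain ⟨E, hE, hDE⟩ := IsInducedBlock.defectGroup_le hM h hDb
  have h1 : Nat.card Db ≤ Nat.card (P.subgroupOf L) := by
    rw [card_subgroupOf_eq hPL,
      ← Nat.card_congr (Db.equivMapOfInjective _ (Subgroup.subtype_injective _)).symm.toEquiv]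
    exact (Nat.le_of_dvd Nat.card_pos (Subgroup.card_dvd_of_le hDE)).trans
      (Nat.le_of_dvd Nat.card_pos (IsDefectGroup.subConj hM hB hE hBP).card_dvd)
  rwa [Subgroup.eq_of_le_of_card_ge hle h1]

/-- A block of `L` inducing `B` is covered by a block of `N(P)` inducing `B`. -/
theorem exists_cover_normalizer {P L : Subgroup G} [Fintype L]
    [Fintype (Subgroup.normalizer (P : Set G))]
    [Fintype (L.subgroupOf (Subgroup.normalizer (P : Set G)))] (hP : IsPGroup p P) (hPL : P ≤ L)
    (hCL : Subgroup.centralizer (P : Set G) ≤ L) (hLN : L ≤ Subgroup.normalizer (P : Set G))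
    [(L.subgroupOf (Subgroup.normalizer (P : Set G))).Normal]
    {b : Set (IrrCharacter L)} {B : Set (IrrCharacter G)} (h : IsInducedBlock M L b B)
    {θ : IrrCharacter L} (hθ : θ ∈ b) :
    ∃ χ : IrrCharacter (Subgroup.normalizer (P : Set G)),
      classInner (fun n : L.subgroupOf (Subgroup.normalizer (P : Set G)) =>
          (χ : Subgroup.normalizer (P : Set G) → ℂ) n)
        (pullEquiv (Subgroup.subgroupOfEquivOfLe hLN) θ :
          L.subgroupOf (Subgroup.normalizer (P : Set G)) → ℂ) ≠ 0 ∧
      IsInducedBlock M (Subgroup.normalizer (P : Set G))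
        (blockOf M (χ : Subgroup.normalizer (P : Set G) → ℂ)) B := by
  classical
  obtain ⟨hb, hB, hh⟩ := isInducedBlock_iff.1 h
  obtain ⟨χ, hχ⟩ := exists_irr_over _ (pullEquiv (Subgroup.subgroupOfEquivOfLe hLN) θ)
  obtain ⟨ψ, hψ⟩ := IsPBlock.nonempty hB
  refine ⟨χ, hχ, isInducedBlock_of_rep (isPBlock_blockOf χ) hB (mem_blockOf_self χ) hψ
    fun a ha => ?_⟩
  have := charP_residueField hM
  have hc := isCentralElt_brauerMap (H := Subgroup.normalizer (P : Set G)) (P := P) le_rfl ha
  rw [omegaBar_resElt_eq_brauerMap hM hP Subgroup.le_normalizer le_rfl χ ha,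
    omegaBar_eq_omegaBar_resElt _ hχ hc (fun g hg => by
      rw [coeff_brauerMap, if_neg]
      exact fun hgc => hg (hCL hgc)),
    omegaBar_pullEquiv _ θ (isCentralElt_resElt _ hc) (c := brauerMap P L a) (fun x => by
      rw [coeff_resElt, coeff_brauerMap, coeff_brauerMap]; rfl),
    ← omegaBar_resElt_eq_brauerMap hM hP hPL hLN θ ha]
  exact hh θ hθ ψ hψ a ha

end CfsgLib.Blocks
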