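import Cfsg.Agent.Lib.Blocks.ExtendedFirst

/-!
# Blocks of `L` inducing the same block are conjugate

For `P ≤ L ≤ N(P)` with `C(P) ≤ L`, two blocks of `L` inducing a block with defect group `P` are
conjugate under `N(P)`, which is assumed to normalize `L`.
-/

namespace CfsgLib.Blocks

open Cfsg MonoidAlgebra

variable {G : Type*} [Group G] [Fintype G] {p : ℕ} [Fact p.Prime] {M : Ideal AlgInt} [M.IsPrime]
  (hM : IsPModular p M)
include hM

theorem exists_normalizer_conj_root {P L : Subgroup G} [Fintype L] (hPL : P ≤ L)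
    (hCL : Subgroup.centralizer (P : Set G) ≤ L) (hLN : L ≤ Subgroup.normalizer (P : Set G))
    (hnorm : (L.subgroupOf (Subgroup.normalizer (P : Set G))).Normal)
    {B : Set (IrrCharacter G)} (hP : IsDefectGroup p M B P) {b b' : Set (IrrCharacter L)}
    (hb : IsInducedBlock M L b B) (hb' : IsInducedBlock M L b' B) :
    ∃ n ∈ Subgroup.normalizer (P : Set G), ∃ c : L ≃* L,
      (∀ x, (c x : G) = n * (x : G) * n⁻¹) ∧ b' = pullEquiv c '' b := by
  classical
  have hPp := IsDefectGroup.isPGroup hP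
  have := Fintype.ofFinite (Subgroup.normalizer (P : Set G))
  have := Fintype.ofFinite (L.subgroupOf (Subgroup.normalizer (P : Set G)))
  obtain ⟨θ, hθ⟩ := IsPBlock.nonempty hb.1
  obtain ⟨θ', hθ'⟩ := IsPBlock.nonempty hb'.1
  obtain ⟨χ, hχ, hi⟩ := exists_cover_normalizer hM hPp hPL hCL hLN hb hθ
  obtain ⟨χ', hχ', hi'⟩ := exists_cover_normalizer hM hPp hPL hCL hLN hb' hθ'
  have heq := eq_of_isInducedBlock_normalizer hM hPp hi hi'
    (isDefectGroup_normalizer_of_induced hM hPp hi hP)
    (isDefectGroup_normalizer_of_induced hM hPp hi' hP)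
  have hs : SameBlock M (χ : Subgroup.normalizer (P : Set G) → ℂ)
      (χ' : Subgroup.normalizer (P : Set G) → ℂ) := by
    have h := mem_blockOf_self (M := M) χ'
    rw [← heq] at h
    exact h
  obtain ⟨n, hn⟩ := exists_conj_of_sameBlock _ hs hχ hχ'
  let e := Subgroup.subgroupOfEquivOfLe hLN
  let c : L ≃* L := e.symm.trans ((MulAut.conjNormal n).trans e)
  refine ⟨n, n.2, c, fun x => rfl, ?_⟩
  rw [IsPBlock.eq_blockOf hb.1 hθ, image_pullEquiv_blockOf]
  have h := Set.mem_image_of_mem (pullEquiv e.symm) hn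
  rw [image_pullEquiv_blockOf] at h
  refine IsPBlock.eq_of_mem hb'.1 (isPBlock_blockOf _) hθ' ?_
  have e1 : pullEquiv e.symm (pullEquiv e θ') = θ' := Subtype.ext (funext fun x => by simp)
  have e2 : pullEquiv e.symm (conjIrr _ n (pullEquiv e θ)) = pullEquiv c θ :=
    Subtype.ext (funext fun x => rfl)
  rw [e1, e2] at h
  exact h

end CfsgLib.Blocks
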