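import Cfsg.Agent.Lib.Blocks.SubsectionNorms
import Cfsg.Agent.Lib.Blocks.Principal
import Cfsg.Agent.Lib.Blocks.Kernel
import Cfsg.Agent.Lib.CharAction.BrauerFeit
import Cfsg.Agent.Lib.TwoGroups.KleinSylow
import Cfsg.Agent.Lib.Transfer.PResidual

/-!
# The principal 2-block with a Klein four Sylow 2-subgroup and one class of involutions
-/

namespace CfsgLib.Blocks

open Cfsg CfsgLib.Char CfsgLib.CharAction
open scoped ComplexConjugate Classical

universe u

variable {G : Type u} [Group G] [Fintype G]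

/-- Values at involutions are rational integers. -/
theorem exists_int_apply_of_orderOf_two (χ : IrrCharacter G) {z : G} (hz : orderOf z = 2) :
    ∃ k : ℤ, (χ : G → ℂ) z = (k : ℂ) := by
  obtain ⟨χ, n, ρ, hρ, rfl⟩ := χ
  obtain ⟨b, μ, -, hpow, -, hsum, -⟩ := CfsgLib.CharIntegral.exists_eigenbasis_apply ρ z
  have h : ∀ i, ∃ k : ℤ, μ i = (k : ℂ) := fun i => by
    have h2 := hpow i
    rw [hz, pow_two, mul_self_eq_one_iff] at h2
    rcases h2 with h2 | h2
    · exact ⟨1, by rw [h2, Int.cast_one]⟩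
    · exact ⟨-1, by rw [h2, Int.cast_neg, Int.cast_one]⟩
  choose k hk using h
  refine ⟨∑ i, k i, ?_⟩
  show ρ.character z = _
  rw [hsum, Int.cast_sum]
  exact Finset.sum_congr rfl fun i _ => hk i

variable (P : Sylow 2 G) (hP : IsKleinFour (P : Subgroup G))
  (hone : ∀ s t : G, orderOf s = 2 → orderOf t = 2 → IsConj s t)
include hP

theorem orderOf_eq_two_of_mem_klein {g : G} (hg : g ∈ (P : Subgroup G)) (hg1 : g ≠ 1) :
    orderOf g = 2 := by
  have h := Monoid.pow_exponent_eq_one (⟨g, hg⟩ : (P : Subgroup G))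
  rw [hP.exponent_two] at h
  exact orderOf_eq_prime (congrArg Subtype.val h) hg1

theorem exists_mem_klein_ne_one : ∃ z : G, z ∈ (P : Subgroup G) ∧ orderOf z = 2 := by
  have hne : (P : Subgroup G) ≠ ⊥ := fun e => by
    have h := hP.card_four
    rw [e, Subgroup.card_bot] at h
    omega
  obtain ⟨⟨g, hg⟩, hg'⟩ := Subgroup.ne_bot_iff_exists_ne_one.1 hne
  have hg1 : g ≠ 1 := fun e => hg' (Subtype.ext e)
  exact ⟨g, hg, orderOf_eq_two_of_mem_klein P hP hg hg1⟩

theorem commute_of_mem_klein {a b : G} (ha : a ∈ (P : Subgroup G)) (hb : b ∈ (P : Subgroup G)) :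
    a * b = b * a := by
  have h := fun w : (P : Subgroup G) => hP.exponent_two ▸ Monoid.pow_exponent_eq_one w
  have hinv : ∀ w : (P : Subgroup G), w⁻¹ = w := fun w => inv_eq_of_mul_eq_one_right (by
    rw [← pow_two]; exact h w)
  have := hinv (⟨a, ha⟩ * ⟨b, hb⟩)
  rw [mul_inv_rev, hinv, hinv] at this
  exact (congrArg Subtype.val this).symm

/-- The centralizer of an involution of `P` has a normal `2`-complement of index four. -/
theorem exists_complement_centralizer {z : G} (hzP : z ∈ (P : Subgroup G)) (hz : orderOf z = 2) :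
    ∃ (N : Subgroup (Subgroup.centralizer ({z} : Set G))) (_ : N.Normal), ¬ 2 ∣ Nat.card N ∧
      N.index = 2 ^ 2 ∧
      ∀ y : Subgroup.centralizer ({z} : Set G), ¬ 2 ∣ orderOf y ↔ y ∈ N := by
  have : Fact (Nat.Prime 2) := ⟨Nat.prime_two⟩
  have hle : (P : Subgroup G) ≤ Subgroup.centralizer ({z} : Set G) := fun a ha =>
    mem_centralizer_singleton.2 (commute_of_mem_klein P hP ha hzP)
  let P' : Sylow 2 (Subgroup.centralizer ({z} : Set G)) := P.subtype hle
  let e : (P' : Subgroup (Subgroup.centralizer ({z} : Set G))) ≃* (P : Subgroup G) :=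
    Subgroup.subgroupOfEquivOfLe hle
  have hP' : IsKleinFour (P' : Subgroup (Subgroup.centralizer ({z} : Set G))) :=
    ⟨by rw [Nat.card_congr e.toEquiv]; exact hP.card_four,
      by rw [Monoid.exponent_eq_of_mulEquiv e]; exact hP.exponent_two⟩
  have hz1 : z ≠ 1 := fun h => by rw [h, orderOf_one] at hz; omega
  have hc := CfsgLib.TwoGroups.hasNormalPComplement_klein_central P' hP'
    (z := ⟨z, hle hzP⟩) (by exact hzP) (fun h => hz1 (congrArg Subtype.val h))
    fun g => Subtype.ext (mem_centralizer_singleton.1 g.2).eq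
  obtain ⟨N, hN, hNP⟩ := (CfsgLib.Transfer.exists_complement_iff P').2 hc
  have hindex : N.index = 4 := by
    have h1 := hNP.card_mul
    rw [← N.card_mul_index, hP'.card_four] at h1
    exact (Nat.eq_of_mul_eq_mul_left Nat.card_pos h1).symm
  have hodd : ¬ 2 ∣ Nat.card N := by
    have h1 := hNP.card_mul
    rw [← (P' : Subgroup (Subgroup.centralizer ({z} : Set G))).card_mul_index, mul_comm] at h1
    rw [Nat.eq_of_mul_eq_mul_left Nat.card_pos h1]
    exact P'.not_dvd_index
  refine ⟨N, hN, hodd, hindex, fun y => ⟨fun hy => ?_, fun hy hd =>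
    hodd (hd.trans (Subgroup.orderOf_dvd_natCard _ hy))⟩⟩
  have h1 : orderOf (QuotientGroup.mk' N y) ∣ 4 := by
    have := orderOf_dvd_natCard (QuotientGroup.mk' N y)
    rwa [← Subgroup.index_eq_card, hindex] at this
  have h2 : orderOf (QuotientGroup.mk' N y) ∣ orderOf y := orderOf_map_dvd _ y
  have h3 : orderOf (QuotientGroup.mk' N y) = 1 := Nat.eq_one_of_dvd_coprimes
    (((Nat.Prime.coprime_iff_not_dvd Nat.prime_two).2 hy).pow_left 2) (by simpa using h1) h2
  exact (QuotientGroup.eq_one_iff y).1 (orderOf_eq_one_iff.1 h3)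

theorem two_part_eq_two : (Nat.card G).factorization 2 = 2 := by
  have : Fact (Nat.Prime 2) := ⟨Nat.prime_two⟩
  have h := P.card_eq_multiplicity
  rw [hP.card_four] at h
  exact (Nat.pow_right_injective le_rfl (a₁ := 2) (a₂ := (Nat.card G).factorization 2)
    (by simpa using h)).symm

include hone

/-- Degree and value at an involution agree modulo four. -/
theorem four_dvd_sub_apply (χ : IrrCharacter G) {z : G} (hz : orderOf z = 2) {k : ℤ}
    (hk : (χ : G → ℂ) z = (k : ℂ)) : (4 : ℤ) ∣ (charDegree (χ : G → ℂ) : ℤ) - k := by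
  have hres : IsCharacter (P : Subgroup G) (fun h : (P : Subgroup G) => (χ : G → ℂ) h) :=
    Char.IsChar.restrict _ (Char.IsIrr.isCharacter χ.2)
  obtain ⟨n, hn⟩ := Char.IsChar.classInner_eq_natCast hres
    (Char.IsIrr.isCharacter (Char.trivChar (P : Subgroup G)).2)
  have hval : ∀ h : (P : Subgroup G), h ≠ 1 → (χ : G → ℂ) h = (k : ℂ) := by
    intro h hh
    obtain ⟨c, hc⟩ := isConj_iff.1
      (hone z h hz (orderOf_eq_two_of_mem_klein P hP h.2 fun e => hh (Subtype.ext e)))
    rw [← hc, Char.IsIrr.isClassFunction χ.2, hk]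
  have hcard : (Finset.univ.erase (1 : (P : Subgroup G))).card = 3 := by
    rw [Finset.card_erase_of_mem (Finset.mem_univ _), Finset.card_univ, ← Nat.card_eq_fintype_card,
      hP.card_four]
  rw [classInner, hP.card_four, ← Finset.add_sum_erase Finset.univ _ (Finset.mem_univ 1),
    Finset.sum_congr rfl (g := fun _ => (k : ℂ)) fun h hh => by
      rw [hval h (Finset.ne_of_mem_erase hh), Char.trivChar_apply, map_one, mul_one],
    Finset.sum_const, hcard, Char.trivChar_apply, map_one, mul_one, OneMemClass.coe_one,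
    apply_one_eq_charDegree, nsmul_eq_mul] at hn
  push_cast at hn
  refine ⟨(n : ℤ) - k, ?_⟩
  have h4 : ((charDegree (χ : G → ℂ) : ℤ) : ℂ) - (k : ℂ) = 4 * (((n : ℤ) : ℂ) - (k : ℂ)) := by
    push_cast
    rw [inv_mul_eq_iff_eq_mul₀ (by norm_num : (4 : ℂ) ≠ 0)] at hn
    linear_combination hn
  exact_mod_cast h4

variable {M : Ideal AlgInt} [M.IsPrime] (hM : IsPModular 2 M)
include hM

/-- Principal block characters are constant on the section of an involution. -/
theorem apply_mul_eq_apply {z : G} (hzP : z ∈ (P : Subgroup G)) (hz : orderOf z = 2)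
    {χ : IrrCharacter G} (hχ : χ ∈ principalBlock M G)
    {y : Subgroup.centralizer ({z} : Set G)} (hy : ¬ 2 ∣ orderOf y) :
    (χ : G → ℂ) (z * (y : G)) = (χ : G → ℂ) z := by
  have : Fact (Nat.Prime 2) := ⟨Nat.prime_two⟩
  obtain ⟨N, hN, hodd, -, hmem⟩ := exists_complement_centralizer P hP hzP hz
  exact apply_mul_eq_of_mem_principalBlock hM ⟨1, by rw [hz, pow_one]⟩ hχ hodd ((hmem y).1 hy)

theorem sum_sq_eq_four {z : G} (hzP : z ∈ (P : Subgroup G)) (hz : orderOf z = 2) :
    ∑ χ ∈ (Set.toFinite (principalBlock M G)).toFinset, ‖(χ : G → ℂ) z‖ ^ 2 = 4 := by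
  have : Fact (Nat.Prime 2) := ⟨Nat.prime_two⟩
  have := Fintype.ofFinite (IrrCharacter (Subgroup.centralizer ({z} : Set G)))
  obtain ⟨N, hN, hodd, hindex, -⟩ := exists_complement_centralizer P hP hzP hz
  have h := sum_principalBlock_norm_sq hM (x := z) ⟨1, by rw [hz, pow_one]⟩
    (y := (1 : Subgroup.centralizer ({z} : Set G))) (by simp)
  rw [OneMemClass.coe_one, mul_one, finsum_mem_eq_finite_toFinset_sum _ (Set.toFinite _),
    finsum_mem_eq_finite_toFinset_sum _ (Set.toFinite _)] at h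
  rw [h]
  have h2 := sum_degree_sq_trivial N
  rw [hindex] at h2
  have h3 : (Set.toFinite (principalBlock M (Subgroup.centralizer ({z} : Set G)))).toFinset =
      Finset.univ.filter (fun ψ : IrrCharacter (Subgroup.centralizer ({z} : Set G)) =>
        ∀ n ∈ N, (ψ : Subgroup.centralizer ({z} : Set G) → ℂ) n =
          (ψ : Subgroup.centralizer ({z} : Set G) → ℂ) 1) := by
    ext ψ
    rw [Set.Finite.mem_toFinset, principalBlock_eq_of_complement N hM hodd hindex]
    simp
  rw [h3, Finset.sum_congr rfl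
    (g := fun ψ : IrrCharacter (Subgroup.centralizer ({z} : Set G)) =>
      ((charDegree (ψ : Subgroup.centralizer ({z} : Set G) → ℂ) ^ 2 : ℕ) : ℝ)) fun ψ _ => by
      rw [apply_one_eq_charDegree, Complex.norm_natCast, Nat.cast_pow], ← Nat.cast_sum, h2]
  norm_num

/-- The signs of the principal block at an involution. -/
theorem principal_signs {z : G} (hzP : z ∈ (P : Subgroup G)) (hz : orderOf z = 2) :
    Nat.card (principalBlock M G) = 4 ∧
      ∀ χ ∈ principalBlock M G, ∃ ε : ℤ, (ε = 1 ∨ ε = -1) ∧ (χ : G → ℂ) z = (ε : ℂ) ∧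
        (4 : ℤ) ∣ (charDegree (χ : G → ℂ) : ℤ) - ε := by
  have : Fact (Nat.Prime 2) := ⟨Nat.prime_two⟩
  have := Fintype.ofFinite (IrrCharacter G)
  set B := principalBlock M G
  have hB : IsPBlock M B := isPBlock_principalBlock
  have ht : Char.trivChar G ∈ B := trivChar_mem_principalBlock
  set A := (Set.toFinite B).toFinset with hA
  have hmem : ∀ χ, χ ∈ A ↔ χ ∈ B := fun χ => Set.Finite.mem_toFinset _
  have hkex := fun χ : IrrCharacter G => exists_int_apply_of_orderOf_two χ hz
  choose k hk using hkex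
  have hdeg1 : charDegree ((Char.trivChar G : IrrCharacter G) : G → ℂ) = 1 := by
    have h := apply_one_eq_charDegree (Char.trivChar G)
    rw [Char.trivChar_apply] at h
    exact_mod_cast h.symm
  have hmin : sInf ((fun χ : IrrCharacter G => (charDegree (χ : G → ℂ)).factorization 2) '' B) = 0 :=
    Nat.eq_zero_of_le_zero (Nat.sInf_le ⟨_, ht, by simp [hdeg1]⟩)
  have hh : ∀ χ : IrrCharacter G,
      blockHeight 2 B (χ : G → ℂ) = (charDegree (χ : G → ℂ)).factorization 2 := fun χ => by
    rw [blockHeight, hmin, Nat.sub_zero]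
  have hd : blockDefect 2 B = 2 := by
    rw [blockDefect, hmin, Nat.sub_zero, two_part_eq_two P hP]
  have hBF := four_mul_sum_height_le (G := G) hM hB
  rw [hd] at hBF
  have hsum : ∑ χ ∈ A, 2 ^ (2 * (charDegree (χ : G → ℂ)).factorization 2) ≤ 5 := by
    rw [Finset.sum_congr (s₂ := Finset.univ.filter (· ∈ B)) (by ext; simp [hmem])
      (g := fun χ : IrrCharacter G => 2 ^ (2 * blockHeight 2 B (χ : G → ℂ))) fun χ _ => by rw [hh]]
    omega
  have hnorm : ∑ χ ∈ A, k χ ^ 2 = 4 := by
    have h := sum_sq_eq_four P hP hone hM hzP hz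
    simp only [← hA, hk, Complex.norm_intCast] at h
    have : ((∑ χ ∈ A, k χ ^ 2 : ℤ) : ℝ) = ((4 : ℤ) : ℝ) := by
      push_cast
      rw [← h]
      exact Finset.sum_congr rfl fun χ _ => (sq_abs _).symm
    exact_mod_cast this
  have hcong : ∀ χ : IrrCharacter G, (4 : ℤ) ∣ (charDegree (χ : G → ℂ) : ℤ) - k χ :=
    fun χ => four_dvd_sub_apply P hP hone χ hz (hk χ)
  have horth : ∑ χ ∈ A, (charDegree (χ : G → ℂ) : ℤ) * k χ = 0 := by
    have h := sum_block_regular_singular hM hB (x := (1 : G)) (y := z) (by simp) (by rw [hz])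
    rw [finsum_mem_eq_finite_toFinset_sum _ (Set.toFinite B), ← hA] at h
    simp only [apply_one_eq_charDegree, hk] at h
    exact_mod_cast h
  have ht1 : k (Char.trivChar G) = 1 := by
    have h := hk (Char.trivChar G)
    rw [Char.trivChar_apply] at h
    exact_mod_cast h.symm
  have hallodd : ∀ χ ∈ A, ¬ 2 ∣ charDegree (χ : G → ℂ) := by
    intro χ₀ hχ₀ h2
    have hbig : 4 ≤ 2 ^ (2 * (charDegree (χ₀ : G → ℂ)).factorization 2) := by
      have : 1 ≤ (charDegree (χ₀ : G → ℂ)).factorization 2 :=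
        Nat.Prime.factorization_pos_of_dvd Nat.prime_two (charDegree_pos χ₀).ne' h2
      calc 4 = 2 ^ 2 := by norm_num
        _ ≤ _ := Nat.pow_le_pow_right (by norm_num) (by omega)
    have hothers : ∀ χ ∈ A, χ ≠ Char.trivChar G → 2 ∣ charDegree (χ : G → ℂ) := by
      intro χ hχ hne
      by_contra hodd
      have hsub : ({χ₀, Char.trivChar G, χ} : Finset (IrrCharacter G)) ⊆ A := by
        intro w hw
        simp only [Finset.mem_insert, Finset.mem_singleton] at hw
        rcases hw with rfl | rfl | rfl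
        · exact hχ₀
        · exact (hmem _).2 ht
        · exact hχ
      have hle := (Finset.sum_le_sum_of_subset
        (f := fun χ : IrrCharacter G => 2 ^ (2 * (charDegree (χ : G → ℂ)).factorization 2)) hsub).trans hsum
      have h01 : χ₀ ≠ Char.trivChar G := fun e => by rw [e, hdeg1] at h2; omega
      have h02 : χ₀ ≠ χ := fun e => hodd (e ▸ h2)
      rw [Finset.sum_insert (by simp [h01, h02]), Finset.sum_insert (by simp [Ne.symm hne]),
        Finset.sum_singleton] at hle
      have e1 : 1 ≤ 2 ^ (2 * (charDegree (χ : G → ℂ)).factorization 2) :=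
        Nat.one_le_pow _ _ (by norm_num)
      have e2 : 1 ≤ 2 ^ (2 * (charDegree ((Char.trivChar G : IrrCharacter G) : G → ℂ)).factorization 2) :=
        Nat.one_le_pow _ _ (by norm_num)
      omega
    rw [← Finset.add_sum_erase A _ ((hmem _).2 ht), hdeg1, ht1] at horth
    have heven : (2 : ℤ) ∣ ∑ χ ∈ A.erase (Char.trivChar G), (charDegree (χ : G → ℂ) : ℤ) * k χ :=
      Finset.dvd_sum fun χ hχ => Dvd.dvd.mul_right (by
        exact_mod_cast hothers χ (Finset.mem_of_mem_erase hχ) (Finset.ne_of_mem_erase hχ)) _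
    omega
  have hkodd : ∀ χ ∈ A, k χ % 2 = 1 ∧ 1 ≤ k χ ^ 2 := by
    intro χ hχ
    have h1 := hallodd χ hχ
    obtain ⟨c, hc⟩ := hcong χ
    have h2 : k χ % 2 = 1 := by omega
    refine ⟨h2, ?_⟩
    have hne : k χ ≠ 0 := fun e => by rw [e] at h2; omega
    nlinarith [Int.one_le_abs hne, sq_abs (k χ)]
  have hcardle : A.card ≤ 4 := by
    have h := Finset.card_nsmul_le_sum A (fun χ => k χ ^ 2) 1 fun χ hχ => (hkodd χ hχ).2
    rw [hnorm] at h
    simp only [nsmul_eq_mul, mul_one] at h
    exact_mod_cast h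
  have hone' : ∀ χ ∈ A, k χ = 1 ∨ k χ = -1 := by
    intro χ hχ
    by_contra hcon
    have h9 : 9 ≤ k χ ^ 2 := by
      have h2 := (hkodd χ hχ).1
      push Not at hcon
      have : 3 ≤ |k χ| := by
        by_contra hlt
        have := abs_lt.1 (not_le.1 hlt)
        omega
      nlinarith [sq_abs (k χ)]
    have h := Finset.single_le_sum (f := fun χ => k χ ^ 2) (fun w _ => sq_nonneg (k w)) hχ
    rw [hnorm] at h
    linarith
  refine ⟨?_, fun χ hχ => ⟨k χ, hone' χ ((hmem _).2 hχ), hk χ, hcong χ⟩⟩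
  have h : ∑ χ ∈ A, k χ ^ 2 = ∑ _χ ∈ A, (1 : ℤ) := Finset.sum_congr rfl fun χ hχ => by
    rcases hone' χ hχ with e | e <;> rw [e] <;> norm_num
  rw [hnorm, Finset.sum_const, nsmul_eq_mul, mul_one] at h
  rw [Nat.card_coe_set_eq, Set.ncard_eq_toFinset_card B (Set.toFinite B), ← hA]
  exact_mod_cast h.symm

/-- The principal block has regular rank three. -/
theorem blockRank_eq_three : blockRank 2 (principalBlock M G) = 3 := by
  have : Fact (Nat.Prime 2) := ⟨Nat.prime_two⟩
  obtain ⟨z, hzP, hz⟩ := exists_mem_klein_ne_one P hP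
  obtain ⟨hk4, hsign⟩ := principal_signs P hP hone hM hzP hz
  obtain ⟨N, hN, hodd, hindex, hmem⟩ := exists_complement_centralizer P hP hzP hz
  set A := (Set.toFinite (principalBlock M G)).toFinset with hA
  have hA4 : A.card = 4 := by
    rw [← hk4, Nat.card_coe_set_eq, Set.ncard_eq_toFinset_card _ (Set.toFinite _)]
  let f : G → ℂ := fun g => ∑ χ ∈ A, (χ : G → ℂ) g * conj ((χ : G → ℂ) g)
  have hf : IsClassFunction G f := fun g h => Finset.sum_congr rfl fun χ _ => by
    rw [Char.IsIrr.isClassFunction χ.2 g h]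
  have htot : ∑ g, f g = 4 * (Nat.card G : ℂ) := by
    rw [Finset.sum_comm, Finset.sum_congr rfl (g := fun _ => (Nat.card G : ℂ)) fun χ _ => ?_,
      Finset.sum_const, hA4, nsmul_eq_mul]
    · norm_num
    · have h := Char.classInner_irr_self χ
      rw [classInner, inv_mul_eq_one₀ (Nat.cast_ne_zero.2 Nat.card_pos.ne')] at h
      exact h.symm
  have hreg : ∑ g ∈ Finset.univ.filter (fun g : G => ¬ 2 ∣ orderOf g), f g =
      (Nat.card G : ℂ) * (blockRank 2 (principalBlock M G) : ℂ) := by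
    rw [card_mul_blockRank hM isPBlock_principalBlock, Finset.sum_filter]
    refine Finset.sum_congr rfl fun g _ => ?_
    rw [finsum_mem_eq_finite_toFinset_sum _ (Set.toFinite _)]
    simp only [f, ← hA, pRegularPart_eq_regCut, regCut]
    by_cases hg : 2 ∣ orderOf g
    · simp [hg]
    · rw [if_pos hg]
      exact Finset.sum_congr rfl fun χ _ => by rw [if_neg hg, Char.IsIrr.map_inv χ.2]
  have hsec : ∀ g : G, 2 ∣ orderOf g ↔ ∃ u, IsPPart 2 g u ∧ IsConj u z := by
    intro g
    refine ⟨fun hg => ?_, fun ⟨u, hu, huz⟩ => (IsPPart.dvd_orderOf_iff hM.1 hu).2 fun e => ?_⟩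
    · obtain ⟨u, hu⟩ := exists_pPart hM.1 g
      have hu1 : u ≠ 1 := (IsPPart.dvd_orderOf_iff hM.1 hu).1 hg
      obtain ⟨m, -, -, k, hk⟩ := IsPPart.exists_exponent hM.1 hu
      obtain ⟨Q, hQ⟩ := (IsPGroup.of_card (n := k) (by rw [Nat.card_zpowers, hk]) :
        IsPGroup 2 (Subgroup.zpowers u)).exists_le_sylow
      obtain ⟨c, hc⟩ := MulAction.exists_smul_eq G Q P
      have hmemP : c * u * c⁻¹ ∈ (P : Subgroup G) := by
        rw [← hc, Sylow.coe_subgroup_smul]
        exact ⟨u, hQ (Subgroup.mem_zpowers u), by simp⟩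
      have h2 := orderOf_eq_two_of_mem_klein P hP hmemP fun e => hu1 (conj_eq_one_iff.1 e)
      refine ⟨u, hu, hone u z ?_ hz⟩
      rw [← h2]
      exact (MulEquiv.orderOf_eq (MulAut.conj c) u).symm
    · rw [e] at huz
      rw [isConj_one_right.1 huz, orderOf_one] at hz
      omega
  have hsing : ∑ g ∈ Finset.univ.filter (fun g : G => 2 ∣ orderOf g), f g = (Nat.card G : ℂ) := by
    refine mul_left_cancel₀ (Nat.cast_ne_zero.2
      (Nat.card_pos (α := Subgroup.centralizer ({z} : Set G))).ne' :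
        (Nat.card (Subgroup.centralizer ({z} : Set G)) : ℂ) ≠ 0) ?_
    rw [Finset.sum_congr (s₂ := Finset.univ.filter fun g : G => ∃ u, IsPPart 2 g u ∧ IsConj u z)
      (by ext g; simp [hsec g]) fun _ _ => rfl, sum_section ⟨1, by rw [hz, pow_one]⟩ hf,
      Finset.sum_congr rfl (g := fun _ => (4 : ℂ)) fun y hy => ?_, Finset.sum_const,
      nsmul_eq_mul, mul_comm (Nat.card (Subgroup.centralizer ({z} : Set G)) : ℂ)]
    · congr 1
      have hNc : (Finset.univ.filter fun y : Subgroup.centralizer ({z} : Set G) => ¬ 2 ∣ orderOf y).card =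
          Nat.card N := by
        rw [Nat.card_eq_fintype_card, Fintype.card_subtype]
        exact Finset.card_bij' (fun y _ => y) (fun y _ => y) (fun y hy => by
          simpa [hmem] using hy) (fun y hy => by simpa [hmem] using hy) (fun _ _ => rfl) fun _ _ => rfl
      rw [hNc, ← N.card_mul_index, hindex]
      push_cast
      norm_num
    · simp only [f]
      rw [Finset.sum_congr rfl (g := fun _ => (1 : ℂ)) fun χ hχ => ?_, Finset.sum_const, hA4]
      · norm_num
      · obtain ⟨ε, hε, hv, -⟩ := hsign χ ((Set.Finite.mem_toFinset _).1 hχ)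
        rw [apply_mul_eq_apply P hP hone hM hzP hz ((Set.Finite.mem_toFinset _).1 hχ)
          (Finset.mem_filter.1 hy).2, hv, map_intCast]
        rcases hε with e | e <;> simp [e]
  have h := Finset.sum_filter_add_sum_filter_not Finset.univ (fun g : G => ¬ 2 ∣ orderOf g) f
  simp only [not_not] at h
  rw [hreg, hsing, htot] at h
  have h' : (Nat.card G : ℂ) * (blockRank 2 (principalBlock M G) : ℂ) = (Nat.card G : ℂ) * 3 := by
    linear_combination h
  exact_mod_cast mul_left_cancel₀ (Nat.cast_ne_zero.2 Nat.card_pos.ne') h'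

end CfsgLib.Blocks
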