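import Cfsg.Agent.Lib.Blocks.Kernel
import Mathlib.GroupTheory.QuotientGroup.Basic

/-!
# Inflation of irreducible characters
-/

namespace CfsgLib.Blocks

open Cfsg

variable {G : Type*} [Group G] (N : Subgroup G) [N.Normal]

/-- Inflation of an irreducible character of a quotient. -/
def inflate (χ : IrrCharacter (G ⧸ N)) : IrrCharacter G :=
  ⟨(χ : G ⧸ N → ℂ) ∘ QuotientGroup.mk,
    Char.IsIrr.comp_surjective (QuotientGroup.mk' N) (QuotientGroup.mk'_surjective N) χ.2⟩

@[simp]
theorem inflate_apply (χ : IrrCharacter (G ⧸ N)) (g : G) :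
    (inflate N χ : G → ℂ) g = (χ : G ⧸ N → ℂ) g := rfl

theorem inflate_injective : Function.Injective (inflate N) := fun χ ψ h =>
  Subtype.ext (funext fun q => QuotientGroup.induction_on q fun g =>
    congrFun (congrArg Subtype.val h) g)

theorem inflate_apply_of_mem (χ : IrrCharacter (G ⧸ N)) {n : G} (hn : n ∈ N) :
    (inflate N χ : G → ℂ) n = (inflate N χ : G → ℂ) 1 := by
  rw [inflate_apply, inflate_apply, (QuotientGroup.eq_one_iff n).2 hn, QuotientGroup.mk_one]

/-- A character with `N` in its kernel is inflated from the quotient. -/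
theorem exists_inflate_eq [Fintype G] (χ : IrrCharacter G)
    (h : ∀ n ∈ N, (χ : G → ℂ) n = (χ : G → ℂ) 1) :
    ∃ χ' : IrrCharacter (G ⧸ N), inflate N χ' = χ := by
  obtain ⟨χ, d, ρ, hρ, rfl⟩ := χ
  have hker : N ≤ ρ.ker := fun n hn => MonoidHom.mem_ker.2 (by
    have h1 : ρ.character n = ρ.character 1 := h n hn
    rw [ρ.char_one, CharIntegral.character_eq_finrank_iff] at h1
    exact h1)
  let σ : Representation ℂ (G ⧸ N) (Fin d → ℂ) := QuotientGroup.lift N ρ hker
  have hσ : ∀ g : G, σ (g : G ⧸ N) = ρ g := fun g => rfl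
  let e : Subrepresentation σ ≃o Subrepresentation ρ :=
    { toFun := fun S => ⟨S.toSubmodule, fun g v hv => S.apply_mem_toSubmodule (g : G ⧸ N) hv⟩
      invFun := fun S => ⟨S.toSubmodule, fun q v hv =>
        QuotientGroup.induction_on q fun g => S.apply_mem_toSubmodule g hv⟩
      left_inv := fun S => rfl
      right_inv := fun S => rfl
      map_rel_iff' := Iff.rfl }
  have : IsSimpleOrder (Subrepresentation ρ) := hρ
  exact ⟨⟨σ.character, d, σ, e.isSimpleOrder, rfl⟩, Subtype.ext (funext fun g => rfl)⟩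

end CfsgLib.Blocks
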