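import Cfsg.Agent.Lib.Blocks.CoveringDefect
import Cfsg.Agent.Lib.Blocks.Induced
import Cfsg.Agent.Lib.Char.CliffordCorr

/-!
# The Harris–Knörr correspondence

For a normal subgroup `N` and a `p`-subgroup `Q` of `N`, the blocks of `N(Q)` covering a block of
`N ∩ N(Q)` with defect group `Q` correspond under induction to the blocks covering the induced block.
-/

namespace CfsgLib.Blocks

open Cfsg CfsgLib.Char CfsgLib.Fusion MonoidAlgebra

variable {M : Ideal AlgInt} [M.IsPrime]

section Transport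

variable {G : Type*} [Group G] [Fintype G]

omit [M.IsPrime] in
theorem isPBlock_image_pullEquiv {K L : Type*} [Group K] [Group L] (e : K ≃* L)
    {B : Set (IrrCharacter L)} (hB : IsPBlock M B) : IsPBlock M (pullEquiv e '' B) := by
  obtain ⟨θ, rfl⟩ := hB
  exact ⟨_, image_pullEquiv_blockOf M e θ⟩

omit [M.IsPrime] in
theorem image_pullEquiv_symm_image {K L : Type*} [Group K] [Group L] (e : K ≃* L)
    (B : Set (IrrCharacter L)) : pullEquiv e.symm '' (pullEquiv e '' B) = B := by
  rw [Set.image_image]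
  have : ∀ χ : IrrCharacter L, pullEquiv e.symm (pullEquiv e χ) = χ := fun χ =>
    Subtype.ext (funext fun x => by simp)
  simp only [this, Set.image_id']

/-- Induction commutes with isomorphisms. -/
theorem isInducedBlock_transport {G' : Type*} [Group G'] [Fintype G'] (Φ : G ≃* G')
    {H : Subgroup G} [Fintype H] {H' : Subgroup G'} [Fintype H'] (φ : H ≃* H')
    (hφ : ∀ h : H, (φ h : G') = Φ h) {b : Set (IrrCharacter H')} {B : Set (IrrCharacter G')}
    (h : IsInducedBlock M H' b B) :
    IsInducedBlock M H (pullEquiv φ '' b) (pullEquiv Φ '' B) := by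
  obtain ⟨hb, hB, hall⟩ := isInducedBlock_iff.1 h
  obtain ⟨ξ, hξ⟩ := IsPBlock.nonempty hb
  obtain ⟨χ, hχ⟩ := IsPBlock.nonempty hB
  refine isInducedBlock_of_rep (isPBlock_image_pullEquiv φ hb) (isPBlock_image_pullEquiv Φ hB)
    ⟨ξ, hξ, rfl⟩ ⟨χ, hχ, rfl⟩ fun a ha => ?_
  let a' : MonoidAlgebra (Res M) G' := ofFun fun y => a.coeff (Φ.symm y)
  have ha' : IsCentralElt a' := fun g x => by
    simp only [a', coeff_ofFun, map_mul, map_inv]
    exact ha _ _
  rw [omegaBar_pullEquiv φ ξ (isCentralElt_resElt H ha) (c := resElt H' a') fun x => ?_,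
    omegaBar_pullEquiv Φ χ ha (c := a') fun x => ?_]
  · exact hall ξ hξ χ hχ a' ha'
  · simp [a']
  · simp [a', hφ]

/-- Induction is transitive. -/
theorem isInducedBlock_trans_equiv {H : Subgroup G} [Fintype H] {U : Subgroup H} [Fintype U]
    {W : Subgroup G} [Fintype W] (φ : W ≃* U) (hφ : ∀ w : W, ((φ w : H) : G) = w)
    {b : Set (IrrCharacter U)} {c : Set (IrrCharacter H)} {B : Set (IrrCharacter G)}
    (h1 : IsInducedBlock M U b c) (h2 : IsInducedBlock M H c B) :
    IsInducedBlock M W (pullEquiv φ '' b) B := by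
  obtain ⟨hb, hc, hbc⟩ := isInducedBlock_iff.1 h1
  obtain ⟨-, hB, hcB⟩ := isInducedBlock_iff.1 h2
  obtain ⟨ξ, hξ⟩ := IsPBlock.nonempty hb
  obtain ⟨ψ, hψ⟩ := IsPBlock.nonempty hc
  obtain ⟨χ, hχ⟩ := IsPBlock.nonempty hB
  refine isInducedBlock_of_rep (isPBlock_image_pullEquiv φ hb) hB ⟨ξ, hξ, rfl⟩ hχ fun a ha => ?_
  rw [omegaBar_pullEquiv φ ξ (isCentralElt_resElt W ha) (c := resElt U (resElt H a))
      fun x => by simp [hφ],
    hbc ξ hξ ψ hψ _ (isCentralElt_resElt H ha), hcB ψ hψ χ hχ a ha]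

omit [M.IsPrime] [Fintype G] in
/-- Induction inside an intermediate subgroup is induction in that group. -/
theorem isInducedBlock_of_in {N L : Subgroup G} {W : Subgroup N} (φ : W ≃* L)
    (hφ : ∀ w : W, (φ w : G) = ((w : N) : G)) {e : Set (IrrCharacter L)}
    {d : Set (IrrCharacter N)} (h : IsInducedBlockIn M N L e d) :
    IsInducedBlock M W (pullEquiv φ '' e) d := by
  obtain ⟨he, hd, hall⟩ := h
  refine ⟨isPBlock_image_pullEquiv φ he, hd, ?_⟩
  rintro _ ⟨ξ, hξ, rfl⟩ χ hχ n
  have hind : inducedCentralChar W (pullEquiv φ ξ : W → ℂ) n =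
      inducedCentralCharIn N L (ξ : L → ℂ) (n : G) := by
    unfold inducedCentralCharIn inducedCentralChar
    refine finsum_mem_eq_of_bijOn φ ⟨fun k hk => ?_, φ.injective.injOn, fun k hk => ?_⟩
      fun k _ => ?_
    · obtain ⟨y, hy⟩ := isConj_iff.1 (show IsConj n (k : N) from hk)
      refine ⟨y⁻¹, ?_⟩
      rw [hφ, ← hy]
      simp [mul_assoc]
    · obtain ⟨y, hy⟩ := hk
      refine ⟨φ.symm k, show IsConj n ((φ.symm k : W) : N) from
        isConj_iff.2 ⟨y⁻¹, Subtype.ext ?_⟩, φ.apply_symm_apply k⟩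
      simp only [Subgroup.coe_mul, Subgroup.coe_inv, inv_inv, ← hy]
      rw [← hφ (φ.symm k), φ.apply_symm_apply]
      group
    · rw [pullEquiv_apply, pullEquiv_apply, map_one]
  rw [hind]
  exact hall ξ hξ χ hχ n

end Transport

section Correspondence

variable {G : Type*} [Group G] [Fintype G] (N : Subgroup G) [hN : N.Normal] [Fintype N]
  {p : ℕ} [Fact p.Prime]

omit [Fact p.Prime] in
/-- A block induced from `H` covers the block induced inside `N` from a covered one. -/
theorem covers_of_induced {H : Subgroup G} [Fintype H] [Fintype (N.subgroupOf H)]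
    {W : Subgroup N} [Fintype W] (ε : N.subgroupOf H ≃* W)
    (hε : ∀ k : N.subgroupOf H, ((ε k : N) : G) = ((k : H) : G)) {c : Set (IrrCharacter H)}
    {e : Set (IrrCharacter W)} (hcov : Covers (N.subgroupOf H) c (pullEquiv ε '' e))
    {B : Set (IrrCharacter G)} {d : Set (IrrCharacter N)} (hind : IsInducedBlock M H c B)
    (hed : IsInducedBlock M W e d) : Covers N B d := by
  classical
  obtain ⟨ψ, hψ, _, ⟨ξ, hξ, rfl⟩, hne⟩ := hcov
  obtain ⟨-, hB, hall⟩ := isInducedBlock_iff.1 hind
  obtain ⟨-, hd, hall'⟩ := isInducedBlock_iff.1 hed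
  obtain ⟨χ, hχ⟩ := IsPBlock.nonempty hB
  obtain ⟨θ, hθ⟩ := IsPBlock.nonempty hd
  obtain ⟨η, hη⟩ := exists_constituent N χ
  obtain ⟨g, hg⟩ := exists_conj_mem_blockOf (M := M) N (θ := θ) (ψ := η) fun a ha => by
    have hin := isCentralElt_insideElt N ha
    have hout := fun g (hg : g ∉ N) => coeff_insideElt_of_notMem N a hg
    conv_rhs => rw [← resElt_insideElt N a, ← omegaBar_eq_omegaBar_resElt N hη hin hout,
      ← hall ψ hψ χ hχ _ hin, omegaBar_eq_omegaBar_resElt (N.subgroupOf H) hne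
        (isCentralElt_resElt H hin) fun h hh => by
          rw [coeff_resElt]; exact hout _ fun hc => hh (Subgroup.mem_subgroupOf.2 hc),
      omegaBar_pullEquiv ε ξ (isCentralElt_resElt _ (isCentralElt_resElt H hin))
        (c := resElt W (resElt N a)) fun k => by
          rw [coeff_resElt, coeff_resElt, coeff_resElt, coeff_resElt, hε, insideElt, coeff_ofFun,
            Set.indicator_of_mem (Subgroup.mem_subgroupOf.1 k.2)],
      hall' ξ hξ θ hθ _ (isCentralElt_resElt N ha)]
  refine ⟨χ, hχ, conjIrr N g⁻¹ η, ?_, by rwa [classInner_conjIrr]⟩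
  rw [IsPBlock.eq_blockOf hd hθ]
  have h1 : conjIrr N g⁻¹ η ∈ conjIrr N g⁻¹ '' blockOf M (conjIrr N g θ : N → ℂ) := ⟨η, hg, rfl⟩
  rwa [image_conjIrr_blockOf, ← conjIrr_mul, mul_inv_cancel,
    conjIrr_of_mem N N.one_mem θ] at h1

variable (hM : IsPModular p M) {Q : Subgroup G} (hQ : IsPGroup p Q) (hQN : Q ≤ N)
  [Fintype (Subgroup.normalizer (Q : Set G))]
  [Fintype (N.subgroupOf (Subgroup.normalizer (Q : Set G)))]
  [Fintype (Subgroup.normalizer ((Q.subgroupOf N : Subgroup N) : Set N))]
  (ε : N.subgroupOf (Subgroup.normalizer (Q : Set G)) ≃*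
    Subgroup.normalizer ((Q.subgroupOf N : Subgroup N) : Set N))
  (hε : ∀ k, ((ε k : N) : G) = ((k : Subgroup.normalizer (Q : Set G)) : G))
  {e : Set (IrrCharacter (Subgroup.normalizer ((Q.subgroupOf N : Subgroup N) : Set N)))}
  {d : Set (IrrCharacter N)}
  (hdQ : IsDefectGroup p M d (Q.subgroupOf N))
  (hed : IsInducedBlock M (Subgroup.normalizer ((Q.subgroupOf N : Subgroup N) : Set N)) e d)

omit [Fintype (N.subgroupOf (Subgroup.normalizer (Q : Set G)))]
  [Fintype (Subgroup.normalizer ((Q.subgroupOf N : Subgroup N) : Set N))] in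
include hM hQ hQN in
/-- Defect groups of blocks of `N(Q)` inducing a block that covers `d` meet `N` in `Q`. -/
theorem inf_eq_of_induced {B : Set (IrrCharacter G)} {b : Set (IrrCharacter N)}
    (hb : IsPBlock M b) (hbQ : IsDefectGroup p M b (Q.subgroupOf N)) (hcov : Covers N B b)
    {c : Set (IrrCharacter (Subgroup.normalizer (Q : Set G)))}
    (hind : IsInducedBlock M (Subgroup.normalizer (Q : Set G)) c B)
    {D : Subgroup (Subgroup.normalizer (Q : Set G))} (hD : IsDefectGroup p M c D) :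
    D.map (Subgroup.normalizer (Q : Set G)).subtype ⊓ N = Q ∧
      D ⊓ N.subgroupOf (Subgroup.normalizer (Q : Set G)) =
        Q.subgroupOf (Subgroup.normalizer (Q : Set G)) := by
  classical
  obtain ⟨hc, hB, -⟩ := isInducedBlock_iff.1 hind
  have := normal_subgroupOf_normalizer Q
  have hQD := IsDefectGroup.normal_le hM hc hD
    (P := Q.subgroupOf (Subgroup.normalizer (Q : Set G)))
    (hQ.comap_of_injective _ (Subgroup.subtype_injective _))
  obtain ⟨P, hP, hPN⟩ := exists_defectGroup_inf_eq N hM hB hb hcov hQN hbQ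
  obtain ⟨E, hE, hDE⟩ := IsInducedBlock.defectGroup_le hM hind hD
  obtain ⟨x, hx⟩ := IsDefectGroup.exists_conj hM hB hE hP
  have hle : Q ≤ D.map (Subgroup.normalizer (Q : Set G)).subtype ⊓ N := fun q hq =>
    ⟨⟨⟨q, Subgroup.le_normalizer hq⟩, hQD hq, rfl⟩, hQN hq⟩
  have h1 : D.map (Subgroup.normalizer (Q : Set G)).subtype ⊓ N = Q := by
    refine (Subgroup.eq_of_le_of_card_ge hle ?_).symm
    rw [← card_map_conj x]
    refine Subgroup.card_le_of_le ?_
    rintro _ ⟨v, ⟨hvD, hvN⟩, rfl⟩
    exact hPN.le ⟨hx.le ⟨v, hDE hvD, rfl⟩, hN.conj_mem v hvN x⟩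
  refine ⟨h1, le_antisymm (fun v hv => ?_) fun v hv => ⟨hQD hv, hQN hv⟩⟩
  exact h1.le ⟨⟨v, hv.1, rfl⟩, hv.2⟩

include hM hQ hQN hε hdQ hed in
/-- Blocks of `N(Q)` inducing a block that covers `d` cover the correspondent. -/
theorem covers_of_induced_covers {B : Set (IrrCharacter G)} (hcov : Covers N B d)
    {c : Set (IrrCharacter (Subgroup.normalizer (Q : Set G)))}
    (hind : IsInducedBlock M (Subgroup.normalizer (Q : Set G)) c B) :
    Covers (N.subgroupOf (Subgroup.normalizer (Q : Set G))) c (pullEquiv ε '' e) := by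
  classical
  obtain ⟨hc, hB, -⟩ := isInducedBlock_iff.1 hind
  obtain ⟨he, hd, -⟩ := isInducedBlock_iff.1 hed
  obtain ⟨D, hD⟩ := exists_isDefectGroup (p := p) hc
  have hDK := (inf_eq_of_induced N hM hQ hQN hd hdQ hcov hind hD).2
  obtain ⟨c₁, hc₁, -, hcov₁, hc₁D⟩ := exists_stable_covered (N.subgroupOf (Subgroup.normalizer (Q : Set G))) hM hc hD
  rw [hDK] at hc₁D
  have hQmap : ((Q.subgroupOf (Subgroup.normalizer (Q : Set G))).subgroupOf (N.subgroupOf (Subgroup.normalizer (Q : Set G)))).map ε.toMonoidHom =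
      (Q.subgroupOf N).subgroupOf (Subgroup.normalizer ((Q.subgroupOf N : Subgroup N) : Set N)) := by
    ext w
    rw [Subgroup.mem_map_equiv, Subgroup.mem_subgroupOf, Subgroup.mem_subgroupOf,
      Subgroup.mem_subgroupOf, Subgroup.mem_subgroupOf, ← hε, MulEquiv.apply_symm_apply]
  set e₁ := pullEquiv ε.symm '' c₁ with he₁
  have he₁D : IsDefectGroup p M e₁ ((Q.subgroupOf N).subgroupOf (Subgroup.normalizer ((Q.subgroupOf N : Subgroup N) : Set N))) := by
    have h := isDefectGroup_image_pullEquiv ε.symm hc₁D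
    rwa [MulEquiv.symm_symm, hQmap] at h
  have hQN' : IsPGroup p (Q.subgroupOf N) := hQ.comap_of_injective _ N.subtype_injective
  obtain ⟨d₁, hd₁i⟩ := exists_isInducedBlock (G := N) hM hQN' Subgroup.le_normalizer
    (centralizer_le_normalizer' _) le_rfl (isPBlock_image_pullEquiv ε.symm hc₁)
  have hd₁Q : IsDefectGroup p M d₁ (Q.subgroupOf N) :=
    isDefectGroup_of_induced_normalizer hM hQN' hd₁i he₁D
  have hc₁e : pullEquiv ε '' e₁ = c₁ := by
    rw [he₁]; exact image_pullEquiv_symm_image ε.symm c₁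
  have hcovd : Covers N B d₁ := covers_of_induced N ε hε (hc₁e.symm ▸ hcov₁) hind hd₁i
  obtain ⟨g, hg⟩ := exists_conj_of_covers N hB hd hd₁i.2.1 hcov hcovd
  have hgD := isDefectGroup_image_pullEquiv (MulAut.conjNormal g : N ≃* N) hdQ
  rw [show pullEquiv (MulAut.conjNormal g : N ≃* N) '' d = d₁ from hg.symm] at hgD
  obtain ⟨y, hy⟩ := IsDefectGroup.exists_conj hM hd₁i.2.1 hgD hd₁Q
  set h : G := g * (y : G)⁻¹ with hhdef
  have hhH : h⁻¹ ∈ (Subgroup.normalizer (Q : Set G)) := by
    refine Subgroup.mem_normalizer_iff_map_conj_eq.2 (Subgroup.eq_of_le_of_card_ge ?_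
      (card_map_conj _ _).ge)
    rintro _ ⟨q, hq, rfl⟩
    have h1 := Subgroup.mem_subgroupOf.1 (hy.le (Subgroup.mem_map_of_mem _
      (Subgroup.mem_map_of_mem _ (show (⟨q, hQN hq⟩ : N) ∈ Q.subgroupOf N from hq))))
    simpa [h, MulAut.conjNormal_symm_apply, mul_assoc] using h1
  have hd₁ : d₁ = conjIrr N h '' d := by
    rw [hg, Set.image_congr fun θ _ => conjIrr_mul N g (y : G)⁻¹ θ]
    exact Set.image_congr fun θ _ => (conjIrr_of_mem N (inv_mem y.2) _).symm
  let a : (Subgroup.normalizer (Q : Set G)) := ⟨h, inv_inv h ▸ inv_mem hhH⟩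
  let τ : (Subgroup.normalizer ((Q.subgroupOf N : Subgroup N) : Set N)) ≃* (Subgroup.normalizer ((Q.subgroupOf N : Subgroup N) : Set N)) := (ε.symm.trans (MulAut.conjNormal a)).trans ε
  have hτ : ∀ w : (Subgroup.normalizer ((Q.subgroupOf N : Subgroup N) : Set N)), (τ w : N) = MulAut.conjNormal h (w : N) := fun w => Subtype.ext <| by
    show ((ε (MulAut.conjNormal a (ε.symm w)) : N) : G) = _
    rw [hε, MulAut.conjNormal_apply, MulAut.conjNormal_apply, Subgroup.coe_mul, Subgroup.coe_mul,
      Subgroup.coe_inv, ← hε, MulEquiv.apply_symm_apply]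
  have he₂ : IsInducedBlock M (Subgroup.normalizer ((Q.subgroupOf N : Subgroup N) : Set N)) (pullEquiv τ '' e) d₁ :=
    hd₁ ▸ isInducedBlock_transport (MulAut.conjNormal h : N ≃* N) τ hτ hed
  have he₂D : IsDefectGroup p M (pullEquiv τ '' e) ((Q.subgroupOf N).subgroupOf (Subgroup.normalizer ((Q.subgroupOf N : Subgroup N) : Set N))) :=
    isDefectGroup_normalizer_of_induced hM hQN' he₂ hd₁Q
  have heq : e₁ = pullEquiv τ '' e :=
    eq_of_isInducedBlock_normalizer hM hQN' hd₁i he₂ he₁D he₂D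
  have hc₁' : c₁ = conjIrr (N.subgroupOf (Subgroup.normalizer (Q : Set G))) a '' (pullEquiv ε '' e) := by
    rw [← hc₁e, heq, Set.image_image, Set.image_image]
    exact Set.image_congr fun ξ _ => Subtype.ext (funext fun k => by
      simp [τ, conjIrr])
  rw [hc₁'] at hcov₁
  have h1 := covers_conj (N.subgroupOf (Subgroup.normalizer (Q : Set G))) hcov₁ a⁻¹
  rw [Set.image_image] at h1
  rwa [Set.image_congr (g := id) fun θ _ => by
    rw [← conjIrr_mul, mul_inv_cancel, conjIrr_of_mem (N.subgroupOf (Subgroup.normalizer (Q : Set G))) (N.subgroupOf (Subgroup.normalizer (Q : Set G))).one_mem]; rfl, Set.image_id] at h1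

include hM hQ hQN hdQ in
/-- At most one block of `N(Q)` induces a block covering `d`. -/
theorem eq_of_induced_covers (hd : IsPBlock M d) {B : Set (IrrCharacter G)} (hcov : Covers N B d)
    {c c' : Set (IrrCharacter (Subgroup.normalizer (Q : Set G)))}
    (hind : IsInducedBlock M (Subgroup.normalizer (Q : Set G)) c B)
    (hind' : IsInducedBlock M (Subgroup.normalizer (Q : Set G)) c' B) : c = c' := by
  classical
  have key : ∀ {f : Set (IrrCharacter (Subgroup.normalizer (Q : Set G)))}, IsInducedBlock M (Subgroup.normalizer (Q : Set G)) f B →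
      ∀ {E : Subgroup (Subgroup.normalizer (Q : Set G))}, IsDefectGroup p M f E →
      ∀ [Fintype (Subgroup.normalizer ((E.map (Subgroup.normalizer (Q : Set G)).subtype : Subgroup G) : Set G))]
        [Fintype (Subgroup.normalizer (E : Set (Subgroup.normalizer (Q : Set G))))],
      ∃ (φ : Subgroup.normalizer ((E.map (Subgroup.normalizer (Q : Set G)).subtype : Subgroup G) : Set G) ≃*
          Subgroup.normalizer (E : Set (Subgroup.normalizer (Q : Set G)))),
        (∀ w, ((φ w : (Subgroup.normalizer (Q : Set G))) : G) = (w : G)) ∧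
        ∃ b : Set (IrrCharacter (Subgroup.normalizer (E : Set (Subgroup.normalizer (Q : Set G))))),
          IsInducedBlock M (Subgroup.normalizer (E : Set (Subgroup.normalizer (Q : Set G)))) b f ∧
          IsInducedBlock M (Subgroup.normalizer ((E.map (Subgroup.normalizer (Q : Set G)).subtype : Subgroup G) : Set G))
            (pullEquiv φ '' b) B ∧
          IsDefectGroup p M (pullEquiv φ '' b) ((E.map (Subgroup.normalizer (Q : Set G)).subtype).subgroupOf
            (Subgroup.normalizer ((E.map (Subgroup.normalizer (Q : Set G)).subtype : Subgroup G) : Set G))) := by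
    intro f hf E hE _ _
    have hEN := (inf_eq_of_induced N hM hQ hQN hd hdQ hcov hf hE).1
    have hle : ∀ w ∈ Subgroup.normalizer ((E.map (Subgroup.normalizer (Q : Set G)).subtype : Subgroup G) : Set G), w ∈ (Subgroup.normalizer (Q : Set G)) := by
      intro w hw
      rw [Subgroup.mem_normalizer_iff_map_conj_eq, ← hEN,
        Subgroup.map_inf _ _ _ (MulEquiv.injective _)]
      congr 1
      · exact Subgroup.mem_normalizer_iff_map_conj_eq.1 hw
      · exact Subgroup.mem_normalizer_iff_map_conj_eq.1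
          (Subgroup.normalizer_eq_top (H := N) ▸ Subgroup.mem_top w)
    have hmem : ∀ v : (Subgroup.normalizer (Q : Set G)), v ∈ Subgroup.normalizer (E : Set (Subgroup.normalizer (Q : Set G))) ↔
        (v : G) ∈ Subgroup.normalizer ((E.map (Subgroup.normalizer (Q : Set G)).subtype : Subgroup G) : Set G) := by
      intro v
      have he : ∀ u : (Subgroup.normalizer (Q : Set G)), (u : G) ∈ E.map (Subgroup.normalizer (Q : Set G)).subtype ↔ u ∈ E := fun u =>
        ⟨fun ⟨u', hu', he⟩ => by rwa [show u = u' from Subtype.ext he.symm],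
          fun hu => ⟨u, hu, rfl⟩⟩
      rw [Subgroup.mem_normalizer_iff, Subgroup.mem_normalizer_iff]
      constructor
      · intro hv z
        by_cases hz : z ∈ (Subgroup.normalizer (Q : Set G))
        · exact ((he ⟨z, hz⟩).trans (hv ⟨z, hz⟩)).trans (he _).symm
        · refine iff_of_false (fun ⟨u, _, hu⟩ => hz (hu ▸ u.2)) fun ⟨u, _, hu⟩ => hz ?_
          rw [show z = (v : G)⁻¹ * (Subgroup.normalizer (Q : Set G)).subtype u * v by rw [hu]; group]
          exact mul_mem (mul_mem (inv_mem v.2) u.2) v.2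
      · exact fun hv u => ((he u).symm.trans (hv u)).trans (he (v * u * v⁻¹))
    let φ : Subgroup.normalizer ((E.map (Subgroup.normalizer (Q : Set G)).subtype : Subgroup G) : Set G) ≃*
        Subgroup.normalizer (E : Set (Subgroup.normalizer (Q : Set G))) :=
      { toFun := fun w => ⟨⟨w, hle w w.2⟩, (hmem _).2 w.2⟩
        invFun := fun u => ⟨((u : (Subgroup.normalizer (Q : Set G))) : G), (hmem _).1 u.2⟩
        left_inv := fun _ => rfl
        right_inv := fun _ => rfl
        map_mul' := fun _ _ => rfl }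
    obtain ⟨b, ⟨hb, hbE, hbf⟩, -⟩ := existsUnique_correspondent hM hf.1 hE
    refine ⟨φ, fun _ => rfl, b, hbf, isInducedBlock_trans_equiv φ (fun _ => rfl) hbf hf, ?_⟩
    have h := isDefectGroup_image_pullEquiv φ hbE
    convert h using 1
    ext w
    rw [Subgroup.mem_map_equiv, MulEquiv.symm_symm, Subgroup.mem_subgroupOf,
      Subgroup.mem_subgroupOf]
    exact ⟨fun ⟨u, hu, he⟩ => by rwa [show ((φ w : _) : (Subgroup.normalizer (Q : Set G))) = u from Subtype.ext he.symm],
      fun hu => ⟨_, hu, rfl⟩⟩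
  obtain ⟨hc, hB, -⟩ := isInducedBlock_iff.1 hind
  obtain ⟨D, hD⟩ := exists_isDefectGroup (p := p) hc
  obtain ⟨D', hD'⟩ := exists_isDefectGroup (p := p) hind'.1
  have := fun (E : Subgroup (Subgroup.normalizer (Q : Set G))) =>
    Fintype.ofFinite (Subgroup.normalizer ((E.map (Subgroup.normalizer (Q : Set G)).subtype : Subgroup G) : Set G))
  have := fun (E : Subgroup (Subgroup.normalizer (Q : Set G))) =>
    Fintype.ofFinite (Subgroup.normalizer (E : Set (Subgroup.normalizer (Q : Set G))))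
  have hDp : ∀ {E : Subgroup (Subgroup.normalizer (Q : Set G))} {f : Set (IrrCharacter (Subgroup.normalizer (Q : Set G)))}, IsDefectGroup p M f E →
      IsPGroup p (E.map (Subgroup.normalizer (Q : Set G)).subtype) := fun hE => (IsDefectGroup.isPGroup hE).map _
  have hBdef : ∀ {f : Set (IrrCharacter (Subgroup.normalizer (Q : Set G)))}, IsInducedBlock M (Subgroup.normalizer (Q : Set G)) f B →
      ∀ {E : Subgroup (Subgroup.normalizer (Q : Set G))}, IsDefectGroup p M f E → IsDefectGroup p M B (E.map (Subgroup.normalizer (Q : Set G)).subtype) := by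
    intro f hf E hE
    obtain ⟨φ, -, b, -, hbB, hbE⟩ := key hf hE
    exact isDefectGroup_of_induced_normalizer hM (hDp hE) hbB hbE
  obtain ⟨x, hx⟩ := IsDefectGroup.exists_conj hM hB (hBdef hind' hD') (hBdef hind hD)
  have hxH : x ∈ (Subgroup.normalizer (Q : Set G)) := by
    rw [Subgroup.mem_normalizer_iff_map_conj_eq]
    conv_lhs => rw [← (inf_eq_of_induced N hM hQ hQN hd hdQ hcov hind' hD').1,
      Subgroup.map_inf _ _ _ (MulEquiv.injective _)]
    erw [hx, Subgroup.mem_normalizer_iff_map_conj_eq.1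
      (Subgroup.normalizer_eq_top (H := N) ▸ Subgroup.mem_top x)]
    exact (inf_eq_of_induced N hM hQ hQN hd hdQ hcov hind hD).1
  have hD'2 : IsDefectGroup p M c' D := by
    have h := IsDefectGroup.map_conj hD' (⟨x, hxH⟩ : (Subgroup.normalizer (Q : Set G)))
    convert h using 1
    apply Subgroup.map_injective (Subgroup.normalizer (Q : Set G)).subtype_injective
    rw [← hx, Subgroup.map_map, Subgroup.map_map]
    rfl
  obtain ⟨φ, hφ, b, hbc, hbB, hbD⟩ := key hind hD
  obtain ⟨φ', hφ', b', hbc', hbB', hbD'⟩ := key hind' hD'2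
  obtain rfl : φ = φ' := MulEquiv.ext fun w => Subtype.ext (Subtype.ext ((hφ w).trans (hφ' w).symm))
  have heq := eq_of_isInducedBlock_normalizer hM (hDp hD) hbB hbB' hbD hbD'
  rw [(Equiv.injective (pullEquiv φ)).image_injective heq] at hbc
  exact IsInducedBlock.eq hbc hbc'

end Correspondence

end CfsgLib.Blocks
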