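import Cfsg.Agent.Lib.Blocks.SubsectionHeight
import Cfsg.Agent.Lib.Blocks.ConjugateRoots
import Cfsg.Agent.Lib.Blocks.HarrisKnorr
import Cfsg.Agent.Lib.Pairs.Basic

/-!
# Brauer's bound on heights by the inertial index and the centre of a defect group

The subsections `(x, b ^ C(x))`, `x ∈ Z(D)`, are major, and two of them are conjugate only under the
inertial group of `b`; each contributes at least `p ^ (h - d)` after averaging over Galois conjugates.
-/

namespace CfsgLib.Blocks

open Cfsg CfsgLib.Char CfsgLib.Fusion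
open scoped ComplexConjugate Classical

theorem pullEquiv_trans {K L N : Type*} [Group K] [Group L] [Group N] (e : K ≃* L) (f : L ≃* N)
    (χ : IrrCharacter N) : pullEquiv e (pullEquiv f χ) = pullEquiv (e.trans f) χ :=
  Subtype.ext (funext fun x => by simp)

theorem image_pullEquiv_image {K L N : Type*} [Group K] [Group L] [Group N] (e : K ≃* L)
    (f : L ≃* N) (B : Set (IrrCharacter N)) :
    pullEquiv e '' (pullEquiv f '' B) = pullEquiv (e.trans f) '' B := by
  rw [Set.image_image]
  exact Set.image_congr fun χ _ => pullEquiv_trans e f χ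

theorem image_pullEquiv_of_inner {K : Type*} [Group K] (e : K ≃* K) (u : K)
    (he : ∀ k, e k = u * k * u⁻¹) (B : Set (IrrCharacter K)) : pullEquiv e '' B = B := by
  have h : ∀ χ : IrrCharacter K, pullEquiv e χ = χ := fun χ =>
    Subtype.ext (funext fun k => by rw [pullEquiv_apply, he]; exact Char.IsIrr.isClassFunction χ.2 k u)
  simp only [h, Set.image_id']

theorem image_pullEquiv_congr {K L : Type*} [Group K] [Group L] {e f : K ≃* L} (h : ∀ k, e k = f k)
    (B : Set (IrrCharacter L)) : pullEquiv e '' B = pullEquiv f '' B := by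
  rw [MulEquiv.ext h]

variable {G : Type*} [Group G]

theorem subgroupOf_map_eq {D C : Subgroup G} (h : D ≤ C) : (D.subgroupOf C).map C.subtype = D := by
  rw [Subgroup.subgroupOf, Subgroup.map_comap_eq, Subgroup.range_subtype, inf_eq_right.2 h]

theorem conj_centralizer_iff' {x x' g : G} (hg : g * x * g⁻¹ = x') (w : G) :
    w ∈ Subgroup.centralizer ({x} : Set G) ↔
      g * w * g⁻¹ ∈ Subgroup.centralizer ({x'} : Set G) := by
  subst hg
  rw [mem_centralizer_singleton, mem_centralizer_singleton]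
  constructor
  · intro h
    simpa using h.map (MulAut.conj g).toMonoidHom
  · intro h
    have := h.map (MulAut.conj g⁻¹).toMonoidHom
    simpa [mul_assoc] using this

variable [Fintype G] {p : ℕ} [Fact p.Prime] {M : Ideal AlgInt} [M.IsPrime] (hM : IsPModular p M)
  {B : Set (IrrCharacter G)} {D H : Subgroup G} (hBD : IsDefectGroup p M B D)
  (hH : H = D ⊔ Subgroup.centralizer (D : Set G)) {b : Set (IrrCharacter H)}
  (hind : IsInducedBlock M H b B)

omit [Fintype G] [Fact p.Prime] [M.IsPrime] in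
theorem le_of_eq_sup (hH : H = D ⊔ Subgroup.centralizer (D : Set G)) :
    D ≤ H ∧ Subgroup.centralizer (D : Set G) ≤ H ∧ H ≤ Subgroup.normalizer (D : Set G) := by
  subst hH
  exact ⟨le_sup_left, le_sup_right, sup_le Subgroup.le_normalizer (centralizer_le_normalizer' D)⟩

omit [Fintype G] [Fact p.Prime] [M.IsPrime] in
theorem le_centralizer_central (hH : H = D ⊔ Subgroup.centralizer (D : Set G)) {x : G} (hxD : x ∈ D)
    (hx : ∀ u ∈ D, u * x = x * u) : H ≤ Subgroup.centralizer ({x} : Set G) := by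
  subst hH
  refine sup_le (fun u hu => ?_) fun u hu => ?_
  · exact mem_centralizer_singleton.2 (hx u hu)
  · exact mem_centralizer_singleton.2 (Subgroup.mem_centralizer_iff.1 hu x hxD).symm

omit [Fintype G] [Fact p.Prime] [M.IsPrime] in
theorem conj_mem_iff_of_mem_normalizer (hH : H = D ⊔ Subgroup.centralizer (D : Set G)) {g : G}
    (hg : g ∈ Subgroup.normalizer (D : Set G)) (w : G) : w ∈ H ↔ g * w * g⁻¹ ∈ H := by
  subst hH
  have hn : g ∈ Subgroup.normalizer ((D ⊔ Subgroup.centralizer (D : Set G) : Subgroup G) : Set G) := by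
    rw [Subgroup.mem_normalizer_iff_map_conj_eq, Subgroup.map_sup,
      Subgroup.mem_normalizer_iff_map_conj_eq.1 hg,
      Subgroup.mem_normalizer_iff_map_conj_eq.1
        (Pairs.normalizer_le_normalizer_centralizer D hg)]
  exact Subgroup.mem_normalizer_iff.1 hn w

include hM hBD hH hind

/-- The major subsection at a central element of the defect group. -/
theorem exists_major {x : G} (hxD : x ∈ D) (hx : ∀ u ∈ D, u * x = x * u) :
    ∃ c : Set (IrrCharacter (Subgroup.centralizer ({x} : Set G))),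
      IsInducedBlock M (Subgroup.centralizer ({x} : Set G)) c B ∧
      blockDefect p c = blockDefect p B ∧
      IsInducedBlock M (H.subgroupOf (Subgroup.centralizer ({x} : Set G)))
        (pullEquiv (Subgroup.subgroupOfEquivOfLe (le_centralizer_central hH hxD hx)) '' b) c ∧
      IsDefectGroup p M c (D.subgroupOf (Subgroup.centralizer ({x} : Set G))) := by
  set C := Subgroup.centralizer ({x} : Set G)
  obtain ⟨hDH, hCH, hHN⟩ := le_of_eq_sup hH
  have hHC : H ≤ C := le_centralizer_central hH hxD hx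
  have hDC : D ≤ C := hDH.trans hHC
  have hb := hind.1
  have hB := hind.2.1
  have hDp := IsDefectGroup.isPGroup hBD
  have hdb := isDefectGroup_of_induced_le hM hDH hHN hind hBD
  set φ := Subgroup.subgroupOfEquivOfLe hHC
  have hbU : IsPBlock M (pullEquiv φ '' b) := isPBlock_image_pullEquiv φ hb
  have hP : IsPGroup p (D.subgroupOf C) :=
    hDp.comap_of_injective _ (Subgroup.subtype_injective _)
  have hPU : D.subgroupOf C ≤ H.subgroupOf C := fun u hu => hDH hu
  have hCU : Subgroup.centralizer ((D.subgroupOf C : Subgroup C) : Set C) ≤ H.subgroupOf C := by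
    intro u hu
    exact hCH (Subgroup.mem_centralizer_iff.2 fun v hv =>
      congrArg Subtype.val (Subgroup.mem_centralizer_iff.1 hu ⟨v, hDC hv⟩ hv))
  have hUN : H.subgroupOf C ≤ Subgroup.normalizer ((D.subgroupOf C : Subgroup C) : Set C) := by
    intro u hu
    exact Subgroup.mem_normalizer_iff.2 fun v =>
      Subgroup.mem_normalizer_iff.1 (hHN hu) (v : G)
  obtain ⟨c, hc⟩ := exists_isInducedBlock hM hP hPU hCU hUN hbU
  -- `c` induces `B`
  obtain ⟨k, hk⟩ := IsPGroup.iff_orderOf.1 hDp ⟨x, hxD⟩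
  rw [Subgroup.orderOf_mk] at hk
  have hZ : IsPGroup p (Subgroup.zpowers x) := IsPGroup.of_card (n := k) (by rw [Nat.card_zpowers, hk])
  obtain ⟨B', hB'⟩ := exists_isInducedBlock hM hZ (H := C)
    (Subgroup.zpowers_le.2 (mem_centralizer_singleton.2 (Commute.refl x)))
    (fun u hu => mem_centralizer_singleton.2
      (Subgroup.mem_centralizer_iff.1 hu x (Subgroup.mem_zpowers x)).symm)
    (fun u hu => centralizer_le_normalizer' _ (Subgroup.mem_centralizer_iff.2 fun v hv => by
      obtain ⟨i, rfl⟩ := Subgroup.mem_zpowers_iff.1 hv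
      exact ((mem_centralizer_singleton.1 hu).symm.zpow_left i).eq)) hc.2.1
  have hcB : IsInducedBlock M C c B := by
    have h := isInducedBlock_trans_equiv (W := H) φ.symm (fun w => rfl) hc hB'
    rw [image_pullEquiv_symm_image] at h
    rwa [IsInducedBlock.eq hind h]
  -- the defect group
  obtain ⟨E, hE, hle⟩ := IsInducedBlock.defectGroup_le hM hc (isDefectGroup_image_pullEquiv φ hdb)
  obtain ⟨E', hE', hle'⟩ := IsInducedBlock.defectGroup_le hM hcB hE
  have hmap : ((D.subgroupOf H).map φ.symm.toMonoidHom).map (H.subgroupOf C).subtype =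
      D.subgroupOf C := by
    ext u
    simp only [Subgroup.mem_map]
    constructor
    · rintro ⟨_, ⟨v, hv, rfl⟩, rfl⟩
      exact hv
    · intro hu
      exact ⟨_, ⟨⟨(u : G), hDH hu⟩, hu, rfl⟩, rfl⟩
  rw [hmap] at hle
  have hcards : Nat.card E' = Nat.card D :=
    (IsDefectGroup.card_eq hM hB hE').trans (IsDefectGroup.card_eq hM hB hBD).symm
  have hEP : D.subgroupOf C = E := by
    refine Subgroup.eq_of_le_of_card_ge hle ?_
    rw [card_subgroupOf_eq hDC, ← hcards, ← Subgroup.card_map_of_injective C.subtype_injective]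
    exact Nat.le_of_dvd Nat.card_pos (Subgroup.card_dvd_of_le hle')
  rw [← hEP] at hE
  refine ⟨c, hcB, ?_, hc, hE⟩
  refine Nat.pow_right_injective (Fact.out : p.Prime).two_le ?_
  show p ^ _ = p ^ _
  rw [← IsDefectGroup.card_eq hM hc.2.1 hE, ← IsDefectGroup.card_eq hM hB hBD, card_subgroupOf_eq hDC]

omit hBD hind in
/-- Major subsections at central elements are conjugate only under the inertial group. -/
theorem exists_inertial_conj {T : Subgroup G}
    (hT : ∀ g : G, g ∈ T ↔ (g ∈ Subgroup.normalizer (D : Set G) ∧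
      ∀ θ ∈ b, ∀ θ' : IrrCharacter H, (∀ h h' : H, (h' : G) = g * h * g⁻¹ →
        (θ' : H → ℂ) h' = (θ : H → ℂ) h) → θ' ∈ b))
    {x x' : G} (hxD : x ∈ D) (hx : ∀ u ∈ D, u * x = x * u) (hxD' : x' ∈ D)
    (hx' : ∀ u ∈ D, u * x' = x' * u)
    {c : Set (IrrCharacter (Subgroup.centralizer ({x} : Set G)))}
    (hc : IsInducedBlock M (H.subgroupOf (Subgroup.centralizer ({x} : Set G)))
        (pullEquiv (Subgroup.subgroupOfEquivOfLe (le_centralizer_central hH hxD hx)) '' b) c)
    (hcD : IsDefectGroup p M c (D.subgroupOf (Subgroup.centralizer ({x} : Set G))))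
    {c' : Set (IrrCharacter (Subgroup.centralizer ({x'} : Set G)))}
    (hc' : IsInducedBlock M (H.subgroupOf (Subgroup.centralizer ({x'} : Set G)))
        (pullEquiv (Subgroup.subgroupOfEquivOfLe (le_centralizer_central hH hxD' hx')) '' b) c')
    (hcD' : IsDefectGroup p M c' (D.subgroupOf (Subgroup.centralizer ({x'} : Set G))))
    {g : G} (hg : g * x * g⁻¹ = x')
    (heq : pullEquiv (Pairs.conjEquiv _ _ g (conj_centralizer_iff' hg)) '' c' = c) :
    ∃ t ∈ T, t * x * t⁻¹ = x' := by
  obtain ⟨hDH, hCH, hHN⟩ := le_of_eq_sup hH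
  have hHC : H ≤ (Subgroup.centralizer ({x} : Set G)) := le_centralizer_central hH hxD hx
  have hHC' : H ≤ (Subgroup.centralizer ({x'} : Set G)) := le_centralizer_central hH hxD' hx'
  set Φ := Pairs.conjEquiv (Subgroup.centralizer ({x} : Set G)) (Subgroup.centralizer ({x'} : Set G)) g (conj_centralizer_iff' hg)
  -- adjust `g` to normalize `D`
  have h1 := isDefectGroup_image_pullEquiv Φ hcD'
  rw [heq] at h1
  obtain ⟨u, hu⟩ := IsDefectGroup.exists_conj hM hc.2.1 hcD h1
  have hux : (u : G) * x * (u : G)⁻¹ = x := by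
    rw [(mem_centralizer_singleton.1 u.2).eq, mul_inv_cancel_right]
  set g' := g * (u : G) with hg'def
  have hg' : g' * x * g'⁻¹ = x' := by
    rw [← hg, hg'def]
    calc g * (u : G) * x * (g * (u : G))⁻¹ = g * ((u : G) * x * (u : G)⁻¹) * g⁻¹ := by group
      _ = g * x * g⁻¹ := by rw [hux]
  set Φ' := Pairs.conjEquiv (Subgroup.centralizer ({x} : Set G)) (Subgroup.centralizer ({x'} : Set G)) g' (conj_centralizer_iff' hg')
  have heq' : pullEquiv Φ' '' c' = c := by
    rw [image_pullEquiv_congr (f := (MulAut.conj u).trans Φ) (fun w => Subtype.ext ?_) c',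
      ← image_pullEquiv_image, heq, image_pullEquiv_of_inner _ u (fun k => rfl)]
    show g' * (w : G) * g'⁻¹ = g * ((u : G) * w * (u : G)⁻¹) * g⁻¹
    rw [hg'def]
    group
  have hgN : g' ∈ Subgroup.normalizer (D : Set G) := by
    rw [Subgroup.mem_normalizer_iff_map_conj_eq]
    refine Subgroup.eq_of_le_of_card_ge ?_ (card_map_conj g' D).ge
    rintro _ ⟨v, hv, rfl⟩
    have h2 : MulAut.conj u (⟨v, hDH.trans hHC hv⟩ : (Subgroup.centralizer ({x} : Set G))) ∈
        (D.subgroupOf (Subgroup.centralizer ({x} : Set G))).map (MulAut.conj u).toMonoidHom := ⟨⟨v, hDH.trans hHC hv⟩, hv, rfl⟩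
    rw [hu, Subgroup.mem_map] at h2
    obtain ⟨w, hw, hwu⟩ := h2
    have h3 : (w : G) = g * ((u : G) * v * (u : G)⁻¹) * g⁻¹ := by
      have h4 : (Φ (Φ.symm w) : G) = (Φ (MulAut.conj u ⟨v, hDH.trans hHC hv⟩) : G) :=
        congrArg (fun y : (Subgroup.centralizer ({x} : Set G)) => (Φ y : G)) hwu
      rw [MulEquiv.apply_symm_apply] at h4
      exact h4
    show g' * v * g'⁻¹ ∈ D
    rw [hg'def, show g * (u : G) * v * (g * (u : G))⁻¹ = g * ((u : G) * v * (u : G)⁻¹) * g⁻¹ by group,
      ← h3]
    exact hw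
  -- both roots induce `c`
  let φ := Subgroup.subgroupOfEquivOfLe hHC
  let φ' := Subgroup.subgroupOfEquivOfLe hHC'
  let ψ := Pairs.conjEquiv H H g' (conj_mem_iff_of_mem_normalizer hH hgN)
  let φ2 : H.subgroupOf (Subgroup.centralizer ({x} : Set G)) ≃* H.subgroupOf (Subgroup.centralizer ({x'} : Set G)) := φ.trans (ψ.trans φ'.symm)
  have h5 := isInducedBlock_transport Φ' φ2 (fun w => Subtype.ext rfl) hc'
  rw [heq'] at h5
  have hnorm : ((H.subgroupOf (Subgroup.centralizer ({x} : Set G))).subgroupOf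
      (Subgroup.normalizer ((D.subgroupOf (Subgroup.centralizer ({x} : Set G)) : Subgroup (Subgroup.centralizer ({x} : Set G))) : Set (Subgroup.centralizer ({x} : Set G))))).Normal := by
    refine ⟨fun w hw v => ?_⟩
    simp only [Subgroup.mem_subgroupOf] at hw ⊢
    have hvN : ((v : (Subgroup.centralizer ({x} : Set G))) : G) ∈ Subgroup.normalizer (D : Set G) := by
      rw [Subgroup.mem_normalizer_iff_map_conj_eq]
      refine Subgroup.eq_of_le_of_card_ge ?_ (card_map_conj _ D).ge
      rintro _ ⟨a, ha, rfl⟩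
      exact (Subgroup.mem_normalizer_iff.1 v.2 ⟨a, hDH.trans hHC ha⟩).1 ha
    exact (conj_mem_iff_of_mem_normalizer hH hvN _).1 hw
  have hPU : D.subgroupOf (Subgroup.centralizer ({x} : Set G)) ≤ H.subgroupOf (Subgroup.centralizer ({x} : Set G)) := fun w hw => hDH hw
  have hCU : Subgroup.centralizer ((D.subgroupOf (Subgroup.centralizer ({x} : Set G)) : Subgroup (Subgroup.centralizer ({x} : Set G))) : Set (Subgroup.centralizer ({x} : Set G))) ≤ H.subgroupOf (Subgroup.centralizer ({x} : Set G)) :=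
    fun w hw => hCH (Subgroup.mem_centralizer_iff.2 fun v hv =>
      congrArg Subtype.val (Subgroup.mem_centralizer_iff.1 hw ⟨v, hDH.trans hHC hv⟩ hv))
  have hUN : H.subgroupOf (Subgroup.centralizer ({x} : Set G)) ≤ Subgroup.normalizer ((D.subgroupOf (Subgroup.centralizer ({x} : Set G)) : Subgroup (Subgroup.centralizer ({x} : Set G))) : Set (Subgroup.centralizer ({x} : Set G))) :=
    fun w hw => Subgroup.mem_normalizer_iff.2 fun v =>
      Subgroup.mem_normalizer_iff.1 (hHN hw) (v : G)
  obtain ⟨n, hn, cc, hcc, hconj⟩ :=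
    exists_normalizer_conj_root hM hPU hCU hUN hnorm hcD hc h5
  have hnD : (n : G) ∈ Subgroup.normalizer (D : Set G) := by
    rw [Subgroup.mem_normalizer_iff_map_conj_eq]
    refine Subgroup.eq_of_le_of_card_ge ?_ (card_map_conj _ D).ge
    rintro _ ⟨a, ha, rfl⟩
    exact (Subgroup.mem_normalizer_iff.1 hn ⟨a, hDH.trans hHC ha⟩).1 ha
  have hnx : (n : G) * x * (n : G)⁻¹ = x := by
    rw [(mem_centralizer_singleton.1 n.2).eq, mul_inv_cancel_right]
  refine ⟨g' * (n : G)⁻¹, (hT _).2 ⟨mul_mem hgN (inv_mem hnD), fun θ hθ θ' hθ' => ?_⟩, ?_⟩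
  · let e : H ≃* H.subgroupOf (Subgroup.centralizer ({x} : Set G)) := φ.symm.trans cc.symm
    have h6 := congrArg (fun s => pullEquiv e '' s) hconj
    simp only [image_pullEquiv_image] at h6
    rw [image_pullEquiv_of_inner (e.trans (cc.trans φ)) 1 (fun k => by simp [e]) b] at h6
    rw [← h6] at hθ
    obtain ⟨ξ, hξ, hξe⟩ := hθ
    suffices h7 : θ' = ξ by rw [h7]; exact hξ
    refine Subtype.ext (funext fun k => ?_)
    set k₀ := (e.trans (φ2.trans φ')).symm k
    have hk : (k : G) = g' * (n : G)⁻¹ * (k₀ : G) * (g' * (n : G)⁻¹)⁻¹ := by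
      have h8 : ((e.trans (φ2.trans φ')) k₀ : G) = k := by rw [MulEquiv.apply_symm_apply]
      rw [← h8]
      show (g' * (((cc.symm (φ.symm k₀)) : (Subgroup.centralizer ({x} : Set G))) : G) * g'⁻¹) = _
      have h9 := congrArg (fun y : (Subgroup.centralizer ({x} : Set G)) => (y : G)) (hcc (cc.symm (φ.symm k₀)))
      simp only [MulEquiv.apply_symm_apply, Subgroup.coe_mul, Subgroup.coe_inv] at h9
      rw [show ((φ.symm k₀ : (Subgroup.centralizer ({x} : Set G))) : G) = (k₀ : G) from rfl] at h9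
      rw [h9]
      group
    rw [hθ' k₀ k hk, ← hξe, pullEquiv_apply, MulEquiv.apply_symm_apply]
  · calc g' * (n : G)⁻¹ * x * (g' * (n : G)⁻¹)⁻¹
        = g' * ((n : G)⁻¹ * ((n : G) * x * (n : G)⁻¹) * n) * g'⁻¹ := by rw [hnx]; group
      _ = g' * x * g'⁻¹ := by group
      _ = x' := hg'

/-- The count of the central elements and the height bound. -/
theorem pow_mul_card_center_le {T : Subgroup G}
    (hT : ∀ g : G, g ∈ T ↔ (g ∈ Subgroup.normalizer (D : Set G) ∧
      ∀ θ ∈ b, ∀ θ' : IrrCharacter H, (∀ h h' : H, (h' : G) = g * h * g⁻¹ →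
        (θ' : H → ℂ) h' = (θ : H → ℂ) h) → θ' ∈ b))
    {χ : IrrCharacter G} (hχ : χ ∈ B) :
    Nat.card (Subgroup.center D) * p ^ blockHeight p B (χ : G → ℂ) ≤
      H.relIndex T * p ^ blockDefect p B := by
  have hp := hM.1
  have hB := hind.2.1
  have := Fintype.ofFinite (ConjClasses G)
  set d := blockDefect p B
  set h := blockHeight p B (χ : G → ℂ)
  set q : ℚ := (p : ℚ) ^ d / (p : ℚ) ^ h with hq
  set r : ConjClasses G → G := fun K => Quotient.out K with hr
  let P := Finset.univ.filter fun K : ConjClasses G => ∃ k : ℕ, orderOf (r K) = p ^ k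
  let Ib : ∀ K : ConjClasses G,
      Finset (Set (IrrCharacter (Subgroup.centralizer ({r K} : Set G)))) := fun K =>
    (Set.toFinite {c : Set (IrrCharacter (Subgroup.centralizer ({r K} : Set G))) |
      IsInducedBlock M (Subgroup.centralizer ({r K} : Set G)) c B}).toFinset
  let S := P.sigma fun K => (Ib K).filter fun c => contribution p (r K) c χ χ ≠ 0
  -- each subsection counts once
  have htot : ∑ K ∈ P, ∑ c ∈ Ib K, contribution p (r K) c χ χ = 1 := by
    rw [Finset.sum_congr rfl fun K hK => sum_contribution hM (Finset.mem_filter.1 hK).2 hB hχ,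
      ← Finset.mul_sum, ← Finset.sum_biUnion]
    · rw [Finset.sum_congr (s₂ := Finset.univ) ?_ fun _ _ => rfl]
      · exact Char.classInner_irr_self χ
      ext g
      simp only [P, Finset.mem_biUnion, Finset.mem_filter, Finset.mem_univ, true_and, iff_true]
      obtain ⟨u, hu⟩ := exists_pPart hp g
      obtain ⟨m, hm, hgm, hk⟩ := IsPPart.exists_exponent hp hu
      have hconj : IsConj (r (ConjClasses.mk u)) u :=
        ConjClasses.mk_eq_mk_iff_isConj.1 (Quotient.out_eq _)
      refine ⟨ConjClasses.mk u, ?_, u, hu, hconj.symm⟩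
      obtain ⟨k, hk⟩ := hk
      obtain ⟨a, ha⟩ := isConj_iff.1 hconj
      refine ⟨k, ?_⟩
      rw [← hk]
      exact (MulEquiv.orderOf_eq (MulAut.conj a) _).symm.trans (congrArg orderOf ha)
    · intro K _ K' _ hne
      refine Finset.disjoint_left.2 fun g hg hg' => hne ?_
      obtain ⟨u, hu, hux⟩ := (Finset.mem_filter.1 hg).2
      obtain ⟨u', hu', hux'⟩ := (Finset.mem_filter.1 hg').2
      have he : u = u' := by
        have := conj_pPart_eq hp hu hu' (x := 1) (j := 1) (by simpa using hp.ne_one) (by simp)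
        simpa using this
      subst he
      rw [← Quotient.out_eq K, ← Quotient.out_eq K']
      exact ConjClasses.mk_eq_mk_iff_isConj.2 (hux.symm.trans hux')
  -- Galois counting
  have hp0 : (p : ℂ) ≠ 0 := Nat.cast_ne_zero.2 hp.ne_zero
  have hN0 : Nat.card G ≠ 0 := Nat.card_pos.ne'
  have hζ := Complex.isPrimitiveRoot_exp (Nat.card G) hN0
  let co : (Σ K : ConjClasses G, Set (IrrCharacter (Subgroup.centralizer ({r K} : Set G)))) → ℚ :=
    fun i => q * (Nat.card (Subgroup.centralizer ({r i.1} : Set G)) : ℚ)⁻¹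
  let β : ∀ i : (Σ K : ConjClasses G, Set (IrrCharacter (Subgroup.centralizer ({r K} : Set G)))),
      {w : Subgroup.centralizer ({r i.1} : Set G) // ¬ p ∣ orderOf w} → ℂ := fun i w =>
    blockPart i.2 (fun c : Subgroup.centralizer ({r i.1} : Set G) => (χ : G → ℂ) (r i.1 * (c : G))) w
  have hval : ∀ i, (co i : ℂ) * ∑ w, β i w * conj (β i w) =
      (q : ℂ) * contribution p (r i.1) i.2 χ χ := fun i => by
    simp only [co, β, contribution]
    rw [Finset.sum_subtype (p := fun w : Subgroup.centralizer ({r i.1} : Set G) => ¬ p ∣ orderOf w)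
      (Finset.univ.filter fun w : Subgroup.centralizer ({r i.1} : Set G) => ¬ p ∣ orderOf w)
      (fun w => by simp)]
    push_cast
    ring
  have hbound : (S.card : ℝ) ≤ (q : ℝ) := by
    refine Char.card_le_of_sum_norms S co (fun i _ => by positivity) β hN0 hζ ?_ ?_ ?_ ?_
    · intro i _ w
      simp only [β, blockPart_eq, finsum_mem_eq_finite_toFinset_sum _ (Set.toFinite i.2)]
      refine sum_mem fun η _ => mul_mem ?_ ?_
      · refine mul_mem (inv_mem (natCast_mem _ _)) (sum_mem fun v _ => mul_mem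
          (apply_mem_adjoin (Char.IsIrr.isCharacter χ.2) hN0 hζ (orderOf_dvd_natCard _)) ?_)
        rw [← Char.IsIrr.map_inv η.2]
        exact apply_mem_adjoin (Char.IsIrr.isCharacter η.2) hN0 hζ
          (by rw [← Subgroup.orderOf_coe]; exact orderOf_dvd_natCard _)
      · exact apply_mem_adjoin (Char.IsIrr.isCharacter η.2) hN0 hζ
          (by rw [← Subgroup.orderOf_coe]; exact orderOf_dvd_natCard _)
    · intro i hi
      obtain ⟨hiP, hiI⟩ := Finset.mem_sigma.1 hi
      have hi2 := (Finset.mem_filter.1 hiI).1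
      simp only [Ib, Set.Finite.mem_toFinset] at hi2
      rw [hval]
      obtain ⟨z, hz, hzeq⟩ := exists_contribution_eq hM (Finset.mem_filter.1 hiP).2 hi2 hχ χ
      rw [show (q : ℂ) * contribution p (r i.1) i.2 χ χ = z by
        rw [hq]; push_cast
        rw [div_mul_eq_mul_div, hzeq, mul_div_assoc, mul_comm, div_mul_cancel₀ _ (pow_ne_zero _ hp0)]]
      exact hz
    · intro i hi
      rw [hval]
      refine mul_ne_zero (Rat.cast_ne_zero.2 ?_)
        (Finset.mem_filter.1 (Finset.mem_sigma.1 hi).2).2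
      exact div_ne_zero (pow_ne_zero _ (Nat.cast_ne_zero.2 hp.ne_zero))
        (pow_ne_zero _ (Nat.cast_ne_zero.2 hp.ne_zero))
    · rw [Finset.sum_congr rfl fun i _ => hval i, ← Finset.mul_sum, Finset.sum_sigma,
        Finset.sum_congr rfl fun K _ => Finset.sum_filter_ne_zero (Ib K), htot, mul_one]
  -- counting the central elements
  let Z := Finset.univ.filter fun x : G => x ∈ D ∧ ∀ u ∈ D, u * x = x * u
  have hZcard : Z.card = Nat.card (Subgroup.center D) := by
    rw [← Subgroup.card_map_of_injective D.subtype_injective, ← SetLike.coe_sort_coe,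
      Nat.card_eq_fintype_card, ← Set.toFinset_card]
    congr 1
    ext x
    simp only [Z, Finset.mem_filter, Finset.mem_univ, true_and, Set.mem_toFinset,
      SetLike.mem_coe, Subgroup.mem_map]
    constructor
    · rintro ⟨hxD, hx⟩
      exact ⟨⟨x, hxD⟩, Subgroup.mem_center_iff.2 fun u => Subtype.ext (hx u u.2), rfl⟩
    · rintro ⟨z, hz, rfl⟩
      exact ⟨z.2, fun u hu => congrArg Subtype.val (Subgroup.mem_center_iff.1 hz ⟨u, hu⟩)⟩
  have hfib : ∀ K : ConjClasses G, (Z.filter fun x => ConjClasses.mk x = K).card ≤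
      H.relIndex T * (if K ∈ P then ((Ib K).filter fun c => contribution p (r K) c χ χ ≠ 0).card
        else 0) := by
    intro K
    by_cases hKP : K ∈ P
    swap
    · rw [if_neg hKP, mul_zero, Nat.le_zero, Finset.card_eq_zero, Finset.filter_eq_empty_iff]
      intro x hxZ hxK
      obtain ⟨hxD, -⟩ := (Finset.mem_filter.1 hxZ).2
      obtain ⟨k, hk⟩ := IsPGroup.iff_orderOf.1 (IsDefectGroup.isPGroup hBD) ⟨x, hxD⟩
      obtain ⟨a, ha⟩ := isConj_iff.1
        (ConjClasses.mk_eq_mk_iff_isConj.1 ((Quotient.out_eq K).trans hxK.symm))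
      refine hKP (Finset.mem_filter.2 ⟨Finset.mem_univ _, k, ?_⟩)
      rw [← hk, Subgroup.orderOf_mk, ← ha]
      exact (MulEquiv.orderOf_eq (MulAut.conj a) _).symm
    rw [if_pos hKP]
    have hdata : ∀ x : G, ∃ c : Set (IrrCharacter (Subgroup.centralizer ({r K} : Set G))),
        x ∈ Z.filter (fun x => ConjClasses.mk x = K) →
          c ∈ (Ib K).filter (fun c => contribution p (r K) c χ χ ≠ 0) ∧
          ∃ (hxD : x ∈ D) (hx : ∀ u ∈ D, u * x = x * u) (g : G) (hg : g * r K * g⁻¹ = x)
            (c₀ : Set (IrrCharacter (Subgroup.centralizer ({x} : Set G)))),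
            IsInducedBlock M (H.subgroupOf (Subgroup.centralizer ({x} : Set G)))
              (pullEquiv (Subgroup.subgroupOfEquivOfLe (le_centralizer_central hH hxD hx)) '' b) c₀ ∧
            IsDefectGroup p M c₀ (D.subgroupOf (Subgroup.centralizer ({x} : Set G))) ∧
            pullEquiv (Pairs.conjEquiv _ _ g (conj_centralizer_iff' hg)) '' c₀ = c := by
      intro x
      by_cases hx : x ∈ Z.filter (fun x => ConjClasses.mk x = K)
      swap
      · exact ⟨∅, fun h => absurd h hx⟩
      obtain ⟨hxZ, hxK⟩ := Finset.mem_filter.1 hx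
      obtain ⟨hxD, hxc⟩ := (Finset.mem_filter.1 hxZ).2
      obtain ⟨c₀, hi₀, hd₀, hi₁, hD₀⟩ := exists_major hM hBD hH hind hxD hxc
      obtain ⟨g, hg⟩ := isConj_iff.1
        (ConjClasses.mk_eq_mk_iff_isConj.1 ((Quotient.out_eq K).trans hxK.symm))
      set Φ := Pairs.conjEquiv _ _ g (conj_centralizer_iff' hg)
      have hi : IsInducedBlock M (Subgroup.centralizer ({r K} : Set G)) (pullEquiv Φ '' c₀) B := by
        have h := isInducedBlock_transport (MulAut.conj g) Φ (fun w => rfl) hi₀
        rwa [image_pullEquiv_of_inner _ g (fun k => rfl)] at h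
      have hd' : blockDefect p (pullEquiv Φ '' c₀) = blockDefect p B := by
        refine Nat.pow_right_injective (Fact.out : p.Prime).two_le ?_
        show p ^ _ = p ^ _
        rw [← IsDefectGroup.card_eq hM hi.1 (isDefectGroup_image_pullEquiv Φ hD₀),
          Subgroup.card_map_of_injective Φ.symm.injective, IsDefectGroup.card_eq hM hi₀.1 hD₀, hd₀]
      refine ⟨_, fun _ => ⟨Finset.mem_filter.2 ⟨?_, ?_⟩, hxD, hxc, g, hg, c₀, hi₁, hD₀, rfl⟩⟩
      · simp only [Ib, Set.Finite.mem_toFinset]
        exact hi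
      · exact contribution_self_ne_zero hM (Finset.mem_filter.1 hKP).2 hi hχ hd'
    choose F hF using hdata
    refine (Finset.card_le_mul_card_image_of_maps_to (f := F) (fun x hx => (hF x hx).1) _
      fun c hc => ?_)
    rcases ((Z.filter fun x => ConjClasses.mk x = K).filter fun x => F x = c).eq_empty_or_nonempty
      with h0 | ⟨x₀, hx₀⟩
    · rw [h0]
      exact Nat.zero_le _
    obtain ⟨hx₀K, hx₀c⟩ := Finset.mem_filter.1 hx₀
    obtain ⟨-, hxD, hxc, g, hg, c₀, hi₁, hD₀, he⟩ := hF x₀ hx₀K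
    have horbit : ∀ x ∈ (Z.filter fun x => ConjClasses.mk x = K).filter (fun x => F x = c),
        ∃ t ∈ T, t * x₀ * t⁻¹ = x := by
      intro x hx
      obtain ⟨hxK', hxc'⟩ := Finset.mem_filter.1 hx
      obtain ⟨-, hxD', hxc'', g', hg', c₀', hi₁', hD₀', he'⟩ := hF x hxK'
      have hgg : g' * g⁻¹ * x₀ * (g' * g⁻¹)⁻¹ = x := by
        rw [← hg, ← hg']; group
      refine exists_inertial_conj hM hH hT hxD hxc hxD' hxc'' hi₁ hD₀ hi₁' hD₀' hgg ?_
      set Φ := Pairs.conjEquiv _ _ g (conj_centralizer_iff' hg) with hΦ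
      rw [image_pullEquiv_congr (f := Φ.symm.trans (Pairs.conjEquiv _ _ g' (conj_centralizer_iff' hg')))
        (fun w => Subtype.ext ?_) c₀', ← image_pullEquiv_image, he', hxc', ← hx₀c, ← he,
        image_pullEquiv_symm_image]
      show g' * g⁻¹ * (w : G) * (g' * g⁻¹)⁻¹ = g' * (g⁻¹ * (w : G) * g) * g'⁻¹
      group
    -- orbits of `x₀` under `T`
    have hHx : H ≤ Subgroup.centralizer ({x₀} : Set G) := le_centralizer_central hH hxD hxc
    let f : T ⧸ H.subgroupOf T → G := Quotient.lift (fun t : T => (t : G) * x₀ * (t : G)⁻¹)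
      fun t t' htt => by
        have h1 : (t : G)⁻¹ * (t' : G) ∈ H :=
          Subgroup.mem_subgroupOf.1 ((QuotientGroup.leftRel_apply (s := H.subgroupOf T)).1 htt)
        have h2 := (mem_centralizer_singleton.1 (hHx h1)).eq
        calc (t : G) * x₀ * (t : G)⁻¹
            = (t : G) * (x₀ * ((t : G)⁻¹ * t')) * (t' : G)⁻¹ := by group
          _ = (t' : G) * x₀ * (t' : G)⁻¹ := by rw [← h2]; group
    have hsub : (Z.filter fun x => ConjClasses.mk x = K).filter (fun x => F x = c) ⊆
        Finset.univ.image f := fun x hx => by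
      obtain ⟨t, ht, htx⟩ := horbit x hx
      exact Finset.mem_image.2 ⟨QuotientGroup.mk ⟨t, ht⟩, Finset.mem_univ _, htx⟩
    refine (Finset.card_le_card hsub).trans (Finset.card_image_le.trans (le_of_eq ?_))
    rw [Finset.card_univ, ← Nat.card_eq_fintype_card]
    rfl
  have hcount : Z.card ≤ H.relIndex T * S.card := by
    rw [Finset.card_eq_sum_card_fiberwise (f := ConjClasses.mk) (t := Finset.univ)
      fun x _ => Finset.mem_univ _]
    refine (Finset.sum_le_sum fun K _ => hfib K).trans (le_of_eq ?_)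
    rw [← Finset.mul_sum, ← Finset.sum_filter, Finset.card_sigma]
    refine congrArg _ (Finset.sum_congr ?_ fun _ _ => rfl)
    simp
  rw [hZcard] at hcount
  have hreal : ((Nat.card (Subgroup.center D) * p ^ h : ℕ) : ℝ) ≤ ((H.relIndex T * p ^ d : ℕ) : ℝ) := by
    have hph : (0 : ℝ) < (p : ℝ) ^ h := pow_pos (Nat.cast_pos.2 hp.pos) _
    rw [hq] at hbound
    push_cast at hbound ⊢
    rw [le_div_iff₀ hph] at hbound
    calc (Nat.card (Subgroup.center D) : ℝ) * (p : ℝ) ^ h
        ≤ ((H.relIndex T : ℝ) * S.card) * (p : ℝ) ^ h :=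
          mul_le_mul_of_nonneg_right (by exact_mod_cast hcount) hph.le
      _ ≤ (H.relIndex T : ℝ) * (p : ℝ) ^ d := by
          rw [mul_assoc]; exact mul_le_mul_of_nonneg_left hbound (Nat.cast_nonneg _)
  exact_mod_cast hreal

end CfsgLib.Blocks
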