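import Cfsg.Agent.Lib.Blocks.SubsectionNorms
import Cfsg.Agent.Lib.Blocks.Principal
import Cfsg.Agent.Lib.Blocks.HeightZero
import Cfsg.Agent.Lib.Char.GaloisSum
import Mathlib.Tactic.LinearCombination

/-!
# Contributions of a major subsection

For a subsection `(y, b)` with `b` of the same defect `d` as `B`, the numbers
`p ^ d * m (χ, ψ)` are algebraic integers, nonzero when `χ` and `ψ` have height zero, and their
squared absolute values sum to `p ^ (2 d) l(b)`.
-/

namespace CfsgLib.Blocks

open Cfsg CfsgLib.Char CfsgLib.CharAction MonoidAlgebra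
open scoped ComplexConjugate Classical

section Translate

variable {K : Type*} [Group K] [Fintype K]

/-- A central element acts on an irreducible character by a scalar. -/
theorem apply_central_mul (ξ : IrrCharacter K) {z : K} (hz : ∀ g : K, g * z = z * g) (w : K) :
    (ξ : K → ℂ) (z * w) * (ξ : K → ℂ) 1 = (ξ : K → ℂ) z * (ξ : K → ℂ) w := by
  have h1 := sum_char_mul_conj ξ z w
  have hc : ∀ g : K, (ξ : K → ℂ) (z * (g * w * g⁻¹)) = (ξ : K → ℂ) (z * w) := fun g => by
    rw [show z * (g * w * g⁻¹) = g * (z * w) * g⁻¹ by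
      rw [← mul_assoc, ← mul_assoc, ← hz g]; group]
    exact Char.IsIrr.isClassFunction ξ.2 _ _
  rw [Finset.sum_congr rfl fun g _ => hc g, Finset.sum_const, Finset.card_univ, nsmul_eq_mul,
    ← Nat.card_eq_fintype_card, eq_div_iff (Char.IsIrr.apply_one_ne_zero ξ.2)] at h1
  refine mul_left_cancel₀ (Nat.cast_ne_zero.2 (Nat.card_pos (α := K)).ne' : (Nat.card K : ℂ) ≠ 0) ?_
  linear_combination h1

theorem isIntegral_apply_central_div (ξ : IrrCharacter K) {z : K} (hz : ∀ g : K, g * z = z * g) :
    IsIntegral ℤ ((ξ : K → ℂ) z / (ξ : K → ℂ) 1) := by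
  have h1 := Char.IsIrr.apply_one_ne_zero ξ.2
  have hpow : ∀ n : ℕ, ((ξ : K → ℂ) z / (ξ : K → ℂ) 1) ^ n =
      (ξ : K → ℂ) (z ^ n) / (ξ : K → ℂ) 1 := by
    intro n
    induction n with
    | zero => rw [pow_zero, pow_zero, div_self h1]
    | succ n ih =>
      rw [pow_succ, pow_succ', ih, div_mul_div_comm, div_eq_div_iff (mul_ne_zero h1 h1) h1]
      linear_combination -(ξ : K → ℂ) 1 * apply_central_mul ξ hz (z ^ n)
  refine IsIntegral.of_pow (orderOf_pos z) ?_
  rw [hpow, pow_orderOf_eq_one, div_self h1]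
  exact isIntegral_one

/-- Inner products of translates by central elements. -/
theorem classInner_translate (f : K → ℂ) (η : IrrCharacter K) {z : K}
    (hz : ∀ g : K, g * z = z * g) :
    classInner (fun c => f (z * c)) (η : K → ℂ) =
      (η : K → ℂ) z / (η : K → ℂ) 1 * classInner f (η : K → ℂ) := by
  have h1 := Char.IsIrr.apply_one_ne_zero η.2
  have hcancel : ((η : K → ℂ) z / (η : K → ℂ) 1) * (Nat.card K : ℂ)⁻¹ =
      (Nat.card K : ℂ)⁻¹ * ((η : K → ℂ) z / (η : K → ℂ) 1) := mul_comm _ _
  rw [classInner, classInner, ← mul_assoc, hcancel, mul_assoc, Finset.mul_sum _ _ ((η : K → ℂ) z / _)]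
  congr 1
  refine Fintype.sum_equiv (Equiv.mulLeft z) _ _ fun c => ?_
  simp only [Equiv.coe_mulLeft]
  have h := apply_central_mul η (fun g => (Commute.inv_right (hz g)).eq) (z * c)
  rw [inv_mul_cancel_left] at h
  have hd : conj ((η : K → ℂ) 1) = (η : K → ℂ) 1 := by
    rw [← Char.IsIrr.map_inv η.2, inv_one]
  have h' := congrArg conj h
  rw [map_mul, map_mul, hd, Char.IsIrr.map_inv η.2, Complex.conj_conj] at h'
  field_simp
  linear_combination f (z * c) * h'

end Translate

variable {G : Type*} [Group G] [Fintype G] {p : ℕ} [Fact p.Prime] {M : Ideal AlgInt} [M.IsPrime]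
  (hM : IsPModular p M)

/-- The inner product of a translated character with a character of the centralizer. -/
noncomputable def transCoeff (y : G) (χ : IrrCharacter G)
    (η : IrrCharacter (Subgroup.centralizer ({y} : Set G))) : ℂ :=
  classInner (fun c : Subgroup.centralizer ({y} : Set G) => (χ : G → ℂ) (y * (c : G)))
    (η : Subgroup.centralizer ({y} : Set G) → ℂ)

/-- The inner product on `p`-regular elements of a character of the centralizer with a translated
character. -/
noncomputable def regCoeff (p : ℕ) (y : G) (η : IrrCharacter (Subgroup.centralizer ({y} : Set G)))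
    (ψ : IrrCharacter G) : ℂ :=
  (Nat.card (Subgroup.centralizer ({y} : Set G)) : ℂ)⁻¹ *
    ∑ w ∈ Finset.univ.filter (fun w : Subgroup.centralizer ({y} : Set G) => ¬ p ∣ orderOf w),
      (η : Subgroup.centralizer ({y} : Set G) → ℂ) w * conj ((ψ : G → ℂ) (y * (w : G)))

omit [Fact p.Prime] in
theorem isIntegral_transCoeff (y : G) (χ : IrrCharacter G)
    (η : IrrCharacter (Subgroup.centralizer ({y} : Set G))) : IsIntegral ℤ (transCoeff y χ η) := by
  set yC : Subgroup.centralizer ({y} : Set G) := ⟨y, mem_centralizer_singleton.2 (Commute.refl y)⟩ with hyCdef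
  have hcentral : ∀ g : Subgroup.centralizer ({y} : Set G), g * yC = yC * g :=
    fun g => Subtype.ext (mem_centralizer_singleton.1 g.2).eq
  obtain ⟨n, hn⟩ := Char.IsChar.classInner_eq_natCast
    (Char.IsChar.restrict (Subgroup.centralizer ({y} : Set G)) (Char.IsIrr.isCharacter χ.2))
    (Char.IsIrr.isCharacter η.2)
  have h : transCoeff y χ η = (η : Subgroup.centralizer ({y} : Set G) → ℂ) yC /
      (η : Subgroup.centralizer ({y} : Set G) → ℂ) 1 * (n : ℂ) := by
    rw [← hn]
    exact classInner_translate (fun c : Subgroup.centralizer ({y} : Set G) => (χ : G → ℂ) c)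
      η hcentral
  rw [h]
  exact (isIntegral_apply_central_div η hcentral).mul
    (map_natCast (algebraMap ℤ ℂ) n ▸ isIntegral_algebraMap)

include hM

/-- The central character of a translated height zero character does not vanish. -/
theorem omegaBar_translate_ne_zero {H : Subgroup G} [Fintype H] {b : Set (IrrCharacter H)}
    {B : Set (IrrCharacter G)} (hind : IsInducedBlock M H b B) {χ : IrrCharacter G} (hχ : χ ∈ B)
    (h0 : blockHeight p B (χ : G → ℂ) = 0) {x : G} (hx : ∃ k : ℕ, orderOf x = p ^ k)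
    (hxH : ∀ w : H, Commute x (w : G)) {ξ : IrrCharacter H} (hξ : ξ ∈ b) :
    omegaBar ξ (red M (regElt (p := p) (fun w : H => (χ : G → ℂ) (x * (w : G)))
      fun _ => Char.IsChar.isIntegral (Char.IsIrr.isCharacter χ.2) _)) ≠ 0 := by
  obtain ⟨-, hB, hall⟩ := isInducedBlock_iff.1 hind
  have hi := fun w => Char.IsChar.isIntegral (Char.IsIrr.isCharacter χ.2) w
  have heq : red M (regElt (p := p) (fun w : H => (χ : G → ℂ) (x * (w : G))) fun w => hi _) =
      resElt H (red M (regElt (p := p) (χ : G → ℂ) hi)) := by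
    rw [resElt_red_regElt]
    refine MonoidAlgebra.ext (Finsupp.ext fun w => ?_)
    rw [coeff_red, coeff_red]
    refine residue_eq_iff.2 ?_
    rw [coeff_regElt, coeff_regElt]
    split_ifs
    · rw [sub_self]
      exact ⟨0, 1, M.zero_mem, one_notMem, by simp⟩
    · exact apply_mul_congr hM χ (hxH w⁻¹) hx
  rw [heq, hall ξ hξ χ hχ _
    (isCentralElt_red (isCentralElt_regElt (Char.IsIrr.isClassFunction χ.2) hi))]
  exact omegaBar_regElt_ne_zero hM hB hχ h0


theorem factorization_eq_minExp_add {y : G} {b : Set (IrrCharacter (Subgroup.centralizer ({y} : Set G)))}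
    (hb : IsPBlock M b) {d : ℕ} (hbd : blockDefect p b = d) :
    (Nat.card (Subgroup.centralizer ({y} : Set G))).factorization p = minExp p b + d := by
  set a' := (Nat.card (Subgroup.centralizer ({y} : Set G))).factorization p with ha'
  set e := minExp p b with he
  obtain ⟨ξ₀, hξ₀, h₀⟩ := exists_height_zero (p := p) (IsPBlock.nonempty hb)
  have h1 : e ≤ a' := ((blockHeight_eq_zero_iff_minExp hξ₀).1 h₀).symm.le.trans (degVal_le ξ₀)
  have h2 : blockDefect p b = a' - e := rfl
  omega

theorem isIntegral_pow_mul_regCoeff {y : G}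
    {b : Set (IrrCharacter (Subgroup.centralizer ({y} : Set G)))} (hb : IsPBlock M b) {d : ℕ}
    (hbd : blockDefect p b = d) : ∀ η ∈ (Set.toFinite b).toFinset, ∀ ψ : IrrCharacter G,
      IsIntegral ℤ ((p : ℂ) ^ d * regCoeff p y η ψ) := by
  have := Fintype.ofFinite (IrrCharacter G)
  have := Fintype.ofFinite (IrrCharacter (Subgroup.centralizer ({y} : Set G)))
  have hp0 : (p : ℂ) ≠ 0 := Nat.cast_ne_zero.2 hM.1.ne_zero
  set R := Finset.univ.filter (fun w : Subgroup.centralizer ({y} : Set G) => ¬ p ∣ orderOf w) with hR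
  let θ : IrrCharacter G → Subgroup.centralizer ({y} : Set G) → ℂ := fun χ c => (χ : G → ℂ) (y * (c : G))
  have hθ : ∀ χ, IsClassFunction (Subgroup.centralizer ({y} : Set G)) (θ χ) := fun χ =>
    isClassFunction_apply_mul (Char.IsIrr.isClassFunction χ.2)
  let a := transCoeff (G := G) y
  have ha : ∀ χ η, IsIntegral ℤ (a χ η) := isIntegral_transCoeff y
  let U := regCoeff (G := G) p y
  set a' := (Nat.card (Subgroup.centralizer ({y} : Set G))).factorization p with ha'
  set e := minExp p b with he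
  have hed : a' = e + d := factorization_eq_minExp_add hM hb hbd
  set nC : ℂ := (Nat.card (Subgroup.centralizer ({y} : Set G)) : ℂ) with hnC
  intro η hη ψ
  have h : U η ψ = ∑ η' : IrrCharacter (Subgroup.centralizer ({y} : Set G)), conj (a ψ η') *
      classInner (regCut p (η : Subgroup.centralizer ({y} : Set G) → ℂ))
        (η' : Subgroup.centralizer ({y} : Set G) → ℂ) := by
    show regCoeff p y η ψ = _
    simp only [regCoeff, classInner, Finset.mul_sum, Finset.sum_filter]
    rw [Finset.sum_comm]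
    refine Finset.sum_congr rfl fun w _ => ?_
    by_cases hw : p ∣ orderOf w
    · simp [hw, regCut]
    · rw [if_pos hw, show (ψ : G → ℂ) (y * (w : G)) = θ ψ w from rfl,
        Char.classFunction_apply_eq_sum (hθ ψ) w, map_sum, Finset.mul_sum,
        Finset.mul_sum]
      refine Finset.sum_congr rfl fun η' _ => ?_
      simp only [regCut, if_neg hw, map_mul, a, transCoeff, θ]
      ring
  rw [show regCoeff p y η ψ = U η ψ from rfl, h, Finset.mul_sum]
  refine IsIntegral.sum _ fun η' _ => ?_
  obtain ⟨k, hk⟩ : (p : ℤ) ^ e ∣ regNum p (η : Subgroup.centralizer ({y} : Set G) → ℂ)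
      (η' : Subgroup.centralizer ({y} : Set G) → ℂ) := by
    refine (pow_dvd_pow _ ?_).trans (pow_dvd_regNum_left η η')
    exact minExp_le ((Set.Finite.mem_toFinset _).1 hη)
  have h2 := regNum_eq (p := p) η η'
  rw [← ha', hed, hk] at h2
  push_cast at h2
  have h3 : (p : ℂ) ^ d * (conj (a ψ η') *
      classInner (regCut p (η : Subgroup.centralizer ({y} : Set G) → ℂ))
        (η' : Subgroup.centralizer ({y} : Set G) → ℂ)) = conj (a ψ η') * (k : ℂ) := by
    refine mul_left_cancel₀ (pow_ne_zero e hp0) ?_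
    linear_combination conj (a ψ η') * h2
  rw [h3]
  exact ((ha ψ η').map (starRingEnd ℂ).toIntAlgHom).mul
    (eq_intCast (algebraMap ℤ ℂ) k ▸ isIntegral_algebraMap)

/-- For height zero characters the contribution is a unit. -/
theorem exists_residue_ne_zero {y : G} (hy : ∃ k : ℕ, orderOf y = p ^ k) {B : Set (IrrCharacter G)}
    {b : Set (IrrCharacter (Subgroup.centralizer ({y} : Set G)))}
    (hind : IsInducedBlock M (Subgroup.centralizer ({y} : Set G)) b B) {d : ℕ}
    (hbd : blockDefect p b = d) {χ ψ : IrrCharacter G} (hχ : χ ∈ B) (hψ : ψ ∈ B)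
    (hχ0 : blockHeight p B (χ : G → ℂ) = 0) (hψ0 : blockHeight p B (ψ : G → ℂ) = 0) :
    ∃ z : localRing M, (z : ℂ) = (p : ℂ) ^ d * ∑ η ∈ (Set.toFinite b).toFinset,
        transCoeff y χ η * regCoeff p y η ψ ∧ resHom M z ≠ 0 := by
  have := Fintype.ofFinite (IrrCharacter (Subgroup.centralizer ({y} : Set G)))
  obtain ⟨hb, hB, -⟩ := isInducedBlock_iff.1 hind
  have hp0 : (p : ℂ) ≠ 0 := Nat.cast_ne_zero.2 hM.1.ne_zero
  set A := (Set.toFinite b).toFinset with hA
  set R := Finset.univ.filter (fun w : Subgroup.centralizer ({y} : Set G) => ¬ p ∣ orderOf w) with hR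
  set nC : ℂ := (Nat.card (Subgroup.centralizer ({y} : Set G)) : ℂ) with hnC
  let θ : IrrCharacter G → Subgroup.centralizer ({y} : Set G) → ℂ := fun χ c => (χ : G → ℂ) (y * (c : G))
  have hθ : ∀ χ, IsClassFunction (Subgroup.centralizer ({y} : Set G)) (θ χ) := fun χ =>
    isClassFunction_apply_mul (Char.IsIrr.isClassFunction χ.2)
  let a := transCoeff (G := G) y
  have ha : ∀ χ η, IsIntegral ℤ (a χ η) := isIntegral_transCoeff y
  let U := regCoeff (G := G) p y
  set a' := (Nat.card (Subgroup.centralizer ({y} : Set G))).factorization p with ha'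
  set e := minExp p b with he
  have hed : a' = e + d := factorization_eq_minExp_add hM hb hbd
  obtain ⟨ξ, hξ, hξ0⟩ := exists_height_zero (p := p) (IsPBlock.nonempty hb)
  obtain ⟨c, hc⟩ := exists_blockEval_regElt hM hb hξ
  have hc0 : c ≠ 0 := by
    obtain ⟨z, hz, hres⟩ := hc _ (Char.IsIrr.isClassFunction ξ.2)
      (Char.IsChar.isIntegral (Char.IsIrr.isCharacter ξ.2))
    rw [finsum_classInner_irr hξ] at hz
    intro e'
    exact residue_ne_zero_of_height_zero hM hξ hξ0 hz (by rw [hres, e', zero_mul])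
  have hiχ : ∀ w : Subgroup.centralizer ({y} : Set G), IsIntegral ℤ (θ χ w) := fun w =>
    Char.IsChar.isIntegral (Char.IsIrr.isCharacter χ.2) _
  obtain ⟨z, hz, hres⟩ := hc (θ χ) (hθ χ) hiχ
  have hres0 : resHom M z ≠ 0 := by
    rw [hres]
    exact mul_ne_zero hc0 (omegaBar_translate_ne_zero hM hind hχ hχ0 hy
      (fun w => (mem_centralizer_singleton.1 w.2).symm) hξ)
  let θ' : Subgroup.centralizer ({y} : Set G) → ℂ := fun w => (ψ : G → ℂ) (y⁻¹ * (w : G))
  have hiψ : ∀ w, IsIntegral ℤ (θ' w) := fun w =>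
    Char.IsChar.isIntegral (Char.IsIrr.isCharacter ψ.2) _
  have hθ'c : IsClassFunction (Subgroup.centralizer ({y} : Set G)) θ' := fun w v => by
    show (ψ : G → ℂ) (y⁻¹ * ((v * w * v⁻¹ : Subgroup.centralizer ({y} : Set G)) : G)) =
      (ψ : G → ℂ) (y⁻¹ * (w : G))
    have hv : Commute (v : G) y⁻¹ := (mem_centralizer_singleton.1 v.2).inv_right
    rw [show y⁻¹ * ((v * w * v⁻¹ : Subgroup.centralizer ({y} : Set G)) : G) =
        (v : G) * (y⁻¹ * w) * (v : G)⁻¹ by
      simp only [Subgroup.coe_mul, Subgroup.coe_inv, ← mul_assoc, ← hv.eq]]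
    exact Char.IsIrr.isClassFunction ψ.2 _ _
  set el := regElt (p := p) (M := M) θ' hiψ with hel
  have hcen := isCentralElt_regElt (p := p) (M := M) hθ'c hiψ
  have hL : omegaBar ξ (red M el) ≠ 0 :=
    omegaBar_translate_ne_zero hM hind hψ hψ0
      (by obtain ⟨k, hk⟩ := hy; exact ⟨k, by rw [orderOf_inv, hk]⟩)
      (fun w => (mem_centralizer_singleton.1 w.2).symm.inv_left) hξ
  obtain ⟨r, hr, hrp⟩ := exists_factorization (p := p)
    (Nat.card_pos (α := Subgroup.centralizer ({y} : Set G))).ne'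
  have hn : ∀ η : IrrCharacter (Subgroup.centralizer ({y} : Set G)), ∃ n : ℕ, η ∈ b →
      charDegree (η : Subgroup.centralizer ({y} : Set G) → ℂ) = p ^ e * n := fun η => by
    by_cases h : η ∈ b
    · exact (exists_degree_eq_minExp_mul h).imp fun _ h' _ => h'
    · exact ⟨0, fun h' => absurd h' h⟩
  choose n hn using hn
  let la : IrrCharacter (Subgroup.centralizer ({y} : Set G)) → localRing M := fun η =>
    ⟨a χ η, mem_localRing_of_isIntegral (ha χ η)⟩
  let rr : localRing M := ⟨(r : ℂ)⁻¹, inv_natCast_mem hM hrp⟩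
  let lω : IrrCharacter (Subgroup.centralizer ({y} : Set G)) → localRing M := fun η =>
    ⟨_, omega_inc_mem (M := M) η hcen⟩
  have hU : ∀ η ∈ A, (p : ℂ) ^ d * U η ψ = (n η : ℂ) * (r : ℂ)⁻¹ * (lω η : ℂ) := by
    intro η hη
    have h1 : omega (η : Subgroup.centralizer ({y} : Set G) → ℂ) (inc M el) *
        (η : Subgroup.centralizer ({y} : Set G) → ℂ) 1 =
        ∑ w ∈ R, (η : Subgroup.centralizer ({y} : Set G) → ℂ) w * conj (θ ψ w) := by
      rw [omega_apply, div_mul_cancel₀ _ (Char.IsIrr.apply_one_ne_zero η.2), hR, Finset.sum_filter]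
      refine Finset.sum_congr rfl fun w _ => ?_
      rw [coeff_inc, hel, coeff_regElt]
      by_cases hw : p ∣ orderOf w
      · simp [hw]
      · rw [if_neg hw, if_pos hw, mul_comm]
        congr 1
        show (ψ : G → ℂ) (y⁻¹ * ((w⁻¹ : Subgroup.centralizer ({y} : Set G)) : G)) =
          conj ((ψ : G → ℂ) (y * (w : G)))
        rw [← Char.IsIrr.map_inv ψ.2, Subgroup.coe_inv, mul_inv_rev,
          ((mem_centralizer_singleton.1 w.2).inv_inv).eq]
    have hnr : nC = (p : ℂ) ^ e * (p : ℂ) ^ d * (r : ℂ) := by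
      rw [show nC = ((Nat.card (Subgroup.centralizer ({y} : Set G)) : ℕ) : ℂ) from rfl, hr, ← ha',
        hed]
      push_cast
      ring
    show (p : ℂ) ^ d * ((Nat.card (Subgroup.centralizer ({y} : Set G)) : ℂ)⁻¹ *
      ∑ w ∈ R, (η : Subgroup.centralizer ({y} : Set G) → ℂ) w * conj (θ ψ w)) = _
    simp only [lω, ← hnC]
    rw [← h1, apply_one_eq_charDegree, hn η ((Set.Finite.mem_toFinset _).1 hη), hnr]
    push_cast
    have hr0 : (r : ℂ) ≠ 0 := Nat.cast_ne_zero.2 fun e' => hrp (e' ▸ dvd_zero p)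
    field_simp
    ring
  have hmm : (p : ℂ) ^ d * ∑ η ∈ A, a χ η * U η ψ = ((∑ η ∈ A, la η * (n η : localRing M) * rr * lω η : localRing M) : ℂ) := by
    rw [AddSubmonoidClass.coe_finsetSum]
    simp only [Finset.mul_sum]
    refine Finset.sum_congr rfl fun η hη => ?_
    rw [mul_left_comm, hU η hη]
    push_cast
    ring
  have hz' : z = ∑ η ∈ A, la η * (n η : localRing M) := by
    refine Subtype.ext (mul_right_cancel₀ (pow_ne_zero e hp0) ?_)
    rw [he, hz, finsum_mem_eq_finite_toFinset_sum _ (Set.toFinite b), AddSubmonoidClass.coe_finsetSum,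
      Finset.sum_mul]
    refine Finset.sum_congr rfl fun η hη => ?_
    rw [apply_one_eq_charDegree, hn η ((Set.Finite.mem_toFinset _).1 hη), ← he]
    simp only [la, a, transCoeff, θ]
    push_cast
    ring
  refine ⟨_, hmm.symm, fun h0' => ?_⟩
  rw [map_sum, Finset.sum_congr rfl (g := fun η =>
    resHom M (la η * (n η : localRing M)) * (resHom M rr * omegaBar ξ (red M el))) fun η hη => by
      rw [map_mul, map_mul, mul_assoc,
        omegaBar_congr (IsPBlock.sameBlock hb hξ ((Set.Finite.mem_toFinset _).1 hη)),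
        omegaBar_red η hcen],
    ← Finset.sum_mul, ← map_sum, ← hz', mul_eq_zero, mul_eq_zero] at h0'
  rcases h0' with h | h | h
  · exact hres0 h
  · have h2 : resHom M (rr * (r : localRing M)) = 0 := by rw [map_mul, h, zero_mul]
    rw [show rr * (r : localRing M) = 1 from Subtype.ext (by
      push_cast
      exact inv_mul_cancel₀ (Nat.cast_ne_zero.2 fun e' => hrp (e' ▸ dvd_zero p))), map_one] at h2
    exact one_ne_zero h2
  · exact hL h

/-- **Brauer**: `k(B) ^ 2 ≤ p ^ (2 d) l(b)` for a major subsection when all heights are zero. -/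
theorem sq_card_le {y : G} (hy : ∃ k : ℕ, orderOf y = p ^ k) {B : Set (IrrCharacter G)}
    (hh : ∀ χ ∈ B, blockHeight p B (χ : G → ℂ) = 0)
    {b : Set (IrrCharacter (Subgroup.centralizer ({y} : Set G)))}
    (hind : IsInducedBlock M (Subgroup.centralizer ({y} : Set G)) b B) {d : ℕ}
    (hbd : blockDefect p b = d) :
    Nat.card B ^ 2 ≤ p ^ (2 * d) * blockRank p b := by
  have := Fintype.ofFinite (IrrCharacter G)
  have := Fintype.ofFinite (IrrCharacter (Subgroup.centralizer ({y} : Set G)))
  obtain ⟨hb, hB, -⟩ := isInducedBlock_iff.1 hind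
  have hp0 : (p : ℂ) ≠ 0 := Nat.cast_ne_zero.2 hM.1.ne_zero
  have hyC : y ∈ Subgroup.centralizer ({y} : Set G) :=
    mem_centralizer_singleton.2 (Commute.refl y)
  set yC : Subgroup.centralizer ({y} : Set G) := ⟨y, hyC⟩ with hyCdef
  have hcentral : ∀ g : Subgroup.centralizer ({y} : Set G), g * yC = yC * g :=
    fun g => Subtype.ext (mem_centralizer_singleton.1 g.2).eq
  set A := (Set.toFinite b).toFinset with hA
  set Bf := (Set.toFinite B).toFinset with hBf
  set R := Finset.univ.filter (fun w : Subgroup.centralizer ({y} : Set G) => ¬ p ∣ orderOf w) with hR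
  set nC : ℂ := (Nat.card (Subgroup.centralizer ({y} : Set G)) : ℂ) with hnC
  let θ : IrrCharacter G → Subgroup.centralizer ({y} : Set G) → ℂ :=
    fun χ c => (χ : G → ℂ) (y * (c : G))
  have hθ : ∀ χ, IsClassFunction (Subgroup.centralizer ({y} : Set G)) (θ χ) := fun χ =>
    isClassFunction_apply_mul (Char.IsIrr.isClassFunction χ.2)
  let a := transCoeff (G := G) y
  let U := regCoeff (G := G) p y
  let mm : IrrCharacter G × IrrCharacter G → ℂ := fun q =>
    (p : ℂ) ^ d * ∑ η ∈ A, a q.1 η * U η q.2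
  have ha : ∀ χ η, IsIntegral ℤ (a χ η) := isIntegral_transCoeff y
  have hUint : ∀ η ∈ A, ∀ ψ, IsIntegral ℤ ((p : ℂ) ^ d * U η ψ) :=
    isIntegral_pow_mul_regCoeff hM hb hbd
  have hint : ∀ q ∈ Bf ×ˢ Bf, IsIntegral ℤ (mm q) := by
    intro q _
    simp only [mm, Finset.mul_sum]
    refine IsIntegral.sum _ fun η hη => ?_
    rw [mul_left_comm]
    exact (ha _ η).mul (hUint η hη _)
  -- the field
  set N := Nat.card G
  have hN0 : N ≠ 0 := Nat.card_pos.ne'
  set ζ : ℂ := Complex.exp (2 * Real.pi * Complex.I / N)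
  have hζ : IsPrimitiveRoot ζ N := Complex.isPrimitiveRoot_exp N hN0
  set K := IntermediateField.adjoin ℚ ({ζ} : Set ℂ)
  have hKχ : ∀ (χ : IrrCharacter G) (g : G), (χ : G → ℂ) g ∈ K := fun χ g =>
    apply_mem_adjoin (Char.IsIrr.isCharacter χ.2) hN0 hζ (orderOf_dvd_natCard g)
  have hKη : ∀ (η : IrrCharacter (Subgroup.centralizer ({y} : Set G)))
      (w : Subgroup.centralizer ({y} : Set G)),
      (η : Subgroup.centralizer ({y} : Set G) → ℂ) w ∈ K := fun η w =>
    apply_mem_adjoin (Char.IsIrr.isCharacter η.2) hN0 hζ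
      (by rw [← Subgroup.orderOf_coe]; exact orderOf_dvd_natCard (w : G))
  have hmem : ∀ q ∈ Bf ×ˢ Bf, mm q ∈ K := by
    intro q _
    refine mul_mem (pow_mem (natCast_mem K p) d) (sum_mem fun η _ => mul_mem ?_ ?_)
    · refine mul_mem (inv_mem (natCast_mem K _)) (sum_mem fun c _ => mul_mem (hKχ _ _) ?_)
      rw [← Char.IsIrr.map_inv η.2]
      exact hKη _ _
    · refine mul_mem (inv_mem (natCast_mem K _)) (sum_mem fun c _ => mul_mem (hKη _ _) ?_)
      show conj ((q.2 : G → ℂ) (y * (c : G))) ∈ K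
      rw [← Char.IsIrr.map_inv q.2.2]
      exact hKχ _ _
  -- nonvanishing
  have hne : ∀ q ∈ Bf ×ˢ Bf, mm q ≠ 0 := by
    rintro ⟨χ, ψ⟩ hq
    simp only [hBf, Finset.mem_product, Set.Finite.mem_toFinset] at hq
    obtain ⟨z, hz, hz0⟩ := exists_residue_ne_zero hM hy hind hbd hq.1 hq.2 (hh χ hq.1) (hh ψ hq.2)
    intro h0
    refine hz0 ?_
    rw [show z = 0 from Subtype.ext (hz.trans h0), map_zero]
  -- the norms
  let bp : IrrCharacter G → Subgroup.centralizer ({y} : Set G) → ℂ := fun χ w => blockPart b (θ χ) w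
  have hmm : ∀ χ ψ : IrrCharacter G,
      mm (χ, ψ) = (p : ℂ) ^ d * (nC⁻¹ * ∑ w ∈ R, bp χ w * conj (bp ψ w)) := by
    intro χ ψ
    have := Fintype.ofFinite
      {b' : Set (IrrCharacter (Subgroup.centralizer ({y} : Set G))) // IsPBlock M b'}
    have hcross : ∑ w ∈ R, bp χ w * conj (θ ψ w) = ∑ w ∈ R, bp χ w * conj (bp ψ w) := by
      rw [Finset.sum_congr rfl (g := fun w => ∑ b' : {b' : Set (IrrCharacter
          (Subgroup.centralizer ({y} : Set G))) // IsPBlock M b'},
            bp χ w * conj (blockPart b'.1 (θ ψ) w)) fun w _ => by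
          rw [← Finset.mul_sum, ← map_sum, sum_blockPart (M := M) (hθ ψ) w],
        Finset.sum_comm, Finset.sum_eq_single ⟨b, hb⟩]
      · intro b' _ hb'
        exact sum_regular_blockPart_mul_eq_zero hM hb b'.2
          (fun h => hb' (Subtype.ext h.symm)) _ _
      · exact fun h => absurd (Finset.mem_univ _) h
    rw [← hcross]
    simp only [mm, U, regCoeff, bp, blockPart_eq, finsum_mem_eq_finite_toFinset_sum _ (Set.toFinite b), ← hA,
      Finset.mul_sum, Finset.sum_mul]
    rw [Finset.sum_comm]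
    exact Finset.sum_congr rfl fun w _ => Finset.sum_congr rfl fun η _ => by
      simp only [a, transCoeff, θ, ← hnC]; ring
  have hsum : ∑ q ∈ Bf ×ˢ Bf, mm q * conj (mm q) =
      ((p ^ (2 * d) * blockRank p b : ℕ) : ℂ) := by
    have hpair : ∀ w ∈ R, ∀ w' ∈ R, ∑ χ ∈ Bf, bp χ w * conj (bp χ w') =
        ∑ η ∈ A, (η : Subgroup.centralizer ({y} : Set G) → ℂ) w *
          conj ((η : Subgroup.centralizer ({y} : Set G) → ℂ) w') := by
      intro w hw w' hw'
      have hwr := (Finset.mem_filter.1 hw).2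
      have hwr' := (Finset.mem_filter.1 hw').2
      rw [Finset.sum_subset (Finset.subset_univ Bf) fun χ _ hχ => ?_]
      · exact sum_all_blockPart_mul hM hy hb hwr hwr'
      · rw [hBf, Set.Finite.mem_toFinset] at hχ
        simp only [bp, θ]
        rw [blockPart_eq_zero_of_not_induced hM hy (isPBlock_blockOf χ) (mem_blockOf_self χ) hb
          (fun h => hχ (IsInducedBlock.eq hind h ▸ mem_blockOf_self χ)) hwr, zero_mul]
    calc ∑ q ∈ Bf ×ˢ Bf, mm q * conj (mm q)
        = (p : ℂ) ^ (2 * d) * (nC⁻¹ * nC⁻¹) * ∑ w ∈ R, ∑ w' ∈ R,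
            (∑ χ ∈ Bf, bp χ w * conj (bp χ w')) * conj (∑ χ ∈ Bf, bp χ w * conj (bp χ w')) := by
          have hcn : conj nC = nC := map_natCast _ _
          rw [Finset.sum_product]
          simp only [hmm, map_mul, map_sum, map_pow, map_inv₀, map_natCast, Complex.conj_conj,
            hcn, Finset.sum_mul, Finset.mul_sum]
          rw [Finset.sum_comm (s := Bf) (t := Bf)]
          refine Eq.trans (Finset.sum_congr rfl fun ψ _ => (Finset.sum_congr rfl fun χ _ =>
            Finset.sum_comm).trans (Finset.sum_comm.trans (Finset.sum_congr rfl fun w _ =>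
              Finset.sum_comm))) ?_
          rw [Finset.sum_comm]
          refine Finset.sum_congr rfl fun w _ => ?_
          rw [Finset.sum_comm]
          refine Finset.sum_congr rfl fun w' _ => ?_
          exact Finset.sum_congr rfl fun ψ _ => Finset.sum_congr rfl fun χ _ => by ring
      _ = (p : ℂ) ^ (2 * d) * (nC⁻¹ * nC⁻¹) * ∑ w ∈ R,
            nC * ∑ η ∈ A, (η : Subgroup.centralizer ({y} : Set G) → ℂ) w *
              conj ((η : Subgroup.centralizer ({y} : Set G) → ℂ) w) := by
          refine congrArg _ (Finset.sum_congr rfl fun w hw => ?_)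
          rw [← sum_regular_kernel_mul hM hb (Finset.mem_filter.1 hw).2 w]
          exact Finset.sum_congr rfl fun w' hw' => by rw [hpair w hw w' hw']
      _ = _ := by
          have hcard := card_mul_blockRank hM hb
          rw [← hnC] at hcard
          have hl : ∑ w ∈ R, ∑ η ∈ A, (η : Subgroup.centralizer ({y} : Set G) → ℂ) w *
              conj ((η : Subgroup.centralizer ({y} : Set G) → ℂ) w) = nC * (blockRank p b : ℂ) := by
            rw [hcard, hR, Finset.sum_filter]
            refine Finset.sum_congr rfl fun w _ => ?_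
            rw [finsum_mem_eq_finite_toFinset_sum _ (Set.toFinite b)]
            by_cases hw : p ∣ orderOf w
            · simp [pRegularPart_eq_regCut, regCut, hw]
            · rw [if_pos hw]
              exact Finset.sum_congr rfl fun η _ => by
                rw [pRegularPart_eq_regCut, regCut, if_neg hw, Char.IsIrr.map_inv η.2]
          have hnC0 : nC ≠ 0 := Nat.cast_ne_zero.2 Nat.card_pos.ne'
          rw [← Finset.mul_sum, hl]
          push_cast
          field_simp
  have h := card_le_of_sum_mul_conj (Bf ×ˢ Bf) mm hN0 hζ hint hmem hne hsum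
  rw [Finset.card_product] at h
  rwa [Nat.card_coe_set_eq, Set.ncard_eq_toFinset_card B (Set.toFinite B), ← hBf, sq]

end CfsgLib.Blocks
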