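import Cfsg.Agent.Lib.Blocks.Quotient
import Cfsg.Agent.Lib.Blocks.DefectNumber

/-!
# Blocks of quotients
-/

namespace CfsgLib.Blocks

open Cfsg MonoidAlgebra
open scoped ComplexConjugate

variable {G : Type*} [Group G] [Fintype G] {p : ℕ} {M : Ideal AlgInt} [M.IsPrime]
  (hM : IsPModular p M)

include hM

/-- Block idempotents are supported on `p`-regular elements. -/
theorem blockCoeff_eq_zero_of_dvd {B : Set (IrrCharacter G)} (hB : IsPBlock M B) {g : G}
    (hg : p ∣ orderOf g) : blockCoeff B g = 0 := by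
  rw [blockCoeff, finsum_mem_eq_finite_toFinset_sum _ (Set.toFinite B),
    Finset.sum_congr rfl fun χ _ => by rw [← Char.IsIrr.map_inv χ.2],
    ← finsum_mem_eq_finite_toFinset_sum _ (Set.toFinite B),
    sum_block_regular_singular hM hB (by simp [hM.1.ne_one]) (by rwa [orderOf_inv]), mul_zero]

theorem coeff_blockIdemBar_eq_zero_of_dvd {B : Set (IrrCharacter G)} (hB : IsPBlock M B) {g : G}
    (hg : p ∣ orderOf g) : (blockIdemBar M B).coeff g = 0 := by
  rw [coeff_blockIdemBar_eq_zero_iff hB, blockCoeff_eq_zero_of_dvd hM hB hg]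
  exact ⟨0, 1, M.zero_mem, one_notMem, by simp⟩

/-- Agreement of central characters on `p`-regular elements gives equality of blocks. -/
theorem sameBlock_of_regular {χ ψ : IrrCharacter G}
    (h : ∀ g : G, ¬ p ∣ orderOf g → centralCharBar M χ g = centralCharBar M ψ g) :
    SameBlock M (χ : G → ℂ) (ψ : G → ℂ) := by
  classical
  have hB := isPBlock_blockOf (M := M) χ
  have h1 : omegaBar χ (blockIdemBar M (blockOf M (χ : G → ℂ))) =
      omegaBar ψ (blockIdemBar M (blockOf M (χ : G → ℂ))) := by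
    unfold omegaBar
    refine Finset.sum_congr rfl fun C _ => ?_
    by_cases hC : p ∣ orderOf (Quotient.out C)
    · rw [coeff_blockIdemBar_eq_zero_of_dvd hM hB hC, zero_mul, zero_mul]
    · rw [h _ hC]
  rw [omegaBar_blockIdemBar hB, omegaBar_blockIdemBar hB, if_pos (mem_blockOf_self χ)] at h1
  by_contra hcon
  rw [if_neg (show ψ ∉ blockOf M (χ : G → ℂ) from hcon)] at h1
  exact one_ne_zero h1

/-- A group with a self-centralizing normal `p`-subgroup has one block. -/
theorem sameBlock_of_centralizer_le [Fact p.Prime] {P : Subgroup G} [P.Normal] (hP : IsPGroup p P)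
    (hC : Subgroup.centralizer (P : Set G) ≤ P) (χ ψ : IrrCharacter G) :
    SameBlock M (χ : G → ℂ) (ψ : G → ℂ) := by
  classical
  have := charP_residueField hM
  have hB := isPBlock_blockOf (M := M) χ
  set e := blockIdemBar M (blockOf M (χ : G → ℂ)) with he
  have hec : IsCentralElt e := isCentralElt_blockIdemBar hB
  have hd : IsCentralElt (e - e.coeff 1 • 1) := hec.sub (IsCentralElt.one.smul _)
  obtain ⟨n, hn⟩ := isNilpotent_of_vanish_centralizer hP hd fun c hc => by
    by_cases h1 : c = 1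
    · subst h1; simp [one_def]
    · obtain ⟨k, hk⟩ := IsPGroup.iff_orderOf.1 hP ⟨c, hC hc⟩
      have hp : p ∣ orderOf c := by
        rw [Subgroup.orderOf_mk] at hk
        rw [hk]
        exact dvd_pow_self p fun e0 => h1 (orderOf_eq_one_iff.1 (by rw [hk, e0, pow_zero]))
      simp [he, coeff_blockIdemBar_eq_zero_of_dvd hM hB hp, one_def, Ne.symm h1]
  have hval : ∀ η : IrrCharacter G, omegaBar η e = e.coeff 1 := fun η => by
    have h0 := congrArg (omegaBar η) hn
    rw [omegaBar_pow η hd, omegaBar_zero] at h0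
    have h1 := (pow_eq_zero_iff (fun e0 => by simp [e0] at h0)).1 h0
    rwa [omegaBar_sub, omegaBar_smul, omegaBar_one, mul_one, sub_eq_zero] at h1
  have h1 := (hval χ).trans (hval ψ).symm
  rw [he, omegaBar_blockIdemBar hB, omegaBar_blockIdemBar hB, if_pos (mem_blockOf_self χ)] at h1
  by_contra hcon
  rw [if_neg (show ψ ∉ blockOf M (χ : G → ℂ) from hcon)] at h1
  exact one_ne_zero h1

omit hM

theorem index_centralizer_mk_dvd (N : Subgroup G) [N.Normal] (g : G) :
    (Subgroup.centralizer ({(g : G ⧸ N)} : Set (G ⧸ N))).index ∣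
      (Subgroup.centralizer ({g} : Set G)).index := by
  refine (Subgroup.index_dvd_of_le ?_).trans
    (Subgroup.index_map_dvd _ (QuotientGroup.mk'_surjective N))
  rintro _ ⟨x, hx, rfl⟩
  exact Subgroup.mem_centralizer_singleton_iff.2 (by
    simp only [QuotientGroup.mk'_apply, ← QuotientGroup.mk_mul,
      Subgroup.mem_centralizer_singleton_iff.1 hx])

/-- Inflation maps blocks into blocks. -/
theorem sameBlock_inflate (N : Subgroup G) [N.Normal] [Fintype (G ⧸ N)]
    {χ ψ : IrrCharacter (G ⧸ N)} (h : SameBlock M (χ : G ⧸ N → ℂ) (ψ : G ⧸ N → ℂ)) :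
    SameBlock M (inflate N χ : G → ℂ) (inflate N ψ : G → ℂ) := by
  refine sameBlock_iff.2 fun g => ?_
  obtain ⟨m, hm⟩ := index_centralizer_mk_dvd N g
  have hcc : ∀ η : IrrCharacter (G ⧸ N),
      centralCharBar M (inflate N η) g = (m : Res M) * centralCharBar M η (g : G ⧸ N) := by
    intro η
    rw [centralCharBar, centralCharBar, ← map_natCast (resHom M), ← map_mul]
    congr 1
    refine Subtype.ext ?_
    push_cast
    show centralChar (inflate N η : G → ℂ) g = (m : ℂ) * centralChar (η : G ⧸ N → ℂ) (g : G ⧸ N)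
    rw [centralChar, centralChar, inflate_apply, inflate_apply, hm, QuotientGroup.mk_one]
    push_cast
    ring
  rw [hcc, hcc, sameBlock_iff.1 h]

include hM

/-- Over a normal `p'`-subgroup, inflation reflects blocks. -/
theorem sameBlock_of_inflate_of_not_dvd (N : Subgroup G) [N.Normal] [Fintype (G ⧸ N)]
    (hN : ¬ p ∣ Nat.card N) {χ ψ : IrrCharacter (G ⧸ N)}
    (h : SameBlock M (inflate N χ : G → ℂ) (inflate N ψ : G → ℂ)) :
    SameBlock M (χ : G ⧸ N → ℂ) (ψ : G ⧸ N → ℂ) := by
  classical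
  refine sameBlock_iff.2 fun q => ?_
  let a : MonoidAlgebra (localRing M) G :=
    ofFun fun g => if IsConj q (g : G ⧸ N) then 1 else 0
  have ha : IsCentralElt a := fun g x => by
    simp only [a, coeff_ofFun]
    have hc : IsConj (g : G ⧸ N) ((x * g * x⁻¹ : G) : G ⧸ N) :=
      isConj_iff.2 ⟨(x : G ⧸ N), by simp⟩
    exact if_congr ⟨fun e => e.trans hc.symm, fun e => e.trans hc⟩ rfl rfl
  have hcc : ∀ η : IrrCharacter (G ⧸ N),
      omegaBar (inflate N η) (red M a) = (Nat.card N : Res M) * centralCharBar M η q := by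
    intro η
    rw [omegaBar_red _ ha, centralCharBar, ← map_natCast (resHom M), ← map_mul]
    congr 1
    refine Subtype.ext ?_
    push_cast
    show omega (inflate N η : G → ℂ) (inc M a) = (Nat.card N : ℂ) * centralChar (η : G ⧸ N → ℂ) q
    rw [← omega_classSum (Char.IsIrr.isClassFunction η.2), omega_apply, omega_apply,
      inflate_apply, QuotientGroup.mk_one, ← mul_div_assoc, Finset.mul_sum]
    congr 1
    rw [← Finset.sum_fiberwise (g := fun g : G => (g : G ⧸ N))]
    refine Finset.sum_congr rfl fun r _ => ?_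
    have hval : ∀ g ∈ Finset.univ.filter (fun g : G => (g : G ⧸ N) = r),
        (inc M a).coeff g * (inflate N η : G → ℂ) g =
          (classSum ℂ q).coeff r * (η : G ⧸ N → ℂ) r := fun g hg => by
      rw [coeff_inc, inflate_apply, (Finset.mem_filter.1 hg).2, coeff_classSum]
      simp only [a, coeff_ofFun, (Finset.mem_filter.1 hg).2]
      split_ifs <;> simp
    rw [Finset.sum_congr rfl hval, Finset.sum_const, nsmul_eq_mul]
    congr 2
    rw [← Fintype.card_subtype, ← Nat.card_eq_fintype_card]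
    obtain ⟨g₀, rfl⟩ := QuotientGroup.mk_surjective r
    exact Nat.card_congr
      { toFun := fun g => ⟨g₀⁻¹ * g.1, QuotientGroup.eq.1 g.2.symm⟩
        invFun := fun n => ⟨g₀ * n.1, by rw [QuotientGroup.mk_mul, (QuotientGroup.eq_one_iff _).2 n.2, mul_one]⟩
        left_inv := fun g => Subtype.ext (mul_inv_cancel_left g₀ g.1)
        right_inv := fun n => Subtype.ext (inv_mul_cancel_left g₀ n.1) }
  have h1 := omegaBar_congr h (red M a)
  rw [hcc, hcc] at h1
  refine mul_left_cancel₀ ?_ h1
  rw [← map_natCast (resHom M)]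
  exact ((isUnit_natCast_iff hM).2 hN).map (resHom M) |>.ne_zero

variable [Fact p.Prime] (P : Subgroup G) [P.Normal] (hP : IsPGroup p P)
  {k : ℕ} (hC : (Subgroup.centralizer (P : Set G)).index = p ^ k)
include hP hC

omit hM [M.IsPrime] in
theorem mem_centralizer_of_regular {g : G} (hg : ¬ p ∣ orderOf g) :
    g ∈ Subgroup.centralizer (P : Set G) := by
  rw [← QuotientGroup.eq_one_iff, ← orderOf_eq_one_iff]
  have h2 : orderOf (g : G ⧸ Subgroup.centralizer (P : Set G)) ∣ p ^ k :=
    hC ▸ orderOf_dvd_natCard _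
  exact Nat.eq_one_of_dvd_coprimes
    (((Nat.Prime.coprime_iff_not_dvd Fact.out).2 hg).pow_left k) h2
    (orderOf_map_dvd (QuotientGroup.mk' _) g)

omit hM [M.IsPrime] in
/-- A `p`-regular translate of a `p`-regular element by the normal `p`-subgroup is trivial. -/
theorem eq_one_of_regular_mul {g u : G} (hu : u ∈ P) (hg : ¬ p ∣ orderOf g)
    (hgu : ¬ p ∣ orderOf (g * u)) : u = 1 := by
  have hc : Commute g u :=
    (Subgroup.mem_centralizer_iff.1 (mem_centralizer_of_regular P hP hC hg) u hu).symm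
  obtain ⟨i, hi⟩ := IsPGroup.iff_orderOf.1 hP ⟨u, hu⟩
  rw [Subgroup.orderOf_mk] at hi
  rcases Nat.eq_zero_or_pos i with h0 | h0
  · exact orderOf_eq_one_iff.1 (by rw [hi, h0, pow_zero])
  refine absurd ?_ hgu
  rw [hc.orderOf_mul_eq_mul_orderOf_of_coprime
    (by rw [hi]; exact ((((Nat.Prime.coprime_iff_not_dvd Fact.out).2 hg).pow_left i)).symm), hi]
  exact (dvd_pow_self p h0.ne').mul_left _

omit hM [M.IsPrime] in
theorem index_centralizer_mk_eq {g : G} (hg : ¬ p ∣ orderOf g) :
    (Subgroup.centralizer ({(g : G ⧸ P)} : Set (G ⧸ P))).index =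
      (Subgroup.centralizer ({g} : Set G)).index := by
  have hle : (Subgroup.centralizer ({(g : G ⧸ P)} : Set (G ⧸ P))).comap (QuotientGroup.mk' P) =
      Subgroup.centralizer ({g} : Set G) := by
    ext x
    rw [Subgroup.mem_comap, Subgroup.mem_centralizer_singleton_iff,
      Subgroup.mem_centralizer_singleton_iff, QuotientGroup.mk'_apply, ← QuotientGroup.mk_mul,
      ← QuotientGroup.mk_mul]
    refine ⟨fun h => ?_, fun h => congrArg _ h⟩
    have hu : g⁻¹ * (x * g * x⁻¹) ∈ P := by
      rw [← QuotientGroup.eq_one_iff]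
      have h' : (x : G ⧸ P) * (g : G ⧸ P) = (g : G ⧸ P) * (x : G ⧸ P) := by
        rw [← QuotientGroup.mk_mul, ← QuotientGroup.mk_mul]; exact h
      simp only [QuotientGroup.mk_mul, QuotientGroup.mk_inv, h']
      group
    have h1 := eq_one_of_regular_mul P hP hC hu hg (by
      rw [mul_inv_cancel_left, show x * g * x⁻¹ = MulAut.conj x g from rfl, MulEquiv.orderOf_eq]
      exact hg)
    rw [inv_mul_eq_one, eq_mul_inv_iff_mul_eq] at h1
    exact h1.symm
  rw [← hle, Subgroup.index_comap_of_surjective _ (QuotientGroup.mk'_surjective P)]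

/-- Inflation from `G ⧸ P` reflects blocks. -/
theorem sameBlock_of_inflate_of_pGroup [Fintype (G ⧸ P)] {χ ψ : IrrCharacter (G ⧸ P)}
    (h : SameBlock M (inflate P χ : G → ℂ) (inflate P ψ : G → ℂ)) :
    SameBlock M (χ : G ⧸ P → ℂ) (ψ : G ⧸ P → ℂ) := by
  refine sameBlock_of_regular hM fun q hq => ?_
  obtain ⟨g, rfl⟩ := QuotientGroup.mk_surjective q
  obtain ⟨u, hu⟩ := exists_pPart hM.1 g
  obtain ⟨y, rfl, hc, ⟨i, hi⟩, hy⟩ := hu
  have hu1 : (u : G ⧸ P) = 1 := by
    have hcq : Commute (u : G ⧸ P) (y : G ⧸ P) := hc.map (QuotientGroup.mk' P)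
    have hdu : orderOf (u : G ⧸ P) ∣ p ^ i := hi ▸ orderOf_map_dvd (QuotientGroup.mk' P) u
    obtain ⟨l, -, hl⟩ := (Nat.dvd_prime_pow hM.1).1 hdu
    rcases Nat.eq_zero_or_pos l with h0 | h0
    · exact orderOf_eq_one_iff.1 (by rw [hl, h0, pow_zero])
    exfalso
    refine hq ?_
    rw [QuotientGroup.mk_mul, hcq.orderOf_mul_eq_mul_orderOf_of_coprime, hl]
    · exact (dvd_pow_self p h0.ne').mul_right _
    · rw [hl]
      exact Nat.Coprime.coprime_dvd_right (orderOf_map_dvd (QuotientGroup.mk' P) y)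
        (((Nat.Prime.coprime_iff_not_dvd hM.1).2 hy).pow_left l)
  rw [QuotientGroup.mk_mul, hu1, one_mul]
  have hcc : ∀ η : IrrCharacter (G ⧸ P),
      centralCharBar M η (y : G ⧸ P) = centralCharBar M (inflate P η) y := by
    intro η
    rw [centralCharBar, centralCharBar]
    congr 1
    refine Subtype.ext ?_
    show centralChar (η : G ⧸ P → ℂ) (y : G ⧸ P) = centralChar (inflate P η : G → ℂ) y
    rw [centralChar, centralChar, index_centralizer_mk_eq P hP hC hy, inflate_apply, inflate_apply,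
      QuotientGroup.mk_one]
  rw [hcc, hcc, sameBlock_iff.1 h]

/-- Every block contains an inflated character. -/
theorem exists_inflate_mem [Fintype (G ⧸ P)] {B : Set (IrrCharacter G)} (hB : IsPBlock M B) :
    ∃ χ : IrrCharacter (G ⧸ P), inflate P χ ∈ B := by
  classical
  have := Fintype.ofFinite P
  by_contra hcon
  push Not at hcon
  have h0 : avgElt P * blockIdem B = 0 := by
    refine eq_of_omega_eq ((isCentralElt_avgElt P).mul (isCentralElt_blockIdem B))
      IsCentralElt.zero fun η => ?_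
    rw [omega_mul η (isCentralElt_avgElt P), omega_blockIdem, map_zero]
    by_cases hη : η ∈ B
    · rw [if_pos hη, mul_one]
      refine (omega_avgElt_eq_or P η).resolve_right fun h1 => ?_
      obtain ⟨χ, hχ⟩ := exists_inflate_eq P η ((omega_avgElt_eq_one_iff P η).1 h1)
      exact hcon χ (hχ ▸ hη)
    · rw [if_neg hη, mul_zero]
  obtain ⟨η, hη⟩ := IsPBlock.nonempty hB
  have h1 : omega (η : G → ℂ) (blockIdem B) = 1 := by rw [omega_blockIdem, if_pos hη]
  have hz : blockIdem B = 0 := by
    ext g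
    rw [coeff_blockIdem, coeff_zero, Finsupp.zero_apply]
    by_cases hg : p ∣ orderOf g
    · exact blockCoeff_eq_zero_of_dvd hM hB hg
    have hP0 : (Nat.card P : ℂ) ≠ 0 := Nat.cast_ne_zero.2 Nat.card_pos.ne'
    have h2 := congrArg (fun a : MonoidAlgebra ℂ G => a.coeff g) h0
    simp only [coeff_mul_eq_sum, coeff_zero, Finsupp.zero_apply, coeff_blockIdem, avgElt,
      coeff_ofFun, ite_mul, zero_mul, ← Finset.sum_filter] at h2
    rw [Finset.sum_eq_single (1 : G)] at h2
    · rw [inv_one, one_mul] at h2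
      exact (mul_eq_zero.1 h2).resolve_left (inv_ne_zero hP0)
    · intro x hx hx1
      rw [blockCoeff_eq_zero_of_dvd hM hB, mul_zero]
      by_contra hcon'
      have hxP : x ∈ P := (Finset.mem_filter.1 hx).2
      have hgc := mem_centralizer_of_regular P hP hC hg
      rw [Subgroup.mem_centralizer_iff.1 hgc x⁻¹ (inv_mem hxP)] at hcon'
      exact hx1 (inv_eq_one.1 (eq_one_of_regular_mul P hP hC (inv_mem hxP) hg hcon'))
    · exact fun h => absurd (Finset.mem_filter.2 ⟨Finset.mem_univ _, one_mem P⟩) h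
  rw [hz, map_zero] at h1
  exact zero_ne_one h1

end CfsgLib.Blocks
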