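import Cfsg.Agent.Lib.Blocks.Quotient
import Cfsg.Agent.Lib.Blocks.QuotientBlocks
import Cfsg.Agent.Lib.Char.PowerTwist
import Cfsg.Agent.Lib.Char.Rationality
import Cfsg.Agent.Lib.Core.Cores

/-!
# The principal block is stable under Galois twists, and lives on `G ⧸ O_{p'}(G)`
-/

namespace CfsgLib.Blocks

open Cfsg
open scoped ComplexConjugate

variable {G : Type*} [Group G] [Fintype G] {p : ℕ} {M : Ideal AlgInt} [M.IsPrime]
  (hM : IsPModular p M)

/-- The twist of an irreducible character by a power prime to the group order. -/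
noncomputable def powTwist {k : ℕ} (hk : k.Coprime (Nat.card G)) (χ : IrrCharacter G) :
    IrrCharacter G :=
  ⟨fun g => (χ : G → ℂ) (g ^ k), Char.isIrrCharacter_pow χ.2 hk⟩

theorem powTwist_apply {k : ℕ} (hk : k.Coprime (Nat.card G)) (χ : IrrCharacter G) (g : G) :
    (powTwist hk χ : G → ℂ) g = (χ : G → ℂ) (g ^ k) := rfl

theorem powTwist_injective {k : ℕ} (hk : k.Coprime (Nat.card G)) :
    Function.Injective (powTwist (G := G) hk) := fun χ ψ h => Subtype.ext (funext fun g => by
  obtain ⟨m, hm⟩ := exists_pow_eq_self_of_coprime (x := g)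
    (hk.coprime_dvd_right (orderOf_dvd_natCard g))
  have := congrFun (congrArg Subtype.val h) (g ^ m)
  rw [powTwist_apply, powTwist_apply, ← pow_mul, mul_comm, pow_mul, hm] at this
  exact this)

include hM

/-- **Galois stability of the principal block.** -/
theorem powTwist_mem_principalBlock {k : ℕ} (hk : k.Coprime (Nat.card G)) {χ : IrrCharacter G}
    (hχ : χ ∈ principalBlock M G) : powTwist hk χ ∈ principalBlock M G := by
  classical
  have := Fintype.ofFinite (IrrCharacter G)
  set B := principalBlock M G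
  let e : IrrCharacter G ≃ IrrCharacter G :=
    Equiv.ofBijective _ (powTwist_injective hk).bijective_of_finite
  set A : Set (IrrCharacter G) := {χ | powTwist hk χ ∈ B}
  have hroot : ∀ g : G, ∃ g' : G, g' ^ k = g ∧ orderOf g' = orderOf g := fun g => by
    obtain ⟨m, hm⟩ := exists_pow_eq_self_of_coprime (x := g)
      (hk.coprime_dvd_right (orderOf_dvd_natCard g))
    refine ⟨g ^ m, by rw [← pow_mul, mul_comm, pow_mul, hm], ?_⟩
    refine Nat.dvd_antisymm (orderOf_pow_dvd m) ?_
    conv_lhs => rw [← hm, ← pow_mul, mul_comm, pow_mul]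
    exact orderOf_pow_dvd k
  have horth : ∀ x y : G, ¬ p ∣ orderOf x → p ∣ orderOf y →
      ∑ᶠ χ ∈ A, (χ : G → ℂ) x * (χ : G → ℂ) y = 0 := by
    intro x y hx hy
    obtain ⟨x', rfl, hxo⟩ := hroot x
    obtain ⟨y', rfl, hyo⟩ := hroot y
    rw [← sum_block_regular_singular hM (isPBlock_principalBlock (M := M) (G := G))
      (x := x') (y := y') (by rwa [hxo]) (by rwa [hyo]),
      finsum_mem_eq_finite_toFinset_sum _ (Set.toFinite A),
      finsum_mem_eq_finite_toFinset_sum _ (Set.toFinite B)]
    exact Finset.sum_equiv e (fun χ => by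
      simp only [Set.Finite.mem_toFinset]; exact Iff.rfl) fun χ _ => rfl
  exact mem_of_sameBlock_of_blockCoeff_mem (A := A) (blockCoeff_mem_of_orth hM A horth)
    (χ := Char.trivChar G) (by
      show powTwist hk (Char.trivChar G) ∈ B
      rw [show powTwist hk (Char.trivChar G) = Char.trivChar G from Subtype.ext rfl]
      exact trivChar_mem_principalBlock)
    hχ

/-- Membership in the principal block is decided modulo `O_{p'}`. -/
theorem mem_principalBlock_inflate_iff (N : Subgroup G) [N.Normal] [Fintype (G ⧸ N)]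
    (hN : ¬ p ∣ Nat.card N) (ψ : IrrCharacter (G ⧸ N)) :
    inflate N ψ ∈ principalBlock M G ↔ ψ ∈ principalBlock M (G ⧸ N) := by
  constructor
  · intro h
    exact sameBlock_of_inflate_of_not_dvd hM N hN (ψ := ψ) (χ := Char.trivChar (G ⧸ N)) (by
      rw [show inflate N (Char.trivChar (G ⧸ N)) = Char.trivChar G from Subtype.ext rfl]
      exact h)
  · intro h
    exact sameBlock_inflate N (χ := Char.trivChar (G ⧸ N)) (ψ := ψ) h

/-- Sums over the principal block are sums over the principal block of the quotient. -/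
theorem sum_principalBlock_eq_quotient (N : Subgroup G) [N.Normal] [Fintype (G ⧸ N)]
    (hN : ¬ p ∣ Nat.card N) {A : Type*} [AddCommMonoid A] (f : (G → ℂ) → A) :
    ∑ᶠ χ ∈ principalBlock M G, f (χ : G → ℂ) =
      ∑ᶠ ψ ∈ principalBlock M (G ⧸ N), f (fun g => (ψ : G ⧸ N → ℂ) g) := by
  have himg : principalBlock M G = inflate N '' principalBlock M (G ⧸ N) := by
    ext χ
    constructor
    · intro hχ
      obtain ⟨ψ, rfl⟩ := exists_inflate_eq N χ (apply_eq_of_mem_principalBlock N hM hN hχ)
      exact ⟨ψ, (mem_principalBlock_inflate_iff hM N hN ψ).1 hχ, rfl⟩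
    · rintro ⟨ψ, hψ, rfl⟩
      exact (mem_principalBlock_inflate_iff hM N hN ψ).2 hψ
  rw [himg, finsum_mem_image (inflate_injective N).injOn]
  rfl

/-- The sum of the squared absolute values over the principal block is a natural number. -/
theorem exists_nat_sum_normSq (x : G) :
    ∃ n : ℕ, 0 < n ∧
      ∑ᶠ χ ∈ principalBlock M G, Complex.normSq ((χ : G → ℂ) x) = n := by
  classical
  set B := principalBlock M G
  set T := (Set.toFinite B).toFinset
  rw [finsum_mem_eq_finite_toFinset_sum _ (Set.toFinite B)]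
  set θ : G → ℂ := ∑ χ ∈ T, (χ : G → ℂ) * fun g => conj ((χ : G → ℂ) g)
  have hθ : Cfsg.IsCharacter G θ := Char.IsChar.sum _ _ fun χ _ =>
    Char.IsChar.mul (Char.IsIrr.isCharacter χ.2) (Char.IsChar.conj (Char.IsIrr.isCharacter χ.2))
  have happ : ∀ g, θ g = ((∑ χ ∈ T, Complex.normSq ((χ : G → ℂ) g) : ℝ) : ℂ) := fun g => by
    simp only [θ, Finset.sum_apply, Pi.mul_apply, Complex.mul_conj, Complex.ofReal_sum]
  obtain ⟨m, ρ, hρ⟩ := hθ
  obtain ⟨q, hq⟩ := CharRational.exists_rat_of_apply_pow_eq ρ x fun k hk => by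
    rw [hρ]
    simp only [θ, Finset.sum_apply, Pi.mul_apply]
    refine Finset.sum_nbij (powTwist hk) (fun χ hχ => ?_) ((powTwist_injective hk).injOn) ?_
      fun χ _ => rfl
    · simp only [T, Set.Finite.mem_toFinset] at hχ ⊢
      exact powTwist_mem_principalBlock hM hk hχ
    · intro ψ hψ
      have hsub : T.image (powTwist hk) ⊆ T := fun φ hφ => by
        obtain ⟨χ, hχ, rfl⟩ := Finset.mem_image.1 hφ
        simp only [T, Set.Finite.mem_toFinset] at hχ ⊢
        exact powTwist_mem_principalBlock hM hk hχ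
      have heq := Finset.eq_of_subset_of_card_le hsub
        (by rw [Finset.card_image_of_injective _ (powTwist_injective hk)])
      have : ψ ∈ T.image (powTwist hk) := by rw [heq]; exact hψ
      simpa using this
  rw [hρ] at hq
  obtain ⟨z, hz⟩ := IsIntegrallyClosed.isIntegral_iff.1 (show IsIntegral ℤ q from
    (isIntegral_algebraMap_iff (A := ℚ) (B := ℂ) (algebraMap ℚ ℂ).injective).1 (by
      rw [eq_ratCast, ← hq]
      exact Char.IsChar.isIntegral ⟨m, ρ, hρ⟩ x))
  have hval : (∑ χ ∈ T, Complex.normSq ((χ : G → ℂ) x)) = (z : ℝ) := by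
    refine Complex.ofReal_injective ?_
    rw [← happ, hq, ← hz]
    simp
  have hpos : 1 ≤ ∑ χ ∈ T, Complex.normSq ((χ : G → ℂ) x) := by
    refine le_trans (le_of_eq ?_) (Finset.single_le_sum (fun χ _ => Complex.normSq_nonneg _)
      ((Set.Finite.mem_toFinset _).2 trivChar_mem_principalBlock))
    simp [Char.trivChar_apply]
  rw [hval] at hpos ⊢
  have hz1 : (1 : ℤ) ≤ z := by exact_mod_cast hpos
  exact ⟨z.toNat, by omega, by
    rw [← Int.cast_natCast, Int.toNat_of_nonneg (by omega)]⟩

end CfsgLib.Blocks
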