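import Cfsg.Agent.Lib.Blocks.KleinBlock
import Cfsg.Agent.Lib.Signalizer.Klein
import Cfsg.Agent.Lib.Char.RealForm
import Cfsg.Agent.Lib.CharDegree.IndicatorVal
import Cfsg.Agent.Lib.Transfer.MaximalClass
import Mathlib.Tactic.LinearCombination

/-!
# The order formula for groups with a Klein four Sylow 2-subgroup

The number of ways of writing the elements of `J O(C(J))` as products of two involutions is
counted directly and by the characters of the principal 2-block.
-/

namespace CfsgLib.Blocks

open Cfsg CfsgLib.Char CfsgLib.CharAction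
open scoped ComplexConjugate Classical

universe u

variable {G : Type u} [Group G] [Fintype G]

/-- Without a normal complement a Sylow `2`-subgroup of order four is a four-group and all
involutions are conjugate. -/
theorem klein_of_no_complement {g₀ : ℕ} (hg₀ : Odd g₀) (hG : Nat.card G = 4 * g₀)
    (hnc : ¬ ∃ N : Subgroup G, N.Normal ∧ Nat.card N = g₀) (P : Sylow 2 G) :
    IsKleinFour (P : Subgroup G) ∧ ∀ s t : G, orderOf s = 2 → orderOf t = 2 → IsConj s t := by
  have : Fact (Nat.Prime 2) := ⟨Nat.prime_two⟩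
  have hg0 : g₀ ≠ 0 := fun e => by rw [e] at hg₀; exact absurd hg₀ (by decide)
  have hfac : (Nat.card G).factorization 2 = 2 := by
    rw [hG, Nat.factorization_mul (by norm_num) hg0, Finsupp.add_apply,
      Nat.factorization_eq_zero_of_not_dvd (n := g₀) (p := 2)
        (by obtain ⟨m, hm⟩ := hg₀; omega),
      show (4 : ℕ) = 2 ^ 2 by norm_num, Nat.Prime.factorization_pow Nat.prime_two,
      Finsupp.single_eq_same]
  have hP4 : Nat.card (P : Subgroup G) = 4 := by
    rw [P.card_eq_multiplicity, hfac]; norm_num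
  have hcompl : ∀ N : Subgroup G, N.Normal → N.IsComplement' (P : Subgroup G) → False := by
    intro N hN h
    refine hnc ⟨N, hN, ?_⟩
    have h1 := h.card_mul_card
    rw [hP4, hG] at h1
    omega
  have hKlein : IsKleinFour (P : Subgroup G) := by
    refine CfsgLib.Transfer.klein_of_card_four hP4 fun hcyc => ?_
    have hmin : (Nat.card G).minFac = 2 := by
      rw [Nat.minFac_eq_two_iff, hG]
      exact ⟨2 * g₀, by ring⟩
    exact hcompl _ (MonoidHom.normal_ker _) (IsCyclic.isComplement' hmin hcyc)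
  refine ⟨hKlein, fun s t hs ht => ?_⟩
  have hnot : ¬ Subgroup.normalizer ((P : Subgroup G) : Set G) ≤
      Subgroup.centralizer ((P : Subgroup G) : Set G) := fun h =>
    hcompl _ (MonoidHom.normal_ker _) (MonoidHom.ker_transferSylow_isComplement' P h)
  have h1 := (CfsgLib.Signalizer.klein_one P hKlein hnot).1
  have hsub := (Nat.card_eq_one_iff_unique.1 h1).1
  have := hsub.elim (⟨ConjClasses.mk s, s, hs, rfl⟩ : CfsgLib.Signalizer.InvClass G)
    ⟨ConjClasses.mk t, t, ht, rfl⟩
  exact ConjClasses.mk_eq_mk_iff_isConj.1 (congrArg Subtype.val this)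

/-- An irreducible character of indicator `-1` has even degree. -/
theorem even_degree_of_fsInd_eq_neg_one (χ : IrrCharacter G) (h : fsInd (χ : G → ℂ) = -1) :
    2 ∣ charDegree (χ : G → ℂ) := by
  have hreal := CfsgLib.CharDegree.im_eq_zero_of_fsInd_ne_zero χ (by rw [h]; norm_num)
  obtain ⟨χ, n, ρ, hρ, rfl⟩ := χ
  obtain ⟨X, hX, hinv⟩ := exists_invariant_form ρ hreal
  have ht := invariant_form_transpose ρ hreal X hinv
  have hn : charDegree ρ.character = n := by
    have h1 := apply_one_eq_charDegree (⟨ρ.character, n, ρ, hρ, rfl⟩ : IrrCharacter G)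
    change ρ.character 1 = (charDegree ρ.character : ℂ) at h1
    rw [Representation.char_one, Module.finrank_fintype_fun_eq_card, Fintype.card_fin] at h1
    exact_mod_cast h1.symm
  rw [h] at ht
  have hd := congrArg Matrix.det ht
  rw [Matrix.det_transpose, Matrix.det_smul, Fintype.card_fin] at hd
  show 2 ∣ charDegree ρ.character
  rw [hn]
  by_contra hodd
  rw [(Nat.odd_iff.2 (Nat.two_dvd_ne_zero.1 hodd)).neg_one_pow] at hd
  exact hX.ne_zero (by linear_combination hd / 2)

variable (P : Sylow 2 G) (hP : IsKleinFour (P : Subgroup G))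
  (hone : ∀ s t : G, orderOf s = 2 → orderOf t = 2 → IsConj s t)
  {M : Ideal AlgInt} [M.IsPrime] (hM : IsPModular 2 M) {J : G} (hJP : J ∈ (P : Subgroup G))
  (hJ : orderOf J = 2)

include hone hJ in
/-- The indicator function of the involutions as a combination of characters. -/
theorem sum_apply_mul_involution [Fintype (IrrCharacter G)] (b : G) :
    ∑ χ : IrrCharacter G, (χ : G → ℂ) b * (χ : G → ℂ) J =
      if orderOf b = 2 then (Nat.card (Subgroup.centralizer ({J} : Set G)) : ℂ) else 0 := by
  have hinv : J⁻¹ = J := inv_eq_of_mul_eq_one_right (by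
    rw [← pow_two, ← hJ, pow_orderOf_eq_one])
  have h := Char.column_orthogonality J b
  have hsum : ∑ χ : IrrCharacter G, (χ : G → ℂ) b * (χ : G → ℂ) J =
      conj (∑ χ : IrrCharacter G, (χ : G → ℂ) J * conj ((χ : G → ℂ) b)) := by
    rw [map_sum]
    refine Finset.sum_congr rfl fun χ _ => ?_
    rw [map_mul, Complex.conj_conj, ← Char.IsIrr.map_inv χ.2, hinv, mul_comm]
  rw [hsum, h]
  by_cases hb : orderOf b = 2
  · rw [if_pos hb, if_pos (hone J b hJ hb), map_natCast]
  · rw [if_neg hb, if_neg fun hc => hb ?_, map_zero]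
    obtain ⟨g, rfl⟩ := isConj_iff.1 hc
    rw [← hJ]
    exact MulEquiv.orderOf_eq (MulAut.conj g) J

include hP hM hJP hJ in
/-- The average of a character over the section of `J`. -/
theorem sum_section_eq (χ : IrrCharacter G)
    {N : Subgroup (Subgroup.centralizer ({J} : Set G))} [N.Normal] (hodd : ¬ 2 ∣ Nat.card N)
    (hindex : N.index = 2 ^ 2)
    (hmem : ∀ y : Subgroup.centralizer ({J} : Set G), ¬ 2 ∣ orderOf y ↔ y ∈ N) :
    ∑ y : N, (χ : G → ℂ) (J * ((y : Subgroup.centralizer ({J} : Set G)) : G)) =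
      if χ ∈ principalBlock M G then (Nat.card N : ℂ) * (χ : G → ℂ) J else 0 := by
  have : Fact (Nat.Prime 2) := ⟨Nat.prime_two⟩
  have := Fintype.ofFinite (IrrCharacter (Subgroup.centralizer ({J} : Set G)))
  have h1r : ¬ 2 ∣ orderOf (1 : Subgroup.centralizer ({J} : Set G)) := by simp
  have h := blockPart_principal_translate hM (x := J) ⟨1, by rw [hJ, pow_one]⟩ χ h1r
  rw [OneMemClass.coe_one, mul_one, blockPart_apply] at h
  have hb0 : (Set.toFinite (principalBlock M (Subgroup.centralizer ({J} : Set G)))).toFinset =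
      Finset.univ.filter (fun ψ : IrrCharacter (Subgroup.centralizer ({J} : Set G)) =>
        ∀ n ∈ N, (ψ : Subgroup.centralizer ({J} : Set G) → ℂ) n =
          (ψ : Subgroup.centralizer ({J} : Set G) → ℂ) 1) := by
    ext ψ
    rw [Set.Finite.mem_toFinset, principalBlock_eq_of_complement N hM hodd hindex]
    simp
  have hdeg := sum_degree_sq_trivial N
  rw [hindex] at hdeg
  have hw : ∀ w : Subgroup.centralizer ({J} : Set G),
      ∑ᶠ ψ ∈ principalBlock M (Subgroup.centralizer ({J} : Set G)),
        (ψ : Subgroup.centralizer ({J} : Set G) → ℂ) 1 *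
          (ψ : Subgroup.centralizer ({J} : Set G) → ℂ) w⁻¹ = if w ∈ N then 4 else 0 := by
    intro w
    by_cases hwN : w ∈ N
    · rw [if_pos hwN, finsum_mem_eq_finite_toFinset_sum _ (Set.toFinite _), hb0,
        Finset.sum_congr rfl (g := fun ψ : IrrCharacter (Subgroup.centralizer ({J} : Set G)) =>
          ((charDegree (ψ : Subgroup.centralizer ({J} : Set G) → ℂ) ^ 2 : ℕ) : ℂ)) fun ψ hψ => by
          rw [(Finset.mem_filter.1 hψ).2 _ (inv_mem hwN), apply_one_eq_charDegree, Nat.cast_pow, sq],
        ← Nat.cast_sum, hdeg]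
      norm_num
    · rw [if_neg hwN]
      refine sum_block_regular_singular hM isPBlock_principalBlock h1r ?_
      rw [orderOf_inv]
      by_contra hd
      exact hwN ((hmem w).1 hd)
  simp only [hw, mul_ite, mul_zero, ← Finset.sum_filter] at h
  rw [Finset.sum_subtype (p := (· ∈ N)) _ (by simp), ← Finset.sum_mul, ← N.card_mul_index, hindex,
    Nat.cast_mul] at h
  push_cast at h
  have hN0 : (Nat.card N : ℂ) ≠ 0 := Nat.cast_ne_zero.2 Nat.card_pos.ne'
  rw [mul_inv] at h
  split_ifs at h ⊢ with hχ
  · rw [← h]; field_simp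
  · have h' : (∑ y : N, (χ : G → ℂ) (J * ((y : Subgroup.centralizer ({J} : Set G)) : G))) *
        ((Nat.card N : ℂ))⁻¹ = 0 := by linear_combination h
    exact (mul_eq_zero.1 h').resolve_right (inv_ne_zero hN0)

include hP hone hM hJP hJ in
/-- No element squares into the section of `J`, so the signed indicator sum vanishes. -/
theorem sum_fsInd_eq_zero :
    ∑ᶠ χ ∈ principalBlock M G, fsInd (χ : G → ℂ) * (χ : G → ℂ) J = 0 := by
  have : Fact (Nat.Prime 2) := ⟨Nat.prime_two⟩
  have := Fintype.ofFinite (IrrCharacter G)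
  obtain ⟨N, hN, hodd, hindex, hmem⟩ := exists_complement_centralizer P hP hJP hJ
  have hno : ∀ y : N, (Nat.card {s : G //
      s * s = J * ((y : Subgroup.centralizer ({J} : Set G)) : G)} : ℂ) = 0 := by
    intro y
    rw [Nat.cast_eq_zero, Nat.card_eq_zero]
    refine Or.inl ⟨fun ⟨s, hs⟩ => ?_⟩
    have hy : ¬ 2 ∣ orderOf (y : Subgroup.centralizer ({J} : Set G)) := (hmem _).2 y.2
    have h2 : 2 ∣ orderOf (s * s) := by
      rw [hs]
      exact (IsPPart.dvd_orderOf_iff hM.1 (isPPart_mul_of_mem_centralizer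
        ⟨1, by rw [hJ, pow_one]⟩ hy)).2 fun e => by rw [e, orderOf_one] at hJ; omega
    have hss : orderOf (s * s) ∣ orderOf s := by
      rw [← pow_two]; exact orderOf_pow_dvd 2
    have h4 : 4 ∣ orderOf s := by
      obtain ⟨m, hm⟩ := h2.trans hss
      have h5 : orderOf (s * s) = m := by
        rw [← pow_two, orderOf_pow' _ two_ne_zero, hm, Nat.gcd_mul_right_left,
          Nat.mul_div_cancel_left _ two_pos]
      rw [h5] at h2
      obtain ⟨k, rfl⟩ := h2
      exact ⟨k, by rw [hm]; ring⟩
    obtain ⟨k, hk⟩ := h4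
    have hk0 : k ≠ 0 := fun e => by
      have := orderOf_pos s
      rw [hk, e] at this
      omega
    have ho : orderOf (s ^ k) = 4 := by
      rw [orderOf_pow' _ hk0, hk, Nat.gcd_mul_left_left, Nat.mul_div_cancel _ (Nat.pos_of_ne_zero hk0)]
    obtain ⟨Q, hQ⟩ := (IsPGroup.of_card (n := 2) (by rw [Nat.card_zpowers, ho]; norm_num) :
      IsPGroup 2 (Subgroup.zpowers (s ^ k))).exists_le_sylow
    obtain ⟨c, hc⟩ := MulAction.exists_smul_eq G Q P
    have hmemP : c * s ^ k * c⁻¹ ∈ (P : Subgroup G) := by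
      rw [← hc, Sylow.coe_subgroup_smul]
      exact ⟨s ^ k, hQ (Subgroup.mem_zpowers _), by simp⟩
    have ho' : orderOf (c * s ^ k * c⁻¹) = 4 := by
      rw [← ho]; exact MulEquiv.orderOf_eq (MulAut.conj c) (s ^ k)
    rw [orderOf_eq_two_of_mem_klein P hP hmemP fun e => by rw [e, orderOf_one] at ho'; omega] at ho'
    omega
  have h0 : ∑ y : N, ∑ χ : IrrCharacter G, fsInd (χ : G → ℂ) *
      (χ : G → ℂ) (J * ((y : Subgroup.centralizer ({J} : Set G)) : G)) = 0 :=
    Finset.sum_eq_zero fun y _ => by rw [← card_sqrt_eq_sum, hno]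
  rw [Finset.sum_comm] at h0
  simp only [← Finset.mul_sum, sum_section_eq P hP hM hJP hJ _ hodd hindex hmem, mul_ite, mul_zero,
    ← Finset.sum_filter, mul_left_comm _ (Nat.card N : ℂ), mul_eq_zero,
    Nat.cast_eq_zero, Nat.card_pos.ne', false_or] at h0
  rw [finsum_mem_eq_finite_toFinset_sum _ (Set.toFinite _), ← h0]
  exact Finset.sum_congr (by ext; simp) fun _ _ => rfl

include hP hone hM hJP hJ in
/-- Counting products of two involutions in the section of `J`. -/
theorem order_formula :
    2 * (Nat.card (Subgroup.centralizer ({J} : Set G)) : ℂ) ^ 2 * (4 *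
        (Nat.card (Subgroup.centralizer ({J} : Set G)) : ℂ)) =
      (Nat.card (Subgroup.centralizer ((P : Subgroup G) : Set G)) : ℂ) ^ 2 *
        ((Nat.card G : ℂ) * ∑ᶠ χ ∈ principalBlock M G,
          (χ : G → ℂ) J ^ 3 / (χ : G → ℂ) 1) := by
  have : Fact (Nat.Prime 2) := ⟨Nat.prime_two⟩
  have := Fintype.ofFinite (IrrCharacter G)
  obtain ⟨N, hN, hodd, hindex, hmem⟩ := exists_complement_centralizer P hP hJP hJ
  have hJ1 : J ≠ 1 := fun e => by rw [e, orderOf_one] at hJ; omega
  have hJJ : J * J = 1 := by rw [← pow_two, ← hJ, pow_orderOf_eq_one]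
  have hJinv : J⁻¹ = J := inv_eq_of_mul_eq_one_right hJJ
  have hle : (P : Subgroup G) ≤ Subgroup.centralizer ({J} : Set G) := fun a ha =>
    mem_centralizer_singleton.2 (commute_of_mem_klein P hP ha hJP)
  set π := QuotientGroup.mk' N
  set JC : Subgroup.centralizer ({J} : Set G) := ⟨J, hle hJP⟩ with hJC
  set R : Finset (Subgroup.centralizer ({J} : Set G)) :=
    Finset.univ.filter (fun a : Subgroup.centralizer ({J} : Set G) =>
      orderOf a = 2 ∧ π a ≠ π JC) with hR
  have hinvN : ∀ a : Subgroup.centralizer ({J} : Set G), orderOf a = 2 → π a ≠ 1 := by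
    intro a ha e
    exact (hmem a).2 ((QuotientGroup.eq_one_iff a).1 e) (by rw [ha])
  have hq4 : Nat.card (Subgroup.centralizer ({J} : Set G) ⧸ N) = 4 := by
    rw [← Subgroup.index_eq_card, hindex]; norm_num
  have hqcomm : ∀ a b : Subgroup.centralizer ({J} : Set G) ⧸ N, a * b = b * a := by
    have := IsPGroup.isMulCommutative_of_card_eq_prime_sq (p := 2)
      (G := Subgroup.centralizer ({J} : Set G) ⧸ N) (by rw [hq4]; norm_num)
    exact fun a b => this.is_comm.comm a b
  have hsylow : ∀ a : Subgroup.centralizer ({J} : Set G), orderOf a = 2 →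
      ∃ (c : Subgroup.centralizer ({J} : Set G)) (v : Subgroup.centralizer ({J} : Set G)),
        (v : G) ∈ (P : Subgroup G) ∧ c * a * c⁻¹ = v ∧ π a = π v := by
    intro a ha
    let P' : Sylow 2 (Subgroup.centralizer ({J} : Set G)) := P.subtype hle
    obtain ⟨Q, hQ⟩ := (IsPGroup.of_card (n := 1) (by rw [Nat.card_zpowers, ha, pow_one]) :
      IsPGroup 2 (Subgroup.zpowers a)).exists_le_sylow
    obtain ⟨c, hc⟩ := MulAction.exists_smul_eq (Subgroup.centralizer ({J} : Set G)) Q P'
    refine ⟨c, c * a * c⁻¹, ?_, rfl, ?_⟩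
    · have : c * a * c⁻¹ ∈ (P' : Subgroup (Subgroup.centralizer ({J} : Set G))) := by
        rw [← hc, Sylow.coe_subgroup_smul]
        exact ⟨a, hQ (Subgroup.mem_zpowers a), by simp⟩
      exact this
    · rw [map_mul, map_mul, map_inv, hqcomm (π c) (π a), mul_inv_cancel_right]
  obtain ⟨u, hu, hu1, huJ⟩ : ∃ u ∈ (P : Subgroup G), u ≠ 1 ∧ u ≠ J := by
    by_contra hcon
    push Not at hcon
    have hsub : (Finset.univ : Finset (P : Subgroup G)) ⊆ {1, ⟨J, hJP⟩} := fun w _ => by
      rcases eq_or_ne (w : G) 1 with e | e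
      · simp [Subtype.ext_iff, e]
      · simp [Subtype.ext_iff, hcon w w.2 e]
    have := (Finset.card_le_card hsub).trans (Finset.card_le_two)
    rw [Finset.card_univ, ← Nat.card_eq_fintype_card, hP.card_four] at this
    omega
  set uC : Subgroup.centralizer ({J} : Set G) := ⟨u, hle hu⟩ with huC
  have hu2 : orderOf uC = 2 := by
    rw [← Subgroup.orderOf_coe]; exact orderOf_eq_two_of_mem_klein P hP hu hu1
  have hwC2 : orderOf (uC * JC) = 2 := by
    rw [← Subgroup.orderOf_coe]
    refine orderOf_eq_two_of_mem_klein P hP (mul_mem hu hJP) fun e => huJ ?_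
    rw [← hJinv]; exact eq_inv_of_mul_eq_one_left e
  have hPinj : ∀ v w : Subgroup.centralizer ({J} : Set G), (v : G) ∈ (P : Subgroup G) →
      (w : G) ∈ (P : Subgroup G) → π v = π w → v = w := by
    intro v w hv hw e
    by_contra hne
    have hmemN : v⁻¹ * w ∈ N := QuotientGroup.eq.1 e
    have h2 := orderOf_eq_two_of_mem_klein P hP (mul_mem (inv_mem hv) hw)
      (fun h => hne (Subtype.ext (inv_mul_eq_one.1 h)))
    refine (hmem _).2 hmemN ?_
    rw [← Subgroup.orderOf_coe, Subgroup.coe_mul, Subgroup.coe_inv, h2]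
  have hPfour : ∀ v : Subgroup.centralizer ({J} : Set G), (v : G) ∈ (P : Subgroup G) →
      v = 1 ∨ v = JC ∨ v = uC ∨ v = uC * JC := by
    intro v hv
    rcases CfsgLib.TwoGroups.klein_cases hP hu hJP hu1 hJ1 huJ hv with h | h | h | h
    · exact Or.inl (Subtype.ext h)
    · exact Or.inr (Or.inr (Or.inl (Subtype.ext h)))
    · exact Or.inr (Or.inl (Subtype.ext h))
    · exact Or.inr (Or.inr (Or.inr (Subtype.ext h)))
  have hT : ∀ v : Subgroup.centralizer ({J} : Set G), (v : G) ∈ (P : Subgroup G) → v ≠ JC →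
      orderOf v = 2 →
      Nat.card (Subgroup.centralizer ((P : Subgroup G) : Set G)) *
        (Finset.univ.filter fun a : Subgroup.centralizer ({J} : Set G) =>
          orderOf a = 2 ∧ π a = π v).card = Nat.card (Subgroup.centralizer ({J} : Set G)) := by
    intro v hv hvJ hv2
    have hcls : (Finset.univ.filter fun a : Subgroup.centralizer ({J} : Set G) =>
          orderOf a = 2 ∧ π a = π v).card = Nat.card (ConjClasses.mk v).carrier := by
      rw [Nat.card_eq_fintype_card, ← Set.toFinset_card]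
      congr 1
      ext a
      rw [Set.mem_toFinset, ConjClasses.mem_carrier_iff_mk_eq, ConjClasses.mk_eq_mk_iff_isConj,
        Finset.mem_filter]
      constructor
      · rintro ⟨-, ha, hav⟩
        obtain ⟨c, w, hw, hcw, haw⟩ := hsylow a ha
        have := hPinj w v hw hv (haw.symm.trans hav)
        exact isConj_iff.2 ⟨c, by rw [hcw, this]⟩
      · intro hc
        obtain ⟨c, hc⟩ := isConj_iff.1 hc
        refine ⟨Finset.mem_univ _, ?_, ?_⟩
        · rw [← hv2, ← hc]
          exact (MulEquiv.orderOf_eq (MulAut.conj c) a).symm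
        · rw [← hc, map_mul, map_mul, map_inv, hqcomm (π c) (π a), mul_inv_cancel_right]
    have hcent : Nat.card (Subgroup.centralizer ({v} : Set (Subgroup.centralizer ({J} : Set G)))) =
        Nat.card (Subgroup.centralizer ((P : Subgroup G) : Set G)) := by
      have hv1 : (v : G) ≠ 1 := fun e => by
        rw [← Subgroup.orderOf_coe, e, orderOf_one] at hv2; omega
      have hvJ' : J ≠ (v : G) := fun e => hvJ (Subtype.ext e.symm)
      refine Nat.card_congr
        { toFun := fun g => ⟨((g : Subgroup.centralizer ({J} : Set G)) : G),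
            Subgroup.mem_centralizer_iff.2 fun w hw => ?_⟩
          invFun := fun g => ⟨⟨(g : G), mem_centralizer_singleton.2
            (Subgroup.mem_centralizer_iff.1 g.2 J hJP).symm⟩, mem_centralizer_singleton.2
            (Subtype.ext (Subgroup.mem_centralizer_iff.1 g.2 (v : G) hv).symm)⟩
          left_inv := fun _ => rfl
          right_inv := fun _ => rfl }
      have h1 : Commute ((g : Subgroup.centralizer ({J} : Set G)) : G) J :=
        mem_centralizer_singleton.1 (g : Subgroup.centralizer ({J} : Set G)).2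
      have h2 : Commute ((g : Subgroup.centralizer ({J} : Set G)) : G) (v : G) :=
        congrArg Subtype.val (mem_centralizer_singleton.1 g.2)
      rcases CfsgLib.TwoGroups.klein_cases hP hJP hv hJ1 hv1 hvJ' hw with rfl | rfl | rfl | rfl
      · rw [one_mul, mul_one]
      · exact h1.eq.symm
      · exact h2.eq.symm
      · exact (h1.mul_right h2).eq.symm
    rw [hcls, ← hcent, Char.card_carrier_eq_index, Subgroup.card_mul_index]
  -- the count
  have hcoset : ∀ a : Subgroup.centralizer ({J} : Set G), orderOf a = 2 →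
      π a = π uC ∨ π a = π JC ∨ π a = π (uC * JC) := by
    intro a ha
    obtain ⟨c, v, hv, -, hav⟩ := hsylow a ha
    rw [hav]
    rcases hPfour v hv with rfl | rfl | rfl | rfl
    · exact absurd (hav.trans (map_one π)) (hinvN a ha)
    · exact Or.inr (Or.inl rfl)
    · exact Or.inl rfl
    · exact Or.inr (Or.inr rfl)
  have huJC : π uC ≠ π JC := fun e => huJ (congrArg Subtype.val (hPinj uC JC hu hJP e))
  have huw : π uC ≠ π (uC * JC) := fun e => by
    have h := hPinj uC (uC * JC) hu (mul_mem hu hJP) e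
    exact hJ1 (congrArg Subtype.val (mul_eq_left.1 h.symm))
  have hwJ : π (uC * JC) ≠ π JC := fun e => by
    have h := hPinj (uC * JC) JC (mul_mem hu hJP) hJP e
    exact hu1 (congrArg Subtype.val (mul_eq_right.1 h))
  set T₁ := Finset.univ.filter fun a : Subgroup.centralizer ({J} : Set G) =>
    orderOf a = 2 ∧ π a = π uC with hT₁
  set T₂ := Finset.univ.filter fun a : Subgroup.centralizer ({J} : Set G) =>
    orderOf a = 2 ∧ π a = π (uC * JC) with hT₂
  have hJC2 : JC * JC = 1 := Subtype.ext hJJ
  let W : Finset (G × N) := Finset.univ.filter fun q : G × N =>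
    orderOf q.1 = 2 ∧
      orderOf (q.1 * (J * ((q.2 : Subgroup.centralizer ({J} : Set G)) : G))) = 2
  have hW : W.card = (T₁ ×ˢ T₂ ∪ T₂ ×ˢ T₁).card := by
    refine Finset.card_bij (fun q hq => (⟨q.1, ?_⟩,
      ⟨q.1 * (J * ((q.2 : Subgroup.centralizer ({J} : Set G)) : G)), ?_⟩)) ?_ ?_ ?_
    · obtain ⟨ha, hb⟩ := (Finset.mem_filter.1 hq).2
      have hp := isPPart_mul_of_mem_centralizer (p := 2) (x := J) ⟨1, by rw [hJ, pow_one]⟩
        ((hmem _).2 q.2.2)
      set g := J * ((q.2 : Subgroup.centralizer ({J} : Set G)) : G)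
      have haa : q.1 * q.1 = 1 := by rw [← pow_two, ← ha, pow_orderOf_eq_one]
      have hbb : q.1 * g * (q.1 * g) = 1 := by rw [← pow_two, ← hb, pow_orderOf_eq_one]
      have hinvg : q.1 * g * q.1⁻¹ = g⁻¹ := by
        rw [inv_eq_of_mul_eq_one_right haa]
        exact eq_inv_of_mul_eq_one_left (by rw [mul_assoc]; exact hbb)
      have hp2 : IsPPart 2 g⁻¹ J := by
        obtain ⟨w, e, hc, hk, hw⟩ := hp
        refine ⟨w⁻¹, ?_, hc.inv_right, hk, by rwa [orderOf_inv]⟩
        rw [← e, mul_inv_rev, hJinv]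
        exact hc.inv_right.eq
      have := conj_pPart_eq hM.1 hp hp2 (x := q.1⁻¹) (j := 1) (by norm_num)
        (by rw [pow_one, pow_one, ← hinvg]; group)
      rw [inv_inv] at this
      exact mem_centralizer_singleton.2 (mul_inv_eq_iff_eq_mul.1 this)
    · obtain ⟨ha, -⟩ := (Finset.mem_filter.1 hq).2
      refine mul_mem ?_ (mul_mem (hle hJP) (q.2 : Subgroup.centralizer ({J} : Set G)).2)
      -- the first component centralizes `J`, as shown above
      obtain ⟨ha, hb⟩ := (Finset.mem_filter.1 hq).2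
      have hp := isPPart_mul_of_mem_centralizer (p := 2) (x := J) ⟨1, by rw [hJ, pow_one]⟩
        ((hmem _).2 q.2.2)
      set g := J * ((q.2 : Subgroup.centralizer ({J} : Set G)) : G)
      have haa : q.1 * q.1 = 1 := by rw [← pow_two, ← ha, pow_orderOf_eq_one]
      have hbb : q.1 * g * (q.1 * g) = 1 := by rw [← pow_two, ← hb, pow_orderOf_eq_one]
      have hinvg : q.1 * g * q.1⁻¹ = g⁻¹ := by
        rw [inv_eq_of_mul_eq_one_right haa]
        exact eq_inv_of_mul_eq_one_left (by rw [mul_assoc]; exact hbb)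
      have hp2 : IsPPart 2 g⁻¹ J := by
        obtain ⟨w, e, hc, hk, hw⟩ := hp
        refine ⟨w⁻¹, ?_, hc.inv_right, hk, by rwa [orderOf_inv]⟩
        rw [← e, mul_inv_rev, hJinv]
        exact hc.inv_right.eq
      have := conj_pPart_eq hM.1 hp hp2 (x := q.1⁻¹) (j := 1) (by norm_num)
        (by rw [pow_one, pow_one, ← hinvg]; group)
      rw [inv_inv] at this
      exact mem_centralizer_singleton.2 (mul_inv_eq_iff_eq_mul.1 this)
    · intro q hq
      obtain ⟨ha, hb⟩ := (Finset.mem_filter.1 hq).2
      set a : Subgroup.centralizer ({J} : Set G) := ⟨q.1, _⟩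
      set b : Subgroup.centralizer ({J} : Set G) :=
        ⟨q.1 * (J * ((q.2 : Subgroup.centralizer ({J} : Set G)) : G)), _⟩
      have hab : π b = π a * π JC := by
        rw [show b = a * (JC * (q.2 : Subgroup.centralizer ({J} : Set G))) from Subtype.ext rfl,
          map_mul, map_mul, show π (q.2 : Subgroup.centralizer ({J} : Set G)) = 1 from
            (QuotientGroup.eq_one_iff _).2 q.2.2, mul_one]
      have ha' : orderOf a = 2 := by rw [← Subgroup.orderOf_coe]; exact ha
      have hb' : orderOf b = 2 := by rw [← Subgroup.orderOf_coe]; exact hb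
      simp only [Finset.mem_union, Finset.mem_product, hT₁, hT₂, Finset.mem_filter,
        Finset.mem_univ, true_and]
      rcases hcoset a ha' with e | e | e
      · exact Or.inl ⟨⟨ha', e⟩, hb', by rw [hab, e, map_mul]⟩
      · exact absurd (by rw [hab, e, ← map_mul, hJC2, map_one]) (hinvN b hb')
      · exact Or.inr ⟨⟨ha', e⟩, hb', by rw [hab, e, ← map_mul, mul_assoc, hJC2, mul_one]⟩
    · intro q hq q' hq' e
      have e1 := congrArg (fun t => ((t.1 : Subgroup.centralizer ({J} : Set G)) : G)) e
      have e2 := congrArg (fun t => ((t.2 : Subgroup.centralizer ({J} : Set G)) : G)) e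
      simp only at e1 e2
      rw [e1, mul_right_inj, mul_right_inj] at e2
      exact Prod.ext e1 (Subtype.ext (Subtype.ext e2))
    · rintro ⟨a, b⟩ hab
      simp only [Finset.mem_union, Finset.mem_product, hT₁, hT₂, Finset.mem_filter,
        Finset.mem_univ, true_and] at hab
      have hd : orderOf a = 2 ∧ orderOf b = 2 ∧ π b = π a * π JC := by
        rcases hab with ⟨⟨ha, ea⟩, hb, eb⟩ | ⟨⟨ha, ea⟩, hb, eb⟩
        · exact ⟨ha, hb, by rw [eb, ea, map_mul]⟩
        · exact ⟨ha, hb, by rw [eb, ea, ← map_mul, mul_assoc, hJC2, mul_one]⟩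
      obtain ⟨ha, hb, he⟩ := hd
      have hk : JC⁻¹ * (a⁻¹ * b) ∈ N := by
        rw [← QuotientGroup.eq_one_iff]
        show π _ = 1
        rw [map_mul, map_mul, map_inv, map_inv, he]
        group
      have hval : a * (JC * (JC⁻¹ * (a⁻¹ * b))) = b := by group
      refine ⟨((a : G), ⟨_, hk⟩), Finset.mem_filter.2 ⟨Finset.mem_univ _, ?_, ?_⟩,
        Prod.ext rfl (Subtype.ext ?_)⟩
      · rw [Subgroup.orderOf_coe]; exact ha
      · have := congrArg Subtype.val hval
        simp only [Subgroup.coe_mul] at this ⊢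
        refine (congrArg orderOf this).trans ?_
        rw [Subgroup.orderOf_coe]
        exact hb
      · have := congrArg Subtype.val hval
        simp only [Subgroup.coe_mul] at this ⊢
        exact this
  have hWc : (Nat.card (Subgroup.centralizer ((P : Subgroup G) : Set G))) ^ 2 * W.card =
      2 * Nat.card (Subgroup.centralizer ({J} : Set G)) ^ 2 := by
    have h1 := hT uC hu (fun e => huJC (by rw [e])) hu2
    have h2 := hT (uC * JC) (mul_mem hu hJP) (fun e => hwJ (by rw [e])) hwC2
    rw [← hT₁] at h1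
    rw [← hT₂] at h2
    rw [hW, Finset.card_union_of_disjoint, Finset.card_product, Finset.card_product]
    · calc Nat.card (Subgroup.centralizer ((P : Subgroup G) : Set G)) ^ 2 *
            (T₁.card * T₂.card + T₂.card * T₁.card)
          = 2 * ((Nat.card (Subgroup.centralizer ((P : Subgroup G) : Set G)) * T₁.card) *
              (Nat.card (Subgroup.centralizer ((P : Subgroup G) : Set G)) * T₂.card)) := by ring
        _ = _ := by rw [h1, h2]; ring
    · rw [Finset.disjoint_left]
      intro q hq hq'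
      simp only [Finset.mem_product, hT₁, hT₂, Finset.mem_filter, Finset.mem_univ, true_and] at hq hq'
      exact huw (hq.1.2.symm.trans hq'.1.2)
  -- the count by characters
  set c : ℂ := (Nat.card (Subgroup.centralizer ({J} : Set G)) : ℂ) with hc
  have hc0 : c ≠ 0 := Nat.cast_ne_zero.2 Nat.card_pos.ne'
  have hind : ∀ b : G, (if orderOf b = 2 then (1 : ℂ) else 0) =
      c⁻¹ * ∑ χ : IrrCharacter G, (χ : G → ℂ) b * (χ : G → ℂ) J := fun b => by
    rw [sum_apply_mul_involution hone hJ b]
    split_ifs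
    · rw [inv_mul_cancel₀ hc0]
    · rw [mul_zero]
  have hclass : ∀ F : G → ℂ, c * ∑ a : G, (if orderOf a = 2 then (1 : ℂ) else 0) * F a =
      ∑ x : G, F (x * J * x⁻¹) := by
    intro F
    have hmaps : ∀ x ∈ (Finset.univ : Finset G), x * J * x⁻¹ ∈
        Finset.univ.filter (fun a : G => orderOf a = 2) := fun x _ => by
      simp only [Finset.mem_filter, Finset.mem_univ, true_and]
      rw [← hJ]
      exact MulEquiv.orderOf_eq (MulAut.conj x) J
    simp only [ite_mul, one_mul, zero_mul, ← Finset.sum_filter]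
    rw [← Finset.sum_fiberwise_of_maps_to hmaps, Finset.mul_sum]
    refine Finset.sum_congr rfl fun a ha => ?_
    obtain ⟨g, hg⟩ := isConj_iff.1 (hone J a hJ (Finset.mem_filter.1 ha).2)
    rw [Finset.sum_congr rfl fun x hx => by rw [(Finset.mem_filter.1 hx).2], Finset.sum_const,
      nsmul_eq_mul, hc]
    congr 1
    rw [Nat.card_eq_fintype_card, ← Finset.card_univ]
    norm_cast
    refine Finset.card_bij (fun z _ => g * (z : G)) (fun z _ => ?_)
      (fun z _ z' _ e => Subtype.ext (mul_left_cancel e)) fun x hx => ⟨⟨g⁻¹ * x, ?_⟩,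
        Finset.mem_univ _, by group⟩
    · simp only [Finset.mem_filter, Finset.mem_univ, true_and]
      rw [← hg, show g * (z : G) * J * (g * (z : G))⁻¹ = g * ((z : G) * J * (z : G)⁻¹) * g⁻¹ by group,
        (mem_centralizer_singleton.1 z.2).eq, mul_inv_cancel_right]
    · have hx' : x * J * x⁻¹ = g * J * g⁻¹ := (Finset.mem_filter.1 hx).2.trans hg.symm
      refine mem_centralizer_singleton.2 (mul_inv_eq_iff_eq_mul.1 ?_)
      calc g⁻¹ * x * J * (g⁻¹ * x)⁻¹ = g⁻¹ * (x * J * x⁻¹) * g := by group
        _ = J := by rw [hx']; group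
  have hWsum : c ^ 2 * (W.card : ℂ) =
      (Nat.card G : ℂ) * ∑ χ : IrrCharacter G, (χ : G → ℂ) J ^ 2 / (χ : G → ℂ) 1 *
        ∑ y : N, (χ : G → ℂ) (J * ((y : Subgroup.centralizer ({J} : Set G)) : G)) := by
    have hWc' : (W.card : ℂ) = ∑ y : N, ∑ a : G, (if orderOf a = 2 then (1 : ℂ) else 0) *
        (if orderOf (a * (J * ((y : Subgroup.centralizer ({J} : Set G)) : G))) = 2
          then (1 : ℂ) else 0) := by
      simp only [W, Finset.natCast_card_filter, Fintype.sum_prod_type]
      rw [Finset.sum_comm]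
      refine Finset.sum_congr rfl fun y _ => Finset.sum_congr rfl fun a _ => ?_
      split_ifs <;> simp_all
    rw [hWc', Finset.mul_sum]
    simp only [Finset.mul_sum]
    rw [Finset.sum_comm (γ := IrrCharacter G)]
    refine Finset.sum_congr rfl fun y _ => ?_
    rw [← Finset.mul_sum, sq, mul_assoc, hclass]
    simp only [hind, Finset.mul_sum]
    rw [Finset.sum_comm]
    refine Finset.sum_congr rfl fun χ _ => ?_
    have hs := sum_char_mul_conj χ (J * ((y : Subgroup.centralizer ({J} : Set G)) : G)) J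
    rw [← Finset.mul_sum, ← Finset.mul_sum, ← Finset.sum_mul,
      Finset.sum_congr rfl fun x _ => Char.IsChar.map_mul_comm (Char.IsIrr.isCharacter χ.2)
        (x * J * x⁻¹) (J * ((y : Subgroup.centralizer ({J} : Set G)) : G)), hs]
    field_simp
  simp only [sum_section_eq P hP hM hJP hJ _ hodd hindex hmem, mul_ite, mul_zero,
    ← Finset.sum_filter] at hWsum
  rw [finsum_mem_eq_finite_toFinset_sum _ (Set.toFinite _)]
  have hfin : c ^ 2 * (W.card : ℂ) = (Nat.card G : ℂ) * ((Nat.card N : ℂ) *
      ∑ χ ∈ (Set.toFinite (principalBlock M G)).toFinset, (χ : G → ℂ) J ^ 3 / (χ : G → ℂ) 1) := by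
    rw [hWsum, Finset.mul_sum (a := (Nat.card N : ℂ))]
    congr 1
    exact Finset.sum_congr (by ext; simp) fun χ _ => by ring
  have hcN : c = 4 * (Nat.card N : ℂ) := by
    rw [hc, ← N.card_mul_index, hindex]; push_cast; ring
  have hWc2 : (Nat.card (Subgroup.centralizer ((P : Subgroup G) : Set G)) : ℂ) ^ 2 * (W.card : ℂ) =
      2 * c ^ 2 := by
    rw [hc]; exact_mod_cast hWc
  have hN0 : (Nat.card N : ℂ) ≠ 0 := Nat.cast_ne_zero.2 Nat.card_pos.ne'
  refine mul_right_cancel₀ hN0 ?_
  linear_combination (Nat.card (Subgroup.centralizer ((P : Subgroup G) : Set G)) : ℂ) ^ 2 * hfin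
    - c ^ 2 * hWc2 - 2 * c ^ 3 * hcN

end CfsgLib.Blocks

namespace CfsgLib.Blocks

open Cfsg CfsgLib.Char CfsgLib.CharAction
open scoped ComplexConjugate Classical

variable {G : Type*} [Group G] [Fintype G] {M : Ideal AlgInt} [M.IsPrime]

/-- The principal block is stable under complex conjugation. -/
theorem conjIrr_mem_principalBlock {χ : IrrCharacter G} (h : χ ∈ principalBlock M G) :
    conjIrr χ ∈ principalBlock M G := by
  have hidx : ∀ g : G, Subgroup.centralizer ({g⁻¹} : Set G) = Subgroup.centralizer ({g} : Set G) :=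
    fun g => by
      ext x
      rw [mem_centralizer_singleton, mem_centralizer_singleton, Commute.inv_right_iff]
  have hcc : ∀ (θ : IrrCharacter G) (g : G),
      centralCharBar M (conjIrr θ) g = centralCharBar M θ g⁻¹ := by
    intro θ g
    unfold centralCharBar centralCharO
    congr 2
    rw [Cfsg.centralChar, Cfsg.centralChar, hidx]
    simp only [conjIrr_apply, ← Char.IsIrr.map_inv θ.2, inv_one]
  have hfix : conjIrr (Char.trivChar G) = Char.trivChar G :=
    (conjIrr_eq_iff _).2 fun g => by rw [Char.trivChar_apply]; simp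
  rw [principalBlock_eq, mem_blockOf] at h ⊢
  refine sameBlock_iff.2 fun g => ?_
  conv_lhs => rw [← hfix, hcc]
  rw [hcc]
  exact sameBlock_iff.1 h g⁻¹

end CfsgLib.Blocks
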