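import Cfsg.Agent.Lib.Blocks.FirstMain
import Cfsg.Agent.Lib.Blocks.DefectNumber
import Cfsg.Agent.Lib.Blocks.HeightZero
import Cfsg.Agent.S0963
import Mathlib.GroupTheory.SchurZassenhaus

/-!
# Counting blocks of large defect
-/

namespace CfsgLib.Blocks

open Cfsg MonoidAlgebra CfsgLib.Fusion
open scoped ComplexConjugate Pointwise

variable {G : Type*} [Group G] [Fintype G] {p : ℕ} [Fact p.Prime] {M : Ideal AlgInt} [M.IsPrime]

/-- Blocks of defect at least `d` are separated by the classes of `p`-regular elements of defect at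
least `d`. -/
theorem card_blocks_defect_ge_le (hM : IsPModular p M) (d : ℕ) :
    Nat.card {B : Set (IrrCharacter G) // IsPBlock M B ∧ d ≤ blockDefect p B} ≤
      Nat.card {C : ConjClasses G // ∃ g : G, ConjClasses.mk g = C ∧ IsPRegular p g ∧
        d ≤ (Nat.card (Subgroup.centralizer ({g} : Set G))).factorization p} := by
  classical
  set SB := {B : Set (IrrCharacter G) // IsPBlock M B ∧ d ≤ blockDefect p B}
  set SC := {C : ConjClasses G // ∃ g : G, ConjClasses.mk g = C ∧ IsPRegular p g ∧
    d ≤ (Nat.card (Subgroup.centralizer ({g} : Set G))).factorization p}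
  have := Fintype.ofFinite SB
  have := Fintype.ofFinite SC
  choose rep hrep using fun B : SB => IsPBlock.nonempty B.2.1
  let v : SB → SC → Res M := fun B C => centralCharBar M (rep B) (Quotient.out C.1)
  have hli : LinearIndependent (Res M) v := by
    rw [Fintype.linearIndependent_iff]
    intro c hc B'
    have key : ∀ B : SB, ∑ C : SC, (blockIdemBar M B'.1).coeff (Quotient.out C.1) * v B C =
        if B = B' then 1 else 0 := by
      intro B
      have h := omegaBar_blockIdemBar B'.2.1 (rep B)
      rw [show (rep B ∈ B'.1) = (B = B') from propext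
        ⟨fun hm => Subtype.ext (IsPBlock.eq_of_mem B.2.1 B'.2.1 (hrep B) hm),
          fun e => e ▸ hrep B⟩] at h
      have h' : omegaBar (rep B) (blockIdemBar M B'.1) = if B = B' then 1 else 0 := by
        convert h using 2
      rw [← h', omegaBar]
      refine (Finset.sum_subtype (p := fun C : ConjClasses G => ∃ g : G, ConjClasses.mk g = C ∧
        IsPRegular p g ∧ d ≤ (Nat.card (Subgroup.centralizer ({g} : Set G))).factorization p)
        (Finset.univ.filter fun C : ConjClasses G => ∃ g : G, ConjClasses.mk g = C ∧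
        IsPRegular p g ∧ d ≤ (Nat.card (Subgroup.centralizer ({g} : Set G))).factorization p)
        (by simp) (f := fun C => (blockIdemBar M B'.1).coeff (Quotient.out C) *
          centralCharBar M (rep B) (Quotient.out C))).symm.trans ?_
      refine Finset.sum_subset (Finset.subset_univ _) fun C _ hC => ?_
      simp only [Finset.mem_filter, Finset.mem_univ, true_and, not_exists, not_and] at hC
      have hout : ConjClasses.mk (Quotient.out C) = C := Quotient.out_eq C
      by_cases hr : p ∣ orderOf (Quotient.out C)
      · rw [(coeff_blockIdemBar_eq_zero_iff B'.2.1).2 ?_, zero_mul]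
        have hz : blockCoeff B'.1 (Quotient.out C) = 0 := by
          rw [blockCoeff, finsum_mem_eq_finite_toFinset_sum _ (Set.toFinite B'.1),
            Finset.sum_congr rfl fun χ _ => by rw [← Char.IsIrr.map_inv χ.2],
            ← finsum_mem_eq_finite_toFinset_sum _ (Set.toFinite B'.1),
            sum_block_regular_singular hM B'.2.1 (by simp [hM.1.ne_one]) (by rwa [orderOf_inv]),
            mul_zero]
        rw [hz]
        exact ⟨0, 1, M.zero_mem, one_notMem, by simp⟩
      · obtain ⟨g, hg, -⟩ := isDefectGroup_iff.1 (exists_isDefectGroup (p := p) B.2.1).choose_spec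
        obtain ⟨ψ, hψ, hψe⟩ := IsDefectClass.exists_index_eq hM B.2.1 hg
        have hdef := B.2.2
        rw [blockDefect, sInf_degree_eq hM B.2.1 hg] at hdef
        rw [sameBlock_iff.1 (IsPBlock.sameBlock B.2.1 (hrep B) hψ) _,
          centralCharBar_eq_zero_of_lt hM, mul_zero]
        by_contra hle
        refine hC _ hout hr ?_
        rw [hψe] at hle
        have := factorization_card_eq_index_add hM (Subgroup.centralizer ({Quotient.out C} : Set G))
        omega
    have h0 := congrArg (fun f : SC → Res M =>
      ∑ C, (blockIdemBar M B'.1).coeff (Quotient.out C.1) * f C) hc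
    simp only [Finset.sum_apply, Pi.smul_apply, smul_eq_mul, Pi.zero_apply, mul_zero,
      Finset.sum_const_zero, Finset.mul_sum] at h0
    rw [Finset.sum_comm] at h0
    simp only [mul_left_comm _ (c _), ← Finset.mul_sum, key] at h0
    rwa [Finset.sum_eq_single B' (fun b _ hb => by rw [if_neg hb, mul_zero])
      (fun h => absurd (Finset.mem_univ _) h), if_pos rfl, mul_one] at h0
  have := hli.fintype_card_le_finrank
  rwa [Module.finrank_fintype_fun_eq_card, ← Nat.card_eq_fintype_card, ← Nat.card_eq_fintype_card]
    at this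

omit [Fintype G] in
theorem not_dvd_card_of_forall_ne' [Finite G] {K : Subgroup G}
    (h : ∀ g ∈ K, orderOf g ≠ p) : ¬ p ∣ Nat.card K := fun hd => by
  obtain ⟨g, hg⟩ := exists_prime_orderOf_dvd_card' p hd
  exact h g g.2 (by rw [← hg, Subgroup.orderOf_coe])

omit [Fact p.Prime] in
/-- In a `p'`-group only `0` is killed by all reduced central characters. -/
theorem eq_zero_of_omegaBar_eq_zero_of_not_dvd {W : Type*} [Group W] [Fintype W]
    (hM : IsPModular p M) (hW : ¬ p ∣ Nat.card W) {b : MonoidAlgebra (Res M) W}
    (hb : IsCentralElt b) (h : ∀ ξ : IrrCharacter W, omegaBar ξ b = 0) : b = 0 := by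
  classical
  have := Fintype.ofFinite (IrrCharacter W)
  have hWu : (Nat.card W : Res M) ≠ 0 := by
    rw [← map_natCast (resHom M)]
    exact ((isUnit_natCast_iff hM).2 hW).map (resHom M) |>.ne_zero
  have hone : ∀ a : MonoidAlgebra (Res M) W, IsCentralElt a →
      (∀ ξ : IrrCharacter W, omegaBar ξ a = 0) → a.coeff 1 = 0 := by
    intro a ha h0
    obtain ⟨a', ha', rfl⟩ := exists_central_lift ha
    have hid : (Nat.card W : localRing M) * a'.coeff 1 = ∑ ξ : IrrCharacter W,
        ((charDegree (ξ : W → ℂ) ^ 2 : ℕ) : localRing M) *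
          (⟨_, omega_inc_mem ξ ha'⟩ : localRing M) := by
      refine Subtype.ext ?_
      push_cast
      simp only [omega_apply, coeff_inc]
      calc (Nat.card W : ℂ) * (a'.coeff 1 : ℂ)
          = ∑ x : W, (a'.coeff x : ℂ) * ∑ ξ : IrrCharacter W, (ξ : W → ℂ) 1 * (ξ : W → ℂ) x := by
            rw [Finset.sum_eq_single 1]
            · rw [← Char.sum_sq_degree (G := W), mul_comm]
              simp only [sq]
            · intro x _ hx
              rw [Char.sum_degree_mul_apply_of_ne_one hx, mul_zero]
            · exact fun h => absurd (Finset.mem_univ _) h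
        _ = _ := by
            simp only [Finset.mul_sum]
            rw [Finset.sum_comm]
            refine Finset.sum_congr rfl fun ξ _ => ?_
            have hx := Char.IsIrr.apply_one_ne_zero ξ.2
            rw [apply_one_eq_charDegree] at hx ⊢
            rw [Finset.sum_div, Finset.mul_sum]
            refine Finset.sum_congr rfl fun x _ => ?_
            field_simp
    have h2 := congrArg (resHom M) hid
    rw [map_mul, map_natCast, map_sum, Finset.sum_eq_zero fun ξ _ => by
      rw [map_mul, ← omegaBar_red ξ ha', h0 ξ, mul_zero], mul_eq_zero, or_iff_right hWu] at h2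
    rwa [coeff_red]
  refine MonoidAlgebra.ext (Finsupp.ext fun w => ?_)
  have h1 := hone (b * classSum (Res M) w⁻¹) (hb.mul (isCentralElt_classSum _ _)) fun ξ => by
    rw [omegaBar_mul ξ hb (isCentralElt_classSum _ _), h ξ, zero_mul]
  rw [coeff_mul_eq_sum] at h1
  simp only [coeff_classSum, mul_one, mul_ite, mul_zero, ← Finset.sum_filter] at h1
  have hconst : ∀ x ∈ Finset.univ.filter (fun x : W => IsConj w⁻¹ x⁻¹), b.coeff x = b.coeff w := by
    intro x hx
    obtain ⟨c, hc⟩ := isConj_iff.1 (Finset.mem_filter.1 hx).2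
    rw [show x = c * w * c⁻¹ by rw [← inv_inv x, ← hc]; group]
    exact hb w c
  rw [Finset.sum_congr rfl hconst, Finset.sum_const, nsmul_eq_mul] at h1
  refine (mul_eq_zero.1 h1).resolve_left fun h0 => hW ?_
  have := charP_residueField hM
  have hdvd := (CharP.cast_eq_zero_iff (Res M) p _).1 h0
  rw [show (Finset.univ.filter fun x : W => IsConj w⁻¹ x⁻¹).card =
      (Finset.univ.filter fun x : W => IsConj w⁻¹ x).card from
    Finset.card_equiv (Equiv.inv W) (by simp), ← Fintype.card_subtype, ← Nat.card_eq_fintype_card,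
    card_isConj_eq_index] at hdvd
  exact hdvd.trans (Subgroup.centralizer ({w⁻¹} : Set W)).index_dvd_card

omit [Fact p.Prime] in
/-- The classes in a normal `p'`-subgroup are linearly independent modulo the radical. -/
theorem card_classes_le_card_blocks (hM : IsPModular p M) (W : Subgroup G) [W.Normal]
    (hW : ¬ p ∣ Nat.card W) :
    Nat.card {C : ConjClasses G // ∀ g : G, ConjClasses.mk g = C → g ∈ W} ≤
      Nat.card {B : Set (IrrCharacter G) // IsPBlock M B} := by
  classical
  have := Fintype.ofFinite W
  have := Fintype.ofFinite (IrrCharacter G)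
  set SB := {B : Set (IrrCharacter G) // IsPBlock M B}
  set SC := {C : ConjClasses G // ∀ g : G, ConjClasses.mk g = C → g ∈ W}
  have := Fintype.ofFinite SB
  have := Fintype.ofFinite SC
  choose rep hrep using fun B : SB => IsPBlock.nonempty B.2
  let el : (SC → Res M) → MonoidAlgebra (Res M) G :=
    fun c => ∑ C : SC, c C • classSum (Res M) (Quotient.out C.1)
  let Φ : (SC → Res M) →ₗ[Res M] (SB → Res M) :=
  { toFun := fun c B => omegaBar (rep B) (el c)
    map_add' := fun c c' => funext fun B => by
      simp only [el, Pi.add_apply, add_smul, Finset.sum_add_distrib, omegaBar_add]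
    map_smul' := fun r c => funext fun B => by
      simp only [el, Pi.smul_apply, smul_eq_mul, RingHom.id_apply, mul_smul, ← Finset.smul_sum,
        omegaBar_smul] }
  have hinj : Function.Injective Φ := by
    refine (injective_iff_map_eq_zero Φ).2 fun c hc => ?_
    have hel : IsCentralElt (el c) :=
      IsCentralElt.sum _ fun C _ => (isCentralElt_classSum _ _).smul _
    have hres : resElt W (el c) = 0 := by
      refine eq_zero_of_omegaBar_eq_zero_of_not_dvd hM hW (isCentralElt_resElt W hel) fun ξ => ?_
      obtain ⟨χ, hχ⟩ : ∃ χ : IrrCharacter G,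
          classInner (fun n : W => (χ : G → ℂ) n) (ξ : W → ℂ) ≠ 0 := by
        by_contra hcon
        push Not at hcon
        have h0 : indFun W (ξ : W → ℂ) = 0 := by
          refine Char.eq_zero_of_classInner_eq_zero (Char.isClassFunction_indFun W _) fun χ => ?_
          rw [Char.frobenius_reciprocity W _ (Char.IsIrr.isClassFunction χ.2),
            ← Char.classInner_conj_symm, hcon χ, map_zero]
        have h1 := congrFun h0 1
        rw [Char.indFun_apply_one, Pi.zero_apply, mul_eq_zero] at h1
        exact h1.elim (Nat.cast_ne_zero.2 Subgroup.index_ne_zero_of_finite)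
          (Char.IsIrr.apply_one_ne_zero ξ.2)
      have hcc := (Cfsg.Agent.S0963.result W χ ξ).1 hχ
      let B : SB := ⟨_, isPBlock_blockOf χ⟩
      have hB : omegaBar χ (el c) = 0 := by
        rw [omegaBar_congr (IsPBlock.sameBlock B.2 (mem_blockOf_self χ) (hrep B))]
        exact congrFun hc B
      rw [← hB]
      have hre : resElt W (el c) =
          ∑ C : SC, c C • resElt W (classSum (Res M) (Quotient.out C.1)) :=
        MonoidAlgebra.ext (Finsupp.ext fun x => by
          simp only [el, coeff_resElt, coeff_sum, Finsupp.coe_finsetSum, Finset.sum_apply,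
            coeff_smul, Finsupp.smul_apply])
      rw [hre, omegaBar_sum, omegaBar_sum]
      refine Finset.sum_congr rfl fun C _ => ?_
      rw [omegaBar_smul, omegaBar_smul, omegaBar_classSum]
      congr 1
      refine (memLocalIdeal_inducedCentralChar_sub_iff ξ χ _).1 ?_
      rw [← hcc ⟨_, C.2 _ (Quotient.out_eq C.1)⟩, sub_self]
      exact ⟨0, 1, M.zero_mem, one_notMem, by simp⟩
    funext C
    have h1 := congrArg (fun a : MonoidAlgebra (Res M) W =>
      a.coeff ⟨Quotient.out C.1, C.2 _ (Quotient.out_eq C.1)⟩) hres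
    simp only [coeff_resElt, el, coeff_sum, Finsupp.coe_finsetSum, Finset.sum_apply, coeff_smul,
      Finsupp.smul_apply, coeff_classSum, smul_eq_mul, mul_ite, mul_one, mul_zero, coeff_zero,
      Finsupp.coe_zero, Pi.zero_apply] at h1
    rw [Finset.sum_eq_single C (fun C' _ hne => if_neg fun hcj => hne (Subtype.ext (by
      rw [← Quotient.out_eq C'.1, ← Quotient.out_eq C.1]
      exact ConjClasses.mk_eq_mk_iff_isConj.2 hcj))) (fun h => absurd (Finset.mem_univ _) h),
      if_pos (IsConj.refl _)] at h1
    exact h1
  have := LinearMap.finrank_le_finrank_of_injective hinj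
  rwa [Module.finrank_fintype_fun_eq_card, Module.finrank_fintype_fun_eq_card,
    ← Nat.card_eq_fintype_card, ← Nat.card_eq_fintype_card] at this

/-- **Blocks with a Sylow defect group.** -/
theorem card_blocks_sylow (hM : IsPModular p M) (P : Sylow p G) :
    Nat.card {B : Set (IrrCharacter G) // IsPBlock M B ∧ IsDefectGroup p M B (P : Subgroup G)} =
      Nat.card {C : ConjClasses (Subgroup.normalizer ((P : Subgroup G) : Set G)) //
        ∀ n : Subgroup.normalizer ((P : Subgroup G) : Set G), ConjClasses.mk n = C →
          ¬ p ∣ orderOf n ∧ (n : G) ∈ Subgroup.centralizer ((P : Subgroup G) : Set G)} := by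
  classical
  have := Fintype.ofFinite (Subgroup.normalizer ((P : Subgroup G) : Set G))
  let N : Subgroup G := Subgroup.normalizer ((P : Subgroup G) : Set G)
  let D : Subgroup N := (P : Subgroup G).subgroupOf N
  have hPp : IsPGroup p (P : Subgroup G) := P.2
  have hDn : D.Normal := normal_subgroupOf_normalizer _
  have hDp : IsPGroup p D := hPp.comap_of_injective _ N.subtype_injective
  have hDsyl : ¬ p ∣ D.index := fun h => P.not_dvd_index
    (h.trans (Dvd.intro _ (Subgroup.relIndex_mul_index Subgroup.le_normalizer)))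
  obtain ⟨a, ha⟩ := IsPGroup.iff_card.1 hDp
  have hNa : (Nat.card N).factorization p = a := by
    rw [← D.index_mul_card, ha, Nat.factorization_mul Subgroup.index_ne_zero_of_finite
      (pow_ne_zero _ hM.1.ne_zero), Finsupp.add_apply, hM.1.factorization_pow,
      Finsupp.single_eq_same, Nat.factorization_eq_zero_of_not_dvd hDsyl, zero_add]
  have hall : ∀ b : Set (IrrCharacter N), IsPBlock M b →
      IsDefectGroup p M b D ∧ blockDefect p b = a := by
    intro b hb
    obtain ⟨E, hE⟩ := exists_isDefectGroup (p := p) hb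
    have hle := IsDefectGroup.normal_le hM hb hE (P := D) hDp
    have hcard := IsDefectGroup.card_eq hM hb hE
    have hda : blockDefect p b ≤ a := by
      rw [blockDefect, ← hNa]; exact Nat.sub_le _ _
    have hE' : D = E := Subgroup.eq_of_le_of_card_ge hle (by
      rw [hcard, ha]; exact Nat.pow_le_pow_right hM.1.pos hda)
    refine ⟨hE' ▸ hE, ?_⟩
    rw [hE'] at ha
    exact Nat.pow_right_injective hM.1.two_le (hcard.symm.trans ha)
  have e1 : Nat.card {B : Set (IrrCharacter G) // IsPBlock M B ∧
      IsDefectGroup p M B (P : Subgroup G)} = Nat.card {b : Set (IrrCharacter N) // IsPBlock M b} := by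
    let f : {B : Set (IrrCharacter G) // IsPBlock M B ∧ IsDefectGroup p M B (P : Subgroup G)} →
        {b : Set (IrrCharacter N) // IsPBlock M b} := fun B =>
      ⟨(existsUnique_correspondent hM B.2.1 B.2.2).choose,
        (existsUnique_correspondent hM B.2.1 B.2.2).choose_spec.1.1⟩
    refine Nat.card_congr (Equiv.ofBijective f ⟨fun B B' h => ?_, fun b => ?_⟩)
    · have h1 := (existsUnique_correspondent hM B.2.1 B.2.2).choose_spec.1.2.2
      have h2 := (existsUnique_correspondent hM B'.2.1 B'.2.2).choose_spec.1.2.2
      have he : (existsUnique_correspondent hM B.2.1 B.2.2).choose =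
          (existsUnique_correspondent hM B'.2.1 B'.2.2).choose := congrArg Subtype.val h
      rw [he] at h1
      exact Subtype.ext (IsInducedBlock.eq h1 h2)
    · obtain ⟨B, hind⟩ := exists_isInducedBlock (H := N) hM hPp Subgroup.le_normalizer
        (centralizer_le_normalizer' _) le_rfl b.2
      have hBD := isDefectGroup_of_induced_normalizer hM hPp hind (hall _ b.2).1
      refine ⟨⟨B, hind.2.1, hBD⟩, Subtype.ext ?_⟩
      exact ((existsUnique_correspondent hM hind.2.1 hBD).choose_spec.2 _
        ⟨b.2, (hall _ b.2).1, hind⟩).symm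
  rw [e1]
  have hclass : ∀ n : N, (¬ p ∣ orderOf n ∧ (n : G) ∈ Subgroup.centralizer ((P : Subgroup G) : Set G))
      ↔ (¬ p ∣ orderOf n ∧ n ∈ Subgroup.centralizer (D : Set N)) := fun n =>
    and_congr_right fun _ => ⟨fun h => Subgroup.mem_centralizer_iff.2 fun u hu =>
      Subtype.ext (Subgroup.mem_centralizer_iff.1 h (u : G) hu), fun h =>
      Subgroup.mem_centralizer_iff.2 fun u hu => congrArg Subtype.val
        (Subgroup.mem_centralizer_iff.1 h ⟨u, Subgroup.le_normalizer hu⟩ hu)⟩
  refine le_antisymm ?_ ?_
  · have h1 := card_blocks_defect_ge_le (G := N) hM a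
    rw [Nat.card_congr (Equiv.subtypeEquivRight (fun b : Set (IrrCharacter N) =>
      (⟨fun h => h.1, fun h => ⟨h, (hall b h).2.ge⟩⟩ :
        IsPBlock M b ∧ a ≤ blockDefect p b ↔ IsPBlock M b)))] at h1
    refine h1.trans (le_of_eq ?_)
    refine Nat.card_congr (Equiv.subtypeEquivRight fun C => ?_)
    constructor
    · rintro ⟨g, rfl, hr, hg⟩ n hn
      have hc : IsConj n g := ConjClasses.mk_eq_mk_iff_isConj.1 hn
      rw [hclass]
      obtain ⟨Q, -, hQ, hQp, hQs⟩ := exists_isSylowIn_ge (p := p)
        (bot_le : (⊥ : Subgroup N) ≤ Subgroup.centralizer ({g} : Set N)) IsPGroup.of_bot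
      obtain ⟨S, hS⟩ := hQp.exists_le_sylow
      have hSD : (S : Subgroup N) = D := by
        refine (Subgroup.eq_of_le_of_card_ge ?_ ?_).symm
        · obtain ⟨S', hS'⟩ := hDp.exists_le_sylow
          obtain ⟨x, hx⟩ := MulAction.exists_smul_eq N S' S
          intro u hu
          have h2 : x⁻¹ * u * x ∈ D := by simpa using hDn.conj_mem u hu x⁻¹
          rw [← hx]
          show u ∈ (MulAut.conj x) • (S' : Subgroup N)
          rw [Subgroup.mem_pointwise_smul_iff_inv_smul_mem]
          simpa using hS' h2
        · rw [Sylow.card_eq_multiplicity, ha, hNa]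
      have hQD : Q = D := by
        refine Subgroup.eq_of_le_of_card_ge (hS.trans hSD.le) ?_
        rw [ha, (isSylowIn_iff_card hQ).1 hQs]
        exact Nat.pow_le_pow_right hM.1.pos hg
      obtain ⟨x, hx⟩ := isConj_iff.1 hc
      refine ⟨fun hd => hr ?_, ?_⟩
      · rwa [← hx, show x * n * x⁻¹ = MulAut.conj x n from rfl, MulEquiv.orderOf_eq]
      · have hgD : g ∈ Subgroup.centralizer (D : Set N) := mem_centralizer_iff_le.2 (hQD ▸ hQ)
        rw [show n = x⁻¹ * g * (x⁻¹)⁻¹ by rw [← hx]; group]
        exact (inferInstance : (Subgroup.centralizer (D : Set N)).Normal).conj_mem _ hgD _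
    · intro hC
      obtain ⟨g, rfl⟩ := ConjClasses.mk_surjective C
      obtain ⟨hr, hgD⟩ := (hclass g).1 (hC g rfl)
      refine ⟨g, rfl, hr, ?_⟩
      have h2 := Subgroup.card_dvd_of_le (mem_centralizer_iff_le.1 hgD)
      rw [ha] at h2
      exact (hM.1.pow_dvd_iff_le_factorization Nat.card_pos.ne').1 h2
  · let CD : Subgroup N := Subgroup.centralizer (D : Set N)
    let W : Subgroup N :=
    { carrier := {n | ¬ p ∣ orderOf n ∧ n ∈ CD}
      one_mem' := ⟨by simp [hM.1.ne_one], one_mem _⟩
      mul_mem' := fun {u v} hu hv => ⟨?_, mul_mem hu.2 hv.2⟩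
      inv_mem' := fun {u} hu => ⟨by rw [orderOf_inv]; exact hu.1, inv_mem hu.2⟩ }
    swap
    · -- `C(D)` has the normal `p'`-Hall subgroup of its `p`-regular elements
      intro hd
      have hK : Nat.Coprime (Nat.card (D.subgroupOf CD)) (D.subgroupOf CD).index := by
        have h1 : (D.subgroupOf CD).index ∣ D.index := by
          have := hDn
          exact Subgroup.relIndex_dvd_index_of_normal D CD
        have hDC : IsPGroup p (D.subgroupOf CD : Subgroup CD) :=
          hDp.comap_of_injective CD.subtype CD.subtype_injective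
        obtain ⟨j, hj⟩ : ∃ j, Nat.card (D.subgroupOf CD : Subgroup CD) = p ^ j :=
          IsPGroup.iff_card.1 hDC
        rw [hj]
        exact ((Nat.Prime.coprime_iff_not_dvd hM.1).2 fun h => hDsyl (h.trans h1)).pow_left j
      obtain ⟨K, hK'⟩ := Subgroup.exists_right_complement'_of_coprime
        (N := D.subgroupOf CD) hK
      have hKp : ¬ p ∣ Nat.card K := by
        intro h
        refine hDsyl (h.trans ?_)
        have := hDn
        refine dvd_trans (dvd_of_eq ?_) (Subgroup.relIndex_dvd_index_of_normal D CD)
        have h2 := hK'.card_mul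
        rw [← (D.subgroupOf CD).card_mul_index] at h2
        exact Nat.eq_of_mul_eq_mul_left Nat.card_pos h2
      have hmem : ∀ w : CD, ¬ p ∣ orderOf w → w ∈ K := by
        intro w hw
        obtain ⟨⟨s, t⟩, hst⟩ := hK'.2 w
        simp only at hst
        have hcomm : Commute (s : CD) (t : CD) :=
          Subtype.ext (Subgroup.mem_centralizer_iff.1 (t : CD).2 ((s : CD) : N) s.2)
        have hDC : IsPGroup p (D.subgroupOf CD : Subgroup CD) :=
          hDp.comap_of_injective CD.subtype CD.subtype_injective
        obtain ⟨i, hi⟩ : ∃ i, orderOf (s : CD) = p ^ i := by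
          obtain ⟨i, hi⟩ := IsPGroup.iff_orderOf.1 hDC ⟨(s : CD), s.2⟩
          exact ⟨i, by rw [← hi]; exact Subgroup.orderOf_coe ⟨(s : CD), s.2⟩⟩
        have ht : ¬ p ∣ orderOf (t : CD) := fun h => hKp (h.trans (by
          rw [Subgroup.orderOf_coe]; exact orderOf_dvd_natCard _))
        rcases Nat.eq_zero_or_pos i with hi0 | hi0
        · rw [hi0, pow_zero, orderOf_eq_one_iff] at hi
          rw [← hst, hi, one_mul]; exact t.2
        · exfalso
          refine hw ?_
          rw [← hst, hcomm.orderOf_mul_eq_mul_orderOf_of_coprime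
            (by rw [hi]; exact ((Nat.Prime.coprime_iff_not_dvd hM.1).2 ht).pow_left i), hi]
          exact (dvd_pow_self p hi0.ne').mul_right _
      have h1 : (⟨u, hu.2⟩ : CD) * ⟨v, hv.2⟩ ∈ K :=
        mul_mem (hmem _ (by rw [← Subgroup.orderOf_coe]; exact hu.1))
          (hmem _ (by rw [← Subgroup.orderOf_coe]; exact hv.1))
      refine hKp (hd.trans ?_)
      rw [show u * v = ((⟨u, hu.2⟩ * ⟨v, hv.2⟩ : CD) : N) from rfl, Subgroup.orderOf_coe]
      exact Subgroup.orderOf_dvd_natCard _ h1
    have : W.Normal := ⟨fun n hn x => ⟨by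
      rw [show x * n * x⁻¹ = MulAut.conj x n from rfl, MulEquiv.orderOf_eq]; exact hn.1,
      (inferInstance : CD.Normal).conj_mem _ hn.2 x⟩⟩
    have hWp : ¬ p ∣ Nat.card W := not_dvd_card_of_forall_ne' fun g hg hord => hg.1 (by rw [hord])
    refine le_trans (le_of_eq ?_) (card_classes_le_card_blocks hM W hWp)
    refine Nat.card_congr (Equiv.subtypeEquivRight fun C => ?_)
    exact forall₂_congr fun n _ => hclass n

end CfsgLib.Blocks
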