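import Cfsg.Agent.Lib.Blocks.Basic
import Cfsg.Agent.Lib.Blocks.BrauerMap
import Cfsg.Agent.Lib.Blocks.Orthogonality
import Cfsg.Agent.Lib.Blocks.Union
import Cfsg.Agent.Lib.Fusion.SylowIn

/-!
# Defect classes and defect groups

`SubConj P Q`: a conjugate of `P` is contained in `Q`.  `DefLE p g D`: every `p`-subgroup of the
centralizer of `g` is `SubConj` to `D`.  Main results: `exists_isDefectClass`, the min-max
theorem (`defLE_of_coeff_ne_zero`, `subConj_of_omegaBar_ne_zero`), uniqueness of defect groups up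
to conjugacy, `pCore ≤ D`, and `|D| = p ^ blockDefect`.
-/

namespace CfsgLib.Blocks

open Cfsg MonoidAlgebra CfsgLib.Fusion

variable {G : Type*} [Group G] {p : ℕ}

/-- Some conjugate of `P` lies in `Q`. -/
def SubConj (P Q : Subgroup G) : Prop := ∃ x : G, ∀ a ∈ P, x * a * x⁻¹ ∈ Q

theorem SubConj.of_le {P Q : Subgroup G} (h : P ≤ Q) : SubConj P Q :=
  ⟨1, fun a ha => by simpa using h ha⟩

theorem SubConj.trans {P Q R : Subgroup G} (h : SubConj P Q) (h' : SubConj Q R) : SubConj P R := by
  obtain ⟨x, hx⟩ := h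
  obtain ⟨y, hy⟩ := h'
  exact ⟨y * x, fun a ha => by simpa [mul_assoc] using hy _ (hx a ha)⟩

theorem SubConj.iff_map_le {P Q : Subgroup G} :
    SubConj P Q ↔ ∃ x : G, P.map (MulAut.conj x).toMonoidHom ≤ Q :=
  exists_congr fun x => (Subgroup.map_le_iff_le_comap (f := (MulAut.conj x).toMonoidHom)).symm

theorem card_map_conj (x : G) (P : Subgroup G) :
    Nat.card (P.map (MulAut.conj x).toMonoidHom) = Nat.card P :=
  (Nat.card_congr (P.equivMapOfInjective _ (MulAut.conj x).injective).toEquiv).symm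

theorem SubConj.card_dvd [Finite G] {P Q : Subgroup G} (h : SubConj P Q) :
    Nat.card P ∣ Nat.card Q := by
  obtain ⟨x, hx⟩ := SubConj.iff_map_le.1 h
  rw [← card_map_conj x P]
  exact Subgroup.card_dvd_of_le hx

theorem SubConj.exists_map_eq [Finite G] {P Q : Subgroup G} (h : SubConj P Q) (h' : SubConj Q P) :
    ∃ x : G, P.map (MulAut.conj x).toMonoidHom = Q := by
  obtain ⟨x, hx⟩ := SubConj.iff_map_le.1 h
  refine ⟨x, Subgroup.eq_of_le_of_card_ge hx (Nat.le_of_dvd Nat.card_pos ?_)⟩
  rw [card_map_conj]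
  exact h'.card_dvd

theorem mem_centralizer_singleton {g x : G} :
    x ∈ Subgroup.centralizer ({g} : Set G) ↔ Commute x g :=
  Subgroup.mem_centralizer_singleton_iff.trans ⟨fun h => h, fun h => h⟩

theorem mem_centralizer_iff_le {P : Subgroup G} {g : G} :
    g ∈ Subgroup.centralizer (P : Set G) ↔ P ≤ Subgroup.centralizer ({g} : Set G) := by
  simp only [Subgroup.mem_centralizer_iff, SetLike.le_def, Set.mem_singleton_iff, forall_eq,
    SetLike.mem_coe]
  exact forall₂_congr fun _ _ => eq_comm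

/-- Every `p`-subgroup of the centralizer of `g` has a conjugate in `D`. -/
def DefLE (p : ℕ) (g : G) (D : Subgroup G) : Prop :=
  ∀ Q : Subgroup G, IsPGroup p Q → Q ≤ Subgroup.centralizer ({g} : Set G) → SubConj Q D

theorem DefLE.trans {g : G} {D D' : Subgroup G} (h : DefLE p g D) (h' : SubConj D D') :
    DefLE p g D' := fun Q hQ hQg => (h Q hQ hQg).trans h'

theorem DefLE.subConj {g : G} {D Q : Subgroup G} (h : DefLE p g D) (hQ : IsPGroup p Q)
    (hQg : g ∈ Subgroup.centralizer (Q : Set G)) : SubConj Q D :=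
  h Q hQ (mem_centralizer_iff_le.1 hQg)

theorem defLE_self [Finite G] [Fact p.Prime] {g : G} {D : Subgroup G}
    (hs : IsSylowIn p D (Subgroup.centralizer ({g} : Set G))) : DefLE p g D := fun Q hQ hQg => by
  obtain ⟨k, -, hk⟩ := hs.exists_conj_mem hQg hQ
  exact ⟨k, hk⟩

theorem DefLE.of_isConj {g h : G} {D : Subgroup G} (hd : DefLE p g D) (hc : IsConj g h) :
    DefLE p h D := by
  obtain ⟨c, rfl⟩ := isConj_iff.1 hc
  intro Q hQ hQh
  refine SubConj.trans ⟨c⁻¹, fun a ha => Subgroup.mem_map_of_mem (MulAut.conj c⁻¹).toMonoidHom ha⟩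
    (hd (Q.map (MulAut.conj c⁻¹).toMonoidHom) (hQ.map _) ?_)
  rintro _ ⟨a, ha, rfl⟩
  rw [mem_centralizer_singleton]
  have h1 : Commute a (c * g * c⁻¹) := mem_centralizer_singleton.1 (hQh ha)
  have h2 := h1.map (MulAut.conj c⁻¹).toMonoidHom
  simpa [mul_assoc] using h2

variable [Fact p.Prime]

/-- Products with a central element supported on classes of small defect stay so supported. -/
theorem defLE_of_coeff_mul_ne_zero [Fintype G] {F : Type*} [CommRing F] [CharP F p] {D : Subgroup G}
    {a b : MonoidAlgebra F G} (ha : IsCentralElt a) (hb : IsCentralElt b)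
    (hD : ∀ g, a.coeff g ≠ 0 → DefLE p g D) {z : G} (hz : (a * b).coeff z ≠ 0) : DefLE p z D := by
  classical
  intro Q hQ hQz
  rw [coeff_mul_eq_sum_centralizer hQ (fun u _ x => ha x u) (fun u _ x => hb x u)
    (mem_centralizer_iff_le.2 hQz)] at hz
  obtain ⟨x, hx, hne⟩ := Finset.exists_ne_zero_of_sum_ne_zero hz
  exact (hD x (left_ne_zero_of_mul hne)).subConj hQ (Finset.mem_filter.1 hx).2

variable [Fintype G] {M : Ideal AlgInt} [M.IsPrime]

theorem exists_isDefectClass {B : Set (IrrCharacter G)} (hB : IsPBlock M B) :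
    ∃ g, IsDefectClass M B g := by
  classical
  obtain ⟨χ, hχ⟩ := IsPBlock.nonempty hB
  have h1 : omegaBar χ (blockIdemBar M B) ≠ 0 := by
    rw [omegaBar_blockIdemBar hB, if_pos hχ]
    exact one_ne_zero
  obtain ⟨C, -, hC⟩ := Finset.exists_ne_zero_of_sum_ne_zero h1
  refine ⟨Quotient.out C, blockCoeff_mem hB _,
    fun h => left_ne_zero_of_mul hC ((coeff_blockIdemBar_eq_zero_iff hB).2 h), fun ψ hψ h => ?_⟩
  refine right_ne_zero_of_mul hC ?_
  rw [← omegaBar_classSum, omegaBar_congr (IsPBlock.sameBlock hB hχ hψ), omegaBar_classSum]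
  exact centralCharBar_eq_zero_iff.2 h

theorem IsDefectClass.coeff_ne_zero {B : Set (IrrCharacter G)} (hB : IsPBlock M B) {g : G}
    (hg : IsDefectClass M B g) : (blockIdemBar M B).coeff g ≠ 0 :=
  fun h => hg.2.1 ((coeff_blockIdemBar_eq_zero_iff hB).1 h)

omit [Fact p.Prime] in
theorem IsDefectClass.centralCharBar_ne_zero {B : Set (IrrCharacter G)} {g : G}
    (hg : IsDefectClass M B g) {χ : IrrCharacter G} (hχ : χ ∈ B) : centralCharBar M χ g ≠ 0 :=
  fun h => hg.2.2 χ hχ (centralCharBar_eq_zero_iff.1 h)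

variable (hM : IsPModular p M)
include hM

/-- The idempotent of a block is supported below every class with nonzero central character. -/
theorem defLE_of_coeff_ne_zero {B : Set (IrrCharacter G)} (hB : IsPBlock M B) {χ : IrrCharacter G}
    (hχ : χ ∈ B) {h : G} (hω : centralCharBar M χ h ≠ 0) {Q : Subgroup G}
    (hQ : DefLE p h Q) {g : G} (hg : (blockIdemBar M B).coeff g ≠ 0) : DefLE p g Q := by
  classical
  have := charP_residueField hM
  obtain ⟨z, hz, hmul⟩ := exists_mul_eq_blockIdemBar hB hχ (isCentralElt_classSum (Res M) h)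
    (by rwa [omegaBar_classSum])
  refine defLE_of_coeff_mul_ne_zero (isCentralElt_classSum (Res M) h) hz (fun x hx => ?_)
    (by rwa [hmul])
  rw [coeff_classSum] at hx
  exact hQ.of_isConj (by by_contra hc; exact hx (if_neg hc))

theorem subConj_of_centralCharBar_ne_zero {B : Set (IrrCharacter G)} (hB : IsPBlock M B) {g : G}
    (hg : IsDefectClass M B g) {D : Subgroup G} (hD : IsPGroup p D)
    (hDg : D ≤ Subgroup.centralizer ({g} : Set G)) {χ : IrrCharacter G} (hχ : χ ∈ B) {h : G}
    (hω : centralCharBar M χ h ≠ 0) {Q : Subgroup G} (hQ : DefLE p h Q) : SubConj D Q :=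
  defLE_of_coeff_ne_zero hM hB hχ hω hQ (IsDefectClass.coeff_ne_zero hB hg) D hD hDg

omit hM in
theorem isDefectGroup_iff {B : Set (IrrCharacter G)} {D : Subgroup G} :
    IsDefectGroup p M B D ↔ ∃ g, IsDefectClass M B g ∧
      D ≤ Subgroup.centralizer ({g} : Set G) ∧
      IsSylowIn p D (Subgroup.centralizer ({g} : Set G)) := by
  constructor
  · rintro ⟨g, hg, P, rfl⟩
    refine ⟨g, hg, Subgroup.map_subtype_le _, P, ?_⟩
    rw [Subgroup.subgroupOf, Subgroup.comap_map_eq_self_of_injective
      (Subgroup.centralizer ({g} : Set G)).subtype_injective]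
  · rintro ⟨g, hg, hle, P, hP⟩
    refine ⟨g, hg, P, ?_⟩
    rw [hP, Subgroup.map_subgroupOf_eq_of_le hle]

omit hM in
theorem exists_isDefectGroup {B : Set (IrrCharacter G)} (hB : IsPBlock M B) :
    ∃ D, IsDefectGroup p M B D := by
  obtain ⟨g, hg⟩ := exists_isDefectClass hB
  obtain ⟨P⟩ := (inferInstance : Nonempty (Sylow p (Subgroup.centralizer ({g} : Set G))))
  exact ⟨_, g, hg, P, rfl⟩

omit hM in
theorem IsDefectGroup.isPGroup {B : Set (IrrCharacter G)} {D : Subgroup G}
    (hD : IsDefectGroup p M B D) : IsPGroup p D := by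
  obtain ⟨g, -, hle, hs⟩ := isDefectGroup_iff.1 hD
  exact hs.isPGroup hle

/-- Classes in the support of the block idempotent have defect below a defect group. -/
theorem IsDefectGroup.defLE_of_coeff_ne_zero {B : Set (IrrCharacter G)} (hB : IsPBlock M B)
    {D : Subgroup G} (hD : IsDefectGroup p M B D) {h : G} (hh : (blockIdemBar M B).coeff h ≠ 0) :
    DefLE p h D := by
  obtain ⟨g, hg, -, hs⟩ := isDefectGroup_iff.1 hD
  obtain ⟨χ, hχ⟩ := IsPBlock.nonempty hB
  exact CfsgLib.Blocks.defLE_of_coeff_ne_zero hM hB hχ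
    (IsDefectClass.centralCharBar_ne_zero hg hχ) (defLE_self hs) hh

/-- A class with nonzero central character has defect above a defect group. -/
theorem IsDefectGroup.subConj_of_centralCharBar_ne_zero {B : Set (IrrCharacter G)}
    (hB : IsPBlock M B) {D : Subgroup G} (hD : IsDefectGroup p M B D) {χ : IrrCharacter G}
    (hχ : χ ∈ B) {h : G} (hω : centralCharBar M χ h ≠ 0) {Q : Subgroup G} (hQ : DefLE p h Q) :
    SubConj D Q := by
  obtain ⟨g, hg, hle, hs⟩ := isDefectGroup_iff.1 hD
  exact CfsgLib.Blocks.subConj_of_centralCharBar_ne_zero hM hB hg (hs.isPGroup hle) hle hχ hω hQ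

/-- The reduced central character vanishes unless the defect group centralizes a conjugate. -/
theorem IsDefectGroup.exists_isConj_mem_centralizer {B : Set (IrrCharacter G)}
    (hB : IsPBlock M B) {D : Subgroup G} (hD : IsDefectGroup p M B D) {χ : IrrCharacter G}
    (hχ : χ ∈ B) {h : G} (hω : centralCharBar M χ h ≠ 0) :
    ∃ c, IsConj h c ∧ c ∈ Subgroup.centralizer (D : Set G) := by
  obtain ⟨Q, -, hQ, -, hQs⟩ := exists_isSylowIn_ge (p := p)
    (bot_le : (⊥ : Subgroup G) ≤ Subgroup.centralizer ({h} : Set G)) IsPGroup.of_bot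
  obtain ⟨x, hx⟩ := IsDefectGroup.subConj_of_centralCharBar_ne_zero hM hB hD hχ hω (defLE_self hQs)
  refine ⟨x⁻¹ * h * x, isConj_iff.2 ⟨x⁻¹, by simp⟩, Subgroup.mem_centralizer_iff.2 fun a ha => ?_⟩
  have h1 : Commute (x * a * x⁻¹) h := mem_centralizer_singleton.1 (hQ (hx a ha))
  have h2 := h1.map (MulAut.conj x⁻¹).toMonoidHom
  simpa [mul_assoc, Commute, SemiconjBy] using h2

theorem IsDefectGroup.subConj {B : Set (IrrCharacter G)} (hB : IsPBlock M B) {D D' : Subgroup G}
    (hD : IsDefectGroup p M B D) (hD' : IsDefectGroup p M B D') : SubConj D D' := by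
  obtain ⟨g, hg, hle, hs⟩ := isDefectGroup_iff.1 hD
  exact (IsDefectGroup.defLE_of_coeff_ne_zero hM hB hD' (IsDefectClass.coeff_ne_zero hB hg)) D
    (hs.isPGroup hle) hle

/-- Defect groups are conjugate. -/
theorem IsDefectGroup.exists_conj {B : Set (IrrCharacter G)} (hB : IsPBlock M B)
    {D D' : Subgroup G} (hD : IsDefectGroup p M B D) (hD' : IsDefectGroup p M B D') :
    ∃ x : G, D.map (MulAut.conj x).toMonoidHom = D' :=
  SubConj.exists_map_eq (IsDefectGroup.subConj hM hB hD hD') (IsDefectGroup.subConj hM hB hD' hD)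

omit hM in
theorem IsDefectClass.of_isConj {B : Set (IrrCharacter G)} {g h : G} (hc : IsConj g h)
    (hg : IsDefectClass M B g) : IsDefectClass M B h := by
  have hb : blockCoeff B h = blockCoeff B g :=
    (Char.isClassFunction_iff_isConj.1 (isClassFunction_blockCoeff B) g h hc).symm
  refine ⟨hb ▸ hg.1, hb ▸ hg.2.1, fun χ hχ => ?_⟩
  rw [← centralChar_eq_of_isConj (Char.IsIrr.isClassFunction χ.2) hc]
  exact hg.2.2 χ hχ

omit hM in
/-- Conjugates of defect groups are defect groups. -/
theorem IsDefectGroup.map_conj {B : Set (IrrCharacter G)} {D : Subgroup G}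
    (hD : IsDefectGroup p M B D) (x : G) :
    IsDefectGroup p M B (D.map (MulAut.conj x).toMonoidHom) := by
  obtain ⟨g, hg, hle, hs⟩ := isDefectGroup_iff.1 hD
  have hcent : Subgroup.centralizer ({x * g * x⁻¹} : Set G) =
      (Subgroup.centralizer ({g} : Set G)).map (MulAut.conj x).toMonoidHom := by
    ext y
    rw [Subgroup.mem_map_equiv, mem_centralizer_singleton, mem_centralizer_singleton]
    constructor
    · intro h
      simpa [mul_assoc] using h.map (MulAut.conj x).symm.toMonoidHom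
    · intro h
      simpa [mul_assoc] using h.map (MulAut.conj x).toMonoidHom
  refine isDefectGroup_iff.2 ⟨x * g * x⁻¹,
    IsDefectClass.of_isConj (isConj_iff.2 ⟨x, rfl⟩) hg, ?_, ?_⟩
  · rw [hcent]
    exact Subgroup.map_mono hle
  · rw [hcent, isSylowIn_iff_card (Subgroup.map_mono hle), card_map_conj, card_map_conj]
    exact (isSylowIn_iff_card hle).1 hs

theorem IsDefectClass.not_dvd_orderOf {B : Set (IrrCharacter G)} (hB : IsPBlock M B) {g : G}
    (hg : IsDefectClass M B g) : ¬ p ∣ orderOf g := by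
  classical
  intro hd
  refine hg.2.1 ?_
  have : Fintype (IrrCharacter G) := Fintype.ofFinite _
  have h0 : blockCoeff B g = 0 := by
    rw [blockCoeff_eq_sum, mul_eq_zero]
    right
    rw [← sum_block_regular_singular hM hB (x := 1) (by simp [hM.1.ne_one]) (y := g⁻¹)
      (by rwa [orderOf_inv]), finsum_mem_eq_finite_toFinset_sum _ (Set.toFinite B)]
    exact Finset.sum_congr (by ext; simp) fun _ _ => rfl
  rw [h0]
  exact memLocalIdeal_iff_not_isUnit (z := (0 : localRing M)) |>.2 not_isUnit_zero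

/-- `O_p` of `G`, or any normal `p`-subgroup, is contained in every defect group. -/
theorem IsDefectGroup.normal_le {B : Set (IrrCharacter G)} (hB : IsPBlock M B) {D : Subgroup G}
    (hD : IsDefectGroup p M B D) {P : Subgroup G} [P.Normal] (hP : IsPGroup p P) : P ≤ D := by
  classical
  have := charP_residueField hM
  obtain ⟨g, hg, hle, hs⟩ := isDefectGroup_iff.1 hD
  obtain ⟨χ, hχ⟩ := IsPBlock.nonempty hB
  have hgP : g ∈ Subgroup.centralizer (P : Set G) := by
    by_contra hgP
    refine IsDefectClass.centralCharBar_ne_zero hg hχ ?_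
    obtain ⟨n, hn⟩ := isNilpotent_of_vanish_centralizer (F := Res M) hP
      (isCentralElt_classSum (Res M) g) fun c hc => by
        rw [coeff_classSum, if_neg fun hcon => hgP ?_]
        obtain ⟨y, hy⟩ := isConj_iff.1 hcon
        rw [show g = y⁻¹ * c * y by rw [← hy]; group]
        simpa using (inferInstance : (Subgroup.centralizer (P : Set G)).Normal).conj_mem c hc y⁻¹
    have h0 := congrArg (omegaBar χ) hn
    rw [omegaBar_pow χ (isCentralElt_classSum _ g), omegaBar_zero, omegaBar_classSum] at h0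
    exact pow_eq_zero_iff (fun h => by simp [h] at h0) |>.1 h0
  have h1 : IsPGroup p (P ⊔ D : Subgroup G) :=
    IsPGroup.to_sup_of_normal_left hP (hs.isPGroup hle)
  have h2 := hs.eq_of_le hle le_sup_right (sup_le (mem_centralizer_iff_le.1 hgP) hle) h1
  exact h2 ▸ le_sup_left

end CfsgLib.Blocks
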