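import Cfsg.Agent.Lib.Blocks.CoveringIdem
import Cfsg.Agent.Lib.Blocks.Defect
import Cfsg.Agent.Lib.Blocks.ExtendedFirst
import Cfsg.Prelude.Def_BlockLocal

/-!
# Defect groups and normal subgroups

If `B` covers `c` then some element `w` fixed by `N` has `res_N (w f_B)` outside the kernel of the
reduced central character of `c`: otherwise the graded components of `f_B` would make it nilpotent.
So the defect groups of `c` lie below those of `B`; the Brauer map at a defect group `P` of `B`
gives a covered `P`-stable block with defect group `P ⊓ N`.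
-/

namespace CfsgLib.Blocks

open Cfsg CfsgLib.Char CfsgLib.Fusion MonoidAlgebra

section Algebra

variable {G : Type*} [Group G] [Fintype G] {N : Subgroup G} [hN : N.Normal] {k : Type*} [Field k]

/-- Invariance under conjugation by the subgroup. -/
def IsFixed (N : Subgroup G) (v : MonoidAlgebra k G) : Prop :=
  ∀ u ∈ N, ∀ x, v.coeff (u * x * u⁻¹) = v.coeff x

/-- Support in one coset. -/
def InCoset (q : G ⧸ N) (v : MonoidAlgebra k G) : Prop :=
  ∀ g, v.coeff g ≠ 0 → (g : G ⧸ N) = q

open scoped Classical in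
/-- The part supported in one coset. -/
noncomputable def cut (q : G ⧸ N) (v : MonoidAlgebra k G) : MonoidAlgebra k G :=
  ofFun fun g => if (g : G ⧸ N) = q then v.coeff g else 0

omit hN in
theorem IsFixed.mul {v w : MonoidAlgebra k G} (hv : IsFixed N v) (hw : IsFixed N w) :
    IsFixed N (v * w) := by
  classical
  intro u hu x
  rw [coeff_mul_eq_sum, coeff_mul_eq_sum]
  symm
  refine Fintype.sum_equiv (MulAut.conj u).toEquiv _ _ fun y => ?_
  simp only [MulEquiv.toEquiv_eq_coe, MulEquiv.coe_toEquiv, MulAut.conj_apply]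
  rw [hv u hu y, ← hw u hu (y⁻¹ * x)]
  congr 2
  group

omit hN in
theorem IsFixed.of_central {f : MonoidAlgebra k G} (hf : IsCentralElt f) : IsFixed N f :=
  fun u _ x => hf x u

omit hN in
theorem IsFixed.one : IsFixed N (1 : MonoidAlgebra k G) :=
  IsFixed.of_central IsCentralElt.one

theorem InCoset.mul {q e : G ⧸ N} {v w : MonoidAlgebra k G} (hv : InCoset q v) (hw : InCoset e w) :
    InCoset (q * e) (v * w) := by
  classical
  intro g hg
  rw [coeff_mul_eq_sum] at hg
  obtain ⟨x, -, hx⟩ := Finset.exists_ne_zero_of_sum_ne_zero hg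
  rw [← hv x (left_ne_zero_of_mul hx), ← hw _ (right_ne_zero_of_mul hx), ← QuotientGroup.mk_mul,
    mul_inv_cancel_left]

omit [Fintype G] in
theorem InCoset.one : InCoset (1 : G ⧸ N) (1 : MonoidAlgebra k G) := by
  classical
  intro g hg
  rw [one_def, coeff_single, Finsupp.single_apply] at hg
  rw [← of_not_not fun h : ¬1 = g => hg (if_neg h)]
  rfl

theorem cut_inCoset (q : G ⧸ N) (v : MonoidAlgebra k G) : InCoset q (cut q v) := by
  intro g hg
  by_contra h
  exact hg (by simp [cut, h])

theorem cut_fixed (q : G ⧸ N) {v : MonoidAlgebra k G} (hv : IsFixed N v) :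
    IsFixed N (cut q v) := by
  intro u hu x
  simp only [cut, coeff_ofFun]
  have : ((u * x * u⁻¹ : G) : G ⧸ N) = (x : G ⧸ N) := by
    rw [QuotientGroup.mk_mul, QuotientGroup.mk_mul, QuotientGroup.mk_inv,
      (QuotientGroup.eq_one_iff u).2 hu]
    simp
  rw [this, hv u hu x]

open scoped Classical in
theorem sum_cut (v : MonoidAlgebra k G) : ∑ q : G ⧸ N, cut q v = v := by
  ext g
  simp [cut, Finsupp.finsetSum_apply]

theorem cut_mul_eq_res [Fintype N] {q e : G ⧸ N} {f u : MonoidAlgebra k G} (hu : InCoset e u)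
    (hqe : q * e = 1) : cut q f * u = incl N k (resElt N (f * u)) := by
  classical
  ext g
  by_cases hg : g ∈ N
  · rw [show g = ((⟨g, hg⟩ : N) : G) from rfl, coeff_incl_coe, coeff_resElt, coeff_mul_eq_sum,
      coeff_mul_eq_sum]
    refine Finset.sum_congr rfl fun x _ => ?_
    by_cases hx : (x : G ⧸ N) = q
    · simp [cut, hx]
    · have h0 : u.coeff (x⁻¹ * g) = 0 := by
        by_contra h
        have h1 := hu _ h
        rw [QuotientGroup.mk_mul, (QuotientGroup.eq_one_iff g).2 hg, mul_one,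
          QuotientGroup.mk_inv] at h1
        exact hx (by rw [eq_inv_of_mul_eq_one_left hqe, ← h1, inv_inv])
      simp [h0]
  · rw [coeff_incl_of_notMem _ hg]
    by_contra h
    have h1 := (cut_inCoset q f).mul hu g h
    rw [hqe] at h1
    exact hg ((QuotientGroup.eq_one_iff g).1 h1)

theorem resElt_sum {ι : Type*} [Fintype N] (s : Finset ι) (v : ι → MonoidAlgebra k G) :
    resElt N (∑ i ∈ s, v i) = ∑ i ∈ s, resElt N (v i) := by
  ext n
  simp [Finsupp.finsetSum_apply]

omit hN in
theorem isCentralElt_resElt_of_fixed [Fintype N] {v : MonoidAlgebra k G} (hv : IsFixed N v) :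
    IsCentralElt (resElt N v) := fun g h => hv h h.2 g

/-- All translates restrict into the radical. -/
def InRad [Fintype N] (v : MonoidAlgebra k G) : Prop :=
  ∀ g : G, resElt N (of k G g * v) ∈ Ring.jacobson (MonoidAlgebra k N)

theorem InRad.sum [Fintype N] {ι : Type*} (s : Finset ι) {v : ι → MonoidAlgebra k G}
    (hv : ∀ i ∈ s, InRad (N := N) (v i)) : InRad (N := N) (∑ i ∈ s, v i) := fun g => by
  rw [Finset.mul_sum, resElt_sum]
  exact sum_mem fun i hi => hv i hi g

theorem InRad.incl_mul [Fintype N] {r : MonoidAlgebra k N}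
    (hr : r ∈ Ring.jacobson (MonoidAlgebra k N)) (v : MonoidAlgebra k G) :
    InRad (N := N) (incl N k r * v) := fun g => by
  rw [← mul_assoc, of_mul_incl, mul_assoc, resElt_incl_mul]
  exact Ideal.IsTwoSided.mul_mem_of_left _ (Submodule.pow_one (M := Ring.jacobson (MonoidAlgebra k N)) ▸
    cj_mem_pow g 1 r ((Submodule.pow_one (M := Ring.jacobson (MonoidAlgebra k N))).symm ▸ hr))

theorem InRad.mul_left [Fintype N] (y : MonoidAlgebra k G) {v : MonoidAlgebra k G}
    (hv : InRad (N := N) v) : InRad (N := N) (y * v) := fun g => by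
  classical
  rw [exists_coset_expansion (N := N) y, Finset.sum_mul, Finset.mul_sum, resElt_sum]
  refine sum_mem fun q _ => ?_
  rw [← mul_assoc, ← mul_assoc, ← map_mul (of k G), of_mul_incl, mul_assoc, resElt_incl_mul]
  exact Ideal.mul_mem_left _ _ (hv _)

/-- A central idempotent all whose translates restrict into the radical is zero. -/
theorem eq_zero_of_inRad [Fintype N] {f : MonoidAlgebra k G}
    (hff : f * f = f) (h : InRad (N := N) f) : f = 0 := by
  classical
  have : IsArtinianRing (MonoidAlgebra k N) := IsArtinianRing.of_finite k _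
  have hpow : ∀ (m : ℕ) (g : G),
      resElt N (of k G g * f) ∈ Ring.jacobson (MonoidAlgebra k N) ^ m := by
    intro m
    induction m with
    | zero => intro g; rw [Submodule.pow_zero, Ideal.one_eq_top]; trivial
    | succ m ih =>
      intro g
      rw [show of k G g * f = ∑ q : G ⧸ N, of k G g *
          (of k G q.out * incl N k (resElt N (of k G q.out⁻¹ * f)) * f) from by
        rw [← Finset.mul_sum, ← Finset.sum_mul, ← exists_coset_expansion, hff],
        resElt_sum, Submodule.pow_succ]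
      refine sum_mem fun q _ => ?_
      rw [← mul_assoc, ← mul_assoc, ← map_mul (of k G), of_mul_incl, mul_assoc, resElt_incl_mul]
      exact Ideal.mul_mem_mul (cj_mem_pow _ _ _ (ih _)) (h _)
  obtain ⟨n, hn⟩ :=
    (IsSemiprimaryRing.isNilpotent : IsNilpotent (Ring.jacobson (MonoidAlgebra k N)))
  rw [exists_coset_expansion (N := N) f]
  refine Finset.sum_eq_zero fun q _ => ?_
  have h0 := hpow n q.out⁻¹
  rw [hn] at h0
  rw [(Submodule.mem_bot _).1 h0, map_zero, mul_zero]

/-- Some fixed element pairs outside the radical with a nonzero central idempotent. -/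
theorem exists_fixed_notMem_rad [Fintype N] {f : MonoidAlgebra k G} (hf : IsCentralElt f)
    (hff : f * f = f) (hne : f ≠ 0) :
    ∃ w, IsFixed N w ∧ resElt N (w * f) ∉ Ring.jacobson (MonoidAlgebra k N) := by
  classical
  by_contra hcon
  push Not at hcon
  have key : ∀ (n : ℕ) (S : Finset (G ⧸ N)), (Sᶜ).card = n →
      ∀ (w : MonoidAlgebra k G) (d : G ⧸ N), IsFixed N w → InCoset d w → d ∈ S →
        (∀ s ∈ S, ∃ (u x : MonoidAlgebra k G) (e : G ⧸ N),
          IsFixed N u ∧ InCoset e u ∧ IsFixed N x ∧ InCoset s x ∧ e * s = d ∧ w = u * x) →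
        InRad (N := N) (f * w) := by
    intro n
    induction n using Nat.strong_induction_on with
    | _ n ih =>
      intro S hS w d hw hd hdS hfac
      conv => arg 1; rw [← hff, mul_assoc]; arg 2; rw [← sum_cut (N := N) f, Finset.sum_mul]
      rw [Finset.mul_sum]
      refine InRad.sum _ fun q _ => ?_
      by_cases hq : q * d ∈ S
      · obtain ⟨u, x, e, hu, he, -, -, hes, rfl⟩ := hfac _ hq
        have hqe : q * e = 1 := by
          have : q * e * (q * d) = 1 * (q * d) := by rw [mul_assoc, hes, one_mul]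
          exact mul_right_cancel this
        refine InRad.mul_left f ?_
        rw [← mul_assoc, cut_mul_eq_res he hqe]
        refine InRad.incl_mul ?_ x
        rw [(hf.commute u).eq]
        exact hcon u hu
      · refine ih _ ?_ (insert (q * d) S) rfl _ (q * d)
          ((cut_fixed q (IsFixed.of_central hf)).mul hw) ((cut_inCoset q f).mul hd)
          (Finset.mem_insert_self _ _) fun s hs => ?_
        · rw [← hS]
          exact Finset.card_lt_card (compl_lt_compl_iff_lt.2 (Finset.ssubset_insert hq))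
        rcases Finset.mem_insert.1 hs with rfl | hs
        · exact ⟨1, _, 1, IsFixed.one, InCoset.one, (cut_fixed q (IsFixed.of_central hf)).mul hw,
            (cut_inCoset q f).mul hd, one_mul _, (one_mul _).symm⟩
        · obtain ⟨u, x, e, hu, he, hx, hsx, hes, rfl⟩ := hfac s hs
          exact ⟨cut q f * u, x, q * e, (cut_fixed q (IsFixed.of_central hf)).mul hu,
            (cut_inCoset q f).mul he, hx, hsx, by rw [mul_assoc, hes], (mul_assoc _ _ _).symm⟩
  refine hne (eq_zero_of_inRad (N := N) hff ?_)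
  have h := key _ {1} rfl 1 1 IsFixed.one InCoset.one (Finset.mem_singleton_self 1) fun s hs => by
    rw [Finset.mem_singleton.1 hs]
    exact ⟨1, 1, 1, IsFixed.one, InCoset.one, IsFixed.one, InCoset.one, one_mul _,
      (one_mul _).symm⟩
  rwa [mul_one] at h

theorem resElt_conj [Fintype N] (g : G) (v : MonoidAlgebra k G) :
    resElt N (of k G g * v * of k G g⁻¹) = cj N k g (resElt N v) := by
  ext t
  rw [coeff_resElt, of_apply, of_apply, coeff_mul_single_apply, coeff_single_mul_apply,
    one_mul, mul_one, inv_inv]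
  obtain ⟨s, rfl⟩ := (MulAut.conjNormal g : N ≃* N).surjective t
  rw [cj, mapDomainRingHom_apply]
  erw [Finsupp.mapDomain_apply (MulAut.conjNormal g : N ≃* N).injective]
  rw [coeff_resElt, MulAut.conjNormal_apply]
  congr 1
  group

theorem isFixed_conj {w : MonoidAlgebra k G} (hw : IsFixed N w) (g : G) :
    IsFixed N (of k G g * w * of k G g⁻¹) := by
  intro u hu x
  simp only [of_apply, coeff_mul_single_apply, coeff_single_mul_apply, one_mul, mul_one, inv_inv]
  rw [← hw (g⁻¹ * u * g) (by simpa using hN.conj_mem u hu g⁻¹) (g⁻¹ * (x * g))]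
  congr 1
  group

/-- A central nilpotent element lies in the radical. -/
theorem mem_jacobson_of_isNilpotent {R : Type*} [Ring R] {a : R} (hc : ∀ v, Commute a v)
    (ha : IsNilpotent a) : a ∈ Ring.jacobson R := by
  rw [← Ideal.jacobson_bot, Ideal.mem_jacobson_iff]
  intro y
  have hu : IsUnit (y * a + 1) := ((hc y).symm.isNilpotent_mul_left ha).isUnit_add_one
  obtain ⟨w, hw⟩ := hu.exists_left_inv
  refine ⟨w, ?_⟩
  rw [Submodule.mem_bot, ← hw]
  noncomm_ring

end Algebra

section Index

variable {G : Type*} [Group G] [Finite G]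

/-- Joining a normal subgroup can only shrink an index. -/
theorem index_subgroupOf_sup_dvd {X C N : Subgroup G} [N.Normal] (hXC : X ≤ C) :
    ((X ⊔ N).subgroupOf (C ⊔ (X ⊔ N))).index ∣ (X.subgroupOf C).index := by
  have h : C ⊔ (X ⊔ N) = C ⊔ N := by rw [← sup_assoc, sup_eq_left.2 hXC]
  have hXN : X ⊔ N ≤ C ⊔ N := sup_le_sup_right hXC N
  rw [h, ← Subgroup.relIndex, ← Subgroup.relIndex]
  have h1 := Subgroup.relIndex_mul_relIndex N (X ⊔ N) (C ⊔ N) le_sup_right hXN
  rw [Subgroup.relIndex_sup_right, Subgroup.relIndex_sup_right] at h1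
  have h2 : (N ⊓ X).relIndex X * X.relIndex C = (N ⊓ X).relIndex (N ⊓ C) * (N ⊓ C).relIndex C := by
    rw [Subgroup.relIndex_mul_relIndex _ _ _ inf_le_right hXC,
      Subgroup.relIndex_mul_relIndex _ _ _ (inf_le_inf_left N hXC) inf_le_right]
  rw [Subgroup.inf_relIndex_right, Subgroup.inf_relIndex_right, ← h1, ← mul_assoc,
    mul_comm _ (N.relIndex X), mul_assoc] at h2
  exact Dvd.intro_left _ (mul_left_cancel₀ (fun h0 => Subgroup.index_ne_zero_of_finite
    (H := N.subgroupOf X) h0) h2).symm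

end Index

section Transport

variable {K L : Type*} [Group K] [Group L] [Fintype K] [Fintype L] {p : ℕ} [Fact p.Prime]
  {M : Ideal AlgInt} [M.IsPrime]

/-- Defect groups along an isomorphism. -/
theorem isDefectGroup_image_pullEquiv (e : K ≃* L) {B : Set (IrrCharacter L)}
    {D : Subgroup L} (hD : IsDefectGroup p M B D) :
    IsDefectGroup p M (pullEquiv e '' B) (D.map e.symm.toMonoidHom) := by
  obtain ⟨g, hg, hle, hs⟩ := isDefectGroup_iff.1 hD
  have hg' : IsDefectClass M (pullEquiv e '' B) (e.symm g) := by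
    refine ⟨?_, ?_, ?_⟩
    · rw [blockCoeff_image_pullEquiv, MulEquiv.apply_symm_apply]; exact hg.1
    · rw [blockCoeff_image_pullEquiv, MulEquiv.apply_symm_apply]; exact hg.2.1
    · rintro _ ⟨χ, hχ, rfl⟩
      rw [centralChar_pullEquiv, MulEquiv.apply_symm_apply]
      exact hg.2.2 χ hχ
  have hcent : Subgroup.centralizer ({e.symm g} : Set K) =
      (Subgroup.centralizer ({g} : Set L)).map e.symm.toMonoidHom := by
    ext y
    rw [Subgroup.mem_map_equiv, mem_centralizer_singleton, mem_centralizer_singleton,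
      MulEquiv.symm_symm]
    constructor
    · intro h
      simpa using h.map e.toMonoidHom
    · intro h
      simpa using h.map e.symm.toMonoidHom
  refine isDefectGroup_iff.2 ⟨e.symm g, hg', hcent ▸ Subgroup.map_mono hle, ?_⟩
  rw [hcent, isSylowIn_iff_card (Subgroup.map_mono hle),
    Subgroup.card_map_of_injective e.symm.injective,
    Subgroup.card_map_of_injective e.symm.injective]
  exact (isSylowIn_iff_card hle).1 hs

end Transport

section Characters

variable {G : Type*} [Group G] [Fintype G] (N : Subgroup G) [hN : N.Normal] [Fintype N]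
  {p : ℕ} [Fact p.Prime] {M : Ideal AlgInt} [M.IsPrime] {B : Set (IrrCharacter G)}
  {b c : Set (IrrCharacter N)}

/-- `B` covers `b`. -/
def Covers (B : Set (IrrCharacter G)) (b : Set (IrrCharacter N)) : Prop :=
  ∃ χ ∈ B, ∃ θ ∈ b, classInner (fun n : N => (χ : G → ℂ) n) (θ : N → ℂ) ≠ 0

omit [Fintype G] [Fintype N] in
theorem conjIrr_mul (g h : G) (θ : IrrCharacter N) :
    conjIrr N (g * h) θ = conjIrr N h (conjIrr N g θ) := Subtype.ext (funext fun n => by
  rw [Blocks.conjIrr_apply, Blocks.conjIrr_apply, Blocks.conjIrr_apply]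
  exact congrArg _ (Subtype.ext (by simp [mul_assoc])))

omit [Fintype G] [Fintype N] in
theorem conjIrr_of_mem {g : G} (hg : g ∈ N) (θ : IrrCharacter N) : conjIrr N g θ = θ :=
  Subtype.ext (funext fun n => by
    rw [Blocks.conjIrr_apply]
    exact IsIrr.isClassFunction θ.2 n ⟨g, hg⟩)

omit [Fintype G] [Fintype N] in
theorem image_conjIrr_blockOf (g : G) (θ : IrrCharacter N) :
    conjIrr N g '' blockOf M (θ : N → ℂ) = blockOf M (conjIrr N g θ : N → ℂ) :=
  image_pullEquiv_blockOf M _ θ

omit [Fintype G] in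
theorem isPBlock_image_conjIrr (hb : IsPBlock M b) (g : G) : IsPBlock M (conjIrr N g '' b) := by
  obtain ⟨θ, rfl⟩ := hb
  exact ⟨conjIrr N g θ, image_conjIrr_blockOf N g θ⟩

variable (M) in
/-- The stabilizer of a block. -/
def blockStab (hb : IsPBlock M b) : Subgroup G where
  carrier := {g | conjIrr N g '' b = b}
  one_mem' := by
    show conjIrr N 1 '' b = b
    rw [Set.image_congr fun θ _ => conjIrr_of_mem N N.one_mem θ, Set.image_id']
  mul_mem' := fun {g h} hg hh => by
    show conjIrr N (g * h) '' b = b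
    rw [Set.image_congr fun θ _ => conjIrr_mul N g h θ, ← Set.image_image (conjIrr N h),
      show conjIrr N g '' b = b from hg, show conjIrr N h '' b = b from hh]
  inv_mem' := fun {g} hg => by
    show conjIrr N g⁻¹ '' b = b
    conv_lhs => rw [← (show conjIrr N g '' b = b from hg), Set.image_image]
    rw [Set.image_congr fun θ _ => (conjIrr_mul N g g⁻¹ θ).symm, mul_inv_cancel,
      Set.image_congr fun θ _ => conjIrr_of_mem N N.one_mem θ, Set.image_id']

omit [Fintype G] [Fintype N] in
theorem mem_blockStab {hb : IsPBlock M b} {g : G} :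
    g ∈ blockStab N M hb ↔ conjIrr N g '' b = b := Iff.rfl

omit [Fintype G] in
theorem le_blockStab (hb : IsPBlock M b) : N ≤ blockStab N M hb := fun g hg => by
  rw [mem_blockStab, Set.image_congr fun θ _ => conjIrr_of_mem N hg θ, Set.image_id']

omit [Fintype G] in
theorem mem_blockStab_of_stabilizes (hb : IsPBlock M b) {g : G} (h : StabilizesBlock N b g) :
    g ∈ blockStab N M hb := by
  obtain ⟨θ, hθ⟩ := IsPBlock.nonempty hb
  obtain ⟨θ', hθ', hc⟩ := h.2 θ hθ
  have : conjIrr N g θ' = θ := Subtype.ext (funext fun n => by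
    rw [Blocks.conjIrr_apply]
    exact hc n ⟨_, hN.conj_mem n n.2 g⟩ rfl)
  exact IsPBlock.eq_of_mem (isPBlock_image_conjIrr N hb g) hb ⟨θ', hθ', this⟩ hθ

omit [Fintype G] in
theorem stabilizes_of_mem_blockStab (hb : IsPBlock M b) {g : G} (h : g ∈ blockStab N M hb) :
    StabilizesBlock N b g := by
  refine ⟨Subgroup.normalizer_eq_top (H := N) ▸ Subgroup.mem_top g, fun χ hχ => ?_⟩
  have hinv : g⁻¹ ∈ blockStab N M hb := inv_mem h
  refine ⟨conjIrr N g⁻¹ χ, (mem_blockStab N).1 hinv ▸ ⟨χ, hχ, rfl⟩, fun n n' he => ?_⟩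
  rw [Blocks.conjIrr_apply]
  refine congrArg _ (Subtype.ext ?_)
  show g⁻¹ * (n' : G) * g⁻¹⁻¹ = n
  rw [he]; group

omit [Fintype G] in
theorem coeff_blockIdemBar_conj (hb : IsPBlock M b) (g : G) (n : N) :
    (blockIdemBar M (conjIrr N g '' b)).coeff n =
      (blockIdemBar M b).coeff ⟨g * n * g⁻¹, hN.conj_mem n n.2 g⟩ := by
  rw [show conjIrr N g = pullEquiv (MulAut.conjNormal g) from rfl,
    coeff_blockIdemBar_pullEquiv _ hb (isPBlock_image_conjIrr N hb g)]
  exact congrArg _ (Subtype.ext (MulAut.conjNormal_apply g n))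

omit [Fintype G] in
theorem coeff_blockIdemBar_stab (hb : IsPBlock M b) {g : G} (hg : g ∈ blockStab N M hb) (n : N) :
    (blockIdemBar M b).coeff ⟨g * n * g⁻¹, hN.conj_mem n n.2 g⟩ = (blockIdemBar M b).coeff n := by
  rw [← coeff_blockIdemBar_conj N hb g n, (mem_blockStab N).1 hg]

theorem coeff_incl_blockIdemBar_stab (hb : IsPBlock M b) {g : G} (hg : g ∈ blockStab N M hb)
    (x : G) : (incl N (Res M) (blockIdemBar M b)).coeff (g * x * g⁻¹) =
      (incl N (Res M) (blockIdemBar M b)).coeff x := by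
  by_cases hx : x ∈ N
  · exact (coeff_incl_coe _ (⟨_, hN.conj_mem x hx g⟩ : N)).trans
      ((coeff_blockIdemBar_stab N hb hg ⟨x, hx⟩).trans (coeff_incl_coe _ (⟨x, hx⟩ : N)).symm)
  · rw [coeff_incl_of_notMem _ hx, coeff_incl_of_notMem]
    intro h
    exact hx (by simpa [mul_assoc] using hN.conj_mem _ h g⁻¹)

theorem covers_conj (hc : Covers N B b) (g : G) : Covers N B (conjIrr N g '' b) := by
  obtain ⟨χ, hχ, θ, hθ, h⟩ := hc
  exact ⟨χ, hχ, _, ⟨θ, hθ, rfl⟩, by rwa [classInner_conjIrr]⟩

theorem exists_conj_of_covers (hB : IsPBlock M B) (hb : IsPBlock M b) (hc' : IsPBlock M c)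
    (h : Covers N B b) (h' : Covers N B c) : ∃ g : G, c = conjIrr N g '' b := by
  obtain ⟨χ, hχ, θ, hθ, hne⟩ := h
  obtain ⟨χ', hχ', θ', hθ', hne'⟩ := h'
  obtain ⟨g, hg⟩ := exists_conj_of_sameBlock N (IsPBlock.sameBlock hB hχ hχ') hne hne'
  refine ⟨g, IsPBlock.eq_of_mem hc' (isPBlock_image_conjIrr N hb g) hθ' ?_⟩
  rw [IsPBlock.eq_blockOf hb hθ, image_conjIrr_blockOf]
  exact hg

/-- An idempotent central element is `1` at `b` exactly when it fixes the idempotent of `b`. -/
theorem blockIdemBar_mul_eq_self {K : Type*} [Group K] [Fintype K] {A : Set (IrrCharacter K)}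
    (hA : IsPBlock M A) {r : MonoidAlgebra (Res M) K} (hr : IsCentralElt r) (hrr : r * r = r)
    {θ : IrrCharacter K} (hθ : θ ∈ A) (h1 : omegaBar θ r = 1) :
    blockIdemBar M A * r = blockIdemBar M A := by
  classical
  have hA' := isCentralElt_blockIdemBar hA
  set u := blockIdemBar M A - blockIdemBar M A * r with hu
  have hnil : IsNilpotent u := by
    refine isNilpotent_of_omegaBar_eq_zero (hA'.sub (hA'.mul hr)) fun η => ?_
    rw [omegaBar_sub, omegaBar_mul η hA' hr, omegaBar_blockIdemBar hA]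
    split_ifs with h
    · rw [omegaBar_congr (IsPBlock.sameBlock hA h hθ), h1, one_mul, sub_self]
    · rw [zero_mul, sub_self]
  have huu : IsIdempotentElem u := by
    show u * u = u
    have hr2 : blockIdemBar M A * r * (blockIdemBar M A * r) = blockIdemBar M A * r := by
      rw [mul_assoc, ← mul_assoc r, (hr.commute _).eq, mul_assoc _ r r, hrr, ← mul_assoc,
        blockIdemBar_mul_self hA]
    have hr3 : blockIdemBar M A * r * blockIdemBar M A = blockIdemBar M A * r := by
      rw [mul_assoc, (hr.commute _).eq, ← mul_assoc, blockIdemBar_mul_self hA]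
    rw [hu, sub_mul, mul_sub, mul_sub, blockIdemBar_mul_self hA, ← mul_assoc,
      blockIdemBar_mul_self hA, hr3, hr2]
    abel
  exact (sub_eq_zero.1 (huu.eq_zero_of_isNilpotent hnil)).symm

/-- Blocks meeting the restrictions of the multiples of the idempotent are covered. -/
theorem covers_of_mul_ne_zero (hB : IsPBlock M B) (hb : IsPBlock M b)
    (h : incl N (Res M) (blockIdemBar M b) * blockIdemBar M B ≠ 0) : Covers N B b := by
  classical
  have hf := isCentralElt_blockIdemBar hB
  obtain ⟨z, hz, hzG, hzz, hzf, x, hx⟩ :=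
    exists_covered_idem (N := N) hf (blockIdemBar_mul_self hB)
  have hb' := isCentralElt_blockIdemBar hb
  obtain ⟨θ, hθ⟩ : ∃ θ ∈ b, omegaBar θ z ≠ 0 := by
    by_contra hcon
    push Not at hcon
    refine h ?_
    have h0 : blockIdemBar M b * z = 0 := by
      refine IsIdempotentElem.eq_zero_of_isNilpotent ?_
        (isNilpotent_of_omegaBar_eq_zero (hb'.mul hz) fun η => ?_)
      · show blockIdemBar M b * z * (blockIdemBar M b * z) = blockIdemBar M b * z
        rw [mul_assoc, ← mul_assoc z, (hz.commute _).eq, mul_assoc _ z z, hzz, ← mul_assoc,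
          blockIdemBar_mul_self hb]
      · rw [omegaBar_mul η hb' hz, omegaBar_blockIdemBar hb]
        split_ifs with hη
        · rw [hcon η hη, mul_zero]
        · rw [zero_mul]
    conv_lhs => rw [← hzf, ← mul_assoc, ← map_mul, h0, map_zero, zero_mul]
  have h1 : omegaBar θ z = 1 := by
    have := congrArg (omegaBar θ) hzz
    rw [omegaBar_mul θ hz hz] at this
    exact mul_left_cancel₀ hθ.2 (this.trans (mul_one _).symm)
  obtain ⟨ψ, hψ, hne⟩ := exists_over_of_omegaBar_eq_one N hB hz hx h1
  exact ⟨ψ, hψ, θ, hθ.1, hne⟩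

/-- Some fixed element pairs a covering block nontrivially with a covered one. -/
theorem exists_pairing (hB : IsPBlock M B) (hb : IsPBlock M b) (hc : Covers N B b)
    {θ : IrrCharacter N} (hθ : θ ∈ b) :
    ∃ w, IsFixed N w ∧ omegaBar θ (resElt N (w * blockIdemBar M B)) ≠ 0 := by
  classical
  by_contra hcon
  push Not at hcon
  have hf := isCentralElt_blockIdemBar hB
  obtain ⟨χ, hχ, -⟩ := id hc
  have hne : blockIdemBar M B ≠ 0 := fun h0 => by
    have h := omegaBar_blockIdemBar hB χ
    rw [if_pos hχ, h0, omegaBar_zero] at h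
    exact zero_ne_one h
  obtain ⟨w, hw, hnr⟩ := exists_fixed_notMem_rad (N := N) hf (blockIdemBar_mul_self hB) hne
  have hcen : ∀ {w}, IsFixed N w → IsCentralElt (resElt N (w * blockIdemBar M B)) := fun hw =>
    isCentralElt_resElt_of_fixed (hw.mul (IsFixed.of_central hf))
  refine hnr (mem_jacobson_of_isNilpotent (fun v => (hcen hw).commute v)
    (isNilpotent_of_omegaBar_eq_zero (hcen hw) fun η => ?_))
  obtain ⟨z, hz, hzG, hzz, hzf, x, hx⟩ :=
    exists_covered_idem (N := N) hf (blockIdemBar_mul_self hB)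
  have hzw : resElt N (w * blockIdemBar M B) = z * resElt N (w * blockIdemBar M B) := by
    conv_lhs => rw [← hzf, ← mul_assoc, ← (hzG.commute w).eq, mul_assoc, resElt_incl_mul]
  rcases eq_or_ne (omegaBar η z) 0 with h0 | h0
  · rw [hzw, omegaBar_mul η hz (hcen hw), h0, zero_mul]
  · have h1 : omegaBar η z = 1 := by
      have := congrArg (omegaBar η) hzz
      rw [omegaBar_mul η hz hz] at this
      exact mul_left_cancel₀ h0 (this.trans (mul_one _).symm)
    obtain ⟨ψ, hψ, hne'⟩ := exists_over_of_omegaBar_eq_one N hB hz hx h1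
    obtain ⟨g, hg⟩ := exists_conj_of_covers N hB hb (isPBlock_blockOf η) hc
      ⟨ψ, hψ, η, mem_blockOf_self η, hne'⟩
    obtain ⟨θ', hθ', he⟩ := hg ▸ mem_blockOf_self η
    rw [← he, show conjIrr N g θ' = pullEquiv (MulAut.conjNormal g) θ' from rfl,
      omegaBar_pullEquiv _ θ' (hcen hw) (c := cj N (Res M) g (resElt N (w * blockIdemBar M B)))
        (fun n => (Finsupp.mapDomain_apply (MulAut.conjNormal g : N ≃* N).injective _ n).symm),
      ← omegaBar_congr (IsPBlock.sameBlock hb hθ hθ'), ← resElt_conj, ← mul_assoc,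
      mul_assoc (of _ G g * w), (hf.commute _).eq, ← mul_assoc]
    exact hcon _ (isFixed_conj hw g)

variable (hM : IsPModular p M)
include hM

/-- The defect groups of a covered block lie below those of the covering block. -/
theorem subConj_of_covers (hB : IsPBlock M B) (hb : IsPBlock M b) (hc : Covers N B b)
    {P : Subgroup G} (hP : IsDefectGroup p M B P) {D : Subgroup N} (hD : IsDefectGroup p M b D) :
    SubConj (D.map N.subtype) P := by
  classical
  have := charP_residueField hM
  obtain ⟨θ, hθ⟩ := IsPBlock.nonempty hb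
  obtain ⟨w, hw, hne⟩ := exists_pairing N hB hb hc hθ
  obtain ⟨C, -, hC⟩ := Finset.exists_ne_zero_of_sum_ne_zero hne
  set n : N := Quotient.out C
  obtain ⟨R, -, hR, -, hRs⟩ := exists_isSylowIn_ge (p := p)
    (bot_le : (⊥ : Subgroup N) ≤ Subgroup.centralizer ({n} : Set N)) IsPGroup.of_bot
  have h1 : SubConj D R :=
    IsDefectGroup.subConj_of_centralCharBar_ne_zero hM hb hD hθ (right_ne_zero_of_mul hC)
      (defLE_self hRs)
  have hRp : IsPGroup p R := hRs.isPGroup hR
  have hnR : (n : G) ∈ Subgroup.centralizer ((R.map N.subtype : Subgroup G) : Set G) := by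
    refine Subgroup.mem_centralizer_iff.2 ?_
    rintro _ ⟨r, hr, rfl⟩
    exact congrArg Subtype.val (mem_centralizer_singleton.1 (hR hr)).eq
  have hne' := left_ne_zero_of_mul hC
  rw [coeff_resElt, coeff_mul_eq_sum_centralizer (hRp.map _)
    (fun u hu x => hw u (Subgroup.map_subtype_le _ hu) x)
    (fun u _ x => (isCentralElt_blockIdemBar hB) x u) hnR] at hne'
  obtain ⟨x, hx, hne''⟩ := Finset.exists_ne_zero_of_sum_ne_zero hne'
  have h2 : SubConj (R.map N.subtype) P :=
    (IsDefectGroup.defLE_of_coeff_ne_zero hM hB hP (right_ne_zero_of_mul hne'')).subConj (hRp.map _)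
      (mul_mem (inv_mem (Finset.mem_filter.1 hx).2) hnR)
  refine SubConj.trans ?_ h2
  obtain ⟨y, hy⟩ := h1
  refine ⟨(y : G), ?_⟩
  rintro _ ⟨d, hd, rfl⟩
  exact ⟨_, hy d hd, rfl⟩

/-- A defect group `P` of `B` stabilizes a covered block with defect group `P ⊓ N`. -/
theorem exists_stable_covered (hB : IsPBlock M B) {P : Subgroup G} (hP : IsDefectGroup p M B P) :
    ∃ c : Set (IrrCharacter N), ∃ hc : IsPBlock M c, P ≤ blockStab N M hc ∧ Covers N B c ∧
      IsDefectGroup p M c ((P ⊓ N).subgroupOf N) := by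
  classical
  have := charP_residueField hM
  have hPp := IsDefectGroup.isPGroup hP
  have hf := isCentralElt_blockIdemBar hB
  obtain ⟨g, hg, hle, -⟩ := isDefectGroup_iff.1 hP
  have hgC : g ∈ Subgroup.centralizer (P : Set G) := mem_centralizer_iff_le.2 hle
  let Bl := {b : Set (IrrCharacter N) // IsPBlock M b}
  have : Fintype Bl := Fintype.ofFinite _
  let _ : MulAction P Bl :=
    { smul := fun u b => ⟨conjIrr N (u : G)⁻¹ '' b.1, isPBlock_image_conjIrr N b.2 _⟩
      one_smul := fun b => Subtype.ext <| by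
        show conjIrr N ((1 : P) : G)⁻¹ '' b.1 = b.1
        rw [Set.image_congr fun θ _ => conjIrr_of_mem N (by simp) θ, Set.image_id']
      mul_smul := fun u v b => Subtype.ext <| by
        show conjIrr N ((u * v : P) : G)⁻¹ '' b.1 =
          conjIrr N (u : G)⁻¹ '' (conjIrr N (v : G)⁻¹ '' b.1)
        rw [Set.image_image, Subgroup.coe_mul, mul_inv_rev]
        exact Set.image_congr fun θ _ => conjIrr_mul N _ _ θ }
  let φ : Bl → Res M := fun b => (incl N (Res M) (blockIdemBar M b.1) * blockIdemBar M B).coeff g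
  have hφ : ∀ (u : P) b, φ (u • b) = φ b := by
    intro u b
    have hu : (u : G)⁻¹ * g * u = g := by
      rw [mul_assoc, ← Subgroup.mem_centralizer_iff.1 hgC u u.2, inv_mul_cancel_left]
    show (incl N (Res M) (blockIdemBar M (conjIrr N (u : G)⁻¹ '' b.1)) *
      blockIdemBar M B).coeff g = _
    simp only [φ, coeff_mul_eq_sum]
    refine Fintype.sum_equiv (MulAut.conj (u : G)⁻¹).toEquiv _ _ fun x => ?_
    simp only [MulEquiv.toEquiv_eq_coe, MulEquiv.coe_toEquiv, MulAut.conj_apply, inv_inv]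
    congr 1
    · by_cases hx : x ∈ N
      · refine (coeff_incl_coe _ (⟨x, hx⟩ : N)).trans
          ((coeff_blockIdemBar_conj N b.2 _ _).trans ?_)
        refine Eq.trans ?_ (coeff_incl_coe _ (⟨_, ?_⟩ : N)).symm
        · exact congrArg _ (Subtype.ext (by simp))
        · simpa using hN.conj_mem x hx (u : G)⁻¹
      · rw [coeff_incl_of_notMem _ hx, coeff_incl_of_notMem]
        intro h
        exact hx (by simpa [mul_assoc] using hN.conj_mem _ h (u : G))
    · rw [← hf (x⁻¹ * g) (u : G)⁻¹, inv_inv]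
      congr 1
      rw [show (u : G)⁻¹ * (x⁻¹ * g) * u = ((u : G)⁻¹ * x * u)⁻¹ * ((u : G)⁻¹ * g * u) by group, hu]
  have hsum : ∑ b : Bl, φ b = (blockIdemBar M B).coeff g := by
    have h : (∑ b : Bl, incl N (Res M) (blockIdemBar M b.1) * blockIdemBar M B) =
        blockIdemBar M B := by
      rw [← Finset.sum_mul, ← map_sum, sum_blockIdemBar, map_one, one_mul]
    conv_rhs => rw [← h]
    simp [φ, Finsupp.finsetSum_apply]
  have hne := IsDefectClass.coeff_ne_zero hB hg
  rw [← hsum, sum_eq_sum_fixedPoints hPp φ hφ] at hne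
  obtain ⟨⟨c, hc⟩, hcmem, hcne⟩ := Finset.exists_ne_zero_of_sum_ne_zero hne
  have hstab : P ≤ blockStab N M hc := fun u hu => by
    have h := congrArg Subtype.val ((Finset.mem_filter.1 hcmem).2 ⟨u, hu⟩⁻¹)
    rw [mem_blockStab]
    change conjIrr N (((⟨u, hu⟩⁻¹ : P) : G))⁻¹ '' c = c at h
    rwa [Subgroup.coe_inv, inv_inv] at h
  have hcov : Covers N B c := covers_of_mul_ne_zero N hB hc fun h0 => hcne <| by
    show (incl N (Res M) (blockIdemBar M c) * blockIdemBar M B).coeff g = 0
    rw [h0, coeff_zero, Finsupp.zero_apply]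
  -- a point of the support centralized by `P`
  simp only [φ] at hcne
  rw [coeff_mul_eq_sum_centralizer hPp
    (fun u hu x => coeff_incl_blockIdemBar_stab N hc (hstab hu) x)
    (fun u _ x => hf x u) hgC] at hcne
  obtain ⟨y, hy, hyne⟩ := Finset.exists_ne_zero_of_sum_ne_zero hcne
  have hy1 := left_ne_zero_of_mul hyne
  have hyN : y ∈ N := by
    by_contra h
    exact hy1 (coeff_incl_of_notMem _ h)
  rw [show y = ((⟨y, hyN⟩ : N) : G) from rfl, coeff_incl_coe] at hy1
  obtain ⟨D, hD⟩ := exists_isDefectGroup (p := p) hc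
  set Q : Subgroup N := (P ⊓ N).subgroupOf N with hQ
  have hQD : SubConj Q D := by
    refine (IsDefectGroup.defLE_of_coeff_ne_zero hM hc hD hy1).subConj
      ((hPp.to_le inf_le_left).comap_of_injective _ N.subtype_injective) ?_
    refine Subgroup.mem_centralizer_iff.2 fun q hq => Subtype.ext ?_
    exact Subgroup.mem_centralizer_iff.1 (Finset.mem_filter.1 hy).2 _
      (Subgroup.mem_inf.1 (Subgroup.mem_subgroupOf.1 hq)).1
  refine ⟨c, hc, hstab, hcov, ?_⟩
  obtain ⟨x, hx⟩ := subConj_of_covers N hM hB hc hcov hP hD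
  have hcard : Nat.card D ≤ Nat.card Q := by
    refine Nat.card_le_card_of_injective
      (fun d : D => (⟨⟨x * ((d : N) : G) * x⁻¹, hN.conj_mem _ (d : N).2 x⟩,
        Subgroup.mem_subgroupOf.2 ⟨hx _ ⟨d, d.2, rfl⟩, hN.conj_mem _ (d : N).2 x⟩⟩ : Q))
      fun a b h => ?_
    have h' := congrArg (fun q : Q => ((q : N) : G)) h
    simpa using h'
  obtain ⟨y', hy'⟩ := hQD
  have hmap : Q.map (MulAut.conj y').toMonoidHom = D := by
    refine Subgroup.eq_of_le_of_card_ge ?_ ?_
    · rintro _ ⟨a, ha, rfl⟩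
      exact hy' a ha
    · rwa [card_map_conj]
  have hQ' : Q = D.map (MulAut.conj y'⁻¹).toMonoidHom := by
    rw [← hmap, Subgroup.map_map]
    conv_lhs => rw [← Subgroup.map_id Q]
    congr 1
    ext a
    simp [mul_assoc]
  rw [hQ']
  exact IsDefectGroup.map_conj hD _

/-- A covered block with defect group `Q` gives a defect group meeting `N` in `Q`. -/
theorem exists_defectGroup_inf_eq (hB : IsPBlock M B) (hb : IsPBlock M b) (hcov : Covers N B b)
    {Q : Subgroup G} (hQN : Q ≤ N) (hQ : IsDefectGroup p M b (Q.subgroupOf N)) :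
    ∃ P : Subgroup G, IsDefectGroup p M B P ∧ P ⊓ N = Q := by
  obtain ⟨P, hP⟩ := exists_isDefectGroup (p := p) hB
  obtain ⟨c, hc, -, hcc, hcD⟩ := exists_stable_covered N hM hB hP
  obtain ⟨g, rfl⟩ := exists_conj_of_covers N hB hc hb hcc hcov
  have hD' := isDefectGroup_image_pullEquiv (MulAut.conjNormal g : N ≃* N) hcD
  obtain ⟨y, hy⟩ := IsDefectGroup.exists_conj hM hb hD' hQ
  refine ⟨P.map (MulAut.conj ((y : G) * g⁻¹)).toMonoidHom, IsDefectGroup.map_conj hP _, ?_⟩
  have hQG : Q = (Q.subgroupOf N).map N.subtype := (Subgroup.map_subgroupOf_eq_of_le hQN).symm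
  rw [hQG, ← hy, Subgroup.map_map, Subgroup.map_map]
  ext v
  constructor
  · rintro ⟨⟨a, ha, rfl⟩, hvN⟩
    have haN : a ∈ N := by
      have := hN.conj_mem _ hvN ((y : G) * g⁻¹)⁻¹
      simpa [mul_assoc] using this
    refine ⟨⟨a, haN⟩, Subgroup.mem_subgroupOf.2 ⟨ha, haN⟩, ?_⟩
    simp [MulAut.conjNormal_symm_apply, mul_assoc]
  · rintro ⟨a, ha, rfl⟩
    refine ⟨⟨(a : G), (Subgroup.mem_inf.1 (Subgroup.mem_subgroupOf.1 ha)).1, ?_⟩, Subtype.prop _⟩
    simp [MulAut.conjNormal_symm_apply, mul_assoc]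

omit hM in
/-- The reduced central character is a class function. -/
theorem centralCharBar_of_isConj {K : Type*} [Group K] [Fintype K] (χ : IrrCharacter K) {x y : K}
    (h : IsConj x y) : centralCharBar M χ x = centralCharBar M χ y :=
  congrArg (resHom M) (Subtype.ext (centralChar_eq_of_isConj (IsIrr.isClassFunction χ.2) h))

/-- A `p`-group stabilizing a block of `N` fixes a class in the support on which the reduced
central character does not vanish. -/
theorem exists_fixed_class (hb : IsPBlock M b) {θ : IrrCharacter N} (hθ : θ ∈ b) {U : Subgroup G}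
    (hU : IsPGroup p U) (hUs : U ≤ blockStab N M hb) :
    ∃ y : N, (blockIdemBar M b).coeff y ≠ 0 ∧
      ∀ u ∈ U, ∃ m ∈ N, Commute (m⁻¹ * u) (y : G) := by
  classical
  have := charP_residueField hM
  have hb' := isCentralElt_blockIdemBar hb
  have hsum : ∑ C : ConjClasses N, (blockIdemBar M b).coeff (Quotient.out C) *
      centralCharBar M θ (Quotient.out C) = 1 := by
    have h := omegaBar_blockIdemBar hb θ
    rw [if_pos hθ] at h
    rw [← h, omegaBar]
    exact Finset.sum_congr (Finset.ext fun _ => by simp) fun _ _ => rfl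
  let _ : MulAction U (ConjClasses N) :=
    { smul := fun u C => ConjClasses.map ((MulAut.conjNormal (u : G) : N ≃* N).toMonoidHom) C
      one_smul := fun C => by
        obtain ⟨a, rfl⟩ := ConjClasses.exists_rep C
        exact congrArg ConjClasses.mk (Subtype.ext (by simp))
      mul_smul := fun u v C => by
        obtain ⟨a, rfl⟩ := ConjClasses.exists_rep C
        exact congrArg ConjClasses.mk (Subtype.ext (by simp [mul_assoc])) }
  have hclass : ∀ (u : U) (C : ConjClasses N),
      IsConj (MulAut.conjNormal (u : G) (Quotient.out C)) (Quotient.out (u • C)) := by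
    intro u C
    refine ConjClasses.mk_eq_mk_iff_isConj.1 (Eq.trans ?_ (Quotient.out_eq (u • C)).symm)
    conv_rhs => rw [show C = ConjClasses.mk (Quotient.out C) from (Quotient.out_eq C).symm]
    rfl
  have hinv : ∀ (u : U) (C : ConjClasses N), (blockIdemBar M b).coeff (Quotient.out (u • C)) *
      centralCharBar M θ (Quotient.out (u • C)) = (blockIdemBar M b).coeff (Quotient.out C) *
        centralCharBar M θ (Quotient.out C) := by
    intro u C
    congr 1
    · obtain ⟨m, hm⟩ := isConj_iff.1 (hclass u C)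
      rw [← hm, hb' _ m]
      refine Eq.trans ?_ (coeff_blockIdemBar_stab N hb (hUs u.2) _)
      exact congrArg _ (Subtype.ext (MulAut.conjNormal_apply _ _))
    · rw [← centralCharBar_of_isConj θ (hclass u C), ← centralCharBar_pullEquiv]
      refine sameBlock_iff.1 (IsPBlock.sameBlock hb ?_ hθ) _
      have hu := (mem_blockStab N).1 (hUs u.2)
      rw [← hu]
      exact ⟨θ, hθ, rfl⟩
  rw [sum_eq_sum_fixedPoints hU _ hinv] at hsum
  obtain ⟨C, hC, hne⟩ := Finset.exists_ne_zero_of_sum_ne_zero (hsum ▸ one_ne_zero : _ ≠ (0 : Res M))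
  refine ⟨Quotient.out C, left_ne_zero_of_mul hne, fun u hu => ?_⟩
  have h1 := hclass ⟨u, hu⟩ C
  rw [(Finset.mem_filter.1 hC).2 ⟨u, hu⟩] at h1
  obtain ⟨m, hm⟩ := isConj_iff.1 h1.symm
  refine ⟨m, m.2, ?_⟩
  have hm' := congrArg Subtype.val hm
  simp only [Subgroup.coe_mul, Subgroup.coe_inv, MulAut.conjNormal_apply] at hm'
  show (m : G)⁻¹ * u * (Quotient.out C : N) = (Quotient.out C : N) * ((m : G)⁻¹ * u)
  calc (m : G)⁻¹ * u * (Quotient.out C : N)
      = (m : G)⁻¹ * (u * (Quotient.out C : N) * u⁻¹) * u := by group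
    _ = (m : G)⁻¹ * ((m : G) * (Quotient.out C : N) * (m : G)⁻¹) * u := by rw [hm']
    _ = (Quotient.out C : N) * ((m : G)⁻¹ * u) := by group

omit hM hN in
/-- A power prime to the order of `p`-power index stays outside. -/
theorem exists_pow_pPart {k : ℕ} [N.Normal] (hidx : N.index = p ^ k) {u : G} (hu : u ∉ N) :
    ∃ r : ℕ, u ^ r ∉ N ∧ IsPGroup p (Subgroup.zpowers (u ^ r)) := by
  have hp : p.Prime := Fact.out
  obtain ⟨j, r, hr, hord⟩ := Nat.exists_eq_pow_mul_and_not_dvd (orderOf_pos u).ne' p hp.ne_one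
  refine ⟨r, fun hmem => hu ?_, IsPGroup.of_card (n := j) ?_⟩
  · refine (QuotientGroup.eq_one_iff u).1 (orderOf_eq_one_iff.1 ?_)
    refine Nat.eq_one_of_dvd_coprimes
      (((Nat.Prime.coprime_iff_not_dvd hp).2 hr).pow_left k) (hidx ▸ orderOf_dvd_natCard _) ?_
    refine orderOf_dvd_of_pow_eq_one ?_
    rw [← QuotientGroup.mk_pow]
    exact (QuotientGroup.eq_one_iff _).2 hmem
  · rw [Nat.card_zpowers, orderOf_pow' u (fun h0 => hr (by simp [h0])), hord,
      Nat.gcd_eq_right (dvd_mul_left r _), Nat.mul_div_cancel _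
        (Nat.pos_of_ne_zero fun h0 => hr (by simp [h0]))]

/-- With `p`-power index and a defect group inside `N`, only `N` stabilizes a covered block. -/
theorem mem_of_mem_blockStab (hB : IsPBlock M B) (hb : IsPBlock M b) (hcov : Covers N B b)
    {k : ℕ} (hidx : N.index = p ^ k) {P : Subgroup G} (hP : IsDefectGroup p M B P) (hPN : P ≤ N)
    {u : G} (hu : u ∈ blockStab N M hb) : u ∈ N := by
  classical
  have := charP_residueField hM
  obtain ⟨θ, hθ⟩ := IsPBlock.nonempty hb
  by_contra huN
  obtain ⟨r, hrN, hrp⟩ := exists_pow_pPart N hidx huN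
  obtain ⟨y, hy, hfix⟩ := exists_fixed_class N hM hb hθ hrp
    (by rw [Subgroup.zpowers_le]; exact pow_mem hu r)
  obtain ⟨m, hm, hcomm⟩ := hfix _ (Subgroup.mem_zpowers _)
  have hvN : m⁻¹ * u ^ r ∉ N := fun h => hrN (by simpa using mul_mem hm h)
  obtain ⟨s, hsN, hsp⟩ := exists_pow_pPart N hidx hvN
  set X := Subgroup.zpowers ((m⁻¹ * u ^ r) ^ s)
  have hXs : X ≤ blockStab N M hb := by
    rw [Subgroup.zpowers_le]
    exact pow_mem (mul_mem (inv_mem (le_blockStab N hb hm)) (pow_mem hu r)) s
  have hyX : (y : G) ∈ Subgroup.centralizer (X : Set G) := by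
    rw [mem_centralizer_iff_le, Subgroup.zpowers_le, mem_centralizer_singleton]
    exact hcomm.pow_left s
  have hf := isCentralElt_blockIdemBar hB
  have hsupp := fun g (hg : g ∉ N) => coeff_blockIdemBar_eq_zero_of_index N hM hidx hB hg
  have hres : incl N (Res M) (resElt N (blockIdemBar M B)) = blockIdemBar M B := by
    ext g
    by_cases hg : g ∈ N
    · exact coeff_incl_coe _ (⟨g, hg⟩ : N)
    · rw [coeff_incl_of_notMem _ hg, hsupp g hg]
  have hmul : incl N (Res M) (blockIdemBar M b) * blockIdemBar M B =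
      incl N (Res M) (blockIdemBar M b) := by
    obtain ⟨χ, hχ, θ', hθ', hne⟩ := hcov
    conv_lhs => rw [← hres, ← map_mul]
    congr 1
    refine blockIdemBar_mul_eq_self hb (isCentralElt_resElt N hf) ?_ hθ' ?_
    · rw [← resElt_incl_mul, hres, blockIdemBar_mul_self hB]
    · rw [← omegaBar_eq_omegaBar_resElt N hne hf hsupp, omegaBar_blockIdemBar hB, if_pos hχ]
  rw [← coeff_incl_coe (k := Res M), ← hmul, coeff_mul_eq_sum_centralizer hsp
    (fun v hv x => coeff_incl_blockIdemBar_stab N hb (hXs hv) x) (fun v _ x => hf x v) hyX] at hy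
  obtain ⟨x, hx, hne⟩ := Finset.exists_ne_zero_of_sum_ne_zero hy
  obtain ⟨a, ha⟩ := (IsDefectGroup.defLE_of_coeff_ne_zero hM hB hP
    (right_ne_zero_of_mul hne)).subConj hsp (mul_mem (inv_mem (Finset.mem_filter.1 hx).2) hyX)
  refine hsN ?_
  have h := hN.conj_mem _ (hPN (ha _ (Subgroup.mem_zpowers _))) a⁻¹
  simpa [mul_assoc] using h

/-- An invariant block is covered by one with `p ∤ |G : P N|`. -/
theorem exists_covering_not_dvd (hb : IsPBlock M b) (hinv : ∀ g : G, g ∈ blockStab N M hb) :
    ∃ B : Set (IrrCharacter G), IsPBlock M B ∧ Covers N B b ∧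
      ∃ P, IsDefectGroup p M B P ∧ ¬ p ∣ (P ⊔ N).index := by
  classical
  have := charP_residueField hM
  obtain ⟨θ, hθ⟩ := IsPBlock.nonempty hb
  obtain ⟨S⟩ : Nonempty (Sylow p G) := inferInstance
  obtain ⟨y, hy, hfix⟩ := exists_fixed_class N hM hb hθ S.2 fun u _ => hinv u
  set C := Subgroup.centralizer ({(y : G)} : Set G) with hC
  obtain ⟨X, -, hXC, -, hXs⟩ := exists_isSylowIn_ge (p := p)
    (bot_le : (⊥ : Subgroup G) ≤ C) IsPGroup.of_bot
  have hXp : IsPGroup p X := hXs.isPGroup hXC
  have hXidx : ¬ p ∣ (X ⊔ N).index := by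
    have h1 : ¬ p ∣ (C ⊔ N).index := by
      refine fun hd => S.not_dvd_index (hd.trans (Subgroup.index_dvd_of_le fun u hu => ?_))
      obtain ⟨m, hm, hcomm⟩ := hfix u hu
      rw [show u = m * (m⁻¹ * u) by group]
      exact mul_mem (Subgroup.mem_sup_right hm)
        (Subgroup.mem_sup_left (mem_centralizer_singleton.2 hcomm))
    obtain ⟨T, hT⟩ := hXs
    have h2 : ¬ p ∣ X.relIndex C := by
      rw [Subgroup.relIndex, ← hT]
      exact T.not_dvd_index
    rw [← Subgroup.relIndex_mul_index (sup_le_sup_right hXC N)]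
    refine (Nat.Prime.not_dvd_mul Fact.out (fun hd => h2 (hd.trans ?_)) h1)
    calc (X ⊔ N).relIndex (C ⊔ N) = (X ⊔ N).relIndex ((X ⊔ N) ⊔ C) := by
          rw [sup_comm (X ⊔ N) C, ← sup_assoc, sup_eq_left.2 hXC]
      _ ∣ X.relIndex C := by
          rw [sup_comm (X ⊔ N) C]
          have hnorm : C ≤ Subgroup.normalizer (N : Set G) := by
            rw [Subgroup.normalizer_eq_top]; exact le_top
          rw [Subgroup.relIndex, Subgroup.relIndex]
          exact index_subgroupOf_sup_dvd hXC
  have : Fintype {B : Set (IrrCharacter G) // IsPBlock M B} := Fintype.ofFinite _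
  obtain ⟨B₀, -, hne0⟩ : ∃ B' : {B : Set (IrrCharacter G) // IsPBlock M B}, B' ∈ Finset.univ (α :=
      {B : Set (IrrCharacter G) // IsPBlock M B}) ∧
      (incl N (Res M) (blockIdemBar M b) * blockIdemBar M B'.1).coeff y ≠ 0 := by
    rw [← coeff_incl_coe (k := Res M), ← mul_one (incl N (Res M) (blockIdemBar M b)),
      ← sum_blockIdemBar, Finset.mul_sum, coeff_sum, Finsupp.finsetSum_apply] at hy
    exact Finset.exists_ne_zero_of_sum_ne_zero hy
  refine ⟨B₀.1, B₀.2, covers_of_mul_ne_zero N B₀.2 hb fun h0 => hne0 ?_, ?_⟩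
  · rw [h0, coeff_zero, Finsupp.zero_apply]
  obtain ⟨P, hP⟩ := exists_isDefectGroup (p := p) B₀.2
  refine ⟨P, hP, ?_⟩
  have hyX : (y : G) ∈ Subgroup.centralizer (X : Set G) := mem_centralizer_iff_le.2 hXC
  rw [coeff_mul_eq_sum_centralizer hXp
    (fun v _ x => coeff_incl_blockIdemBar_stab N hb (hinv v) x)
    (fun v _ x => (isCentralElt_blockIdemBar B₀.2) x v) hyX] at hne0
  obtain ⟨x, hx, hne⟩ := Finset.exists_ne_zero_of_sum_ne_zero hne0
  obtain ⟨a, ha⟩ := (IsDefectGroup.defLE_of_coeff_ne_zero hM B₀.2 hP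
    (right_ne_zero_of_mul hne)).subConj hXp (mul_mem (inv_mem (Finset.mem_filter.1 hx).2) hyX)
  intro hd
  refine hXidx ?_
  rw [← Subgroup.index_map_equiv (X ⊔ N) (MulAut.conj a)]
  refine hd.trans (Subgroup.index_dvd_of_le ?_)
  rw [Subgroup.map_sup]
  refine sup_le_sup ?_ ?_
  · rintro _ ⟨v, hv, rfl⟩
    exact ha v hv
  · rintro _ ⟨v, hv, rfl⟩
    exact hN.conj_mem v hv a

end Characters

end CfsgLib.Blocks
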