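import Cfsg.Agent.Lib.Blocks.Covering
import Mathlib.RingTheory.Jacobson.Semiprimary
import Mathlib.RingTheory.Artinian.Module
import Mathlib.RingTheory.Nakayama

/-!
# The blocks of a normal subgroup covered by a block

For a central idempotent `f` of `kG` the left ideal `{res_N (x f)}` of `kN` is generated by a
central idempotent of `kN`: modulo the radical `J` of `kN` it has a right unit, and `J` generates a
nilpotent ideal of `kG`. Hence every character of a covered block lies below the covering block.
-/

namespace CfsgLib.Blocks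

open Cfsg CfsgLib.Char MonoidAlgebra

section Algebra

variable {G : Type*} [Group G] [Fintype G] {N : Subgroup G} [hN : N.Normal] {k : Type*} [Field k]

/-- The inclusion of the group algebra of the subgroup. -/
noncomputable abbrev incl (N : Subgroup G) (k : Type*) [Field k] :
    MonoidAlgebra k N →+* MonoidAlgebra k G := mapDomainRingHom k N.subtype

/-- Conjugation on the group algebra of the normal subgroup. -/
noncomputable abbrev cj (N : Subgroup G) [N.Normal] (k : Type*) [Field k] (g : G) :
    MonoidAlgebra k N →+* MonoidAlgebra k N :=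
  mapDomainRingHom k ((MulAut.conjNormal g : N ≃* N).toMonoidHom)

omit hN [Fintype G] in
theorem coeff_incl_coe (v : MonoidAlgebra k N) (n : N) : (incl N k v).coeff n = v.coeff n :=
  Finsupp.mapDomain_apply N.subtype_injective _ n

omit hN [Fintype G] in
theorem coeff_incl_of_notMem (v : MonoidAlgebra k N) {g : G} (hg : g ∉ N) :
    (incl N k v).coeff g = 0 :=
  Finsupp.mapDomain_of_notMem_range _ _ fun ⟨n, hn⟩ => hg (hn ▸ n.2)

omit hN in
theorem resElt_incl (v : MonoidAlgebra k N) : resElt N (incl N k v) = v := by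
  ext n
  exact coeff_incl_coe v n

omit hN in
theorem resElt_incl_mul [Fintype N] (u : MonoidAlgebra k N) (y : MonoidAlgebra k G) :
    resElt N (incl N k u * y) = u * resElt N y := by
  classical
  ext t
  rw [coeff_resElt, coeff_mul_eq_sum, coeff_mul_eq_sum]
  symm
  refine Fintype.sum_of_injective Subtype.val Subtype.val_injective _ _ (fun g hg => ?_)
    fun n => ?_
  · rw [coeff_incl_of_notMem u fun hgN => hg ⟨⟨g, hgN⟩, rfl⟩, zero_mul]
  · rw [coeff_incl_coe, coeff_resElt]
    rfl

omit hN in
theorem resElt_mul_incl [Fintype N] (y : MonoidAlgebra k G) (u : MonoidAlgebra k N) :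
    resElt N (y * incl N k u) = resElt N y * u := by
  classical
  ext t
  rw [coeff_resElt, coeff_mul_eq_sum, coeff_mul_eq_sum]
  symm
  refine Fintype.sum_of_injective Subtype.val Subtype.val_injective _ _ (fun g hg => ?_)
    fun n => ?_
  · rw [coeff_incl_of_notMem u fun hgN => hg ?_, mul_zero]
    exact ⟨⟨g, by simpa using mul_mem t.2 (inv_mem hgN)⟩, rfl⟩
  · rw [coeff_resElt, ← coeff_incl_coe u]
    rfl

omit [Fintype G] in
theorem cj_bijective (g : G) : Function.Bijective (cj N k g) := by
  refine Function.bijective_iff_has_inverse.2 ⟨cj N k g⁻¹, fun a => ?_, fun a => ?_⟩ <;>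
  · rw [← RingHom.comp_apply, ← mapDomainRingHom_comp]
    conv_rhs => rw [← RingHom.id_apply a, ← mapDomainRingHom_id]
    refine congrArg (fun φ : N →* N => mapDomainRingHom k φ a) (MonoidHom.ext fun n => ?_)
    exact Subtype.ext (by simp [mul_assoc])

omit [Fintype G] in
theorem of_mul_incl (g : G) (u : MonoidAlgebra k N) :
    of k G g * incl N k u = incl N k (cj N k g u) * of k G g := by
  induction u using MonoidAlgebra.induction_on with
  | of n =>
    simp only [of_apply, incl, cj, mapDomainRingHom_apply, mapDomain_single, single_mul_single,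
      mul_one]
    congr 1
    show g * (n : G) = (MulAut.conjNormal g n : N) * g
    rw [MulAut.conjNormal_apply]
    group
  | add a b ha hb => rw [map_add, mul_add, ha, hb, map_add, map_add, add_mul]
  | smul c a ha =>
    simp only [incl, cj, mapDomainRingHom_apply, mapDomain_smul] at ha ⊢
    rw [mul_smul_comm, ha, smul_mul_assoc]

open scoped Classical in
theorem exists_coset_expansion (y : MonoidAlgebra k G) :
    y = ∑ q : G ⧸ N, of k G q.out * incl N k (resElt N (of k G q.out⁻¹ * y)) := by
  classical
  ext g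
  rw [coeff_sum, Finsupp.finsetSum_apply, Finset.sum_eq_single (g : G ⧸ N)]
  · rw [of_apply, coeff_single_mul_apply, one_mul]
    have hmem : (g : G ⧸ N).out⁻¹ * g ∈ N := QuotientGroup.eq.1 (QuotientGroup.out_eq' _)
    rw [show (g : G ⧸ N).out⁻¹ * g = ((⟨_, hmem⟩ : N) : G) from rfl, coeff_incl_coe, coeff_resElt,
      of_apply, coeff_single_mul_apply, one_mul, inv_inv, mul_inv_cancel_left]
  · intro q _ hq
    rw [of_apply, coeff_single_mul_apply, one_mul]
    refine coeff_incl_of_notMem _ fun hmem => hq ?_
    rw [← QuotientGroup.out_eq' q]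
    exact QuotientGroup.eq.2 hmem
  · exact fun h => absurd (Finset.mem_univ _) h

omit [Fintype G] in
/-- The radical powers are stable under conjugation. -/
theorem cj_mem_pow (g : G) (m : ℕ) :
    ∀ d ∈ Ring.jacobson (MonoidAlgebra k N) ^ m,
      cj N k g d ∈ Ring.jacobson (MonoidAlgebra k N) ^ m := by
  induction m with
  | zero => intro d _; rw [Submodule.pow_zero, Ideal.one_eq_top]; trivial
  | succ m ih =>
    intro d hd
    rw [Submodule.pow_succ] at hd ⊢
    induction hd using Submodule.smul_induction_on' with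
    | smul r hr s hs =>
      rw [smul_eq_mul, map_mul]
      refine Ideal.mul_mem_mul (ih r hr) ?_
      have : RingHomSurjective (cj N k g) := ⟨(cj_bijective g).2⟩
      exact Ring.le_comap_jacobson (cj N k g) hs
    | add r _ s _ hr hs => rw [map_add]; exact add_mem hr hs

variable (N k) in
/-- The ideal of the restrictions of the multiples of a central element. -/
noncomputable def resIdeal [Fintype N] (f : MonoidAlgebra k G) : Ideal (MonoidAlgebra k N) where
  carrier := Set.range fun x => resElt N (x * f)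
  add_mem' := by
    rintro _ _ ⟨x, rfl⟩ ⟨y, rfl⟩
    exact ⟨x + y, by ext n; simp [add_mul]⟩
  zero_mem' := ⟨0, by ext n; simp⟩
  smul_mem' := by
    rintro u _ ⟨x, rfl⟩
    exact ⟨incl N k u * x, by simp only [mul_assoc, resElt_incl_mul, smul_eq_mul]⟩

/-- The restrictions of the multiples of a central idempotent are the multiples of a central
idempotent of the group algebra of the normal subgroup. -/
theorem exists_covered_idem [Fintype N] {f : MonoidAlgebra k G} (hf : IsCentralElt f)
    (hff : f * f = f) :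
    ∃ z : MonoidAlgebra k N, IsCentralElt z ∧ IsCentralElt (incl N k z) ∧ z * z = z ∧
      incl N k z * f = f ∧ ∃ x, z = resElt N (x * f) := by
  classical
  have : Finite N := inferInstance
  have : IsArtinianRing (MonoidAlgebra k N) := IsArtinianRing.of_finite k _
  set J := Ring.jacobson (MonoidAlgebra k N) with hJ
  set I := resIdeal N k f with hI
  have hmem : ∀ {a}, a ∈ I ↔ ∃ x, resElt N (x * f) = a := Iff.rfl
  have hright : ∀ {a} (v : MonoidAlgebra k N), a ∈ I → a * v ∈ I := by
    intro a v ha
    obtain ⟨x, rfl⟩ := hmem.1 ha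
    exact hmem.2 ⟨x * incl N k v, by rw [mul_assoc, (hf.commute _).symm.eq, ← mul_assoc,
      resElt_mul_incl]⟩
  -- a right unit modulo the radical
  let π := Ideal.Quotient.mk J
  obtain ⟨e, he, heq⟩ := IsSemisimpleRing.ideal_eq_span_idempotent (I.map π)
  obtain ⟨y, hy, hye⟩ := (Ideal.mem_map_iff_of_surjective π Ideal.Quotient.mk_surjective).1
    (heq ▸ Ideal.mem_span_singleton_self e)
  set a := 1 - y with ha
  have hIa : ∀ x ∈ I, x * a ∈ J := by
    intro x hx
    rw [← Ideal.Quotient.eq_zero_iff_mem, map_mul, ha, map_sub, map_one]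
    obtain ⟨s, hs⟩ := Ideal.mem_span_singleton'.1 (heq ▸ Ideal.mem_map_of_mem π hx)
    rw [show π y = e from hye, ← hs, mul_assoc, mul_sub, mul_one, he.eq, sub_self, mul_zero]
  have hcjJ : ∀ (g : G) (m : ℕ), ∀ d ∈ J ^ m, cj N k g d ∈ J ^ m := cj_mem_pow
  -- powers of `f a` lie in powers of the radical
  have hpow : ∀ (m : ℕ) (g : G), resElt N (of k G g * (f * incl N k a) ^ m) ∈ J ^ m := by
    intro m
    induction m with
    | zero => intro g; rw [Submodule.pow_zero, Ideal.one_eq_top]; trivial
    | succ m ih =>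
      intro g
      rw [pow_succ, Submodule.pow_succ, exists_coset_expansion (N := N) ((f * incl N k a) ^ m), Finset.sum_mul,
        Finset.mul_sum,
        show resElt N (∑ q : G ⧸ N, of k G g * (of k G q.out *
            incl N k (resElt N (of k G q.out⁻¹ * (f * incl N k a) ^ m)) * (f * incl N k a))) =
          ∑ q : G ⧸ N, resElt N (of k G g * (of k G q.out *
            incl N k (resElt N (of k G q.out⁻¹ * (f * incl N k a) ^ m)) * (f * incl N k a))) from by
          ext n; simp [Finsupp.finsetSum_apply]]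
      refine sum_mem fun q _ => ?_
      rw [← mul_assoc, ← mul_assoc (of k G g), ← map_mul (of k G), of_mul_incl, mul_assoc,
        resElt_incl_mul, ← mul_assoc (of k G _) f, resElt_mul_incl]
      exact Ideal.mul_mem_mul (hcjJ _ _ _ (ih _)) (hIa _ (hmem.2 ⟨_, rfl⟩))
  obtain ⟨n, hn⟩ := (IsSemiprimaryRing.isNilpotent : IsNilpotent J)
  have hzero : (f * incl N k a) ^ n = 0 := by
    rw [exists_coset_expansion (N := N) ((f * incl N k a) ^ n)]
    refine Finset.sum_eq_zero fun q _ => ?_
    have h0 := hpow n q.out⁻¹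
    rw [hn] at h0
    rw [(Submodule.mem_bot _).1 h0, map_zero, mul_zero]
  have hfn : f ^ (n + 1) = f := (show IsIdempotentElem f from hff).pow_succ_eq n
  have hfa : f * incl N k (a ^ (n + 1)) = 0 := by
    rw [map_pow, ← hfn, ← (hf.commute (incl N k a)).mul_pow, pow_succ, hzero, zero_mul]
  have hlow : ∀ x ∈ I, x * a ^ (n + 1) = 0 ∧ a ^ (n + 1) * x = 0 := by
    intro x hx
    obtain ⟨w, rfl⟩ := hmem.1 hx
    refine ⟨?_, ?_⟩
    · rw [← resElt_mul_incl, mul_assoc, hfa, mul_zero]
      ext t; simp
    · rw [← resElt_incl_mul, ← (hf.commute w).eq, ← mul_assoc, ← (hf.commute _).eq, hfa, zero_mul]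
      ext t; simp
  have hzI : ∀ m : ℕ, 1 - a ^ m ∈ I := by
    intro m
    induction m with
    | zero => simp
    | succ m ih =>
      have hy1 : 1 - a ^ (m + 1) = (1 - a ^ m) * a + (1 - a) := by
        rw [sub_mul, one_mul, pow_succ]; abel
      rw [hy1]
      exact add_mem (hright a ih) (by rw [ha, sub_sub_cancel]; exact hy)
  set z := 1 - a ^ (n + 1) with hz
  have hu : ∀ x ∈ I, x * z = x ∧ z * x = x := fun x hx => by
    rw [hz, mul_sub, sub_mul, mul_one, one_mul, (hlow x hx).1, (hlow x hx).2, sub_zero]
    exact ⟨rfl, rfl⟩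
  have hzc : ∀ v, Commute z v := fun v => by
    have h1 := (hu _ (hright v (hzI (n + 1)))).1
    have h2 := (hu _ (I.mul_mem_left v (hzI (n + 1)))).2
    show z * v = v * z
    rw [← h1, mul_assoc, h2]
  have hzN : IsCentralElt z := by
    intro t s
    have h := congrArg (fun v => v.coeff (s * t)) (hzc (of k N s)).eq
    simp only [of_apply, coeff_single_mul_apply, coeff_mul_single_apply, one_mul, mul_one] at h
    rw [inv_mul_cancel_left] at h
    exact h
  have hzf : incl N k z * f = f := by
    rw [hz, map_sub, map_one, sub_mul, one_mul, ← (hf.commute _).eq, hfa, sub_zero]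
  obtain ⟨x₀, hx₀⟩ := hmem.1 (hzI (n + 1))
  refine ⟨z, hzN, ?_, (hu z (hzI (n + 1))).1, hzf, x₀, hx₀.symm⟩
  -- conjugation permutes the ideal, so fixes its unit
  have hstab : ∀ g : G, cj N k g z = z := by
    intro g
    have hcI : ∀ (g : G) (w : MonoidAlgebra k N), w ∈ I → cj N k g w ∈ I := by
      intro g w hw
      obtain ⟨x, rfl⟩ := hmem.1 hw
      refine hmem.2 ⟨of k G g * x * of k G g⁻¹, ?_⟩
      rw [mul_assoc, ← (hf.commute (of k G g⁻¹)).eq, ← mul_assoc, mul_assoc (of k G g) x f]
      ext t
      rw [coeff_resElt, of_apply, of_apply, coeff_mul_single_apply, coeff_single_mul_apply,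
        one_mul, mul_one, inv_inv]
      obtain ⟨s, rfl⟩ := (MulAut.conjNormal g : N ≃* N).surjective t
      rw [cj, mapDomainRingHom_apply]
      erw [Finsupp.mapDomain_apply (MulAut.conjNormal g : N ≃* N).injective]
      rw [coeff_resElt, MulAut.conjNormal_apply]
      congr 1
      group
    have h1 := (hu _ (hcI g z (hzI (n + 1)))).1
    obtain ⟨w, hw⟩ := (cj_bijective (N := N) (k := k) g).2 z
    have hwI : w ∈ I := by
      have := hcI g⁻¹ z (hzI (n + 1))
      rw [← hw, ← RingHom.comp_apply, ← mapDomainRingHom_comp] at this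
      convert this using 1
      conv_lhs => rw [← RingHom.id_apply w, ← mapDomainRingHom_id]
      refine congrArg (fun φ : N →* N => mapDomainRingHom k φ w) (MonoidHom.ext fun n => ?_)
      exact Subtype.ext (by simp [mul_assoc])
    calc cj N k g z = cj N k g z * cj N k g w := by rw [hw, h1]
      _ = z := by rw [← map_mul, (hu w hwI).2, hw]
  intro g h
  have e := congrArg (fun v => v.coeff (h * g)) (of_mul_incl h z)
  simp only [hstab, of_apply, coeff_single_mul_apply, coeff_mul_single_apply, one_mul, mul_one] at e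
  rw [inv_mul_cancel_left] at e
  exact e.symm

end Algebra

section Characters

variable {G : Type*} [Group G] [Fintype G]

/-- The elements of `N` weighted by the values of a character not over `θ` annihilate `θ`. -/
theorem sum_char_smul_eq_zero {N : Subgroup G} [Fintype N] {m n : ℕ}
    (ρ : Representation ℂ G (Fin m → ℂ)) (σ : Representation ℂ N (Fin n → ℂ))
    (h : classInner (fun u : N => ρ.character u) σ.character = 0) (g : G) :
    ∑ u : N, ρ.character (g * (u : G)⁻¹) • σ u = 0 := by
  classical
  let τ : Representation ℂ N (Fin m → ℂ) := ρ.comp N.subtype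
  have hdim : Module.finrank ℂ (τ.IntertwiningMap σ) = 0 := by
    refine Nat.cast_injective (R := ℂ) ?_
    rw [← classInner_eq_finrank, Nat.cast_zero]
    show classInner σ.character (fun u : N => ρ.character u) = 0
    rw [← classInner_conj_symm, h, map_zero]
  have hzero : ∀ X : (Fin m → ℂ) →ₗ[ℂ] (Fin n → ℂ),
      ∑ u : N, σ u ∘ₗ X ∘ₗ ρ (u : G)⁻¹ = 0 := by
    intro X
    set T := ∑ u : N, σ u ∘ₗ X ∘ₗ ρ (u : G)⁻¹ with hT
    have hint : ∀ v : N, T ∘ₗ τ v = σ v ∘ₗ T := by
      intro v
      refine LinearMap.ext fun w => ?_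
      simp only [hT, LinearMap.comp_apply, LinearMap.sum_apply, map_sum]
      refine Fintype.sum_equiv (Equiv.mulLeft v⁻¹) _ _ fun u => ?_
      simp only [Equiv.coe_mulLeft]
      show σ u (X (ρ (u : G)⁻¹ (ρ (v : G) w))) =
        σ v (σ (v⁻¹ * u) (X (ρ ((v⁻¹ * u : N) : G)⁻¹ w)))
      rw [← Module.End.mul_apply (f := ρ _), ← map_mul, ← Module.End.mul_apply (f := σ v),
        ← map_mul, mul_inv_cancel_left, Subgroup.coe_mul, Subgroup.coe_inv, mul_inv_rev, inv_inv]
    have := Module.finrank_zero_iff.1 hdim
    exact congrArg Representation.IntertwiningMap.toLinearMap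
      (Subsingleton.elim (⟨T, hint⟩ : τ.IntertwiningMap σ) 0)
  refine LinearMap.ext fun w => ?_
  have htr : ∀ x : G, ρ.character x = ∑ i : Fin m, ρ x (Pi.single i 1) i := fun x => by
    rw [Representation.character, LinearMap.trace_eq_matrix_trace ℂ (Pi.basisFun ℂ (Fin m)),
      Matrix.trace]
    simp [Matrix.diag, LinearMap.toMatrix_apply]
  have key : ∀ i : Fin m, ∑ u : N, ρ (g * (u : G)⁻¹) (Pi.single i 1) i • σ u w = 0 := by
    intro i
    let X : (Fin m → ℂ) →ₗ[ℂ] (Fin n → ℂ) :=
      ((LinearMap.proj i : (Fin m → ℂ) →ₗ[ℂ] ℂ).comp (ρ g)).smulRight w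
    have hX := LinearMap.congr_fun (hzero X) (Pi.single i 1)
    rw [LinearMap.sum_apply] at hX
    refine Eq.trans (Finset.sum_congr rfl fun u _ => ?_) hX
    simp [X, map_mul]
  rw [LinearMap.sum_apply]
  simp only [LinearMap.smul_apply, htr, Finset.sum_smul, LinearMap.zero_apply, LinearMap.sum_apply]
  rw [Finset.sum_comm, Finset.sum_eq_zero fun i _ => key i]

variable (N : Subgroup G) [hN : N.Normal] [Fintype N] {p : ℕ} {M : Ideal AlgInt} [M.IsPrime]
  {B : Set (IrrCharacter G)} {b : Set (IrrCharacter N)}

/-- A character on which the idempotent of the covered blocks acts as `1` is below the block. -/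
theorem exists_over_of_omegaBar_eq_one (hB : IsPBlock M B) {θ : IrrCharacter N}
    {z : MonoidAlgebra (Res M) N} (hz : IsCentralElt z) {x : MonoidAlgebra (Res M) G}
    (hx : z = resElt N (x * blockIdemBar M B)) (h1 : omegaBar θ z = 1) :
    ∃ ψ ∈ B, classInner (fun u : N => (ψ : G → ℂ) u) (θ : N → ℂ) ≠ 0 := by
  classical
  by_contra hcon
  push Not at hcon
  obtain ⟨z', hz', rfl⟩ := exists_central_lift hz
  let x' : MonoidAlgebra (localRing M) G :=
    ofFun fun g => Function.surjInv IsLocalRing.residue_surjective (x.coeff g)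
  have hx' : red M x' = x := by
    ext g
    rw [coeff_red, coeff_ofFun]
    exact Function.surjInv_eq _ _
  set a := z' - resElt N (x' * blockIdemO M B) with ha
  have ha0 : ∀ u : N, a.coeff u ∈ IsLocalRing.maximalIdeal (localRing M) := by
    intro u
    have h := congrArg (fun v => v.coeff u) hx
    simp only [coeff_red, coeff_resElt, blockIdemBar, ← hx', ← map_mul] at h
    rw [← Ideal.Quotient.eq_zero_iff_mem]
    show resHom M (a.coeff u) = 0
    rw [ha, coeff_sub, Finsupp.sub_apply, map_sub, coeff_resElt, h, sub_self]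
  obtain ⟨d, σ, hσ, hσc⟩ := id θ.2
  have := hσ
  set c : localRing M := ⟨omega (θ : N → ℂ) (inc M z'), omega_inc_mem θ hz'⟩ with hc'
  have hc1 : resHom M c = 1 := (omegaBar_red θ hz').symm.trans h1
  have hcu : IsUnit c := by
    by_contra hnu
    have h0 : resHom M c = 0 :=
      Ideal.Quotient.eq_zero_iff_mem.2 ((IsLocalRing.mem_maximalIdeal c).2 hnu)
    rw [hc1] at h0
    exact one_ne_zero h0
  -- `a` acts as the unit `c`
  have hact : ∑ u : N, (a.coeff u : ℂ) • σ u = (c : ℂ) • (1 : Module.End ℂ (Fin d → ℂ)) := by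
    have hz'' : ∑ u : N, (z'.coeff u : ℂ) • σ u = (c : ℂ) • (1 : Module.End ℂ (Fin d → ℂ)) := by
      have h := asAlgebraHom_of_central σ (isCentralElt_inc hz')
      rw [asAlgebraHom_eq_sum, hσc] at h
      simp only [coeff_inc] at h
      exact h
    have hzero : ∑ u : N, ((resElt N (x' * blockIdemO M B)).coeff u : ℂ) • σ u = 0 := by
      have hcoef : ∀ u : N, ((resElt N (x' * blockIdemO M B)).coeff u : ℂ) =
          ∑ g : G, (x'.coeff g : ℂ) * blockCoeff B (g⁻¹ * u) := fun u => by
        rw [coeff_resElt, coeff_mul_eq_sum, AddSubmonoidClass.coe_finsetSum]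
        refine Finset.sum_congr rfl fun g _ => ?_
        have h := congrArg (fun v => v.coeff (g⁻¹ * u)) (inc_blockIdemO (M := M) hB)
        simp only [coeff_inc, coeff_blockIdem] at h
        rw [Subring.coe_mul, h]
      simp only [hcoef, Finset.sum_smul]
      rw [Finset.sum_comm]
      refine Finset.sum_eq_zero fun g _ => ?_
      have := Fintype.ofFinite (IrrCharacter G)
      simp only [blockCoeff_eq_sum, Finset.mul_sum, Finset.sum_smul]
      rw [Finset.sum_comm]
      refine Finset.sum_eq_zero fun ψ hψ => ?_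
      obtain ⟨m, ρ, -, hρc⟩ := id ψ.2
      have h := sum_char_smul_eq_zero ρ σ (by
        rw [hρc, hσc]; exact hcon ψ (Finset.mem_filter.1 hψ).2) g
      simp only [hρc] at h
      rw [← smul_zero ((x'.coeff g : ℂ) * ((Nat.card G : ℂ)⁻¹ * (ψ : G → ℂ) 1)), ← h,
        Finset.smul_sum]
      refine Finset.sum_congr rfl fun u _ => ?_
      rw [smul_smul, mul_inv_rev, inv_inv, ← IsIrr.isClassFunction ψ.2 ((u : G)⁻¹ * g) g]
      congr 1
      rw [show g * ((u : G)⁻¹ * g) * g⁻¹ = g * (u : G)⁻¹ by group]
      ring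
    refine ((Finset.sum_congr rfl fun u _ => ?_).trans (Finset.sum_sub_distrib
      (fun u : N => (z'.coeff u : ℂ) • σ u)
      fun u : N => ((resElt N (x' * blockIdemO M B)).coeff u : ℂ) • σ u)).trans ?_
    · rw [ha, coeff_sub, Finsupp.sub_apply, AddSubgroupClass.coe_sub]
      exact sub_smul (M := Module.End ℂ (Fin d → ℂ)) _ _ _
    · rw [hz'', hzero]
      exact sub_zero _
  set R : Submodule (localRing M) (Module.End ℂ (Fin d → ℂ)) :=
    Submodule.span (localRing M) (Set.range fun u : N => σ u) with hR
  have hle : R ≤ IsLocalRing.maximalIdeal (localRing M) • R := by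
    rw [hR, Submodule.span_le]
    rintro _ ⟨v, rfl⟩
    have h : c • σ v = ∑ u : N, a.coeff u • σ (u * v) := by
      have h' := congrArg (fun T => T * σ v) hact
      simp only [Finset.sum_mul, smul_mul_assoc, one_mul, ← map_mul] at h'
      exact h'.symm
    have hmem : c • σ v ∈ IsLocalRing.maximalIdeal (localRing M) • R := h ▸ sum_mem fun u _ =>
      Submodule.smul_mem_smul (ha0 u) (Submodule.subset_span ⟨u * v, rfl⟩)
    obtain ⟨w, hw⟩ := hcu.exists_left_inv
    have := Submodule.smul_mem _ w hmem
    rwa [smul_smul, hw, one_smul] at this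
  have hbot := Submodule.eq_bot_of_le_smul_of_le_jacobson_bot _ R
    (Submodule.fg_span (Set.finite_range _)) hle (IsLocalRing.maximalIdeal_le_jacobson _)
  have hone : (1 : Module.End ℂ (Fin d → ℂ)) ∈ R := Submodule.subset_span ⟨1, map_one σ⟩
  rw [hbot, Submodule.mem_bot] at hone
  have := CharIntegral.nontrivial_of_irreducible σ
  exact one_ne_zero hone

/-- Every character of a covered block is below the covering block. -/
theorem exists_over_covered (hB : IsPBlock M B) (hb : IsPBlock M b)
    {χ : IrrCharacter G} {θ' : IrrCharacter N} (hχ : χ ∈ B) (hθ' : θ' ∈ b)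
    (hc : classInner (fun u : N => (χ : G → ℂ) u) (θ' : N → ℂ) ≠ 0)
    {θ : IrrCharacter N} (hθ : θ ∈ b) :
    ∃ ψ ∈ B, classInner (fun u : N => (ψ : G → ℂ) u) (θ : N → ℂ) ≠ 0 := by
  classical
  have hf := isCentralElt_blockIdemBar hB
  obtain ⟨z, hz, hzG, hzz, hzf, x, hx⟩ :=
    exists_covered_idem (N := N) hf (blockIdemBar_mul_self hB)
  refine exists_over_of_omegaBar_eq_one N hB hz hx ?_
  rw [omegaBar_congr (IsPBlock.sameBlock hb hθ hθ') z, ← resElt_incl (N := N) z,
    ← omegaBar_eq_omegaBar_resElt N hc hzG fun g hg => coeff_incl_of_notMem z hg]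
  have h := congrArg (omegaBar χ) hzf
  rwa [omegaBar_mul χ hzG hf, omegaBar_blockIdemBar hB, if_pos hχ, mul_one] at h

end Characters

end CfsgLib.Blocks
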