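import Cfsg.Agent.Lib.Blocks.Kernel
import Cfsg.Agent.Lib.Blocks.QuotientBlocks
import Cfsg.Agent.Lib.Blocks.Orthogonality
import Mathlib.GroupTheory.SchurZassenhaus

/-!
# The principal block through values at `p`-regular elements

For a character of degree prime to `p`, membership in the principal block is congruence of the
values with the degree at the `p`-regular elements whose class size is prime to `p`.
-/

namespace CfsgLib.Blocks

open Cfsg
open scoped ComplexConjugate

variable {M : Ideal AlgInt} [M.IsPrime]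

open scoped Classical in
/-- The reduction of a value modulo `M` (zero when the value is not locally integral). -/
noncomputable def rv (M : Ideal AlgInt) [M.IsPrime] (z : ℂ) : Res M :=
  if h : z ∈ localRing M then resHom M ⟨z, h⟩ else 0

theorem rv_coe (z : localRing M) : rv M (z : ℂ) = resHom M z := by
  rw [rv, dif_pos z.2]

theorem rv_natCast (n : ℕ) : rv M (n : ℂ) = (n : Res M) := by
  rw [show (n : ℂ) = ((n : localRing M) : ℂ) by simp, rv_coe, map_natCast]

theorem rv_mul {a b : ℂ} (ha : a ∈ localRing M) (hb : b ∈ localRing M) :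
    rv M (a * b) = rv M a * rv M b := by
  rw [show a * b = ((⟨a, ha⟩ * ⟨b, hb⟩ : localRing M) : ℂ) from rfl, rv_coe, map_mul, ← rv_coe,
    ← rv_coe]

theorem rv_sum {ι : Type*} (s : Finset ι) (f : ι → ℂ) (hf : ∀ i ∈ s, f i ∈ localRing M) :
    rv M (∑ i ∈ s, f i) = ∑ i ∈ s, rv M (f i) := by
  classical
  induction s using Finset.induction with
  | empty => simpa using rv_natCast (M := M) 0
  | insert a s ha ih =>
    have h1 := hf a (Finset.mem_insert_self a s)
    have h2 : ∀ i ∈ s, f i ∈ localRing M := fun i hi => hf i (Finset.mem_insert_of_mem hi)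
    rw [Finset.sum_insert ha, Finset.sum_insert ha, ← ih h2,
      show f a + ∑ i ∈ s, f i =
        ((⟨f a, h1⟩ + ⟨_, sum_mem h2⟩ : localRing M) : ℂ) from rfl, rv_coe, map_add, ← rv_coe,
      ← rv_coe]

variable {p : ℕ} (hM : IsPModular p M)
include hM

/-- A root of unity of order prime to `p` congruent to `1` is `1`. -/
theorem eq_one_of_rv_eq_one {z : ℂ} {n : ℕ} (hn : ¬ p ∣ n) (hz : z ^ n = 1) (h : rv M z = 1) :
    z = 1 := by
  by_contra hne
  have := charP_residueField hM
  have hn0 : n ≠ 0 := fun e => hn (e ▸ dvd_zero p)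
  have hmem := mem_localRing_of_pow_eq_one (M := M) hn0 hz
  have h0 : ∑ i ∈ Finset.range n, (⟨z, hmem⟩ : localRing M) ^ i = 0 := Subtype.ext (by
    push_cast
    have := geom_sum_mul z n
    rw [hz, sub_self] at this
    exact (mul_eq_zero.mp this).resolve_right (sub_ne_zero.mpr hne))
  have h1 := congrArg (resHom M) h0
  rw [map_sum, map_zero, Finset.sum_congr rfl (g := fun _ => (1 : Res M)) fun i _ => by
    rw [map_pow, ← rv_coe]
    show rv M z ^ i = 1
    rw [h, one_pow], Finset.sum_const, Finset.card_range, nsmul_eq_mul, mul_one] at h1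
  exact hn ((CharP.cast_eq_zero_iff (Res M) p n).mp h1)

theorem natCast_ne_zero' {n : ℕ} (hn : ¬ p ∣ n) : (n : Res M) ≠ 0 := fun h => by
  have := charP_residueField hM
  exact hn ((CharP.cast_eq_zero_iff (Res M) p n).mp h)

variable {X : Type*} [Group X] [Fintype X]

omit hM in
theorem apply_mem_localRing (χ : IrrCharacter X) (g : X) : (χ : X → ℂ) g ∈ localRing M :=
  mem_localRing_of_isIntegral (Char.IsChar.isIntegral (Char.IsIrr.isCharacter χ.2) g)

omit hM in
theorem centralCharBar_mul_degree (χ : IrrCharacter X) (g : X) :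
    centralCharBar M χ g * (charDegree (χ : X → ℂ) : Res M) =
      ((Subgroup.centralizer ({g} : Set X)).index : Res M) * rv M ((χ : X → ℂ) g) := by
  have h0 := Char.IsIrr.apply_one_ne_zero χ.2
  rw [centralCharBar, ← rv_coe, ← rv_natCast, ← rv_natCast,
    ← rv_mul (Subtype.prop _) (natCast_mem _ _),
    ← rv_mul (natCast_mem _ _) (apply_mem_localRing χ g)]
  congr 1
  show centralChar (χ : X → ℂ) g * _ = _
  rw [centralChar, ← apply_one_eq_charDegree, div_mul_cancel₀ _ h0]

omit hM in
theorem centralCharBar_trivChar (g : X) :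
    centralCharBar M (Char.trivChar X) g =
      ((Subgroup.centralizer ({g} : Set X)).index : Res M) := by
  rw [centralCharBar, ← rv_coe, ← rv_natCast]
  congr 1
  show centralChar (Char.trivChar X : X → ℂ) g = _
  simp [centralChar, Char.trivChar_apply]

omit hM in
theorem index_mul_rv_of_mem {χ : IrrCharacter X} (h : χ ∈ principalBlock M X) (g : X) :
    ((Subgroup.centralizer ({g} : Set X)).index : Res M) * rv M ((χ : X → ℂ) g) =
      ((Subgroup.centralizer ({g} : Set X)).index : Res M) * (charDegree (χ : X → ℂ) : Res M) := by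
  have hs : SameBlock M (Char.trivChar X : X → ℂ) (χ : X → ℂ) := h
  rw [← centralCharBar_mul_degree, ← sameBlock_iff.mp hs g, centralCharBar_trivChar]

/-- Values of a character of the principal block at classes of size prime to `p`. -/
theorem rv_of_mem {χ : IrrCharacter X} (h : χ ∈ principalBlock M X) {g : X}
    (hg : ¬ p ∣ (Subgroup.centralizer ({g} : Set X)).index) :
    rv M ((χ : X → ℂ) g) = (charDegree (χ : X → ℂ) : Res M) :=
  mul_left_cancel₀ (natCast_ne_zero' hM hg) (index_mul_rv_of_mem h g)

/-- A congruence criterion for the principal block. -/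
theorem mem_principalBlock_of_rv {χ : IrrCharacter X} (hd : ¬ p ∣ charDegree (χ : X → ℂ))
    (h : ∀ g : X, ¬ p ∣ orderOf g → ¬ p ∣ (Subgroup.centralizer ({g} : Set X)).index →
      rv M ((χ : X → ℂ) g) = (charDegree (χ : X → ℂ) : Res M)) :
    χ ∈ principalBlock M X := by
  have := charP_residueField hM
  show SameBlock M (Char.trivChar X : X → ℂ) (χ : X → ℂ)
  refine sameBlock_of_regular hM fun g hg => ?_
  refine mul_right_cancel₀ (natCast_ne_zero' hM hd) ?_
  rw [centralCharBar_mul_degree, centralCharBar_trivChar]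
  by_cases hi : p ∣ (Subgroup.centralizer ({g} : Set X)).index
  · rw [(CharP.cast_eq_zero_iff (Res M) p _).mpr hi, zero_mul, zero_mul]
  · rw [h g hg hi]

/-- The number of `p`-regular elements of a group with central Sylow `p`-subgroup. -/
theorem not_dvd_card_regular_of_central [Fact p.Prime] {W : Type*} [Group W] [Finite W]
    (Z : Sylow p W) (hZ : (Z : Subgroup W) ≤ Subgroup.center W) :
    ¬ p ∣ Nat.card {w : W // ¬ p ∣ orderOf w} := by
  classical
  have hp := (Fact.out : p.Prime)
  have : (Z : Subgroup W).Normal := ⟨fun a ha w => by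
    rwa [Subgroup.mem_center_iff.mp (hZ ha) w, mul_inv_cancel_right]⟩
  have hidx : ¬ p ∣ (Z : Subgroup W).index := Sylow.not_dvd_index Z
  obtain ⟨k, hk⟩ := IsPGroup.iff_card.mp Z.isPGroup'
  obtain ⟨K, hK⟩ := Subgroup.exists_right_complement'_of_coprime (N := (Z : Subgroup W)) (by
    rw [hk]; exact ((hp.coprime_iff_not_dvd).mpr hidx).pow_left k)
  have hcardK : Nat.card K = (Z : Subgroup W).index := hK.symm.index_eq_card.symm
  have hiff : ∀ w : W, ¬ p ∣ orderOf w ↔ w ∈ K := by
    refine fun w => ⟨fun hw => ?_, fun hw h => hidx ?_⟩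
    · obtain ⟨⟨⟨z, hz⟩, ⟨c, hc⟩⟩, hzc : z * c = w⟩ := hK.2 w
      suffices hz1 : z = 1 by rw [← hzc, hz1, one_mul]; exact hc
      by_contra hz1
      have hcomm : Commute z c := (Subgroup.mem_center_iff.mp (hZ hz) c).symm
      obtain ⟨i, hi⟩ := IsPGroup.iff_orderOf.mp Z.isPGroup' ⟨z, hz⟩
      rw [Subgroup.orderOf_mk] at hi
      have hi0 : i ≠ 0 := fun e => hz1 (orderOf_eq_one_iff.mp (by rw [hi, e, pow_zero]))
      have hcop : (orderOf z).Coprime (orderOf c) := by
        rw [hi]
        refine ((hp.coprime_iff_not_dvd).mpr fun hd => hidx (hd.trans ?_)).pow_left i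
        rw [← hcardK, ← Subgroup.orderOf_mk c hc]
        exact orderOf_dvd_natCard _
      apply hw
      rw [← hzc, hcomm.orderOf_mul_eq_mul_orderOf_of_coprime hcop, hi]
      exact (dvd_pow_self p hi0).mul_right _
    · refine h.trans ?_
      rw [← hcardK, ← Subgroup.orderOf_mk w hw]
      exact orderOf_dvd_natCard _
  rw [Nat.card_congr (Equiv.subtypeEquivRight hiff)]
  rwa [hcardK]

theorem not_dvd_card_regular [Fact p.Prime] : ¬ p ∣ Nat.card {g : X // ¬ p ∣ orderOf g} := by
  classical
  obtain ⟨P⟩ := (inferInstance : Nonempty (Sylow p X))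
  let act : MulAction (P : Subgroup X) {g : X // ¬ p ∣ orderOf g} :=
    { smul := fun a g => ⟨(a : X) * g * (a : X)⁻¹, by
        rw [← MulAut.conj_apply]
        exact fun h => g.2 (h.trans (dvd_of_eq (MulEquiv.orderOf_eq _ _)))⟩
      one_smul := fun g => Subtype.ext (by show (1 : X) * g * (1 : X)⁻¹ = g; simp)
      mul_smul := fun a b g => Subtype.ext (by
        show (a : X) * b * g * ((a : X) * b)⁻¹ = a * (b * g * (b : X)⁻¹) * (a : X)⁻¹
        group) }
  letI := act
  set C := Subgroup.centralizer ((P : Subgroup X) : Set X)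
  intro hd
  have h := P.isPGroup'.card_modEq_card_fixedPoints {g : X // ¬ p ∣ orderOf g}
  have hd' : p ∣ Nat.card (MulAction.fixedPoints (P : Subgroup X) {g : X // ¬ p ∣ orderOf g}) :=
    (Nat.ModEq.dvd_iff h dvd_rfl).mp hd
  obtain ⟨Z⟩ := (inferInstance : Nonempty (Sylow p C))
  refine not_dvd_card_regular_of_central hM Z ?_ ?_
  · intro z hz
    have hzP : (z : X) ∈ (P : Subgroup X) := by
      have hp' : IsPGroup p ↥((P : Subgroup X) ⊔ ((Z : Subgroup C).map C.subtype)) :=
        P.isPGroup'.to_sup_of_normal_right' (Z.isPGroup'.map _) fun a ha => by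
          have hfix : ∀ z' ∈ (Z : Subgroup C).map C.subtype, a * z' = z' * a := by
            rintro _ ⟨z', -, rfl⟩
            exact Subgroup.mem_centralizer_iff.mp z'.2 a ha
          refine Subgroup.mem_normalizer_iff.mpr fun b => ⟨fun hb => ?_, fun hb => ?_⟩
          · rwa [hfix b hb, mul_inv_cancel_right]
          · have e : a * b * a⁻¹ = b := by
              calc a * b * a⁻¹ = a⁻¹ * (a * (a * b * a⁻¹)) := by group
                _ = b := by rw [hfix _ hb]; group
            rwa [e] at hb
      exact (P.is_maximal' hp' le_sup_left).le (Subgroup.mem_sup_right ⟨z, hz, rfl⟩)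
    refine Subgroup.mem_center_iff.mpr fun c => Subtype.ext ?_
    exact (Subgroup.mem_centralizer_iff.mp c.2 z hzP).symm
  · refine hd'.trans (dvd_of_eq (Nat.card_congr ?_))
    exact
      { toFun := fun g => ⟨⟨g.1.1, Subgroup.mem_centralizer_iff.mpr fun a ha => by
            have e : (a : X) * g.1.1 * a⁻¹ = g.1.1 := congrArg Subtype.val (g.2 ⟨a, ha⟩)
            exact mul_inv_eq_iff_eq_mul.mp e⟩,
          by rw [Subgroup.orderOf_mk]; exact g.1.2⟩
        invFun := fun w => ⟨⟨(w.1 : X), by rw [Subgroup.orderOf_coe]; exact w.2⟩, fun a =>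
          Subtype.ext (by
            show (a : X) * (w.1 : X) * (a : X)⁻¹ = w.1
            rw [Subgroup.mem_centralizer_iff.mp w.1.2 a a.2, mul_inv_cancel_right])⟩
        left_inv := fun g => rfl
        right_inv := fun w => rfl }

/-- The sum over the `p`-regular elements of a height-zero character of the principal block. -/
theorem sum_regular_ne_zero [Fact p.Prime] {χ : IrrCharacter X} (h : χ ∈ principalBlock M X)
    (hd : ¬ p ∣ charDegree (χ : X → ℂ)) :
    ∑ g ∈ Finset.univ.filter (fun g : X => ¬ p ∣ orderOf g), (χ : X → ℂ) g ≠ 0 := by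
  classical
  intro h0
  have h1 := congrArg (rv M) h0
  rw [rv_sum _ _ fun g _ => apply_mem_localRing χ g] at h1
  have key : ∑ g ∈ Finset.univ.filter (fun g : X => ¬ p ∣ orderOf g), rv M ((χ : X → ℂ) g) =
      ∑ g ∈ Finset.univ.filter (fun g : X => ¬ p ∣ orderOf g),
        (charDegree (χ : X → ℂ) : Res M) := by
    have := Fintype.ofFinite (ConjClasses X)
    rw [← Finset.sum_fiberwise (Finset.univ.filter fun g : X => ¬ p ∣ orderOf g) ConjClasses.mk,
      ← Finset.sum_fiberwise (Finset.univ.filter fun g : X => ¬ p ∣ orderOf g) ConjClasses.mk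
        (fun _ => (charDegree (χ : X → ℂ) : Res M))]
    refine Finset.sum_congr rfl fun C _ => ?_
    induction C using Quotient.inductionOn with
    | _ c =>
    set S := (Finset.univ.filter fun g : X => ¬ p ∣ orderOf g).filter
      fun g => ConjClasses.mk g = ConjClasses.mk c
    have hconst : ∀ g ∈ S, (χ : X → ℂ) g = (χ : X → ℂ) c := fun g hg => by
      obtain ⟨-, hg⟩ := Finset.mem_filter.mp hg
      exact Char.isClassFunction_iff_isConj.mp (Char.IsIrr.isClassFunction χ.2) _ _
        (ConjClasses.mk_eq_mk_iff_isConj.mp hg)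
    show ∑ g ∈ S, _ = ∑ g ∈ S, _
    rw [Finset.sum_congr rfl fun g hg => by rw [hconst g hg], Finset.sum_const, Finset.sum_const,
      nsmul_eq_mul, nsmul_eq_mul]
    by_cases hc : p ∣ orderOf c
    · have : S = ∅ := Finset.eq_empty_of_forall_notMem fun g hg => by
        obtain ⟨hg1, hg⟩ := Finset.mem_filter.mp hg
        obtain ⟨a, ha⟩ := isConj_iff.mp (ConjClasses.mk_eq_mk_iff_isConj.mp hg)
        refine (Finset.mem_filter.mp hg1).2 (hc.trans (dvd_of_eq ?_))
        rw [← ha, ← MulAut.conj_apply, MulEquiv.orderOf_eq]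
      simp [this]
    · have hS : S.card = (Subgroup.centralizer ({c} : Set X)).index := by
        rw [← Char.card_carrier_eq_index, Nat.card_eq_fintype_card]
        rw [← Fintype.card_coe S]
        refine Fintype.card_congr (Equiv.subtypeEquivRight fun g => ?_)
        simp only [S, Finset.mem_filter, Finset.mem_univ, true_and,
          ConjClasses.mem_carrier_iff_mk_eq]
        refine ⟨fun h => h.2, fun h => ⟨fun hd => hc ?_, h⟩⟩
        obtain ⟨a, ha⟩ := isConj_iff.mp (ConjClasses.mk_eq_mk_iff_isConj.mp h)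
        rwa [← ha, ← MulAut.conj_apply, MulEquiv.orderOf_eq]
      rw [hS]
      exact index_mul_rv_of_mem h c
  rw [key, Finset.sum_const, nsmul_eq_mul, ← Fintype.card_subtype, ← Nat.card_eq_fintype_card,
    show rv M (0 : ℂ) = 0 by simpa using rv_natCast (M := M) 0, mul_eq_zero] at h1
  exact h1.elim (natCast_ne_zero' hM (not_dvd_card_regular hM)) (natCast_ne_zero' hM hd)

omit [M.IsPrime] in
/-- A character outside the principal block sums to zero over the `p`-regular elements. -/
theorem mem_principalBlock_of_sum_regular [M.IsPrime] {χ : IrrCharacter X}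
    (h : ∑ g ∈ Finset.univ.filter (fun g : X => ¬ p ∣ orderOf g), (χ : X → ℂ) g ≠ 0) :
    χ ∈ principalBlock M X := by
  by_contra hc
  refine h ?_
  have h0 := sum_regular_eq_zero hM (χ := χ) (ψ := Char.trivChar X)
    fun hs => hc (SameBlock.symm' hs)
  simpa [Char.trivChar_apply] using h0

end CfsgLib.Blocks
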