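import Cfsg.Agent.Lib.Blocks.MajorSubsection
import Cfsg.Agent.Lib.Char.GaloisPositive

/-!
# Contributions of subsections to a character of given height

For a block `b` of `C(x)` inducing `B` of the same defect `d`, the contribution of `(x, b)` to a
character of height `h` is `p ^ (h - d)` times a nonzero algebraic integer; the contributions of all
subsections sum to `1`.
-/

namespace CfsgLib.Blocks

open Cfsg CfsgLib.Char CfsgLib.CharAction MonoidAlgebra
open scoped ComplexConjugate Classical

variable {G : Type*} [Group G] [Fintype G] {p : ℕ} [Fact p.Prime]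

/-- The contribution of a subsection to a pair of characters. -/
noncomputable def contribution (p : ℕ) (x : G)
    (b : Set (IrrCharacter (Subgroup.centralizer ({x} : Set G)))) (χ ψ : IrrCharacter G) : ℂ :=
  (Nat.card (Subgroup.centralizer ({x} : Set G)) : ℂ)⁻¹ *
    ∑ w ∈ Finset.univ.filter (fun w : Subgroup.centralizer ({x} : Set G) => ¬ p ∣ orderOf w),
      blockPart b (fun c : Subgroup.centralizer ({x} : Set G) => (χ : G → ℂ) (x * (c : G))) w *
        conj (blockPart b
          (fun c : Subgroup.centralizer ({x} : Set G) => (ψ : G → ℂ) (x * (c : G))) w)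

/-- The class sum form of `regCoeff`. -/
noncomputable def classCoeff (p : ℕ) (x : G) (η : IrrCharacter (Subgroup.centralizer ({x} : Set G)))
    (χ : IrrCharacter G) [Fintype (ConjClasses (Subgroup.centralizer ({x} : Set G)))] : ℂ :=
  ∑ K : ConjClasses (Subgroup.centralizer ({x} : Set G)),
    if p ∣ orderOf (Quotient.out K) then 0 else
      (η : Subgroup.centralizer ({x} : Set G) → ℂ) (Quotient.out K) *
        conj (centralChar (χ : G → ℂ) (x * ((Quotient.out K : Subgroup.centralizer ({x} : Set G)) : G)))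

theorem card_mul_regCoeff {x : G} (hx : ∃ k : ℕ, orderOf x = p ^ k)
    [Fintype (ConjClasses (Subgroup.centralizer ({x} : Set G)))]
    (η : IrrCharacter (Subgroup.centralizer ({x} : Set G))) (χ : IrrCharacter G) :
    (Nat.card G : ℂ) * regCoeff p x η χ = (χ : G → ℂ) 1 * classCoeff p x η χ := by
  have hC0 : (Nat.card (Subgroup.centralizer ({x} : Set G)) : ℂ) ≠ 0 :=
    Nat.cast_ne_zero.2 Nat.card_pos.ne'
  rw [regCoeff, classCoeff, Finset.sum_filter, Finset.mul_sum, Finset.mul_sum, Finset.mul_sum,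
    ← Finset.sum_fiberwise Finset.univ
      (fun w : Subgroup.centralizer ({x} : Set G) => ConjClasses.mk w)]
  refine Finset.sum_congr rfl fun K _ => ?_
  set k := Quotient.out K with hk
  have hKk : ConjClasses.mk k = K := Quotient.out_eq K
  have hfib : ∀ w ∈ Finset.univ.filter (fun w => ConjClasses.mk w = K), IsConj k w := fun w hw =>
    ConjClasses.mk_eq_mk_iff_isConj.1 (hKk.trans (Finset.mem_filter.1 hw).2.symm)
  rw [Finset.sum_congr rfl (g := fun _ => (Nat.card G : ℂ) *
    ((Nat.card (Subgroup.centralizer ({x} : Set G)) : ℂ)⁻¹ * if ¬ p ∣ orderOf k then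
      (η : Subgroup.centralizer ({x} : Set G) → ℂ) k * conj ((χ : G → ℂ) (x * (k : G))) else 0))
    fun w hw => ?_, Finset.sum_const, nsmul_eq_mul]
  swap
  · obtain ⟨c, hc⟩ := isConj_iff.1 (hfib w hw)
    have ho : orderOf w = orderOf k := by
      rw [← hc]
      exact MulEquiv.orderOf_eq (MulAut.conj c) k
    have h2 : (χ : G → ℂ) (x * ((c * k * c⁻¹ : Subgroup.centralizer ({x} : Set G)) : G)) =
        (χ : G → ℂ) (x * (k : G)) :=
      isClassFunction_apply_mul (Char.IsIrr.isClassFunction χ.2) k c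
    rw [ho, ← hc, Char.IsIrr.isClassFunction η.2, h2]
  by_cases hp' : p ∣ orderOf k
  · rw [if_neg (not_not.2 hp'), if_pos hp', mul_zero, mul_zero, mul_zero, mul_zero]
  rw [if_pos hp', if_neg hp']
  set n := (Finset.univ.filter (fun w => ConjClasses.mk w = K)).card
  set z := Nat.card (Subgroup.centralizer ({x * (k : G)} : Set G))
  have hcount : ((n * z : ℕ) : ℂ) = (Nat.card (Subgroup.centralizer ({x} : Set G)) : ℂ) := by
    rw [Nat.card_eq_fintype_card (α := Subgroup.centralizer ({x} : Set G)), ← Finset.card_univ,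
      Finset.card_eq_sum_card_fiberwise (f := fun c => c * k * c⁻¹)
        (t := Finset.univ.filter (fun w => ConjClasses.mk w = K)) fun c _ => ?_, Nat.cast_sum,
      Nat.cast_mul, ← nsmul_eq_mul, ← Finset.sum_const]
    · refine Finset.sum_congr rfl fun w hw => ?_
      obtain ⟨c, hc⟩ := isConj_iff.1 (hfib w hw)
      have hw' : ¬ p ∣ orderOf w := by
        rw [← hc]
        exact fun h => hp' (by rwa [← MulEquiv.orderOf_eq (MulAut.conj c) k])
      rw [card_conj_eq_centralizer hx hp' hw', if_pos]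
      refine isConj_iff.2 ⟨c, ?_⟩
      rw [← hc, Subgroup.coe_mul, Subgroup.coe_mul, Subgroup.coe_inv]
      have hcx : Commute (c : G) x := mem_centralizer_singleton.1 c.2
      simp only [← mul_assoc, hcx.eq]
    · simp only [Finset.coe_filter, Finset.mem_univ, true_and, Set.mem_setOf_eq]
      rw [← hKk]
      exact ConjClasses.mk_eq_mk_iff_isConj.2 (isConj_iff.2 ⟨c, rfl⟩).symm
  have hz : ((Subgroup.centralizer ({x * (k : G)} : Set G)).index : ℂ) * (z : ℂ) = Nat.card G := by
    rw [← Nat.cast_mul, Subgroup.index_mul_card]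
  have hn0 : (n : ℂ) ≠ 0 := fun h => hC0 (by rw [← hcount, Nat.cast_mul, h, zero_mul])
  have hz0 : (z : ℂ) ≠ 0 := Nat.cast_ne_zero.2 Nat.card_pos.ne'
  have h1 := Char.IsIrr.apply_one_ne_zero χ.2
  have hreal : conj ((χ : G → ℂ) 1) = (χ : G → ℂ) 1 := by
    rw [← Char.IsIrr.map_inv χ.2, inv_one]
  rw [centralChar, map_div₀, map_mul, Complex.conj_natCast, hreal, ← hz, ← hcount]
  push_cast
  field_simp

variable {M : Ideal AlgInt} [M.IsPrime] (hM : IsPModular p M)

theorem isIntegral_classCoeff {x : G} [Fintype (ConjClasses (Subgroup.centralizer ({x} : Set G)))]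
    (η : IrrCharacter (Subgroup.centralizer ({x} : Set G))) (χ : IrrCharacter G) :
    IsIntegral ℤ (classCoeff p x η χ) := by
  refine IsIntegral.sum _ fun K _ => ?_
  split_ifs
  · exact isIntegral_zero
  · exact (Char.IsChar.isIntegral (Char.IsIrr.isCharacter η.2) _).mul
      ((isIntegral_centralChar χ _).map (starRingEnd ℂ).toIntAlgHom)

omit [Fintype G] [Fact p.Prime] [M.IsPrime] in
theorem conj_centralChar (χ : IrrCharacter G) [Finite G] (g : G) :
    conj (centralChar (χ : G → ℂ) g) = centralChar (χ : G → ℂ) g⁻¹ := by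
  have hcent : Subgroup.centralizer ({g⁻¹} : Set G) = Subgroup.centralizer ({g} : Set G) := by
    ext y
    rw [mem_centralizer_singleton, mem_centralizer_singleton]
    exact Commute.inv_right_iff
  rw [centralChar, centralChar, map_div₀, map_mul, Complex.conj_natCast, hcent,
    ← Char.IsIrr.map_inv χ.2, ← Char.IsIrr.map_inv χ.2, inv_one]

include hM

omit hM in
/-- The class sum form only depends on the block of the character modulo `M`. -/
theorem resHom_classCoeff_eq {x : G} [Fintype (ConjClasses (Subgroup.centralizer ({x} : Set G)))]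
    (η : IrrCharacter (Subgroup.centralizer ({x} : Set G))) {χ ψ : IrrCharacter G}
    (hs : SameBlock M (χ : G → ℂ) (ψ : G → ℂ)) :
    resHom M ⟨_, mem_localRing_of_isIntegral (isIntegral_classCoeff (p := p) η χ)⟩ =
      resHom M ⟨_, mem_localRing_of_isIntegral (isIntegral_classCoeff (p := p) η ψ)⟩ := by
  let f : IrrCharacter G → ConjClasses (Subgroup.centralizer ({x} : Set G)) → localRing M :=
    fun φ K => if p ∣ orderOf (Quotient.out K) then 0 else
      ⟨_, mem_localRing_of_isIntegral (Char.IsChar.isIntegral (Char.IsIrr.isCharacter η.2)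
        (Quotient.out K))⟩ *
      ⟨_, mem_localRing_of_isIntegral (isIntegral_centralChar φ
        (x * ((Quotient.out K : Subgroup.centralizer ({x} : Set G)) : G))⁻¹)⟩
  have hf : ∀ φ, (⟨_, mem_localRing_of_isIntegral (isIntegral_classCoeff (p := p) η φ)⟩ :
      localRing M) = ∑ K, f φ K := fun φ => Subtype.ext (by
    rw [AddSubmonoidClass.coe_finsetSum]
    refine Finset.sum_congr rfl fun K _ => ?_
    simp only [f]
    split_ifs <;> simp [conj_centralChar])
  rw [hf, hf, map_sum, map_sum]
  refine Finset.sum_congr rfl fun K _ => ?_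
  simp only [f]
  split_ifs
  · rfl
  · rw [map_mul, map_mul]
    congr 1
    exact residue_eq_iff.2 (hs _)

/-- `transCoeff` and `regCoeff` give the contribution. -/
theorem sum_transCoeff_mul_regCoeff {x : G}
    {b : Set (IrrCharacter (Subgroup.centralizer ({x} : Set G)))} (hb : IsPBlock M b)
    (χ ψ : IrrCharacter G) :
    ∑ η ∈ (Set.toFinite b).toFinset, transCoeff x χ η * regCoeff p x η ψ =
      contribution p x b χ ψ := by
  set R := Finset.univ.filter (fun w : Subgroup.centralizer ({x} : Set G) => ¬ p ∣ orderOf w)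
  let θ : IrrCharacter G → Subgroup.centralizer ({x} : Set G) → ℂ :=
    fun χ c => (χ : G → ℂ) (x * (c : G))
  have := Fintype.ofFinite
    {b' : Set (IrrCharacter (Subgroup.centralizer ({x} : Set G))) // IsPBlock M b'}
  have hcross : ∑ w ∈ R, blockPart b (θ χ) w * conj (θ ψ w) =
      ∑ w ∈ R, blockPart b (θ χ) w * conj (blockPart b (θ ψ) w) := by
    rw [Finset.sum_congr rfl (g := fun w => ∑ b' : {b' : Set (IrrCharacter
        (Subgroup.centralizer ({x} : Set G))) // IsPBlock M b'},
          blockPart b (θ χ) w * conj (blockPart b'.1 (θ ψ) w)) fun w _ => by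
        rw [← Finset.mul_sum, ← map_sum, sum_blockPart (M := M)
          (isClassFunction_apply_mul (Char.IsIrr.isClassFunction ψ.2) : IsClassFunction _ (θ ψ)) w],
      Finset.sum_comm, Finset.sum_eq_single ⟨b, hb⟩]
    · intro b' _ hb'
      exact sum_regular_blockPart_mul_eq_zero hM hb b'.2 (fun h => hb' (Subtype.ext h.symm)) _ _
    · exact fun h => absurd (Finset.mem_univ _) h
  show _ = _ * ∑ w ∈ R, blockPart b (θ χ) w * conj (blockPart b (θ ψ) w)
  rw [← hcross]
  simp only [transCoeff, regCoeff, θ, blockPart_eq,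
    finsum_mem_eq_finite_toFinset_sum _ (Set.toFinite b), Finset.mul_sum, Finset.sum_mul]
  rw [Finset.sum_comm]
  exact Finset.sum_congr rfl fun w _ => Finset.sum_congr rfl fun η _ => by ring

theorem card_eq_minExp_add {B : Set (IrrCharacter G)} (hB : IsPBlock M B) :
    (Nat.card G).factorization p = minExp p B + blockDefect p B := by
  obtain ⟨χ, hχ, h0⟩ := exists_height_zero (p := p) (IsPBlock.nonempty hB)
  have h1 : minExp p B ≤ (Nat.card G).factorization p :=
    ((blockHeight_eq_zero_iff_minExp hχ).1 h0).symm.le.trans (degVal_le χ)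
  have h2 : blockDefect p B = (Nat.card G).factorization p - minExp p B := rfl
  omega

theorem exists_degree_split {B : Set (IrrCharacter G)} (hB : IsPBlock M B) {χ : IrrCharacter G}
    (hχ : χ ∈ B) :
    ∃ s r : ℕ, ¬ p ∣ r ∧ s ≠ 0 ∧ r ≠ 0 ∧ ∀ u w : ℂ, (Nat.card G : ℂ) * u = (χ : G → ℂ) 1 * w →
      (p : ℂ) ^ blockDefect p B * u * r = (p : ℂ) ^ blockHeight p B (χ : G → ℂ) * (s * w) := by
  obtain ⟨r, hr, hrp⟩ := exists_factorization (p := p) (Nat.card_pos (α := G)).ne'
  obtain ⟨s, hs, -⟩ := exists_factorization (p := p) (charDegree_pos χ).ne'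
  refine ⟨s, r, hrp, fun h => (charDegree_pos χ).ne' (by rw [hs, h, mul_zero]),
    fun h => hrp (h ▸ dvd_zero p), fun u w h => ?_⟩
  have hdeg : (charDegree (χ : G → ℂ)).factorization p =
      minExp p B + blockHeight p B (χ : G → ℂ) := by
    have h1 := minExp_le (p := p) hχ
    have h2 : blockHeight p B (χ : G → ℂ) = (charDegree (χ : G → ℂ)).factorization p - minExp p B :=
      rfl
    omega
  rw [apply_one_eq_charDegree, hs, hdeg, hr, card_eq_minExp_add hM hB, pow_add, pow_add] at h
  push_cast at h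
  refine mul_left_cancel₀ (pow_ne_zero (minExp p B) (Nat.cast_ne_zero.2 hM.1.ne_zero : (p : ℂ) ≠ 0)) ?_
  linear_combination h

/-- Integrality of `p ^ (d - h)` times `regCoeff`. -/
theorem exists_regCoeff_eq {x : G} (hx : ∃ k : ℕ, orderOf x = p ^ k) {B : Set (IrrCharacter G)}
    {b : Set (IrrCharacter (Subgroup.centralizer ({x} : Set G)))}
    (hind : IsInducedBlock M (Subgroup.centralizer ({x} : Set G)) b B)
    {χ : IrrCharacter G} (hχ : χ ∈ B)
    {η : IrrCharacter (Subgroup.centralizer ({x} : Set G))} (hη : η ∈ b) :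
    ∃ z : ℂ, IsIntegral ℤ z ∧
      (p : ℂ) ^ blockDefect p B * regCoeff p x η χ = (p : ℂ) ^ blockHeight p B (χ : G → ℂ) * z := by
  have := Fintype.ofFinite (ConjClasses (Subgroup.centralizer ({x} : Set G)))
  obtain ⟨hb, hB, -⟩ := isInducedBlock_iff.1 hind
  obtain ⟨s, r, hrp, -, -, hsr⟩ := exists_degree_split hM hB hχ
  set h := blockHeight p B (χ : G → ℂ)
  set X := (p : ℂ) ^ blockDefect p B * regCoeff p x η χ
  have hX : IsIntegral ℤ X := by
    obtain ⟨D₀, hD₀⟩ := exists_isDefectGroup (p := p) hb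
    obtain ⟨E, hE, hle⟩ := IsInducedBlock.defectGroup_le hM hind hD₀
    have hcard : p ^ blockDefect p b ≤ p ^ blockDefect p B := by
      rw [← IsDefectGroup.card_eq hM hb hD₀, ← IsDefectGroup.card_eq hM hB hE,
        ← Subgroup.card_map_of_injective (K := D₀) (f := (Subgroup.centralizer ({x} : Set G)).subtype)
          (Subgroup.subtype_injective _)]
      exact Nat.le_of_dvd Nat.card_pos (Subgroup.card_dvd_of_le hle)
    obtain ⟨k, hk⟩ := Nat.exists_eq_add_of_le ((Nat.pow_le_pow_iff_right hM.1.one_lt).1 hcard)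
    have h1 := ((map_natCast (algebraMap ℤ ℂ) p ▸ isIntegral_algebraMap :
      IsIntegral ℤ (p : ℂ)).pow k).mul
      (isIntegral_pow_mul_regCoeff hM hb rfl η ((Set.Finite.mem_toFinset _).2 hη) χ)
    rwa [← mul_assoc, ← pow_add, Nat.add_comm k, ← hk] at h1
  have hY := hsr _ _ (card_mul_regCoeff hx η χ)
  obtain ⟨u, v, huv⟩ : ∃ u v : ℤ, (r : ℤ) * u + ((p ^ h : ℕ) : ℤ) * v = 1 := by
    refine ⟨Nat.gcdA r (p ^ h), Nat.gcdB r (p ^ h), ?_⟩
    rw [← Nat.gcd_eq_gcd_ab, Nat.Coprime.gcd_eq_one
      (((Nat.Prime.coprime_iff_not_dvd hM.1).2 hrp).symm.pow_right h)]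
    rfl
  have huv' : (r : ℂ) * u + (p : ℂ) ^ h * v = 1 := by exact_mod_cast congrArg (Int.cast : ℤ → ℂ) huv
  refine ⟨(u : ℂ) * (s * classCoeff p x η χ) + (v : ℂ) * X, ?_, ?_⟩
  · exact ((isIntegral_algebraMap (R := ℤ) (x := u)).mul
      ((map_natCast (algebraMap ℤ ℂ) s ▸ isIntegral_algebraMap).mul
        (isIntegral_classCoeff η χ))).add ((isIntegral_algebraMap (R := ℤ) (x := v)).mul hX)
  · linear_combination (u : ℂ) * hY - X * huv'

variable {x : G} (hx : ∃ k : ℕ, orderOf x = p ^ k) {B : Set (IrrCharacter G)}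
  {b : Set (IrrCharacter (Subgroup.centralizer ({x} : Set G)))}
  (hind : IsInducedBlock M (Subgroup.centralizer ({x} : Set G)) b B)
  {χ : IrrCharacter G} (hχ : χ ∈ B)
include hx hind hχ

/-- `p ^ (d - h)` times the contribution is an algebraic integer. -/
theorem exists_contribution_eq (ψ : IrrCharacter G) :
    ∃ z : ℂ, IsIntegral ℤ z ∧ (p : ℂ) ^ blockDefect p B * contribution p x b ψ χ =
      (p : ℂ) ^ blockHeight p B (χ : G → ℂ) * z := by
  have h := fun η => fun hη => exists_regCoeff_eq hM hx hind hχ (η := η) hη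
  choose z hz hz' using h
  refine ⟨∑ η ∈ (Set.toFinite b).toFinset.attach,
    transCoeff x ψ η.1 * z η.1 ((Set.Finite.mem_toFinset _).1 η.2),
    IsIntegral.sum _ fun η _ => (isIntegral_transCoeff x ψ η.1).mul (hz _ _), ?_⟩
  rw [← sum_transCoeff_mul_regCoeff hM (isInducedBlock_iff.1 hind).1, ← Finset.sum_attach,
    Finset.mul_sum, Finset.mul_sum]
  exact Finset.sum_congr rfl fun η _ => by
    linear_combination transCoeff x ψ η.1 * hz' η.1 ((Set.Finite.mem_toFinset _).1 η.2)

omit hχ in
/-- A major subsection contributes to every pair with a member of height zero. -/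
theorem contribution_ne_zero_of_height_zero (hd : blockDefect p b = blockDefect p B)
    {χ ψ : IrrCharacter G} (hχ : χ ∈ B) (hψ : ψ ∈ B) (hψ0 : blockHeight p B (ψ : G → ℂ) = 0) :
    contribution p x b ψ χ ≠ 0 := by
  have := Fintype.ofFinite (ConjClasses (Subgroup.centralizer ({x} : Set G)))
  obtain ⟨hb, hB, -⟩ := isInducedBlock_iff.1 hind
  obtain ⟨z, hz, hz0⟩ := exists_residue_ne_zero hM hx hind hd hψ hψ hψ0 hψ0
  intro hzero
  -- compare with `ψ` modulo `M`
  obtain ⟨s, r, hrp, hs0, hr0, hsr⟩ := exists_degree_split hM hB hψ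
  obtain ⟨s', r', -, hs0', -, hsr'⟩ := exists_degree_split hM hB hχ
  let w : IrrCharacter G → IrrCharacter (Subgroup.centralizer ({x} : Set G)) → localRing M :=
    fun φ η => ⟨_, mem_localRing_of_isIntegral (isIntegral_classCoeff (p := p) η φ)⟩
  let a : IrrCharacter (Subgroup.centralizer ({x} : Set G)) → localRing M :=
    fun η => ⟨_, mem_localRing_of_isIntegral (isIntegral_transCoeff x ψ η)⟩
  let T : IrrCharacter G → localRing M := fun φ => ∑ η ∈ (Set.toFinite b).toFinset, a η * w φ η
  have hT : resHom M (T χ) = resHom M (T ψ) := by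
    simp only [T, map_sum, map_mul]
    exact Finset.sum_congr rfl fun η _ => congrArg _
      (resHom_classCoeff_eq η (IsPBlock.sameBlock hB hχ hψ))
  have hTχ : T χ = 0 := by
    refine Subtype.ext ?_
    have h1 : ((p : ℂ) ^ blockHeight p B (χ : G → ℂ) * s') * (T χ : ℂ) = 0 := by
      simp only [T, AddSubmonoidClass.coe_finsetSum, Finset.mul_sum]
      rw [Finset.sum_congr rfl (g := fun η => (p : ℂ) ^ blockDefect p B * r' *
        (transCoeff x ψ η * regCoeff p x η χ)) fun η _ => ?_, ← Finset.mul_sum,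
        sum_transCoeff_mul_regCoeff hM hb, hzero, mul_zero]
      simp only [a, w, Subring.coe_mul]
      linear_combination -transCoeff x ψ η * hsr' _ _ (card_mul_regCoeff hx η χ)
    rcases mul_eq_zero.1 h1 with h | h
    · rcases mul_eq_zero.1 h with h | h
      · exact absurd h (pow_ne_zero _ (Nat.cast_ne_zero.2 hM.1.ne_zero))
      · exact absurd h (Nat.cast_ne_zero.2 hs0')
    · simpa using h
  refine hz0 ?_
  have hz' : z * (r : localRing M) = (s : localRing M) * T ψ := by
    refine Subtype.ext ?_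
    simp only [T, Subring.coe_mul, hz, AddSubmonoidClass.coe_finsetSum, Finset.mul_sum,
      Finset.sum_mul, SubringClass.coe_natCast]
    refine Finset.sum_congr rfl fun η _ => ?_
    have h2 := hsr _ _ (card_mul_regCoeff hx η ψ)
    rw [hψ0, pow_zero, one_mul] at h2
    simp only [a, w]
    linear_combination transCoeff x ψ η * h2
  have h3 := congrArg (resHom M) hz'
  rw [map_mul, map_mul, ← hT, hTχ, map_zero, mul_zero, mul_eq_zero] at h3
  refine h3.resolve_right fun h4 => ?_
  have := charP_residueField hM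
  rw [map_natCast, CharP.cast_eq_zero_iff (Res M) p] at h4
  exact hrp h4

/-- A major subsection contributes to every member. -/
theorem contribution_self_ne_zero (hd : blockDefect p b = blockDefect p B) :
    contribution p x b χ χ ≠ 0 := by
  obtain ⟨hb, hB, -⟩ := isInducedBlock_iff.1 hind
  obtain ⟨ψ, hψ, hψ0⟩ := exists_height_zero (p := p) (IsPBlock.nonempty hB)
  intro h0
  -- the `b`-part of `χ` vanishes
  have hnC : ((Nat.card (Subgroup.centralizer ({x} : Set G)) : ℂ))⁻¹ ≠ 0 :=
    inv_ne_zero (Nat.cast_ne_zero.2 Nat.card_pos.ne')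
  have hvan : ∀ w : Subgroup.centralizer ({x} : Set G), ¬ p ∣ orderOf w →
      blockPart b (fun c : Subgroup.centralizer ({x} : Set G) => (χ : G → ℂ) (x * (c : G))) w = 0 := by
    intro w hw
    rw [contribution, mul_eq_zero, or_iff_right hnC] at h0
    simp only [Complex.mul_conj] at h0
    rw [← Complex.ofReal_sum, Complex.ofReal_eq_zero,
      Finset.sum_eq_zero_iff_of_nonneg fun w _ => Complex.normSq_nonneg _] at h0
    exact Complex.normSq_eq_zero.1 (h0 w (Finset.mem_filter.2 ⟨Finset.mem_univ _, hw⟩))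
  refine contribution_ne_zero_of_height_zero hM hx hind hd hχ hψ hψ0 ?_
  show contribution p x b ψ χ = 0
  rw [contribution, Finset.sum_eq_zero fun w hw => by
    rw [hvan w (Finset.mem_filter.1 hw).2, map_zero, mul_zero], mul_zero]

omit hx hind hχ in
/-- The contributions of the subsections at `x` add up to the norm of `χ` on the section. -/
theorem sum_contribution {x : G} (hx : ∃ k : ℕ, orderOf x = p ^ k) (hB : IsPBlock M B)
    {χ : IrrCharacter G} (hχ : χ ∈ B) :
    ∑ b ∈ (Set.toFinite {b : Set (IrrCharacter (Subgroup.centralizer ({x} : Set G))) |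
        IsInducedBlock M (Subgroup.centralizer ({x} : Set G)) b B}).toFinset,
      contribution p x b χ χ =
      (Nat.card G : ℂ)⁻¹ * ∑ g ∈ Finset.univ.filter (fun g : G => ∃ u, IsPPart p g u ∧ IsConj u x),
        (χ : G → ℂ) g * conj ((χ : G → ℂ) g) := by
  have := Fintype.ofFinite (IrrCharacter ↥(Subgroup.centralizer ({x} : Set G)))
  have hG0 : (Nat.card G : ℂ) ≠ 0 := Nat.cast_ne_zero.2 Nat.card_pos.ne'
  have hC0 : (Nat.card (Subgroup.centralizer ({x} : Set G)) : ℂ) ≠ 0 :=
    Nat.cast_ne_zero.2 Nat.card_pos.ne'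
  have hs := sum_section hx (f := fun g => (χ : G → ℂ) g * conj ((χ : G → ℂ) g)) fun g h => by
    show (χ : G → ℂ) _ * conj ((χ : G → ℂ) _) = _
    rw [Char.IsIrr.isClassFunction χ.2]
  set S := (Set.toFinite {b : Set (IrrCharacter (Subgroup.centralizer ({x} : Set G))) |
    IsInducedBlock M (Subgroup.centralizer ({x} : Set G)) b B}).toFinset with hS
  have hSeq : S = ((Finset.univ.image
      fun ψ : IrrCharacter ↥(Subgroup.centralizer ({x} : Set G)) =>
        blockOf M (ψ : Subgroup.centralizer ({x} : Set G) → ℂ)).filter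
          fun b => IsInducedBlock M (Subgroup.centralizer ({x} : Set G)) b B) := by
    ext b
    simp only [hS, Set.Finite.mem_toFinset, Set.mem_setOf_eq, Finset.mem_filter, Finset.mem_univ,
      true_and, Finset.mem_image]
    refine ⟨fun hb => ⟨?_, hb⟩, And.right⟩
    obtain ⟨ψ, hψ⟩ := (isInducedBlock_iff.1 hb).1
    exact ⟨ψ, hψ.symm⟩
  have hmem : ∀ b ∈ S, IsInducedBlock M (Subgroup.centralizer ({x} : Set G)) b B :=
    fun b hb => by rw [hS, Set.Finite.mem_toFinset] at hb; exact hb
  simp only [contribution]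
  rw [← Finset.mul_sum]
  refine mul_left_cancel₀ (mul_ne_zero hC0 hG0) ?_
  calc (Nat.card (Subgroup.centralizer ({x} : Set G)) : ℂ) * Nat.card G *
        ((Nat.card (Subgroup.centralizer ({x} : Set G)) : ℂ)⁻¹ * _) =
      (Nat.card G : ℂ) * ∑ y ∈ Finset.univ.filter
        (fun y : Subgroup.centralizer ({x} : Set G) => ¬ p ∣ orderOf y),
          (χ : G → ℂ) (x * (y : G)) * conj ((χ : G → ℂ) (x * (y : G))) := by
        rw [mul_comm (Nat.card (Subgroup.centralizer ({x} : Set G)) : ℂ), mul_assoc,
          mul_inv_cancel_left₀ hC0]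
        congr 1
        symm
        rw [Finset.sum_congr rfl fun y hy => by
          rw [apply_mul_eq_sum_blockPart hM hx hB hχ (Finset.mem_filter.1 hy).2, ← hSeq, map_sum,
            Finset.sum_mul_sum], Finset.sum_comm]
        refine Finset.sum_congr rfl fun b hb => ?_
        rw [Finset.sum_comm, Finset.sum_eq_single b (fun b' hb' hne =>
          sum_regular_blockPart_mul_eq_zero hM (isInducedBlock_iff.1 (hmem b hb)).1
            (isInducedBlock_iff.1 (hmem b' hb')).1 hne.symm _ _)
          (fun h => absurd hb h)]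
    _ = _ := by
        rw [← hs]
        field_simp

end CfsgLib.Blocks
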