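import Cfsg.Agent.Lib.Blocks.Defect
import Cfsg.Agent.Lib.Blocks.QuotientBlocks
import Mathlib.GroupTheory.Sylow

/-!
# Defect groups of blocks of quotients
-/

namespace CfsgLib.Blocks

open Cfsg CfsgLib.Char CfsgLib.Fusion MonoidAlgebra

variable {G : Type*} [Group G] [Fintype G] {p : ℕ} [Fact p.Prime] {M : Ideal AlgInt} [M.IsPrime]
  (N : Subgroup G) [N.Normal] [Fintype (G ⧸ N)]

/-- The image in the group algebra of the quotient. -/
noncomputable abbrev quotMap (R : Type*) [CommSemiring R] :
    MonoidAlgebra R G →+* MonoidAlgebra R (G ⧸ N) := mapDomainRingHom R (QuotientGroup.mk' N)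

open scoped Classical in
omit [Fintype (G ⧸ N)] in
theorem coeff_quotMap {R : Type*} [CommSemiring R] (a : MonoidAlgebra R G) (q : G ⧸ N) :
    (quotMap N R a).coeff q = ∑ x : {x : G // (x : G ⧸ N) = q}, a.coeff x := by
  rw [← Finset.sum_subtype (Finset.univ.filter fun x : G => (x : G ⧸ N) = q) (by simp)
    (fun x => a.coeff x), Finset.sum_filter, mapDomainRingHom_apply]
  show Finsupp.mapDomain _ a.coeff q = _
  rw [Finsupp.mapDomain, Finsupp.sum_fintype _ _ (fun _ => Finsupp.single_zero _),
    Finsupp.finsetSum_apply]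
  exact Finset.sum_congr rfl fun x _ => Finsupp.single_apply

omit [Fintype (G ⧸ N)] in
theorem isCentralElt_quotMap {R : Type*} [CommSemiring R] {a : MonoidAlgebra R G}
    (ha : IsCentralElt a) : IsCentralElt (quotMap N R a) := by
  classical
  intro q h
  obtain ⟨t, rfl⟩ := QuotientGroup.mk_surjective h
  rw [coeff_quotMap, coeff_quotMap]
  symm
  refine Fintype.sum_equiv ((MulAut.conj t).toEquiv.subtypeEquiv fun x => ?_) _ _ fun x =>
    (ha x.1 t).symm
  simp only [MulEquiv.toEquiv_eq_coe, MulEquiv.coe_toEquiv, MulAut.conj_apply, QuotientGroup.mk_mul,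
    QuotientGroup.mk_inv]
  constructor
  · rintro rfl; rfl
  · intro h
    exact mul_left_cancel (mul_right_cancel h)

/-- Central characters of inflated characters factor through the quotient. -/
theorem omegaBar_quotMap (χ : IrrCharacter (G ⧸ N)) {a : MonoidAlgebra (Res M) G}
    (ha : IsCentralElt a) : omegaBar χ (quotMap N (Res M) a) = omegaBar (inflate N χ) a := by
  classical
  obtain ⟨b, hb, rfl⟩ := exists_central_lift ha
  have hred : quotMap N (Res M) (red M b) = red M (quotMap N (localRing M) b) := by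
    ext q
    rw [coeff_red, coeff_quotMap, coeff_quotMap, map_sum]
    simp
  rw [hred, omegaBar_red _ (isCentralElt_quotMap N hb), omegaBar_red _ hb]
  congr 1
  refine Subtype.ext ?_
  show omega (χ : G ⧸ N → ℂ) (inc M (quotMap N (localRing M) b)) =
    omega (inflate N χ : G → ℂ) (inc M b)
  rw [omega_apply, omega_apply, inflate_apply, QuotientGroup.mk_one]
  congr 1
  simp only [coeff_inc, coeff_quotMap, AddSubmonoidClass.coe_finsetSum, Finset.sum_mul,
    inflate_apply]
  rw [Finset.sum_congr rfl fun q _ => Finset.sum_congr rfl fun (x : {x : G // (x : G ⧸ N) = q}) _ =>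
    congrArg (fun t => (b.coeff x.1 : ℂ) * (χ : G ⧸ N → ℂ) t) x.2.symm]
  exact Fintype.sum_fiberwise (fun x : G => (x : G ⧸ N))
    fun x => (b.coeff x : ℂ) * (χ : G ⧸ N → ℂ) x

variable (hM : IsPModular p M)
include hM

omit [Fintype (G ⧸ N)] in
/-- A `p`-subgroup of the quotient centralizing the image of the block idempotent lies below the
image of a defect group. -/
theorem subConj_map_of_coeff_ne_zero {B : Set (IrrCharacter G)} (hB : IsPBlock M B) {P : Subgroup G}
    (hP : IsDefectGroup p M B P) {D : Subgroup (G ⧸ N)} (hD : IsPGroup p D) {q : G ⧸ N}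
    (hq : q ∈ Subgroup.centralizer (D : Set (G ⧸ N)))
    (hne : (quotMap N (Res M) (blockIdemBar M B)).coeff q ≠ 0) :
    SubConj D (P.map (QuotientGroup.mk' N)) := by
  classical
  have := charP_residueField hM
  have hf := isCentralElt_blockIdemBar hB
  set π := QuotientGroup.mk' N
  obtain ⟨T⟩ : Nonempty (Sylow p (D.comap π)) := inferInstance
  set S : Subgroup G := (T : Subgroup (D.comap π)).map (D.comap π).subtype with hS
  have hSp : IsPGroup p S := T.2.map _
  have hSD : S.map π = D := by
    have hle : S.map π ≤ D := by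
      rintro _ ⟨_, ⟨t, -, rfl⟩, rfl⟩
      exact t.2
    refine le_antisymm hle ?_
    rw [← Subgroup.relIndex_eq_one]
    have h1 : (S.map π).relIndex D ∣ S.relIndex (D.comap π) := by
      conv_lhs => rw [← Subgroup.map_comap_eq_self_of_surjective (QuotientGroup.mk'_surjective N) D,
        ← Subgroup.relIndex_comap]
      exact Subgroup.relIndex_dvd_of_le_left _ (Subgroup.le_comap_map _ _)
    have h2 : S.relIndex (D.comap π) = (T : Subgroup (D.comap π)).index := by
      rw [Subgroup.relIndex, hS, Subgroup.subgroupOf,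
        Subgroup.comap_map_eq_self_of_injective (D.comap π).subtype_injective]
    obtain ⟨k, hk⟩ := IsPGroup.iff_card.1 hD
    obtain ⟨j, -, hj⟩ := (Nat.dvd_prime_pow (Fact.out : p.Prime)).1
      (hk ▸ Subgroup.relIndex_dvd_card (S.map π) D)
    rcases j with _ | j
    · simpa using hj
    · exact absurd ((hj ▸ dvd_pow_self p j.succ_ne_zero).trans (h2 ▸ h1)) T.not_dvd_index
  let X := {x : G // (x : G ⧸ N) = q}
  let _ : MulAction S X :=
    { smul := fun s x => ⟨(s : G) * x.1 * (s : G)⁻¹, by
        have hs : π s ∈ D := hSD ▸ Subgroup.mem_map_of_mem π s.2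
        rw [QuotientGroup.mk_mul, QuotientGroup.mk_mul, QuotientGroup.mk_inv, x.2,
          show ((s : G) : G ⧸ N) = π s from rfl, Subgroup.mem_centralizer_iff.1 hq _ hs,
          mul_inv_cancel_right]⟩
      one_smul := fun x => Subtype.ext <| by
        show ((1 : S) : G) * x.1 * ((1 : S) : G)⁻¹ = x.1
        simp
      mul_smul := fun a b x => Subtype.ext <| by
        show ((a * b : S) : G) * x.1 * ((a * b : S) : G)⁻¹ =
          (a : G) * ((b : G) * x.1 * (b : G)⁻¹) * (a : G)⁻¹
        simp only [Subgroup.coe_mul]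
        group }
  rw [coeff_quotMap, sum_eq_sum_fixedPoints hSp
    (fun x : X => (blockIdemBar M B).coeff x.1) (fun s x => hf x.1 s)] at hne
  obtain ⟨x, hx, hxne⟩ := Finset.exists_ne_zero_of_sum_ne_zero hne
  have hxS : x.1 ∈ Subgroup.centralizer (S : Set G) := Subgroup.mem_centralizer_iff.2 fun s hs => by
    have h : s * x.1 * s⁻¹ = x.1 :=
      congrArg Subtype.val ((Finset.mem_filter.1 hx).2 ⟨s, hs⟩)
    calc s * x.1 = s * x.1 * s⁻¹ * s := by group
      _ = x.1 * s := by rw [h]
  obtain ⟨a, ha⟩ := (IsDefectGroup.defLE_of_coeff_ne_zero hM hB hP hxne).subConj hSp hxS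
  refine ⟨π a, fun d hd => ?_⟩
  rw [← hSD] at hd
  obtain ⟨s, hs, rfl⟩ := hd
  exact ⟨_, ha s hs, by simp [π]⟩

/-- The defect groups of a block of the quotient lie below the image of one of the block
containing it. -/
theorem subConj_defectGroup_quotient {Bq : Set (IrrCharacter (G ⧸ N))} (hBq : IsPBlock M Bq)
    {B : Set (IrrCharacter G)} (hB : IsPBlock M B) {χ : IrrCharacter (G ⧸ N)} (hχ : χ ∈ Bq)
    (hχB : inflate N χ ∈ B) {D : Subgroup (G ⧸ N)} (hD : IsDefectGroup p M Bq D)
    {P : Subgroup G} (hP : IsDefectGroup p M B P) :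
    SubConj D (P.map (QuotientGroup.mk' N)) := by
  classical
  have := charP_residueField hM
  have hf := isCentralElt_blockIdemBar hB
  have hfq := isCentralElt_blockIdemBar hBq
  have hπ := isCentralElt_quotMap N hf
  set r := quotMap N (Res M) (blockIdemBar M B) with hr
  have hDp := IsDefectGroup.isPGroup hD
  obtain ⟨g, hg, hle, -⟩ := isDefectGroup_iff.1 hD
  have hgC : g ∈ Subgroup.centralizer (D : Set (G ⧸ N)) := mem_centralizer_iff_le.2 hle
  have hne : (blockIdemBar M Bq * r).coeff g ≠ 0 := by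
    have hid : blockIdemBar M Bq * r = blockIdemBar M Bq := by
      have hu : IsCentralElt (blockIdemBar M Bq - blockIdemBar M Bq * r) := hfq.sub (hfq.mul hπ)
      have hnil := isNilpotent_of_omegaBar_eq_zero hu fun η => by
        rw [omegaBar_sub, omegaBar_mul η hfq hπ, omegaBar_blockIdemBar hBq]
        split_ifs with h
        · rw [omegaBar_congr (IsPBlock.sameBlock hBq h hχ), omegaBar_quotMap N χ hf,
            omegaBar_blockIdemBar hB, if_pos hχB, one_mul, sub_self]
        · rw [zero_mul, sub_self]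
      have hidem : IsIdempotentElem (blockIdemBar M Bq - blockIdemBar M Bq * r) := by
        have hrr : r * r = r := by rw [hr, ← map_mul, blockIdemBar_mul_self hB]
        show _ * _ = _
        have h2 : blockIdemBar M Bq * r * (blockIdemBar M Bq * r) = blockIdemBar M Bq * r := by
          rw [mul_assoc, ← mul_assoc r, (hπ.commute _).eq, mul_assoc _ r r, hrr, ← mul_assoc,
            blockIdemBar_mul_self hBq]
        have h3 : blockIdemBar M Bq * r * blockIdemBar M Bq = blockIdemBar M Bq * r := by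
          rw [mul_assoc, (hπ.commute _).eq, ← mul_assoc, blockIdemBar_mul_self hBq]
        rw [sub_mul, mul_sub, mul_sub, blockIdemBar_mul_self hBq, ← mul_assoc,
          blockIdemBar_mul_self hBq, h3, h2]
        abel
      exact (sub_eq_zero.1 (hidem.eq_zero_of_isNilpotent hnil)).symm
    rw [hid]
    exact IsDefectClass.coeff_ne_zero hBq hg
  rw [coeff_mul_eq_sum_centralizer hDp (fun u _ x => hfq x u) (fun u _ x => hπ x u) hgC] at hne
  obtain ⟨x, hx, hxne⟩ := Finset.exists_ne_zero_of_sum_ne_zero hne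
  exact subConj_map_of_coeff_ne_zero N hM hB hP hDp
    (mul_mem (inv_mem (Finset.mem_filter.1 hx).2) hgC) (right_ne_zero_of_mul hxne)

/-- Over a normal `p`-subgroup some block of the quotient has the image defect groups. -/
theorem exists_quotient_block (hN : IsPGroup p N) {B : Set (IrrCharacter G)} (hB : IsPBlock M B)
    {P : Subgroup G} (hP : IsDefectGroup p M B P) :
    ∃ (Bq : Set (IrrCharacter (G ⧸ N))) (χ : IrrCharacter (G ⧸ N)) (D : Subgroup (G ⧸ N)),
      IsPBlock M Bq ∧ χ ∈ Bq ∧ inflate N χ ∈ B ∧ IsDefectGroup p M Bq D ∧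
        SubConj (P.map (QuotientGroup.mk' N)) D := by
  classical
  have := charP_residueField hM
  have hf := isCentralElt_blockIdemBar hB
  have hπ := isCentralElt_quotMap N hf
  have hp : p.Prime := Fact.out
  have hNP : N ≤ P := IsDefectGroup.normal_le hM hB hP hN
  have hPp := IsDefectGroup.isPGroup hP
  obtain ⟨g, hg, hle, -⟩ := isDefectGroup_iff.1 hP
  have hreg := IsDefectClass.not_dvd_orderOf hM hB hg
  have hcoeff : (quotMap N (Res M) (blockIdemBar M B)).coeff (g : G ⧸ N) ≠ 0 := by
    rw [coeff_quotMap, Fintype.sum_eq_single ⟨g, rfl⟩ fun x hx => ?_]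
    · exact IsDefectClass.coeff_ne_zero hB hg
    by_contra h0
    refine hx (Subtype.ext (?_ : x.1 = g))
    have hxreg : ¬ p ∣ orderOf x.1 := fun hd => h0 (coeff_blockIdemBar_eq_zero_of_dvd hM hB hd)
    have huN : g⁻¹ * x.1 ∈ N := QuotientGroup.eq.1 x.2.symm
    have hcomm : Commute (g⁻¹ * x.1) g :=
      mem_centralizer_singleton.1 (hle (hNP huN))
    have hgx : Commute g x.1 := by
      have := hcomm.symm.mul_right (Commute.refl g)
      have h2 := (Commute.refl g).mul_right hcomm.symm
      simpa using h2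
    have hd : orderOf (g⁻¹ * x.1) ∣ (orderOf g⁻¹).lcm (orderOf x.1) :=
      hgx.inv_left.orderOf_mul_dvd_lcm
    obtain ⟨k, hk⟩ := IsPGroup.iff_orderOf.1 hN ⟨_, huN⟩
    rw [Subgroup.orderOf_mk] at hk
    rcases k with _ | k
    · rw [pow_zero, orderOf_eq_one_iff, inv_mul_eq_one] at hk
      exact hk.symm
    · have h1 := ((hk ▸ dvd_pow_self p k.succ_ne_zero).trans hd).trans (Nat.lcm_dvd_mul _ _)
      rw [orderOf_inv] at h1
      rcases hp.dvd_mul.1 h1 with h1 | h1
      exacts [absurd h1 hreg, absurd h1 hxreg]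
  have : Fintype {b : Set (IrrCharacter (G ⧸ N)) // IsPBlock M b} := Fintype.ofFinite _
  rw [← one_mul (quotMap N (Res M) (blockIdemBar M B)), ← sum_blockIdemBar, Finset.sum_mul,
    coeff_sum, Finsupp.finsetSum_apply] at hcoeff
  obtain ⟨⟨Bq, hBq⟩, -, hne⟩ := Finset.exists_ne_zero_of_sum_ne_zero hcoeff
  have hfq := isCentralElt_blockIdemBar hBq
  obtain ⟨χ, hχ, hχne⟩ : ∃ χ ∈ Bq, omegaBar χ (quotMap N (Res M) (blockIdemBar M B)) ≠ 0 := by
    by_contra hcon
    push Not at hcon
    obtain ⟨n, hn⟩ := isNilpotent_of_omegaBar_eq_zero (hfq.mul hπ) fun η => by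
      rw [omegaBar_mul η hfq hπ, omegaBar_blockIdemBar hBq]
      split_ifs with hη
      · rw [hcon η hη, mul_zero]
      · rw [zero_mul]
    have hid : IsIdempotentElem
        (blockIdemBar M Bq * quotMap N (Res M) (blockIdemBar M B)) := by
      show _ * _ = _
      rw [mul_assoc, ← mul_assoc (quotMap N (Res M) (blockIdemBar M B)), (hπ.commute _).eq,
        mul_assoc (blockIdemBar M Bq) (quotMap N (Res M) (blockIdemBar M B))
          (quotMap N (Res M) (blockIdemBar M B)),
        ← map_mul, blockIdemBar_mul_self hB, ← mul_assoc, blockIdemBar_mul_self hBq]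
    refine hne ?_
    show (blockIdemBar M Bq * quotMap N (Res M) (blockIdemBar M B)).coeff _ = 0
    rw [hid.eq_zero_of_isNilpotent ⟨n, hn⟩]
    rfl
  obtain ⟨D, hD⟩ := exists_isDefectGroup (p := p) hBq
  refine ⟨Bq, χ, D, hBq, hχ, ?_, hD, ?_⟩
  · by_contra hmem
    rw [omegaBar_quotMap N χ hf, omegaBar_blockIdemBar hB, if_neg hmem] at hχne
    exact hχne rfl
  have hgC : (g : G ⧸ N) ∈ Subgroup.centralizer (P.map (QuotientGroup.mk' N) : Set (G ⧸ N)) := by
    refine Subgroup.mem_centralizer_iff.2 ?_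
    rintro _ ⟨u, hu, rfl⟩
    exact congrArg (fun t : G => (t : G ⧸ N))
      (Subgroup.mem_centralizer_iff.1 (mem_centralizer_iff_le.2 hle) u hu)
  change (blockIdemBar M Bq * quotMap N (Res M) (blockIdemBar M B)).coeff _ ≠ 0 at hne
  rw [coeff_mul_eq_sum_centralizer (hPp.map _) (fun u _ x => hfq x u) (fun u _ x => hπ x u) hgC]
    at hne
  obtain ⟨x, hx, hxne⟩ := Finset.exists_ne_zero_of_sum_ne_zero hne
  exact (IsDefectGroup.defLE_of_coeff_ne_zero hM hBq hD (left_ne_zero_of_mul hxne)).subConj
    (hPp.map _) (Finset.mem_filter.1 hx).2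

end CfsgLib.Blocks
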