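import Cfsg.Agent.Lib.CharAction.BrauerFeit
import Cfsg.Agent.Lib.CharAction.Rank
import Cfsg.Agent.Lib.Blocks.DefectNumber
import Cfsg.Agent.Lib.Blocks.MajorSubsection

/-!
# 2-blocks of defect two

Such a block has four irreducible characters, all of height zero; if a central involution lies in
a defect group then it has a single irreducible Brauer character.
-/

namespace CfsgLib.Blocks

open Cfsg CfsgLib.Char CfsgLib.CharAction
open scoped ComplexConjugate Classical

theorem pPart_unique {G : Type*} [Group G] {p : ℕ} (hp : p.Prime) {g u v : G}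
    (hu : IsPPart p g u) (hv : IsPPart p g v) : u = v := by
  simpa using conj_pPart_eq hp hu hv (j := 1) (x := 1) (by simpa using hp.ne_one) (by simp)

variable {G : Type*} [Group G] [Fintype G] {M : Ideal AlgInt} [M.IsPrime] (hM : IsPModular 2 M)
  {B : Set (IrrCharacter G)} (hB : IsPBlock M B) (hd : blockDefect 2 B = 2)
include hM hB hd

theorem blockHeight_eq_zero_of_defect_two {χ : IrrCharacter G} (hχ : χ ∈ B) :
    blockHeight 2 B (χ : G → ℂ) = 0 := by
  have : Fact (Nat.Prime 2) := ⟨Nat.prime_two⟩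
  rcases height_bound hM hB hχ with h | h <;> omega

/-- A 2-block of defect two has exactly four irreducible characters. -/
theorem card_eq_four_of_defect_two : Nat.card B = 4 := by
  have : Fact (Nat.Prime 2) := ⟨Nat.prime_two⟩
  have := Fintype.ofFinite (IrrCharacter G)
  obtain ⟨χ, hχ⟩ := IsPBlock.nonempty hB
  obtain ⟨e, he, hsum⟩ := exists_coeff hM hB hχ (p := 2)
  rw [blockHeight_eq_zero_of_defect_two hM hB hd hχ, Nat.sub_zero, hd] at hsum
  have hodd : ∀ ξ ∈ B, Odd (e ξ) := by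
    intro ξ hξ
    rw [← Int.not_even_iff_odd, even_iff_two_dvd]
    intro h2
    refine (not_pow_succ_dvd_regNum_iff hM hB hχ hξ (p := 2)).2
      (blockHeight_eq_zero_of_defect_two hM hB hd hχ) ?_
    rw [he, show degVal 2 (ξ : G → ℂ) = degVal 2 (χ : G → ℂ) by
      rw [degVal_eq_add (p := 2) hξ, degVal_eq_add (p := 2) hχ,
        blockHeight_eq_zero_of_defect_two hM hB hd hξ,
        blockHeight_eq_zero_of_defect_two hM hB hd hχ], pow_succ]
    exact mul_dvd_mul_left _ (by exact_mod_cast h2)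
  have hmem : χ ∈ Finset.univ.filter (· ∈ B) := by simp [hχ]
  rw [← Finset.add_sum_erase _ _ hmem] at hsum
  set R := (Finset.univ.filter (· ∈ B)).erase χ
  have hR : ∀ ξ ∈ R, ξ ∈ B := fun ξ hξ => (Finset.mem_filter.1 (Finset.mem_of_mem_erase hξ)).2
  have h1 : ∀ ξ ∈ B, 1 ≤ e ξ ^ 2 := fun ξ hξ => by
    obtain ⟨m, hm⟩ := hodd ξ hξ
    rw [hm]
    rcases le_or_gt 0 m with h | h <;> nlinarith
  have hnn : 0 ≤ ∑ ξ ∈ R, e ξ ^ 2 := Finset.sum_nonneg fun _ _ => sq_nonneg _
  have h13 : e χ = 1 ∨ e χ = 3 := by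
    obtain ⟨m, hm⟩ := hodd χ hχ
    rw [hm] at hsum ⊢
    norm_num at hsum
    have : 0 ≤ m ∧ m ≤ 1 := by constructor <;> nlinarith
    omega
  have h3 : ∑ ξ ∈ R, e ξ ^ 2 = 3 := by
    rcases h13 with h | h <;> rw [h] at hsum <;> norm_num at hsum <;> linarith
  have hall : ∀ ξ ∈ R, e ξ ^ 2 = 1 := by
    intro ξ hξ
    obtain ⟨m, hm⟩ := hodd ξ (hR ξ hξ)
    have hle : e ξ ^ 2 ≤ 3 := h3 ▸ Finset.single_le_sum (fun i _ => sq_nonneg (e i)) hξ
    rw [hm] at hle ⊢
    have : -1 ≤ m ∧ m ≤ 0 := by constructor <;> nlinarith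
    rcases (show m = -1 ∨ m = 0 by omega) with rfl | rfl <;> norm_num
  rw [Finset.sum_congr rfl hall, Finset.sum_const, nsmul_eq_mul, mul_one] at h3
  have hR3 : R.card = 3 := by exact_mod_cast h3
  rw [Nat.card_eq_fintype_card, Fintype.card_subtype, ← Finset.card_erase_add_one hmem, hR3]

/-- With a central involution in a defect group the block has rank one. -/
theorem blockRank_eq_one_of_central {D : Subgroup G} (hD : IsDefectGroup 2 M B D) {x : G}
    (hxD : x ∈ D) (hx : orderOf x = 2) (hcen : ∀ g : G, g * x = x * g) : blockRank 2 B = 1 := by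
  have : Fact (Nat.Prime 2) := ⟨Nat.prime_two⟩
  have h4 := card_eq_four_of_defect_two hM hB hd
  have hh := fun χ (hχ : χ ∈ B) => blockHeight_eq_zero_of_defect_two hM hB hd (χ := χ) hχ
  obtain ⟨χ₀, hχ₀⟩ := IsPBlock.nonempty hB
  obtain ⟨y, hy, hle, hS⟩ := isDefectGroup_iff.1 hD
  -- a further section
  obtain ⟨u, huD, hu1, hux⟩ : ∃ u ∈ D, u ≠ 1 ∧ u ≠ x := by
    by_contra hcon
    push Not at hcon
    have hsub : (D : Set G) ⊆ {1, x} := fun v hv => by
      rcases eq_or_ne v 1 with h | h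
      · exact Or.inl h
      · exact Or.inr (hcon v hv h)
    have h := Set.ncard_le_ncard hsub
    have hDc := IsDefectGroup.card_eq hM hB hD
    rw [hd] at hDc
    rw [← Nat.card_coe_set_eq, SetLike.coe_sort_coe, hDc] at h
    have h2 := Set.ncard_insert_le (1 : G) {x}
    rw [Set.ncard_singleton] at h2
    omega
  have hpow : ∀ v ∈ D, ∃ k, orderOf v = 2 ^ k := fun v hv => by
    obtain ⟨k, hk⟩ := IsPGroup.iff_orderOf.1 (IsDefectGroup.isPGroup hD) ⟨v, hv⟩
    exact ⟨k, by rwa [Subgroup.orderOf_mk] at hk⟩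
  obtain ⟨y₂, hy₂⟩ := exists_pPart hM.1 y
  obtain ⟨z, hyz, hc, hy₂o, hzo⟩ := hy₂
  have hy₂C : y₂ ∈ Subgroup.centralizer ({y} : Set G) := by
    rw [Subgroup.mem_centralizer_singleton_iff, ← hyz]
    calc y₂ * (y₂ * z) = y₂ * (z * y₂) := by rw [hc.eq]
      _ = y₂ * z * y₂ := by group
  have hy₂cen : ∀ d ∈ D, Commute d y₂ := by
    intro d hd'
    have hcy : Commute d y := Subgroup.mem_centralizer_singleton_iff.1 (hle hd')
    have h := conj_pPart_eq hM.1 (⟨z, hyz, hc, hy₂o, hzo⟩ : IsPPart 2 y y₂)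
      (⟨z, hyz, hc, hy₂o, hzo⟩ : IsPPart 2 y y₂) (j := 1) (by norm_num) (x := d)
      (by rw [pow_one]; exact hcy.eq.symm)
    show d * y₂ = y₂ * d
    conv_lhs => rw [← h]
    group
  have hy₂D : y₂ ∈ D := by
    obtain ⟨k, hk⟩ := hy₂o
    have hZ : IsPGroup 2 (Subgroup.zpowers y₂) :=
      IsPGroup.of_card (n := k) (by rw [Nat.card_zpowers, hk])
    have hsup : IsPGroup 2 (D ⊔ Subgroup.zpowers y₂ : Subgroup G) :=
      (IsDefectGroup.isPGroup hD).to_sup_of_normal_left' hZ fun v hv => by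
        obtain ⟨i, rfl⟩ := hv
        exact Subgroup.mem_normalizer_iff.2 fun d => ⟨fun hd' => by
          rwa [show y₂ ^ i * d * (y₂ ^ i)⁻¹ = d by
            rw [← ((hy₂cen d hd').zpow_right i).eq, mul_inv_cancel_right]],
          fun hd' => by
            have hcc := ((hy₂cen _ hd').zpow_right i).eq
            rwa [show d = y₂ ^ i * d * (y₂ ^ i)⁻¹ from by
              calc d = (y₂ ^ i)⁻¹ * ((y₂ ^ i * d * (y₂ ^ i)⁻¹) * y₂ ^ i) := by group
                _ = (y₂ ^ i)⁻¹ * (y₂ ^ i * (y₂ ^ i * d * (y₂ ^ i)⁻¹)) := by rw [hcc]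
                _ = _ := by group]⟩
    have hle' : D ⊔ Subgroup.zpowers y₂ ≤ Subgroup.centralizer ({y} : Set G) :=
      sup_le hle (Subgroup.zpowers_le.2 hy₂C)
    have hdvd : Nat.card (D ⊔ Subgroup.zpowers y₂ : Subgroup G) ≤ Nat.card D := by
      obtain ⟨n, hn⟩ := hsup.exists_card_eq
      rw [hn, (CfsgLib.Fusion.isSylowIn_iff_card hle).1 hS]
      refine Nat.pow_le_pow_right (by norm_num) ?_
      rw [← Nat.prime_two.pow_dvd_iff_le_factorization Nat.card_pos.ne', ← hn]
      exact Subgroup.card_dvd_of_le hle'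
    have := Subgroup.eq_of_le_of_card_ge le_sup_left hdvd
    exact this.ge (Subgroup.mem_sup_right (Subgroup.mem_zpowers y₂))
  set t := u * y₂⁻¹ with ht
  have htD : t ∈ D := mul_mem huD (inv_mem hy₂D)
  have htc : Commute t y := Subgroup.mem_centralizer_singleton_iff.1 (hle htD)
  have hv : IsPPart 2 (t * y) u := by
    refine ⟨z, by rw [ht, ← hyz]; group, ?_, hpow u huD, hzo⟩
    have h1 : Commute u y := Subgroup.mem_centralizer_singleton_iff.1 (hle huD)
    have h2 : z = y₂⁻¹ * y := by rw [← hyz]; group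
    rw [h2]
    exact (hy₂cen u huD).inv_right.mul_right h1
  have hne : (χ₀ : G → ℂ) (t * y) ≠ 0 := fun h0 => by
    refine not_memLocalIdeal_apply_mul hM hB hy htc (hpow t htD) hχ₀ (hh χ₀ hχ₀) ?_
    rw [h0]
    exact ⟨0, 1, Submodule.zero_mem _, (Ideal.ne_top_iff_one M).1 hM.2.1.ne_top, by simp⟩
  -- the mass of the block
  set A := (Set.toFinite B).toFinset with hA
  let f : G → ℝ := fun g => ∑ χ ∈ A, Complex.normSq ((χ : G → ℂ) g)
  have hf0 : ∀ g, 0 ≤ f g := fun g => Finset.sum_nonneg fun _ _ => Complex.normSq_nonneg _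
  have htot : ∑ g, f g = 4 * (Nat.card G : ℝ) := by
    rw [Finset.sum_comm, Finset.sum_congr rfl (g := fun _ => (Nat.card G : ℝ)) fun χ _ => ?_,
      Finset.sum_const, nsmul_eq_mul]
    · rw [hA, ← Set.ncard_eq_toFinset_card B (Set.toFinite B), ← Nat.card_coe_set_eq, h4]
      norm_num
    · have h := Char.classInner_irr_self χ
      rw [classInner, inv_mul_eq_one₀ (Nat.cast_ne_zero.2 Nat.card_pos.ne')] at h
      have h1 := congrArg Complex.re h
      rw [Complex.re_sum, Complex.natCast_re,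
        Finset.sum_congr rfl fun g _ => by rw [Complex.mul_conj, Complex.ofReal_re]] at h1
      exact h1.symm
  set S := Finset.univ.filter (fun g : G => ¬ 2 ∣ orderOf g) with hS'
  have hreg : ∑ g ∈ S, f g = (Nat.card G : ℝ) * (blockRank 2 B : ℝ) := by
    have h := card_mul_blockRank hM hB
    rw [Finset.sum_congr rfl (g := fun g : G => ((if ¬ 2 ∣ orderOf g then f g else 0 : ℝ) : ℂ))
      fun g _ => ?_, ← Complex.ofReal_sum, ← Finset.sum_filter] at h
    · rw [hS']
      exact_mod_cast h.symm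
    · rw [finsum_mem_eq_finite_toFinset_sum _ (Set.toFinite _)]
      by_cases hg : 2 ∣ orderOf g
      · simp [pRegularPart_eq_regCut, regCut, hg]
      · simp only [f, if_pos hg, ← hA, Complex.ofReal_sum, pRegularPart_eq_regCut, regCut, if_neg hg]
        exact Finset.sum_congr rfl fun χ _ => by rw [Char.IsIrr.map_inv χ.2, Complex.mul_conj]
  have hxk : ∃ k, orderOf x = 2 ^ k := ⟨1, by rw [hx, pow_one]⟩
  have hval : ∀ g, f (x * g) = f g := by
    intro g
    refine Finset.sum_congr rfl fun χ _ => ?_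
    have h1 := apply_central_mul χ hcen g
    have h2 := apply_central_mul χ hcen x
    rw [← pow_two, show x ^ 2 = 1 by rw [← hx, pow_orderOf_eq_one]] at h2
    have hn1 : Complex.normSq ((χ : G → ℂ) 1) ≠ 0 :=
      Complex.normSq_eq_zero.not.2 (Char.IsIrr.apply_one_ne_zero χ.2)
    have h2' := congrArg Complex.normSq h2
    have h1' := congrArg Complex.normSq h1
    simp only [map_mul] at h1' h2'
    have : Complex.normSq ((χ : G → ℂ) x) = Complex.normSq ((χ : G → ℂ) 1) := by
      nlinarith [Complex.normSq_nonneg ((χ : G → ℂ) x), Complex.normSq_nonneg ((χ : G → ℂ) 1)]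
    rw [this, mul_comm (Complex.normSq ((χ : G → ℂ) 1))] at h1'
    exact mul_right_cancel₀ hn1 h1'
  set S' := S.image (x * ·) with hS''
  have hsum' : ∑ g ∈ S', f g = (Nat.card G : ℝ) * (blockRank 2 B : ℝ) := by
    rw [Finset.sum_image fun a _ b _ h => mul_left_cancel h, ← hreg]
    exact Finset.sum_congr rfl fun g _ => hval g
  have hp : ∀ g ∈ S, IsPPart 2 g 1 := fun g hg =>
    ⟨g, one_mul g, Commute.one_left g, ⟨0, by simp⟩, (Finset.mem_filter.1 hg).2⟩
  have hp' : ∀ g ∈ S', IsPPart 2 g x := by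
    intro g hg
    obtain ⟨w, hw, rfl⟩ := Finset.mem_image.1 hg
    exact ⟨w, rfl, (hcen w).symm, hxk, (Finset.mem_filter.1 hw).2⟩
  have hdisj : Disjoint S S' := Finset.disjoint_left.2 fun g h1 h2 => by
    have := pPart_unique hM.1 (hp g h1) (hp' g h2)
    rw [← this, orderOf_one] at hx
    omega
  have hvnot : t * y ∉ S ∪ S' := fun h => by
    rcases Finset.mem_union.1 h with h | h
    · exact hu1 (pPart_unique hM.1 hv (hp _ h))
    · exact hux (pPart_unique hM.1 hv (hp' _ h))
  have hlt : ∑ g ∈ S ∪ S', f g < ∑ g, f g := by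
    refine Finset.sum_lt_sum_of_subset (Finset.subset_univ _) (Finset.mem_univ (t * y)) hvnot ?_
      fun g _ _ => hf0 g
    refine lt_of_lt_of_le (Complex.normSq_pos.2 hne) ?_
    exact Finset.single_le_sum (f := fun χ : IrrCharacter G => Complex.normSq ((χ : G → ℂ) (t * y)))
      (fun _ _ => Complex.normSq_nonneg _) ((Set.Finite.mem_toFinset _).2 hχ₀)
  rw [Finset.sum_union hdisj, hreg, hsum', htot] at hlt
  have hlt' : blockRank 2 B < 2 := by
    have hG : (0 : ℝ) < Nat.card G := Nat.cast_pos.2 Nat.card_pos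
    have : (blockRank 2 B : ℝ) < 2 := by nlinarith
    exact_mod_cast this
  have hpos : 0 < blockRank 2 B := by
    have hG : (0 : ℝ) < Nat.card G := Nat.cast_pos.2 Nat.card_pos
    have h1 : (1 : G) ∈ S := by simp [hS']
    have h := lt_of_lt_of_le (Complex.normSq_pos.2 (Char.IsIrr.apply_one_ne_zero χ₀.2))
      ((Finset.single_le_sum (f := fun χ : IrrCharacter G => Complex.normSq ((χ : G → ℂ) 1))
        (fun _ _ => Complex.normSq_nonneg _) ((Set.Finite.mem_toFinset _).2 hχ₀)).trans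
        (Finset.single_le_sum (fun g _ => hf0 g) h1))
    rw [hreg] at h
    have h' := pos_of_mul_pos_right h hG.le
    exact_mod_cast h'
  omega

end CfsgLib.Blocks
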