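import Cfsg.Agent.Lib.Blocks.SecondMain

/-!
# The sum of the elements of order `p` under a central character

For a block with nontrivial defect group `D` the sum of all elements of order `p` has reduced
central character `-1`: under the Brauer map only the elements in `Ω₁ Z(D)` contribute, and the sum
of that subgroup squares to zero.  Hence no character of positive defect vanishes on all elements of
order `p` (Knörr).
-/

namespace CfsgLib.Blocks

open Cfsg MonoidAlgebra CfsgLib.Fusion

variable {G : Type*} [Group G] [Fintype G] {p : ℕ} [Fact p.Prime] {M : Ideal AlgInt} [M.IsPrime]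
  (hM : IsPModular p M)
include hM

open scoped Classical in
theorem omegaBar_orderSum_eq {B : Set (IrrCharacter G)} (hB : IsPBlock M B) {D : Subgroup G}
    (hD : IsDefectGroup p M B D) (hne : D ≠ ⊥) {χ : IrrCharacter G} (hχ : χ ∈ B) :
    omegaBar χ (ofFun fun g : G => if orderOf g = p then (1 : Res M) else 0) = -1 := by
  have := charP_residueField hM
  have := Fintype.ofFinite (Subgroup.normalizer (D : Set G))
  have hDp := IsDefectGroup.isPGroup hD
  have hDN : D ≤ Subgroup.normalizer (D : Set G) := Subgroup.le_normalizer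
  have hnormal := normal_subgroupOf_normalizer D
  obtain ⟨b, ⟨hb, hbD, hind⟩, -⟩ := existsUnique_correspondent hM hB hD
  obtain ⟨-, -, hall⟩ := isInducedBlock_iff.1 hind
  obtain ⟨ξ, hξ⟩ := IsPBlock.nonempty hb
  set a : MonoidAlgebra (Res M) G :=
    ofFun fun g : G => if orderOf g = p then (1 : Res M) else 0 with hadef
  have ha : IsCentralElt a := fun g h => by
    simp only [hadef, coeff_ofFun]
    exact if_congr (by rw [show h * g * h⁻¹ = MulAut.conj h g from rfl, MulEquiv.orderOf_eq]) rfl rfl
  rw [← hall ξ hξ χ hχ a ha, omegaBar_resElt_eq_brauerMap hM hDp hDN le_rfl ξ ha]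
  let E : Subgroup (Subgroup.normalizer (D : Set G)) :=
    { carrier := {x | (x : G) ∈ D ∧ (x : G) ∈ Subgroup.centralizer (D : Set G) ∧ x ^ p = 1}
      mul_mem' := fun {x y} hx hy => ⟨mul_mem hx.1 hy.1, mul_mem hx.2.1 hy.2.1, by
        have hc : Commute x y := Subtype.ext (Subgroup.mem_centralizer_iff.1 hy.2.1 _ hx.1)
        rw [hc.mul_pow, hx.2.2, hy.2.2, one_mul]⟩
      one_mem' := ⟨one_mem _, one_mem _, one_pow _⟩
      inv_mem' := fun {x} hx => ⟨inv_mem hx.1, inv_mem hx.2.1, by rw [inv_pow, hx.2.2, inv_one]⟩ }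
  have hEn : ∀ x h : Subgroup.normalizer (D : Set G), x ∈ E → h * x * h⁻¹ ∈ E := fun x h hx => by
    refine ⟨(Subgroup.mem_normalizer_iff.1 h.2 _).1 hx.1, Subgroup.mem_centralizer_iff.2 fun u hu => ?_,
      by rw [conj_pow, hx.2.2, mul_one, mul_inv_cancel]⟩
    have h4 := Subgroup.mem_centralizer_iff.1 hx.2.1 _ ((Subgroup.mem_normalizer_iff''.1 h.2 u).1 hu)
    show u * ((h : G) * x * (h : G)⁻¹) = (h : G) * x * (h : G)⁻¹ * u
    calc u * ((h : G) * x * (h : G)⁻¹) = h * ((h : G)⁻¹ * u * h * x) * (h : G)⁻¹ := by group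
      _ = h * (x * ((h : G)⁻¹ * u * h)) * (h : G)⁻¹ := by rw [h4]
      _ = h * x * (h : G)⁻¹ * u := by group
  set S : MonoidAlgebra (Res M) (Subgroup.normalizer (D : Set G)) :=
    ofFun fun x => if x ∈ E then 1 else 0 with hSdef
  have hS : IsCentralElt S := fun x h => by
    simp only [hSdef, coeff_ofFun]
    refine if_congr ⟨fun hx => ?_, fun hx => hEn x h hx⟩ rfl rfl
    have := hEn _ h⁻¹ hx
    simpa [mul_assoc] using this
  have hpE : p ∣ Nat.card E := by
    have : Nontrivial D := (Subgroup.nontrivial_iff_ne_bot D).2 hne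
    have := hDp.center_nontrivial
    obtain ⟨n, hn, hcard⟩ :=
      ((hDp.to_subgroup (Subgroup.center D)).nontrivial_iff_card).1 inferInstance
    obtain ⟨z, hz⟩ := exists_prime_orderOf_dvd_card' p (G := Subgroup.center D)
      (by rw [hcard]; exact dvd_pow_self p hn.ne')
    have hzG : orderOf ((z : D) : G) = p := by rw [Subgroup.orderOf_coe, Subgroup.orderOf_coe, hz]
    have hmem : (⟨((z : D) : G), hDN (z : D).2⟩ : Subgroup.normalizer (D : Set G)) ∈ E :=
      ⟨(z : D).2, Subgroup.mem_centralizer_iff.2 fun u hu =>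
        congrArg Subtype.val (Subgroup.mem_center_iff.1 z.2 ⟨u, hu⟩),
        Subtype.ext (by
          show ((z : D) : G) ^ p = 1
          rw [← hzG]; exact pow_orderOf_eq_one _)⟩
    have h1 := orderOf_dvd_natCard (⟨_, hmem⟩ : E)
    rwa [← Subgroup.orderOf_coe, ← Subgroup.orderOf_coe, hzG] at h1
  have hSS : S * S = 0 := by
    refine MonoidAlgebra.ext (Finsupp.ext fun y => ?_)
    rw [coeff_mul_eq_sum, coeff_zero, Finsupp.zero_apply]
    simp only [hSdef, coeff_ofFun, ite_mul, one_mul, zero_mul]
    rw [← Finset.sum_filter]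
    by_cases hy : y ∈ E
    · rw [Finset.sum_congr rfl fun x hx => by
        rw [if_pos (mul_mem (inv_mem (Finset.mem_filter.1 hx).2) hy)], Finset.sum_const,
        nsmul_eq_mul, mul_one, CharP.cast_eq_zero_iff (Res M) p]
      rw [← Fintype.card_subtype, ← Nat.card_eq_fintype_card]
      exact hpE
    · refine Finset.sum_eq_zero fun x hx => if_neg fun h => hy ?_
      simpa using mul_mem (Finset.mem_filter.1 hx).2 h
  have hS0 : omegaBar ξ S = 0 := by
    have h := omegaBar_mul ξ hS hS
    rw [hSS, omegaBar_zero] at h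
    exact mul_self_eq_zero.1 h.symm
  set Rm := brauerMap D (Subgroup.normalizer (D : Set G)) a - (S - 1) with hRm
  have hRm0 : omegaBar ξ Rm = 0 := by
    unfold omegaBar
    refine Finset.sum_eq_zero fun C _ => ?_
    by_contra hne'
    have hw := left_ne_zero_of_mul hne'
    have hω := right_ne_zero_of_mul hne'
    revert hw hω
    generalize Quotient.out C = w
    intro hw hω
    have hwE : w ∉ E := fun hE => by
      by_cases h1 : w = 1
      · subst h1
        simp [hRm, hadef, hSdef, hE, coeff_brauerMap, one_def, orderOf_one,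
          (Fact.out : p.Prime).ne_one.symm] at hw
      · have ho : orderOf w = p := orderOf_eq_prime hE.2.2 h1
        have ho' : orderOf (w : G) = p := by rw [Subgroup.orderOf_coe, ho]
        simp [hRm, hadef, hSdef, hE, coeff_brauerMap, hE.2.1, ho', one_def, Finsupp.single_apply,
          Ne.symm h1] at hw
    have hw1 : w ≠ 1 := fun h => hwE (h ▸ one_mem E)
    have hord : orderOf (w : G) = p ∧ (w : G) ∈ Subgroup.centralizer (D : Set G) := by
      by_contra hcon
      apply hw
      simp only [hRm, hadef, hSdef, coeff_sub, Finsupp.sub_apply, coeff_brauerMap, coeff_ofFun,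
        if_neg hwE, one_def, coeff_single, Finsupp.single_apply, if_neg (Ne.symm hw1), sub_zero]
      by_cases h2 : (w : G) ∈ Subgroup.centralizer (D : Set G)
      · rw [if_pos h2, if_neg fun h3 => hcon ⟨h3, h2⟩]
      · rw [if_neg h2]
    have hpart : IsPPart p w w := ⟨1, mul_one w, Commute.one_right w,
      ⟨1, by rw [pow_one, ← Subgroup.orderOf_coe, hord.1]⟩,
      by rw [orderOf_one]; exact (Fact.out : p.Prime).not_dvd_one⟩
    refine hwE ⟨pPart_mem_of_centralCharBar_ne_zero hM hb hbD hξ hω hpart, hord.2, Subtype.ext ?_⟩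
    show (w : G) ^ p = 1
    rw [← hord.1]
    exact pow_orderOf_eq_one _
  rw [hRm, omegaBar_sub, sub_eq_zero] at hRm0
  rw [hRm0, omegaBar_sub, hS0, omegaBar_one, zero_sub]

/-- Knörr: a character of positive defect is nonzero on some element of order `p`. -/
theorem exists_order_p_ne_zero {B : Set (IrrCharacter G)} (hB : IsPBlock M B) {D : Subgroup G}
    (hD : IsDefectGroup p M B D) (hne : D ≠ ⊥) {χ : IrrCharacter G} (hχ : χ ∈ B) :
    ∃ g : G, orderOf g = p ∧ (χ : G → ℂ) g ≠ 0 := by
  classical
  by_contra hcon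
  push Not at hcon
  have h := omegaBar_orderSum_eq hM hB hD hne hχ
  rw [omegaBar, Finset.sum_eq_zero fun C _ => ?_] at h
  · exact neg_ne_zero.2 one_ne_zero h.symm
  · rw [coeff_ofFun]
    split_ifs with ho
    · rw [one_mul, centralCharBar_eq_zero_iff, centralChar, hcon _ ho, mul_zero, zero_div]
      exact ⟨0, 1, M.zero_mem, one_notMem, by simp⟩
    · rw [zero_mul]

end CfsgLib.Blocks
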