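import Cfsg.Agent.Lib.Blocks.SubsectionNorms
import Cfsg.Agent.Lib.Blocks.FirstMain
import Cfsg.Agent.Lib.Blocks.Principal
import Cfsg.Agent.Lib.CharAction.BrauerFeit
import Mathlib.Tactic.LinearCombination

/-!
# 2-blocks whose defect group has order two
-/

namespace CfsgLib.Blocks

open Cfsg CfsgLib.Char CfsgLib.CharAction
open scoped ComplexConjugate Classical

variable {G : Type*} [Group G] [Fintype G]

/-- A central element in the kernel of a character does not move its values. -/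
theorem apply_mul_of_apply_eq_one {χ : IrrCharacter G} {x : G} (hx : ∀ g : G, g * x = x * g)
    (h : (χ : G → ℂ) x = (χ : G → ℂ) 1) (y : G) : (χ : G → ℂ) (x * y) = (χ : G → ℂ) y := by
  have h1 := sum_char_mul_conj χ x y
  have hc : ∀ g : G, (χ : G → ℂ) (x * (g * y * g⁻¹)) = (χ : G → ℂ) (x * y) := fun g => by
    rw [show x * (g * y * g⁻¹) = g * (x * y) * g⁻¹ by
      rw [← mul_assoc, ← mul_assoc, ← hx g]; group]
    exact Char.IsIrr.isClassFunction χ.2 _ _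
  rw [Finset.sum_congr rfl fun g _ => hc g, Finset.sum_const, Finset.card_univ, nsmul_eq_mul,
    ← Nat.card_eq_fintype_card, eq_div_iff (Char.IsIrr.apply_one_ne_zero χ.2), h] at h1
  refine mul_right_cancel₀ (Char.IsIrr.apply_one_ne_zero χ.2) (mul_left_cancel₀
    (Nat.cast_ne_zero.2 (Nat.card_pos (α := G)).ne' : (Nat.card G : ℂ) ≠ 0) ?_)
  linear_combination h1

variable {M : Ideal AlgInt} [M.IsPrime] (hM : IsPModular 2 M) {B : Set (IrrCharacter G)}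
  (hB : IsPBlock M B) {D : Subgroup G} (hD : IsDefectGroup 2 M B D) (hcard : Nat.card D = 2)
include hM hB hD hcard

theorem blockDefect_eq_one : blockDefect 2 B = 1 := by
  have : Fact (Nat.Prime 2) := ⟨Nat.prime_two⟩
  have h := IsDefectGroup.card_eq hM hB hD
  rw [hcard] at h
  exact (Nat.pow_right_injective le_rfl (a₁ := 1) (a₂ := blockDefect 2 B) (by simpa using h)).symm

/-- A singular element on which every height zero character of the block is nonzero. -/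
theorem exists_singular_ne_zero :
    ∃ u : G, 2 ∣ orderOf u ∧
      ∀ χ ∈ B, blockHeight 2 B (χ : G → ℂ) = 0 → (χ : G → ℂ) u ≠ 0 := by
  have : Fact (Nat.Prime 2) := ⟨Nat.prime_two⟩
  obtain ⟨y, hy, hle, -⟩ := isDefectGroup_iff.1 hD
  obtain ⟨d, hd, hd1⟩ := (Subgroup.ne_bot_iff_exists_ne_one.1 (fun e : D = ⊥ => by
    rw [e, Subgroup.card_bot] at hcard; omega) : ∃ a : D, a ≠ 1) |> fun ⟨a, ha⟩ =>
      (⟨a, a.2, fun e => ha (Subtype.ext e)⟩ : ∃ d : G, d ∈ D ∧ d ≠ 1)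
  have hord : orderOf d = 2 := by
    have h := Subgroup.orderOf_dvd_natCard D hd
    rw [hcard, Nat.dvd_prime Nat.prime_two] at h
    exact h.resolve_left fun e => hd1 (orderOf_eq_one_iff.1 e)
  have hc : Commute d y := mem_centralizer_singleton.1 (hle hd)
  have hy' := IsDefectClass.not_dvd_orderOf hM hB hy
  refine ⟨d * y, ?_, fun χ hχ h0 h => ?_⟩
  · exact (IsPPart.dvd_orderOf_iff hM.1 ⟨y, rfl, hc, ⟨1, by rw [hord, pow_one]⟩, hy'⟩).2 hd1
  · refine not_memLocalIdeal_apply_mul hM hB hy hc ⟨1, by rw [hord, pow_one]⟩ hχ h0 ?_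
    rw [h]
    exact (memLocalIdeal_iff_not_isUnit (z := (0 : localRing M))).2 not_isUnit_zero

/-- A `2`-block of defect one has two characters, of height zero. -/
theorem exists_pair_of_card_two :
    ∃ χ₁ χ₂ : IrrCharacter G, χ₁ ≠ χ₂ ∧ B = {χ₁, χ₂} ∧
      blockHeight 2 B (χ₁ : G → ℂ) = 0 ∧ blockHeight 2 B (χ₂ : G → ℂ) = 0 := by
  have : Fact (Nat.Prime 2) := ⟨Nat.prime_two⟩
  have := Fintype.ofFinite (IrrCharacter G)
  obtain ⟨χ₁, hχ₁, h₁⟩ := CharAction.exists_height_zero hM hB (p := 2)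
  have h4 := four_mul_sum_height_le (G := G) hM hB
  rw [blockDefect_eq_one hM hB hD hcard] at h4
  norm_num at h4
  obtain ⟨χ₂, hχ₂, hne⟩ : ∃ χ₂ ∈ B, χ₂ ≠ χ₁ := by
    by_contra hcon
    push Not at hcon
    obtain ⟨u, hu, hu0⟩ := exists_singular_ne_zero hM hB hD hcard
    have h := sum_block_regular_singular hM hB (x := 1) (by simp) hu
    rw [show B = {χ₁} from Set.eq_singleton_iff_unique_mem.2 ⟨hχ₁, hcon⟩, finsum_mem_singleton,
      mul_eq_zero] at h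
    exact hu0 χ₁ hχ₁ h₁ (h.resolve_left (Char.IsIrr.apply_one_ne_zero χ₁.2))
  have hsub : ∀ ξ ∈ B, ξ ≠ χ₁ → ξ ≠ χ₂ → False := by
    intro ξ hξ hξ₁ hξ₂
    have hs : ({χ₁, χ₂, ξ} : Finset (IrrCharacter G)) ⊆ Finset.univ.filter (· ∈ B) := by
      intro z hz
      simp only [Finset.mem_insert, Finset.mem_singleton] at hz
      simp only [Finset.mem_filter, Finset.mem_univ, true_and]
      rcases hz with rfl | rfl | rfl <;> assumption
    have hle := (Finset.sum_le_sum_of_subset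
      (f := fun χ : IrrCharacter G => (2 : ℕ) ^ (2 * blockHeight 2 B (χ : G → ℂ))) hs)
    rw [Finset.sum_insert (by simp [hne.symm, Ne.symm hξ₁]),
      Finset.sum_insert (by simp [Ne.symm hξ₂]), Finset.sum_singleton] at hle
    have e1 : 1 ≤ 2 ^ (2 * blockHeight 2 B (χ₁ : G → ℂ)) := Nat.one_le_pow _ _ (by norm_num)
    have e2 : 1 ≤ 2 ^ (2 * blockHeight 2 B (χ₂ : G → ℂ)) := Nat.one_le_pow _ _ (by norm_num)
    have e3 : 1 ≤ 2 ^ (2 * blockHeight 2 B (ξ : G → ℂ)) := Nat.one_le_pow _ _ (by norm_num)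
    omega
  refine ⟨χ₁, χ₂, hne.symm, ?_, h₁, ?_⟩
  · ext ξ
    simp only [Set.mem_insert_iff, Set.mem_singleton_iff]
    refine ⟨fun hξ => ?_, ?_⟩
    · by_contra hcon
      push Not at hcon
      exact hsub ξ hξ hcon.1 hcon.2
    · rintro (rfl | rfl) <;> assumption
  · by_contra hpos
    have hs : ({χ₁, χ₂} : Finset (IrrCharacter G)) ⊆ Finset.univ.filter (· ∈ B) := by
      intro z hz
      simp only [Finset.mem_insert, Finset.mem_singleton] at hz
      simp only [Finset.mem_filter, Finset.mem_univ, true_and]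
      rcases hz with rfl | rfl <;> assumption
    have hle := (Finset.sum_le_sum_of_subset
      (f := fun χ : IrrCharacter G => (2 : ℕ) ^ (2 * blockHeight 2 B (χ : G → ℂ))) hs)
    rw [Finset.sum_pair hne.symm] at hle
    have e1 : 1 ≤ 2 ^ (2 * blockHeight 2 B (χ₁ : G → ℂ)) := Nat.one_le_pow _ _ (by norm_num)
    have e2 : 2 ^ 2 ≤ 2 ^ (2 * blockHeight 2 B (χ₂ : G → ℂ)) :=
      Nat.pow_le_pow_right (by norm_num) (by omega)
    omega

/-- The two characters agree on regular elements and are opposite on singular ones. -/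
theorem pair_values {χ₁ χ₂ : IrrCharacter G} (hne : χ₁ ≠ χ₂) (hBeq : B = {χ₁, χ₂})
    (h₁ : blockHeight 2 B (χ₁ : G → ℂ) = 0) (h₂ : blockHeight 2 B (χ₂ : G → ℂ) = 0) :
    (∀ g : G, ¬ 2 ∣ orderOf g → (χ₁ : G → ℂ) g = (χ₂ : G → ℂ) g) ∧
      ∀ g : G, 2 ∣ orderOf g → (χ₁ : G → ℂ) g + (χ₂ : G → ℂ) g = 0 := by
  have : Fact (Nat.Prime 2) := ⟨Nat.prime_two⟩
  have hm₁ : χ₁ ∈ B := hBeq ▸ Set.mem_insert _ _
  have hm₂ : χ₂ ∈ B := hBeq ▸ Set.mem_insert_of_mem _ rfl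
  have orth : ∀ g u : G, ¬ 2 ∣ orderOf g → 2 ∣ orderOf u →
      (χ₁ : G → ℂ) g * (χ₁ : G → ℂ) u + (χ₂ : G → ℂ) g * (χ₂ : G → ℂ) u = 0 := by
    intro g u hg hu
    have h := sum_block_regular_singular hM hB hg hu
    rwa [hBeq, finsum_mem_pair hne] at h
  obtain ⟨u, hu, hu0⟩ := exists_singular_ne_zero hM hB hD hcard
  have hu2 := hu0 χ₂ hm₂ h₂
  have h11 : ¬ 2 ∣ orderOf (1 : G) := by simp
  have hprop : ∀ g : G, ¬ 2 ∣ orderOf g →
      (χ₂ : G → ℂ) g * (χ₁ : G → ℂ) 1 = (χ₁ : G → ℂ) g * (χ₂ : G → ℂ) 1 := by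
    intro g hg
    refine mul_right_cancel₀ hu2 ?_
    linear_combination (χ₁ : G → ℂ) 1 * orth g u hg hu - (χ₁ : G → ℂ) g * orth 1 u h11 hu
  set n₁ := charDegree (χ₁ : G → ℂ) with hn₁
  set n₂ := charDegree (χ₂ : G → ℂ) with hn₂
  have e₁ : (χ₁ : G → ℂ) 1 = (n₁ : ℂ) := apply_one_eq_charDegree χ₁
  have e₂ : (χ₂ : G → ℂ) 1 = (n₂ : ℂ) := apply_one_eq_charDegree χ₂
  set c := classInner (regCut 2 (χ₁ : G → ℂ)) (χ₁ : G → ℂ) with hc
  have hc12 : classInner (regCut 2 (χ₁ : G → ℂ)) (χ₂ : G → ℂ) * (n₁ : ℂ) = c * (n₂ : ℂ) := by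
    rw [hc, classInner, classInner, mul_assoc, mul_assoc, Finset.sum_mul, Finset.sum_mul]
    refine congrArg _ (Finset.sum_congr rfl fun g _ => ?_)
    simp only [regCut]
    split_ifs with hg
    · simp
    · have h := congrArg conj (hprop g hg)
      rw [e₁, e₂, map_mul, map_mul, map_natCast, map_natCast] at h
      linear_combination (χ₁ : G → ℂ) g * h
  have hexp := congrFun (regCut_eq_sum hM hB hm₁) 1
  rw [show (Set.toFinite B).toFinset = {χ₁, χ₂} by ext; simp [hBeq]] at hexp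
  simp only [Finset.sum_pair hne, Pi.add_apply, Pi.smul_apply, smul_eq_mul, regCut, if_neg h11,
    e₁, e₂, ← hc] at hexp
  change (n₁ : ℂ) = c * (n₁ : ℂ) + classInner (regCut 2 (χ₁ : G → ℂ)) (χ₂ : G → ℂ) * (n₂ : ℂ) at hexp
  have hcn : (n₁ : ℂ) ^ 2 = c * ((n₁ : ℂ) ^ 2 + (n₂ : ℂ) ^ 2) := by
    linear_combination (n₁ : ℂ) * hexp + (n₂ : ℂ) * hc12
  have hreg := regNum_eq (p := 2) χ₁ χ₁
  rw [← hc] at hreg
  set k := regNum 2 (χ₁ : G → ℂ) (χ₁ : G → ℂ)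
  set a := (Nat.card G).factorization 2
  have hint : (2 : ℤ) ^ a * (n₁ : ℤ) ^ 2 = k * ((n₁ : ℤ) ^ 2 + (n₂ : ℤ) ^ 2) := by
    have h : (2 : ℂ) ^ a * (n₁ : ℂ) ^ 2 = (k : ℂ) * ((n₁ : ℂ) ^ 2 + (n₂ : ℂ) ^ 2) := by
      push_cast at hreg
      rw [← hreg]
      linear_combination (2 : ℂ) ^ a * hcn
    exact_mod_cast h
  obtain ⟨r₁, hr₁, hd₁⟩ := exists_factorization (p := 2) (charDegree_pos χ₁).ne'
  obtain ⟨r₂, hr₂, hd₂⟩ := exists_factorization (p := 2) (charDegree_pos χ₂).ne'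
  have hfac : (charDegree (χ₁ : G → ℂ)).factorization 2 = (charDegree (χ₂ : G → ℂ)).factorization 2 := by
    obtain ⟨y, hy, -⟩ := isDefectGroup_iff.1 hD
    rw [(blockHeight_eq_zero_iff hM hB hy hm₁).1 h₁, (blockHeight_eq_zero_iff hM hB hy hm₂).1 h₂]
  have heq : n₁ = n₂ := by
    rw [hfac] at hr₁
    rw [← hn₁] at hr₁
    rw [← hn₂] at hr₂ hr₁
    set t := n₂.factorization 2
    obtain ⟨u₁, u₂, hcop, hu₁, hu₂⟩ := Nat.exists_coprime r₁ r₂
    set g := Nat.gcd r₁ r₂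
    have hg0 : g ≠ 0 := fun e => hd₁ (by rw [hu₁, e, mul_zero]; exact dvd_zero 2)
    have hu₁o : ¬ 2 ∣ u₁ := fun e => hd₁ (by rw [hu₁]; exact Dvd.dvd.mul_right e _)
    have hu₂o : ¬ 2 ∣ u₂ := fun e => hd₂ (by rw [hu₂]; exact Dvd.dvd.mul_right e _)
    have hdiv : (2 : ℤ) ^ a * (u₁ : ℤ) ^ 2 = k * ((u₁ : ℤ) ^ 2 + (u₂ : ℤ) ^ 2) := by
      refine mul_left_cancel₀ (show ((2 : ℤ) ^ t * (g : ℤ)) ^ 2 ≠ 0 from
        pow_ne_zero _ (mul_ne_zero (pow_ne_zero _ two_ne_zero) (Nat.cast_ne_zero.2 hg0))) ?_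
      rw [hr₁, hr₂, hu₁, hu₂] at hint
      push_cast at hint
      linear_combination hint
    have hcz : IsCoprime ((u₁ : ℤ) ^ 2 + (u₂ : ℤ) ^ 2) ((u₁ : ℤ) ^ 2) := by
      have h := (((Nat.isCoprime_iff_coprime.2 hcop).symm).pow (m := 2) (n := 2)).add_mul_left_left 1
      rw [mul_one, add_comm] at h
      exact h
    have hdvd : ((u₁ : ℤ) ^ 2 + (u₂ : ℤ) ^ 2) ∣ (2 : ℤ) ^ a :=
      hcz.dvd_of_dvd_mul_right ⟨k, by rw [hdiv]; ring⟩
    have hdn : (u₁ ^ 2 + u₂ ^ 2) ∣ 2 ^ a := by exact_mod_cast hdvd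
    obtain ⟨j, -, hj⟩ := (Nat.dvd_prime_pow Nat.prime_two).1 hdn
    have hmod : (u₁ ^ 2 + u₂ ^ 2) % 4 = 2 := by
      obtain ⟨v₁, rfl⟩ : Odd u₁ := Nat.odd_iff.2 (Nat.two_dvd_ne_zero.1 hu₁o)
      obtain ⟨v₂, rfl⟩ : Odd u₂ := Nat.odd_iff.2 (Nat.two_dvd_ne_zero.1 hu₂o)
      have : (2 * v₁ + 1) ^ 2 + (2 * v₂ + 1) ^ 2 = 4 * (v₁ ^ 2 + v₁ + v₂ ^ 2 + v₂) + 2 := by ring
      omega
    have hj1 : j = 1 := by
      match j, hj with
      | 0, hj => omega
      | 1, _ => rfl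
      | j + 2, hj =>
        rw [hj, pow_add] at hmod
        omega
    have h12 : u₁ ^ 2 + u₂ ^ 2 = 2 := by rw [hj, hj1, pow_one]
    have hone : ∀ u : ℕ, ¬ 2 ∣ u → u ^ 2 ≤ 2 → u = 1 := fun u ho hle => by
      have hlt : u < 2 := by
        by_contra hge
        have := Nat.pow_le_pow_left (not_lt.1 hge) 2
        omega
      omega
    rw [hr₁, hr₂, hu₁, hu₂, hone u₁ hu₁o (by omega), hone u₂ hu₂o (by omega)]
  have hval : ∀ g : G, ¬ 2 ∣ orderOf g → (χ₁ : G → ℂ) g = (χ₂ : G → ℂ) g := fun g hg => by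
    have h := hprop g hg
    rw [e₁, e₂, heq] at h
    exact (mul_right_cancel₀ (Nat.cast_ne_zero.2 (charDegree_pos χ₂).ne') h).symm
  refine ⟨hval, fun g hg => ?_⟩
  have h := orth 1 g h11 hg
  rw [e₁, e₂, heq, ← mul_add, mul_eq_zero] at h
  exact h.resolve_left (Nat.cast_ne_zero.2 (charDegree_pos χ₂).ne')

end CfsgLib.Blocks

namespace CfsgLib.Blocks

open Cfsg

variable {G : Type*} [Group G] [Fintype G] {p : ℕ} [Fact p.Prime] {M : Ideal AlgInt} [M.IsPrime]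
  (hM : IsPModular p M) {D H : Subgroup G} [Fintype H] {B : Set (IrrCharacter G)}
  (hH : H = Subgroup.normalizer (D : Set G)) (hBD : IsDefectGroup p M B D)
include hM hH hBD

theorem isDefectGroup_of_eq_normalizer {b : Set (IrrCharacter H)} (h : IsInducedBlock M H b B) :
    IsDefectGroup p M b (D.subgroupOf H) := by
  subst hH
  exact isDefectGroup_normalizer_of_induced hM (IsDefectGroup.isPGroup hBD) h hBD

theorem eq_of_induced_of_eq_normalizer {b b' : Set (IrrCharacter H)}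
    (h : IsInducedBlock M H b B) (h' : IsInducedBlock M H b' B) : b = b' := by
  subst hH
  exact eq_of_isInducedBlock_normalizer hM (IsDefectGroup.isPGroup hBD) h h'
    (isDefectGroup_normalizer_of_induced hM (IsDefectGroup.isPGroup hBD) h hBD)
    (isDefectGroup_normalizer_of_induced hM (IsDefectGroup.isPGroup hBD) h' hBD)

end CfsgLib.Blocks
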