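import Cfsg.Agent.Lib.Blocks.Covering
import Cfsg.Agent.Lib.Blocks.DefectNumber
import Cfsg.Agent.Lib.Blocks.Induced
import Cfsg.Agent.Lib.Char.CliffordCorr
import Cfsg.Agent.Lib.CharAction.RelativeGlauberman

/-!
# The Fong–Reynolds correspondence

`T` is the stabilizer of a block `b` of a normal subgroup. Induction is a bijection from the
characters of `T` over `b` to those of `G` over `b`, compatible with blocks.
-/

namespace CfsgLib.Blocks

open Cfsg CfsgLib.Char MonoidAlgebra

variable {G : Type*} [Group G] [Fintype G] (N : Subgroup G) [hN : N.Normal] [Fintype N]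
  {b : Set (IrrCharacter N)} {T : Subgroup G} [Fintype T] (hNT : N ≤ T)

/-- `ψ` has a constituent in `b`. -/
def LiesOver (b : Set (IrrCharacter N)) (hNT : N ≤ T) (ψ : IrrCharacter T) : Prop :=
  ∃ θ ∈ b, classInner (Clifford.resTo hNT (ψ : T → ℂ)) (θ : N → ℂ) ≠ 0

omit [Fintype G] [Fintype T] in
theorem conjIrr_eq_conjFn (g : G) (θ : IrrCharacter N) :
    (conjIrr N g θ : N → ℂ) = Clifford.conjFn hN (θ : N → ℂ) g :=
  funext fun n => conjIrr_apply N g θ n

/-- Classes of constituents in `T`. -/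
theorem exists_conj_of_resTo {ψ : IrrCharacter T} {θ φ : IrrCharacter N}
    (h : classInner (Clifford.resTo hNT (ψ : T → ℂ)) (θ : N → ℂ) ≠ 0) :
    classInner (Clifford.resTo hNT (ψ : T → ℂ)) (φ : N → ℂ) ≠ 0 ↔
      ∃ t ∈ T, φ = conjIrr N t θ := by
  classical
  let e : N.subgroupOf T ≃* N := Subgroup.subgroupOfEquivOfLe hNT
  have := Fintype.ofFinite (N.subgroupOf T)
  have hinner : ∀ η : IrrCharacter N,
      classInner (fun x : N.subgroupOf T => (ψ : T → ℂ) x) (fun x => (η : N → ℂ) (e x)) =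
        classInner (Clifford.resTo hNT (ψ : T → ℂ)) (η : N → ℂ) := fun η =>
    Clifford.classInner_comp_equiv e (Clifford.resTo hNT (ψ : T → ℂ)) (η : N → ℂ)
  have hirr : ∀ η : IrrCharacter N, IsIrrCharacter (N.subgroupOf T) fun x => (η : N → ℂ) (e x) :=
    fun η => IsIrr.comp_surjective e.toMonoidHom e.surjective η.2
  rw [← hinner φ, RelGlauberman.constituent_iff (hN.subgroupOf T) ψ.2 (hirr θ)
    (by rwa [hinner]) (hirr φ)]
  constructor
  · rintro ⟨t, ht⟩
    refine ⟨t, t.2, Subtype.ext (funext fun n => ?_)⟩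
    obtain ⟨x, rfl⟩ := e.surjective n
    rw [congrFun ht x, conjIrr_apply]
    rfl
  · rintro ⟨t, ht, rfl⟩
    refine ⟨⟨t, ht⟩, funext fun x => ?_⟩
    rw [conjIrr_apply]
    rfl

theorem classInner_resTo_conjIrr {ψ : IrrCharacter T} {θ : IrrCharacter N} {t : G} (ht : t ∈ T) :
    classInner (Clifford.resTo hNT (ψ : T → ℂ)) (conjIrr N t θ : N → ℂ) =
      classInner (Clifford.resTo hNT (ψ : T → ℂ)) (θ : N → ℂ) := by
  simp only [classInner]
  congr 1
  refine Fintype.sum_equiv (MulAut.conjNormal t).toEquiv _ _ fun n => ?_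
  simp only [MulEquiv.toEquiv_eq_coe, MulEquiv.coe_toEquiv, conjIrr, pullEquiv_apply, Clifford.resTo]
  congr 1
  rw [← IsIrr.isClassFunction ψ.2 ⟨n, hNT n.2⟩ ⟨t, ht⟩]
  exact congrArg (ψ : T → ℂ) (Subtype.ext (MulAut.conjNormal_apply t n).symm)

variable {M : Ideal AlgInt} [M.IsPrime] (hb : IsPBlock M b)
  (hT : ∀ g : G, g ∈ T ↔ ∀ θ ∈ b, conjIrr N g θ ∈ b)

section
include hb hT

omit [Fintype G] [Fintype T] in
theorem mem_stabilizer {g : G} {θ : IrrCharacter N} (hθ : θ ∈ b) (h : conjIrr N g θ ∈ b) :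
    g ∈ T := by
  refine (hT g).2 fun η hη => ?_
  rw [IsPBlock.eq_blockOf hb h, show conjIrr N g θ = pullEquiv (MulAut.conjNormal g) θ from rfl,
    ← image_pullEquiv_blockOf, ← IsPBlock.eq_blockOf hb hθ]
  exact ⟨η, hη, rfl⟩

omit [Fintype T] in
theorem image_conjIrr_eq {g : G} (hg : g ∈ T) : conjIrr N g '' b = b := by
  obtain ⟨θ, hθ⟩ := IsPBlock.nonempty hb
  conv_lhs => rw [IsPBlock.eq_blockOf hb hθ]
  rw [show (conjIrr N g : IrrCharacter N → _) = pullEquiv (MulAut.conjNormal g) from rfl,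
    image_pullEquiv_blockOf]
  exact (IsPBlock.eq_blockOf hb ((hT g).1 hg θ hθ)).symm

theorem mem_of_liesOver {ψ : IrrCharacter T} (h : LiesOver N b hNT ψ) {φ : IrrCharacter N}
    (hφ : classInner (Clifford.resTo hNT (ψ : T → ℂ)) (φ : N → ℂ) ≠ 0) : φ ∈ b := by
  obtain ⟨θ, hθ, hc⟩ := h
  obtain ⟨t, ht, rfl⟩ := (exists_conj_of_resTo N hNT hc).1 hφ
  exact (hT t).1 ht θ hθ

/-- A character of `T` over `b` induces irreducibly, and is the only one below its induced
character. -/
theorem indFun_of_liesOver {ψ : IrrCharacter T} (hψ : LiesOver N b hNT ψ) :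
    ∃ χ : IrrCharacter G, indFun T (ψ : T → ℂ) = (χ : G → ℂ) ∧
      (∀ φ : IrrCharacter T, LiesOver N b hNT φ →
        classInner (indFun T (φ : T → ℂ)) (χ : G → ℂ) ≠ 0 → φ = ψ) ∧
      ∃ θ ∈ b, classInner (fun n : N => (χ : G → ℂ) n) (θ : N → ℂ) ≠ 0 := by
  classical
  have := Fintype.ofFinite (IrrCharacter T)
  obtain ⟨θ, hθ, hc⟩ := id hψ
  obtain ⟨χ, hχ⟩ := Clifford.exists_constituent (isClassFunction_indFun T (ψ : T → ℂ)) fun h => by
    have h1 := congrFun h 1
    rw [indFun_apply_one, Pi.zero_apply, mul_eq_zero] at h1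
    exact h1.elim (fun e => Subgroup.index_ne_zero_of_finite (Nat.cast_eq_zero.mp e))
      (IsIrr.apply_one_ne_zero ψ.2)
  rw [frobenius_reciprocity T _ (IsIrr.isClassFunction χ.2), ← classInner_conj_symm, ne_eq,
    map_eq_zero] at hχ
  -- the multiplicities
  choose a ha using fun φ : IrrCharacter T => IsChar.classInner_eq_natCast
    (IsChar.restrict T (IsIrr.isCharacter χ.2)) (IsIrr.isCharacter φ.2)
  choose m hm using fun φ : IrrCharacter T => IsChar.classInner_eq_natCast
    (Clifford.isCharacter_resTo hNT (IsIrr.isCharacter φ.2)) (IsIrr.isCharacter θ.2)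
  obtain ⟨e, he⟩ := IsChar.classInner_eq_natCast
    (IsChar.restrict N (IsIrr.isCharacter χ.2)) (IsIrr.isCharacter θ.2)
  have hsum : e = ∑ φ : IrrCharacter T, a φ * m φ := by
    refine Nat.cast_injective (R := ℂ) ?_
    rw [← he, Clifford.classInner_resTo_restrict hNT (IsIrr.isCharacter χ.2)]
    push_cast
    exact Finset.sum_congr rfl fun φ _ => by rw [← ha, ← hm]
  have haψ : a ψ ≠ 0 := fun h0 => hχ (by rw [ha, h0, Nat.cast_zero])
  have hmψ : m ψ ≠ 0 := fun h0 => hc (by rw [hm, h0, Nat.cast_zero])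
  have hle : m ψ ≤ e := hsum ▸ le_trans (Nat.le_mul_of_pos_left _ (Nat.pos_of_ne_zero haψ))
    (Finset.single_le_sum (f := fun φ => a φ * m φ) (fun _ _ => Nat.zero_le _) (Finset.mem_univ ψ))
  have hne : classInner (fun n : N => (χ : G → ℂ) n) (θ : N → ℂ) ≠ 0 := by
    rw [he, Nat.cast_ne_zero]
    omega
  -- the degrees
  set I := Clifford.inertia hN (θ : N → ℂ) with hI
  have hIT : I ≤ T := fun g hg => by
    refine mem_stabilizer N hb hT hθ ?_
    rwa [show conjIrr N g θ = θ from Subtype.ext ((conjIrr_eq_conjFn N g θ).trans hg)]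
  have hdχ := Clifford.degree_eq hN θ.2 χ.2 hne
  rw [he, ← hI, ← Subgroup.relIndex_mul_index hIT, Nat.cast_mul] at hdχ
  have hdψ : (ψ : T → ℂ) 1 = (m ψ : ℂ) * (I.relIndex T : ℂ) * (θ : N → ℂ) 1 := by
    let eq := Subgroup.subgroupOfEquivOfLe hNT
    have := Fintype.ofFinite (N.subgroupOf T)
    have hirr : IsIrrCharacter (N.subgroupOf T) fun x => (θ : N → ℂ) (eq x) :=
      IsIrr.comp_surjective eq.toMonoidHom eq.surjective θ.2
    have hin : classInner (fun x : N.subgroupOf T => (ψ : T → ℂ) x) (fun x => (θ : N → ℂ) (eq x)) =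
        (m ψ : ℂ) := (Clifford.classInner_comp_equiv eq (Clifford.resTo hNT (ψ : T → ℂ))
          (θ : N → ℂ)).trans (hm ψ)
    have h := Clifford.degree_eq (hN.subgroupOf T) hirr ψ.2 (by rw [hin]; exact_mod_cast hmψ)
    have hinert : Clifford.inertia (hN.subgroupOf T) (fun x => (θ : N → ℂ) (eq x)) =
        I.subgroupOf T := by
      ext t
      rw [Clifford.mem_inertia, Subgroup.mem_subgroupOf, hI, Clifford.mem_inertia]
      constructor
      · intro h'
        funext n
        obtain ⟨x, rfl⟩ := eq.surjective n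
        exact congrFun h' x
      · intro h'
        funext x
        exact congrFun h' (eq x)
    rw [hin, hinert, map_one] at h
    exact h
  have hθ0 := IsIrr.apply_one_ne_zero θ.2
  have hdi : indFun T (ψ : T → ℂ) 1 = ((m ψ * (I.relIndex T * T.index) : ℕ) : ℂ) * (θ : N → ℂ) 1 := by
    rw [indFun_apply_one, hdψ]
    push_cast
    ring
  obtain ⟨dθ, -, hdθ⟩ := IsIrr.exists_degree θ.2
  have heq : indFun T (ψ : T → ℂ) = (χ : G → ℂ) := by
    refine Clifford.eq_irr_of_degree_le (isCharacter_indFun T (IsIrr.isCharacter ψ.2)) χ ?_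
      (c := m ψ * (I.relIndex T * T.index) * dθ) (c' := e * (I.relIndex T * T.index) * dθ) ?_ ?_ ?_
    · rw [frobenius_reciprocity T _ (IsIrr.isClassFunction χ.2), ← classInner_conj_symm]
      simpa using hχ
    · rw [hdi, hdθ]; push_cast; ring
    · rw [hdχ, hdθ]; push_cast; ring
    · gcongr
  have hem : e = m ψ := by
    have h1 := congrFun heq 1
    rw [hdi, hdχ, ← Nat.cast_mul, ← Nat.cast_mul] at h1
    have h2 : m ψ * (I.relIndex T * T.index) = e * (I.relIndex T * T.index) :=
      Nat.cast_injective (R := ℂ) (mul_right_cancel₀ hθ0 h1)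
    exact (Nat.eq_of_mul_eq_mul_right (Nat.pos_of_ne_zero (mul_ne_zero (Subgroup.index_ne_zero_of_finite (H := I.subgroupOf T))
      Subgroup.index_ne_zero_of_finite)) h2).symm
  refine ⟨χ, heq, fun φ hφ hφχ => ?_, θ, hθ, hne⟩
  by_contra hφψ
  obtain ⟨θ', hθ', hc'⟩ := hφ
  -- move the constituent of `φ` to `θ`
  have haφ : a φ ≠ 0 := by
    rw [frobenius_reciprocity T _ (IsIrr.isClassFunction χ.2), ← classInner_conj_symm, ha] at hφχ
    exact_mod_cast fun h0 => hφχ (by simp [h0])
  have hθ'χ : classInner (fun n : N => (χ : G → ℂ) n) (θ' : N → ℂ) ≠ 0 := by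
    rw [Clifford.classInner_resTo_restrict hNT (IsIrr.isCharacter χ.2)]
    choose m' hm' using fun ξ : IrrCharacter T => IsChar.classInner_eq_natCast
      (Clifford.isCharacter_resTo hNT (IsIrr.isCharacter ξ.2)) (IsIrr.isCharacter θ'.2)
    simp only [ha, hm']
    intro h0
    have h0' : ∑ ξ : IrrCharacter T, a ξ * m' ξ = 0 := by exact_mod_cast h0
    rcases mul_eq_zero.1 (Finset.sum_eq_zero_iff.1 h0' φ (Finset.mem_univ _)) with h | h
    · exact haφ h
    · exact hc' (by rw [hm', h, Nat.cast_zero])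
  obtain ⟨g, hg⟩ := (RelGlauberman.constituent_iff hN χ.2 θ.2 hne θ'.2).1 hθ'χ
  have hgT : g ∈ T := mem_stabilizer N hb hT hθ (by
    rwa [show conjIrr N g θ = θ' from Subtype.ext ((conjIrr_eq_conjFn N g θ).trans hg.symm)])
  have hmφ : m φ ≠ 0 := fun h0 => hc' (by
    rw [show θ' = conjIrr N g θ from Subtype.ext (hg.trans (conjIrr_eq_conjFn N g θ).symm),
      classInner_resTo_conjIrr N hNT hgT, hm, h0, Nat.cast_zero])
  have h2 := Finset.sum_le_sum_of_subset (Finset.subset_univ {ψ, φ})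
    (f := fun ξ : IrrCharacter T => a ξ * m ξ)
  rw [Finset.sum_pair (Ne.symm hφψ), ← hsum, hem] at h2
  have h3 : 0 < a φ * m φ := Nat.pos_of_ne_zero (mul_ne_zero haφ hmφ)
  have h4 : m ψ ≤ a ψ * m ψ := Nat.le_mul_of_pos_left _ (Nat.pos_of_ne_zero haψ)
  omega

/-- Every character over `b` is induced from one of `T` over `b`. -/
theorem exists_liesOver {χ : IrrCharacter G} {θ : IrrCharacter N} (hθ : θ ∈ b)
    (hne : classInner (fun n : N => (χ : G → ℂ) n) (θ : N → ℂ) ≠ 0) :
    ∃ ψ : IrrCharacter T, LiesOver N b hNT ψ ∧ (χ : G → ℂ) = indFun T (ψ : T → ℂ) := by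
  classical
  have := Fintype.ofFinite (IrrCharacter T)
  rw [Clifford.classInner_resTo_restrict hNT (IsIrr.isCharacter χ.2)] at hne
  obtain ⟨ψ, -, hψ⟩ := Finset.exists_ne_zero_of_sum_ne_zero hne
  have hlies : LiesOver N b hNT ψ := ⟨θ, hθ, right_ne_zero_of_mul hψ⟩
  obtain ⟨χ', hχ', -, -⟩ := indFun_of_liesOver N hNT hb hT hlies
  refine ⟨ψ, hlies, ?_⟩
  by_contra hne'
  have h : classInner (indFun T (ψ : T → ℂ)) (χ : G → ℂ) ≠ 0 := by
    rw [frobenius_reciprocity T _ (IsIrr.isClassFunction χ.2), ← classInner_conj_symm, ne_eq,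
      map_eq_zero]
    exact left_ne_zero_of_mul hψ
  rw [hχ'] at h
  exact h (classInner_irr_of_ne fun e => hne' (by rw [hχ', e]))

end

/-! ### The blocks -/

omit hN [Fintype N] in
theorem resElt_mapDomain (v : MonoidAlgebra (Res M) T) :
    resElt T (mapDomainRingHom (Res M) T.subtype v) = v := by
  ext t
  rw [coeff_resElt]
  exact Finsupp.mapDomain_apply T.subtype_injective _ t

omit hN [Fintype N] in
theorem resElt_mul_mapDomain (u : MonoidAlgebra (Res M) G) (v : MonoidAlgebra (Res M) T) :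
    resElt T (u * mapDomainRingHom (Res M) T.subtype v) = resElt T u * v := by
  classical
  ext t
  rw [coeff_resElt, coeff_mul_eq_sum, coeff_mul_eq_sum]
  symm
  refine Finset.sum_bij_ne_zero (fun x _ _ => (x : G)) (fun _ _ _ => Finset.mem_univ _)
    (fun _ _ _ _ _ _ h => Subtype.ext h) (fun y _ hy => ?_) fun x _ _ => ?_
  · have hyT : y⁻¹ * (t : G) ∈ T := by
      by_contra h
      refine right_ne_zero_of_mul hy (Finsupp.mapDomain_of_notMem_range _ _ ?_)
      rintro ⟨s, hs⟩
      exact h (hs ▸ s.2)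
    have hyT' : y ∈ T := by simpa using mul_mem t.2 (inv_mem hyT)
    refine ⟨⟨y, hyT'⟩, Finset.mem_univ _, ?_, rfl⟩
    rw [coeff_resElt]
    convert hy using 2
    exact (Finsupp.mapDomain_apply T.subtype_injective v.coeff (⟨y, hyT'⟩⁻¹ * t : T)).symm
  · rw [coeff_resElt]
    congr 1
    exact (Finsupp.mapDomain_apply T.subtype_injective _ (x⁻¹ * t : T)).symm

omit hN [Fintype N] in
/-- A conjugate of a block idempotent annihilates a different one. -/
theorem blockIdemBar_mul_eq_zero {K : Type*} [Group K] [Fintype K] {A B : Set (IrrCharacter K)}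
    (hA : IsPBlock M A) (hB : IsPBlock M B) (hne : A ≠ B) :
    blockIdemBar M A * blockIdemBar M B = 0 := by
  rw [blockIdemBar, blockIdemBar, ← map_mul, show blockIdemO M A * blockIdemO M B = 0 from
    inc_injective ?_, map_zero]
  rw [map_mul, inc_blockIdemO hA, inc_blockIdemO hB, blockIdem_mul, map_zero,
    show A ∩ B = ∅ from Set.eq_empty_iff_forall_notMem.2 fun χ hχ =>
      hne (IsPBlock.eq_of_mem hA hB hχ.1 hχ.2)]
  ext g
  simp [coeff_blockIdem, blockCoeff]

section
include hb hT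

/-- The idempotent of `b`, in the group algebra of its stabilizer. -/
theorem exists_stableIdem :
    ∃ eT : MonoidAlgebra (Res M) T, IsCentralElt eT ∧
      (∀ (ψ : IrrCharacter T) (θ : IrrCharacter N),
        classInner (Clifford.resTo hNT (ψ : T → ℂ)) (θ : N → ℂ) ≠ 0 →
          ((θ ∈ b → omegaBar ψ eT = 1) ∧ (θ ∉ b → omegaBar ψ eT = 0))) ∧
      mapDomainRingHom (Res M) T.subtype eT =
        mapDomainRingHom (Res M) N.subtype (blockIdemBar M b) := by
  classical
  have hcentral : IsCentralElt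
      (mapDomainRingHom (Res M) (Subgroup.inclusion hNT) (blockIdemBar M b)) := by
    intro x y
    by_cases hx : (x : G) ∈ N
    · have hy : ((y * x * y⁻¹ : T) : G) ∈ N := hN.conj_mem _ hx y
      show (Finsupp.mapDomain _ _) (Subgroup.inclusion hNT ⟨_, hy⟩) =
        (Finsupp.mapDomain _ _) (Subgroup.inclusion hNT ⟨_, hx⟩)
      rw [Finsupp.mapDomain_apply (Subgroup.inclusion_injective hNT),
        Finsupp.mapDomain_apply (Subgroup.inclusion_injective hNT)]
      have h := coeff_blockIdemBar_pullEquiv (MulAut.conjNormal (H := N) (y : G)) hb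
        (by rw [show (pullEquiv (MulAut.conjNormal (H := N) (y : G)) '' b) = b from
          image_conjIrr_eq N hb hT y.2]; exact hb) ⟨_, hx⟩
      rw [show pullEquiv (MulAut.conjNormal (H := N) (y : G)) '' b = b from
        image_conjIrr_eq N hb hT y.2] at h
      rw [h]
      exact congrArg _ (Subtype.ext (by rw [MulAut.conjNormal_apply (H := N)]; rfl))
    · show (Finsupp.mapDomain _ _) _ = (Finsupp.mapDomain _ _) _
      rw [Finsupp.mapDomain_of_notMem_range _ _, Finsupp.mapDomain_of_notMem_range _ _]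
      · rintro ⟨n, rfl⟩; exact hx n.2
      · rintro ⟨n, hn⟩
        refine hx ?_
        have h := hN.conj_mem _ (n.2) (y : G)⁻¹
        rw [show (n : G) = y * x * (y : G)⁻¹ from congrArg Subtype.val hn] at h
        simpa [mul_assoc] using h
  refine ⟨mapDomainRingHom (Res M) (Subgroup.inclusion hNT) (blockIdemBar M b), hcentral, ?_, ?_⟩
  · intro ψ θ hc
    set eT := mapDomainRingHom (Res M) (Subgroup.inclusion hNT) (blockIdemBar M b)
    let eq := Subgroup.subgroupOfEquivOfLe hNT
    have := Fintype.ofFinite (N.subgroupOf T)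
    have hc' : classInner (fun x : N.subgroupOf T => (ψ : T → ℂ) x)
        (pullEquiv eq θ : N.subgroupOf T → ℂ) ≠ 0 := by
      rwa [show (pullEquiv eq θ : N.subgroupOf T → ℂ) = fun x => (θ : N → ℂ) (eq x) from rfl,
        show classInner (fun x : N.subgroupOf T => (ψ : T → ℂ) x) _ = _ from
          Clifford.classInner_comp_equiv eq (Clifford.resTo hNT (ψ : T → ℂ)) (θ : N → ℂ)]
    have hb'' : IsPBlock M (pullEquiv eq '' b) := by
      obtain ⟨θ₀, hθ₀⟩ := IsPBlock.nonempty hb
      rw [IsPBlock.eq_blockOf hb hθ₀, image_pullEquiv_blockOf]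
      exact isPBlock_blockOf _
    have hres : resElt (N.subgroupOf T) eT = blockIdemBar M (pullEquiv eq '' b) := by
      ext x
      rw [coeff_resElt, coeff_blockIdemBar_pullEquiv eq hb hb'' x]
      exact Finsupp.mapDomain_apply (Subgroup.inclusion_injective hNT) _ (eq x)
    rw [omegaBar_eq_omegaBar_resElt (N.subgroupOf T) hc' hcentral ?_, hres,
      omegaBar_blockIdemBar hb'']
    · exact ⟨fun hθ => if_pos ⟨θ, hθ, rfl⟩, fun hθ => if_neg fun ⟨η, hη, he⟩ =>
        hθ ((pullEquiv eq).injective he ▸ hη)⟩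
    intro g hg
    refine Finsupp.mapDomain_of_notMem_range _ _ ?_
    rintro ⟨n, rfl⟩
    exact hg n.2
  · rw [← RingHom.comp_apply, ← mapDomainRingHom_comp]
    rfl

/-- Central elements of `k[T]` extend to `k[G]` up to a part killed by the idempotent of `b`. -/
theorem exists_central_extension {c : MonoidAlgebra (Res M) T} (hc : IsCentralElt c) :
    ∃ A : MonoidAlgebra (Res M) G, IsCentralElt A ∧
      ∀ ψ : IrrCharacter T, LiesOver N b hNT ψ → omegaBar ψ (resElt T A) = omegaBar ψ c := by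
  classical
  obtain ⟨eT, heT, hω, hmap⟩ := exists_stableIdem N hNT hb hT
  set ι := mapDomainRingHom (Res M) T.subtype
  let conjA : G → MonoidAlgebra (Res M) G →+* MonoidAlgebra (Res M) G := fun x =>
    mapDomainRingHom (Res M) (MulAut.conj x).toMonoidHom
  set a := ι (c * eT) with ha
  have hwd : ∀ x : G, ∀ t ∈ T, conjA (x * t) a = conjA x a := by
    intro x t ht
    have h1 : conjA (x * t) a = conjA x (conjA t a) := by
      show mapDomainRingHom (Res M) (MulAut.conj (x * t)).toMonoidHom a = _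
      rw [show (MulAut.conj (x * t)).toMonoidHom =
        (MulAut.conj x).toMonoidHom.comp (MulAut.conj t).toMonoidHom from by
          ext g; simp [mul_assoc], mapDomainRingHom_comp]
      rfl
    rw [h1]
    congr 1
    rw [ha]
    show (mapDomainRingHom (Res M) (MulAut.conj t).toMonoidHom).comp ι (c * eT) = _
    rw [← mapDomainRingHom_comp, show (MulAut.conj t).toMonoidHom.comp T.subtype =
      T.subtype.comp (MulAut.conj (⟨t, ht⟩ : T)).toMonoidHom from by ext g; simp,
      mapDomainRingHom_comp, RingHom.comp_apply]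
    congr 1
    ext s
    rw [show s = (MulAut.conj (⟨t, ht⟩ : T)) ((⟨t, ht⟩ : T)⁻¹ * s * ⟨t, ht⟩) by simp [mul_assoc]]
    show (Finsupp.mapDomain _ _) _ = _
    refine (Finsupp.mapDomain_apply (MulAut.conj _).injective _ _).trans ?_
    rw [MulAut.conj_apply, (hc.mul heT)]
  have := Fintype.ofFinite (G ⧸ T)
  set A := ∑ q : G ⧸ T, conjA q.out a with hA
  have hAc : IsCentralElt A := by
    intro g h
    have hinv : conjA h A = A := by
      rw [hA, map_sum]
      refine Fintype.sum_equiv (MulAction.toPerm h) _ _ fun q => ?_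
      obtain ⟨t, ht⟩ := QuotientGroup.mk_out_eq_mul T (h * q.out)
      have hq : (MulAction.toPerm h) q = ((h * q.out : G) : G ⧸ T) := by
        conv_lhs => rw [← q.out_eq']
        rfl
      rw [hq, ht, hwd _ _ t.2]
      show _ = mapDomainRingHom (Res M) _ a
      rw [show (MulAut.conj (h * q.out)).toMonoidHom =
        (MulAut.conj h).toMonoidHom.comp (MulAut.conj q.out).toMonoidHom from by
          ext g; simp [mul_assoc], mapDomainRingHom_comp]
      rfl
    conv_lhs => rw [← hinv]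
    show (Finsupp.mapDomain _ _) (MulAut.conj h g) = _
    exact Finsupp.mapDomain_apply (MulAut.conj h).injective _ g
  refine ⟨A, hAc, fun ψ hψ => ?_⟩
  · have h1 : conjA ((((1 : G) : G ⧸ T)).out) a = a := by
      have hmem : (((1 : G) : G ⧸ T)).out ∈ T := by
        obtain ⟨t, ht⟩ := QuotientGroup.mk_out_eq_mul T (1 : G)
        rw [ht, one_mul]; exact t.2
      have := hwd 1 _ hmem
      rw [one_mul] at this
      rw [this]
      show mapDomainRingHom (Res M) (MulAut.conj (1 : G)).toMonoidHom a = a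
      rw [map_one]
      ext g
      exact Finsupp.mapDomain_apply Function.injective_id _ g
    set R := resElt T (∑ q ∈ Finset.univ.erase (((1 : G) : G ⧸ T)), conjA q.out a) with hR
    have hsplit : resElt T A = c * eT + R := by
      rw [hA, ← Finset.add_sum_erase _ _ (Finset.mem_univ (((1 : G) : G ⧸ T))), h1, hR]
      ext t
      simp only [coeff_resElt, coeff_add, Finsupp.coe_add, Pi.add_apply]
      rw [← coeff_resElt T a, ha, resElt_mapDomain]
    have hRc : IsCentralElt R := by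
      have := (isCentralElt_resElt T hAc).sub (hc.mul heT)
      rwa [hsplit, add_sub_cancel_left] at this
    have hkill : R * eT = 0 := by
      rw [hR, ← resElt_mul_mapDomain, Finset.sum_mul]
      suffices h : ∀ q ∈ Finset.univ.erase (((1 : G) : G ⧸ T)), conjA q.out a * ι eT = 0 by
        rw [Finset.sum_eq_zero h]
        ext t; simp
      intro q hq
      have hqT : q.out ∉ T := fun h => Finset.ne_of_mem_erase hq (by
        rw [← q.out_eq']; exact QuotientGroup.eq.2 (by simpa using h))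
      rw [ha, map_mul, map_mul, mul_assoc]
      suffices h : conjA q.out (ι eT) * ι eT = 0 by rw [h, mul_zero]
      rw [hmap]
      show mapDomainRingHom (Res M) (MulAut.conj q.out).toMonoidHom
        (mapDomainRingHom (Res M) N.subtype (blockIdemBar M b)) *
          mapDomainRingHom (Res M) N.subtype (blockIdemBar M b) = 0
      rw [← RingHom.comp_apply, ← mapDomainRingHom_comp,
        show (MulAut.conj q.out).toMonoidHom.comp N.subtype =
          N.subtype.comp (MulAut.conjNormal (H := N) q.out).toMonoidHom from by ext n; simp,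
        mapDomainRingHom_comp, RingHom.comp_apply, ← map_mul]
      obtain ⟨θ, hθ⟩ := IsPBlock.nonempty hb
      have hb' : IsPBlock M (conjIrr N q.out⁻¹ '' b) := by
        rw [IsPBlock.eq_blockOf hb hθ, show (conjIrr N q.out⁻¹ : IrrCharacter N → _) =
          pullEquiv (MulAut.conjNormal q.out⁻¹) from rfl, image_pullEquiv_blockOf]
        exact isPBlock_blockOf _
      have heq : mapDomainRingHom (Res M) (MulAut.conjNormal (H := N) q.out).toMonoidHom
          (blockIdemBar M b) = blockIdemBar M (conjIrr N q.out⁻¹ '' b) := by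
        ext n
        rw [show (conjIrr N q.out⁻¹ : IrrCharacter N → _) =
          pullEquiv (MulAut.conjNormal q.out⁻¹) from rfl, coeff_blockIdemBar_pullEquiv _ hb hb']
        conv_lhs => rw [show n = MulAut.conjNormal (H := N) q.out
          (MulAut.conjNormal q.out⁻¹ n) from Subtype.ext (by simp [mul_assoc])]
        exact Finsupp.mapDomain_apply (MulAut.conjNormal (H := N) q.out).injective _ _
      rw [heq, blockIdemBar_mul_eq_zero hb' hb, map_zero]
      intro hcon
      refine hqT (inv_mem_iff.1 (mem_stabilizer N hb hT hθ (g := q.out⁻¹) ?_))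
      exact hcon ▸ Set.mem_image_of_mem _ hθ
    obtain ⟨θ₁, hθ₁, hc₁⟩ := hψ
    have hω1 := (hω ψ θ₁ hc₁).1 hθ₁
    rw [hsplit, omegaBar_add, omegaBar_mul ψ hc heT, hω1, mul_one]
    have hR0 : omegaBar ψ R = 0 := by
      rw [← mul_one (omegaBar ψ R), ← hω1, ← omegaBar_mul ψ hRc heT, hkill, omegaBar_zero]
    rw [hR0, add_zero]

/-- The members of a block of `T` over `b` all lie over `b`. -/
theorem liesOver_of_mem {B' : Set (IrrCharacter T)} (hB' : IsPBlock M B') {ψ₀ : IrrCharacter T}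
    (hψ₀ : ψ₀ ∈ B') (h₀ : LiesOver N b hNT ψ₀) {ψ : IrrCharacter T} (hψ : ψ ∈ B') :
    LiesOver N b hNT ψ := by
  obtain ⟨eT, -, hω, -⟩ := exists_stableIdem N hNT hb hT
  obtain ⟨θ₀, hθ₀, hc₀⟩ := h₀
  have h1 : omegaBar ψ eT = 1 := by
    rw [omegaBar_congr (IsPBlock.sameBlock hB' hψ hψ₀), (hω ψ₀ θ₀ hc₀).1 hθ₀]
  obtain ⟨θ, hθ⟩ := Clifford.exists_constituent (G := N)
    (Φ := Clifford.resTo hNT (ψ : T → ℂ))
    (IsChar.isClassFunction (Clifford.isCharacter_resTo hNT (IsIrr.isCharacter ψ.2)))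
    fun h => IsIrr.apply_one_ne_zero ψ.2 (congrFun h 1)
  refine ⟨θ, ?_, hθ⟩
  by_contra hθb
  exact one_ne_zero (h1.symm.trans ((hω ψ θ hθ).2 hθb))

omit hb hT in
theorem omega_indFun {ψ : IrrCharacter T} {χ : IrrCharacter G}
    (h : indFun T (ψ : T → ℂ) = (χ : G → ℂ)) {a : MonoidAlgebra ℂ G} (ha : IsCentralElt a) :
    omega (χ : G → ℂ) a = omega (ψ : T → ℂ) (resElt T a) := by
  rw [omega_apply, omega_apply, ← h, indFun_apply_one]
  have key : ∑ g : G, a.coeff g * indFun T (ψ : T → ℂ) g =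
      (T.index : ℂ) * ∑ t : T, (resElt T a).coeff t * (ψ : T → ℂ) t := by
    have h1 : ∀ y : G, ∑ g : G, a.coeff g * extendByZero T (ψ : T → ℂ) (y⁻¹ * g * y) =
        ∑ t : T, (resElt T a).coeff t * (ψ : T → ℂ) t := fun y => by
      rw [Finset.sum_congr rfl (g := fun t : T => (ψ : T → ℂ) t * a.coeff (t : G))
        fun t _ => by rw [coeff_resElt, mul_comm], ← sum_extendByZero_mul T (ψ : T → ℂ) a.coeff]
      refine Fintype.sum_equiv (MulAut.conj y⁻¹).toEquiv _ _ fun g => ?_
      simp only [MulEquiv.toEquiv_eq_coe, MulEquiv.coe_toEquiv, MulAut.conj_apply, inv_inv]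
      rw [show a.coeff (y⁻¹ * g * y) = a.coeff g by simpa using ha g y⁻¹, mul_comm]
    calc ∑ g : G, a.coeff g * indFun T (ψ : T → ℂ) g
        = (Nat.card T : ℂ)⁻¹ * ∑ y : G, ∑ g : G,
            a.coeff g * extendByZero T (ψ : T → ℂ) (y⁻¹ * g * y) := by
          rw [Finset.sum_comm, Finset.mul_sum]
          refine Finset.sum_congr rfl fun g _ => ?_
          rw [indFun, Finset.mul_sum, Finset.mul_sum, Finset.mul_sum]
          exact Finset.sum_congr rfl fun y _ => by ring
      _ = _ := by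
          rw [Finset.sum_congr rfl fun y _ => h1 y, Finset.sum_const, Finset.card_univ,
            ← Nat.card_eq_fintype_card, nsmul_eq_mul, ← mul_assoc, ← T.card_mul_index, Nat.cast_mul,
            inv_mul_cancel_left₀ (Nat.cast_ne_zero.2 Nat.card_pos.ne')]
  rw [key, mul_div_mul_left _ _ (Nat.cast_ne_zero.2 Subgroup.index_ne_zero_of_finite)]

omit hb hT in
theorem omegaBar_indFun {ψ : IrrCharacter T} {χ : IrrCharacter G}
    (h : indFun T (ψ : T → ℂ) = (χ : G → ℂ)) {a : MonoidAlgebra (Res M) G} (ha : IsCentralElt a) :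
    omegaBar ψ (resElt T a) = omegaBar χ a := by
  obtain ⟨a', ha', rfl⟩ := exists_central_lift ha
  rw [show resElt T (red M a') = red M (resElt T a') from by ext t; simp,
    omegaBar_red ψ (isCentralElt_resElt T ha'), omegaBar_red χ ha']
  congr 1
  refine Subtype.ext ?_
  show omega (ψ : T → ℂ) (inc M (resElt T a')) = omega (χ : G → ℂ) (inc M a')
  rw [omega_indFun h (isCentralElt_inc ha'),
    show resElt T (inc M a') = inc M (resElt T a') from by ext t; simp]

omit hb hT in
/-- The induced block. -/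
theorem isInducedBlock_of_liesOver {ψ : IrrCharacter T} {χ : IrrCharacter G}
    (h : indFun T (ψ : T → ℂ) = (χ : G → ℂ)) :
    IsInducedBlock M T (blockOf M (ψ : T → ℂ)) (blockOf M (χ : G → ℂ)) :=
  isInducedBlock_of_rep (isPBlock_blockOf ψ) (isPBlock_blockOf χ) (mem_blockOf_self ψ)
    (mem_blockOf_self χ) fun _ ha => omegaBar_indFun h ha

/-- Induction of blocks over `b` is injective. -/
theorem eq_of_isInducedBlock {B₁ B₂ : Set (IrrCharacter T)} {B : Set (IrrCharacter G)}
    {ψ₁ ψ₂ : IrrCharacter T} (hψ₁ : ψ₁ ∈ B₁) (hψ₂ : ψ₂ ∈ B₂) (h₁ : LiesOver N b hNT ψ₁)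
    (h₂ : LiesOver N b hNT ψ₂) (hi₁ : IsInducedBlock M T B₁ B) (hi₂ : IsInducedBlock M T B₂ B) :
    B₁ = B₂ := by
  obtain ⟨hB₁, hB, e₁⟩ := isInducedBlock_iff.1 hi₁
  obtain ⟨hB₂, -, e₂⟩ := isInducedBlock_iff.1 hi₂
  obtain ⟨χ, hχ⟩ := IsPBlock.nonempty hB
  refine IsPBlock.eq_of_mem hB₁ hB₂ hψ₁ ?_
  rw [IsPBlock.eq_blockOf hB₂ hψ₂]
  refine sameBlock_of_omegaBar_eq fun c hc => ?_
  obtain ⟨A, hA, hAω⟩ := exists_central_extension N hNT hb hT hc
  rw [← hAω ψ₂ h₂, ← hAω ψ₁ h₁, e₂ ψ₂ hψ₂ χ hχ A hA, e₁ ψ₁ hψ₁ χ hχ A hA]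

/-- The members of a block over `b`. -/
theorem exists_liesOver_of_mem {B : Set (IrrCharacter G)} (hB : IsPBlock M B) {χ₀ : IrrCharacter G}
    (hχ₀ : χ₀ ∈ B) {θ₀ : IrrCharacter N} (hθ₀ : θ₀ ∈ b)
    (h₀ : classInner (fun n : N => (χ₀ : G → ℂ) n) (θ₀ : N → ℂ) ≠ 0) {χ : IrrCharacter G}
    (hχ : χ ∈ B) : ∃ ψ : IrrCharacter T, LiesOver N b hNT ψ ∧
      indFun T (ψ : T → ℂ) = (χ : G → ℂ) ∧ IsInducedBlock M T (blockOf M (ψ : T → ℂ)) B := by
  obtain ⟨θ, hθ⟩ := exists_constituent N χ
  obtain ⟨g, hg⟩ := exists_conj_of_sameBlock N (IsPBlock.sameBlock hB hχ₀ hχ) h₀ hθ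
  have hmem : conjIrr N g⁻¹ θ ∈ b := by
    have h := Set.mem_image_of_mem (conjIrr N g⁻¹) hg
    rw [show (conjIrr N g⁻¹ : IrrCharacter N → _) = pullEquiv (MulAut.conjNormal g⁻¹) from rfl,
      image_pullEquiv_blockOf, show pullEquiv (MulAut.conjNormal g⁻¹) (conjIrr N g θ₀) = θ₀ from
        Subtype.ext (funext fun n => by
          rw [pullEquiv_apply, conjIrr, pullEquiv_apply, ← MulAut.mul_apply, ← map_mul,
            mul_inv_cancel, map_one]
          rfl), ← IsPBlock.eq_blockOf hb hθ₀] at h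
    exact h
  obtain ⟨ψ, hψ, hψχ⟩ := exists_liesOver N hNT hb hT hmem
    (χ := χ) (by rw [classInner_conjIrr]; exact hθ)
  refine ⟨ψ, hψ, hψχ.symm, ?_⟩
  rw [IsPBlock.eq_blockOf hB hχ]
  exact isInducedBlock_of_liesOver hψχ.symm

end

end CfsgLib.Blocks
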