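import Cfsg.Agent.Lib.Blocks.PrincipalType
import Cfsg.Agent.Lib.Blocks.FongReynolds
import Cfsg.Agent.Lib.Char.Gallagher
import Cfsg.Agent.Lib.Char.AbelianInertia
import Cfsg.Agent.S0887

/-!
# Fong's bound on heights in `p`-solvable groups

The height of a character is at most the exponent of `p` in the index of the centre of a defect
group: reduce to an invariant character of `O_{p'}(G)`, where the centre of a Sylow subgroup lies
in a normal subgroup `A` with `A / O_{p'}(G)` abelian.
-/

namespace CfsgLib.Blocks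

open Cfsg CfsgLib.Char CfsgLib.Fusion

/-- The index of the centre is invariant under isomorphisms. -/
theorem index_center_congr {A B : Type*} [Group A] [Group B] [Finite A] (e : A ≃* B) :
    (Subgroup.center A).index = (Subgroup.center B).index := by
  have := Finite.of_equiv A e.toEquiv
  have h1 := (Subgroup.center A).index_mul_card
  have h2 := (Subgroup.center B).index_mul_card
  rw [← Nat.card_congr e.toEquiv, ← Nat.card_congr (Subgroup.centerCongr e).toEquiv, ← h1] at h2
  exact (Nat.eq_of_mul_eq_mul_right Nat.card_pos h2).symm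

/-- Constituents of restrictions compose. -/
theorem constituent_trans {G : Type*} [Group G] [Fintype G] {A N : Subgroup G} [Fintype A]
    [Fintype N] (hNA : N ≤ A) {χ : IrrCharacter G} {η : IrrCharacter A} {φ : IrrCharacter N}
    (h : classInner (fun a : A => (χ : G → ℂ) a) (η : A → ℂ) ≠ 0)
    (h' : classInner (fun n : N => (η : A → ℂ) ⟨n, hNA n.2⟩) (φ : N → ℂ) ≠ 0) :
    classInner (fun n : N => (χ : G → ℂ) n) (φ : N → ℂ) ≠ 0 := by
  classical
  have := Fintype.ofFinite (IrrCharacter A)
  obtain ⟨m, hm⟩ := IsChar.exists_sum (IsChar.restrict A (IsIrr.isCharacter χ.2))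
  have hmη : (m η : ℂ) ≠ 0 := by
    rwa [show (fun a : A => (χ : G → ℂ) a) = ∑ ψ, (m ψ : ℂ) • (ψ : A → ℂ) from hm,
      classInner_sum_irr] at h
  have hk : ∀ ψ : IrrCharacter A, ∃ k : ℕ,
      classInner (fun n : N => (ψ : A → ℂ) ⟨n, hNA n.2⟩) (φ : N → ℂ) = k := fun ψ =>
    IsChar.classInner_eq_natCast (Clifford.isCharacter_resTo hNA (IsIrr.isCharacter ψ.2))
      (IsIrr.isCharacter φ.2)
  choose k hk using hk
  have e : (fun n : N => (χ : G → ℂ) n) =
      ∑ ψ, (m ψ : ℂ) • fun n : N => (ψ : A → ℂ) ⟨n, hNA n.2⟩ := funext fun n => by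
    simpa [Finset.sum_apply] using congrFun hm ⟨n, hNA n.2⟩
  rw [e, classInner_sum_left]
  simp only [classInner_smul_left, hk, ← Nat.cast_mul, ← Nat.cast_sum, ne_eq, Nat.cast_eq_zero]
  intro h0
  rw [hk, Nat.cast_ne_zero] at h'
  exact mul_ne_zero (Nat.cast_ne_zero.1 hmη) h'
    (Finset.sum_eq_zero_iff.1 h0 η (Finset.mem_univ _))

section Invariant

variable {G : Type*} [Group G] [Fintype G] {p : ℕ} [Fact p.Prime]

/-- Over an invariant character of `O_{p'}(G)` the degrees are bounded by the centre of a Sylow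
subgroup. -/
theorem factorization_le_of_invariant (hsolv : IsPSolvable p G) {N : Subgroup G} [N.Normal]
    [Fintype N] (hNdef : N = pPrimeCore p G) {θ : IrrCharacter N}
    (hinv : ∀ g : G, conjIrr N g θ = θ) {χ : IrrCharacter G}
    (hχ : classInner (fun n : N => (χ : G → ℂ) n) (θ : N → ℂ) ≠ 0) (S : Sylow p G) :
    (charDegree (χ : G → ℂ)).factorization p ≤
      ((Subgroup.center (S : Subgroup G)).index).factorization p := by
  classical
  have hp : p.Prime := Fact.out
  set π := QuotientGroup.mk' N with hπ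
  set H := pPrimePCore p G with hH
  set A : Subgroup G := H ⊓ (Subgroup.centralizer ((H.map π : Subgroup (G ⧸ N)) : Set (G ⧸ N))).comap π
    with hA
  have : (H.map π).Normal := Subgroup.Normal.map inferInstance _ (QuotientGroup.mk'_surjective N)
  have : A.Normal := inferInstance
  have hNH : N ≤ H := hNdef ▸ PLocal.pPrimeCore_le_pPrimePCore
  have hNA : N ≤ A := by
    refine le_inf hNH fun n hn => ?_
    rw [Subgroup.mem_comap, hπ, QuotientGroup.mk'_apply, (QuotientGroup.eq_one_iff n).2 hn]
    exact one_mem _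
  obtain ⟨k, hk⟩ : ∃ k, N.relIndex H = p ^ k := hNdef ▸ PLocal.relIndex_pPrimeCore_pPrimePCore
  obtain ⟨j, -, hj⟩ := (Nat.dvd_prime_pow hp).1
    (hk ▸ (⟨_, (Subgroup.relIndex_mul_relIndex N A H hNA inf_le_left).symm⟩ :
      N.relIndex A ∣ N.relIndex H))
  have hcop : (Nat.card N).Coprime p := hNdef ▸ CfsgLib.Core.coprime_card_pPrimeCore p G
  have := Fintype.ofFinite A
  obtain ⟨η₀, hη₀, -⟩ := FongInvariant.exists_invariant_extension hNA hj hcop θ hinv
  obtain ⟨η, hη⟩ := exists_constituent A χ
  -- every constituent of `χ` on `A` has the degree of `θ`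
  set NA := N.subgroupOf A with hNAdef
  let e := Subgroup.subgroupOfEquivOfLe hNA
  have := Fintype.ofFinite NA
  have hηdeg : (η : A → ℂ) 1 = (θ : N → ℂ) 1 := by
    have hres₀ : (fun x : NA => (η₀ : A → ℂ) x) = fun x => (θ : N → ℂ) (e x) :=
      funext fun x => hη₀ (e x)
    have hirr : IsIrrCharacter NA fun x : NA => (η₀ : A → ℂ) x := by
      rw [hres₀]
      exact IsIrr.comp_surjective e.toMonoidHom e.surjective θ.2
    have hc : classInner (fun x : NA => (η : A → ℂ) x) (fun x : NA => (η₀ : A → ℂ) x) ≠ 0 := by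
      rw [hres₀, show (fun x : NA => (η : A → ℂ) x) =
        fun x => (fun n : N => (η : A → ℂ) ⟨n, hNA n.2⟩) (e x) from rfl,
        Clifford.classInner_comp_equiv e (fun n : N => (η : A → ℂ) ⟨n, hNA n.2⟩) (θ : N → ℂ)]
      obtain ⟨φ, hφ⟩ := Clifford.exists_constituent (G := N)
        (Φ := fun n : N => (η : A → ℂ) ⟨n, hNA n.2⟩)
        (IsChar.isClassFunction (Clifford.isCharacter_resTo hNA (IsIrr.isCharacter η.2)))
        fun h0 => IsIrr.apply_one_ne_zero η.2 (congrFun h0 1)
      have hχφ : classInner (fun n : N => (χ : G → ℂ) n) (φ : N → ℂ) ≠ 0 :=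
        constituent_trans hNA hη hφ
      have h1 : (fun n : N => (χ : G → ℂ) n) =
          classInner (fun n : N => (χ : G → ℂ) n) (θ : N → ℂ) • (θ : N → ℂ) :=
        FongInvariant.restrict_eq_smul N hinv hχ
      obtain rfl : φ = θ := by
        by_contra hne
        rw [h1, classInner_smul_left, classInner_irr_of_ne (Ne.symm hne), mul_zero] at hχφ
        exact hχφ rfl
      exact hφ
    obtain ⟨β, hβ⟩ := Gallagher.exists_eq_twistBy (IsIrr.isCharacter η₀.2) hirr η hc
    have hab : ∀ x y : A ⧸ NA, x * y = y * x := by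
      intro x y
      induction x using QuotientGroup.induction_on with
      | H a =>
        induction y using QuotientGroup.induction_on with
        | H b =>
          rw [← QuotientGroup.mk_mul, ← QuotientGroup.mk_mul, QuotientGroup.eq,
            Subgroup.mem_subgroupOf, ← QuotientGroup.eq_one_iff]
          have h2 : π (a : G) * π (b : G) = π (b : G) * π (a : G) :=
            ((Subgroup.mem_centralizer_iff.1 (Subgroup.mem_inf.1 b.2).2) (π (a : G))
              (Subgroup.mem_map_of_mem _ (Subgroup.mem_inf.1 a.2).1))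
          show π ((a : G) * b)⁻¹ * π ((b : G) * a) = 1
          rw [map_inv, map_mul, map_mul, h2, inv_mul_cancel]
    have h3 := congrFun hβ 1
    rw [Gallagher.twistBy_apply, map_one, Clifford.apply_one_eq_one_of_commute hab β, one_mul] at h3
    rw [h3]
    exact hη₀ 1
  -- the centre of a Sylow subgroup lies in `A`
  set Z : Subgroup G := (Subgroup.center (S : Subgroup G)).map (S : Subgroup G).subtype with hZ
  have hZA : Z ≤ A := by
    have hcon := PLocal.isPConstrained_of_isPSolvable hsolv
    obtain ⟨Q⟩ : Nonempty (Sylow p H) := inferInstance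
    obtain ⟨S', hS'⟩ := (Q.2.map H.subtype).exists_le_sylow
    obtain ⟨g, hg⟩ := MulAction.exists_smul_eq G S' S
    have hQS : ((Q : Subgroup H).map H.subtype).map (MulAut.conj g).toMonoidHom ≤ (S : Subgroup G) := by
      rw [← hg]
      exact Subgroup.map_mono hS'
    have hconj : ∀ w ∈ Z, g⁻¹ * w * g ∈
        Subgroup.centralizer (((Q : Subgroup H).map H.subtype : Subgroup G) : Set G) := by
      rintro _ ⟨z, hz, rfl⟩
      refine Subgroup.mem_centralizer_iff.2 fun u hu => ?_
      have h4 := congrArg Subtype.val (Subgroup.mem_center_iff.1 hz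
        ⟨g * u * g⁻¹, hQS (Subgroup.mem_map_of_mem _ hu)⟩)
      simp only [Subgroup.coe_mul] at h4
      show u * (g⁻¹ * (z : G) * g) = g⁻¹ * (z : G) * g * u
      calc u * (g⁻¹ * (z : G) * g) = g⁻¹ * (g * u * g⁻¹ * z) * g := by group
        _ = g⁻¹ * ((z : G) * (g * u * g⁻¹)) * g := by rw [h4]
        _ = g⁻¹ * (z : G) * g * u := by group
    intro w hw
    have hcw := hconj w hw
    have hwH : w ∈ H := by
      have h5 := (inferInstance : H.Normal).conj_mem _ (hcon Q hcw) g
      simpa [mul_assoc] using h5
    refine ⟨hwH, ?_⟩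
    have hsup : (Q : Subgroup H).map H.subtype ⊔ N = H := hNdef ▸ PLocal.sylow_sup_pPrimeCore Q
    refine Subgroup.mem_comap.2 (Subgroup.mem_centralizer_iff.2 ?_)
    rintro _ ⟨h, hh, rfl⟩
    have h6 : g⁻¹ * h * g ∈ (Q : Subgroup H).map H.subtype ⊔ N := by
      rw [hsup]
      simpa using (inferInstance : H.Normal).conj_mem h hh g⁻¹
    obtain ⟨u, hu, n, hn, hun⟩ := Subgroup.mem_sup_of_normal_right.1 h6
    have h7 : π (g⁻¹ * w * g) * π u = π u * π (g⁻¹ * w * g) := by
      rw [← map_mul, ← map_mul, (Subgroup.mem_centralizer_iff.1 hcw u hu)]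
    have h8 : π (g⁻¹ * h * g) = π u := by
      rw [← hun, map_mul, hπ, QuotientGroup.mk'_apply N n, (QuotientGroup.eq_one_iff n).2 hn,
        mul_one]
    rw [← h8] at h7
    simp only [map_mul, map_inv] at h7 ⊢
    calc π h * π w = π g * (((π g)⁻¹ * π h * π g) * ((π g)⁻¹ * π w * π g)) * (π g)⁻¹ := by group
      _ = π g * (((π g)⁻¹ * π w * π g) * ((π g)⁻¹ * π h * π g)) * (π g)⁻¹ := by rw [h7]
      _ = π w * π h := by group
  -- conclusion
  have hθ1 : ¬ p ∣ charDegree (θ : N → ℂ) := fun h =>
    hp.ne_one (Nat.eq_one_of_dvd_coprimes hcop (h.trans (charDegree_dvd_card θ)) dvd_rfl)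
  obtain ⟨⟨r, hr⟩, hdiv⟩ := Cfsg.Agent.S0887.result A (χ : G → ℂ) χ.2 (η : A → ℂ) η.2 hη
    (charDegree (χ : G → ℂ)) (charDegree (θ : N → ℂ))
    (apply_one_eq_charDegree χ) (hηdeg.trans (apply_one_eq_charDegree θ))
  rw [hr, Nat.mul_div_cancel_left _ (charDegree_pos θ)] at hdiv
  have hr0 : r ≠ 0 := fun h => (charDegree_pos χ).ne' (by rw [hr, h, mul_zero])
  have h9 : r.factorization p ≤ A.index.factorization p :=
    (Nat.factorization_le_iff_dvd hr0 Subgroup.index_ne_zero_of_finite).2 hdiv p
  have h10 : (charDegree (χ : G → ℂ)).factorization p = r.factorization p := by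
    rw [hr, Nat.factorization_mul (charDegree_pos θ).ne' hr0, Finsupp.add_apply,
      Nat.factorization_eq_zero_of_not_dvd hθ1, zero_add]
  have hcardZ : Nat.card Z = Nat.card (Subgroup.center (S : Subgroup G)) :=
    Subgroup.card_map_of_injective (S : Subgroup G).subtype_injective
  have h11 : (Nat.card Z).factorization p ≤ (Nat.card A).factorization p :=
    (Nat.factorization_le_iff_dvd Nat.card_pos.ne' Nat.card_pos.ne').2
      (Subgroup.card_dvd_of_le hZA) p
  have hfac : ∀ {K : Type _} [Group K] [Finite K] (U : Subgroup K),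
      (Nat.card K).factorization p = U.index.factorization p + (Nat.card U).factorization p :=
    fun U => by rw [← U.index_mul_card,
      Nat.factorization_mul Subgroup.index_ne_zero_of_finite Nat.card_pos.ne', Finsupp.add_apply]
  have h12 := hfac A
  have h13 := hfac (Subgroup.center (S : Subgroup G))
  have h14 : (Nat.card (S : Subgroup G)).factorization p = (Nat.card G).factorization p := by
    rw [S.card_eq_multiplicity, Nat.factorization_pow_self hp]
  rw [hcardZ] at h11
  omega

end Invariant

universe u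

/-- Fong's bound, in additive form. -/
theorem factorization_le_center_aux {p : ℕ} [Fact p.Prime] {M : Ideal AlgInt} [M.IsPrime]
    (hM : IsPModular p M) : ∀ (n : ℕ) (G : Type u) [Group G] [Fintype G], Nat.card G = n →
    IsPSolvable p G → ∀ {B : Set (IrrCharacter G)}, IsPBlock M B → ∀ {P : Subgroup G},
    IsDefectGroup p M B P → ∀ {χ : IrrCharacter G}, χ ∈ B →
    (charDegree (χ : G → ℂ)).factorization p + (Nat.card P).factorization p ≤
      (Nat.card G).factorization p + ((Subgroup.center P).index).factorization p := by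
  intro n
  induction n using Nat.strong_induction_on with
  | _ n ih =>
    intro G _ _ hn hsolv B hB P hP χ hχ
    classical
    have hp : p.Prime := Fact.out
    let N := pPrimeCore p G
    have := Fintype.ofFinite N
    have hNp : ¬ p ∣ Nat.card N :=
      (Nat.Prime.coprime_iff_not_dvd hp).1 (CfsgLib.Core.coprime_card_pPrimeCore p G).symm
    obtain ⟨θ, hθ⟩ := exists_constituent N χ
    by_cases hinv : ∀ g : G, conjIrr N g θ = θ
    · obtain ⟨B', hB', hmem, χ₁, hχ₁, hd₁⟩ := FongInvariant.exists_block hM hsolv rfl θ hinv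
      obtain rfl : B' = B := IsPBlock.eq_of_mem hB' hB ((hmem χ).2 hθ) hχ
      obtain ⟨S, rfl⟩ := (FongInvariant.isDefectGroup_sylow hM hB hχ₁ hd₁).2 P hP
      rw [S.card_eq_multiplicity, Nat.factorization_pow_self hp]
      have := factorization_le_of_invariant hsolv rfl hinv hθ S
      omega
    · set T := Clifford.inertia (inferInstance : N.Normal) (θ : N → ℂ) with hTdef
      have hNT : N ≤ T := Clifford.le_inertia _ (IsIrr.isClassFunction θ.2)
      have hT' : ∀ g : G, g ∈ T ↔ conjIrr N g θ = θ := fun g => by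
        rw [hTdef, Clifford.mem_inertia, Subtype.ext_iff, conjIrr_eq_conjFn]
      have hT : ∀ g : G, g ∈ T ↔ ∀ φ ∈ ({θ} : Set (IrrCharacter N)),
          conjIrr N g φ ∈ ({θ} : Set (IrrCharacter N)) := fun g => by
        simp only [Set.mem_singleton_iff, forall_eq, hT']
      have hb : IsPBlock M ({θ} : Set (IrrCharacter N)) :=
        ⟨θ, (blockOf_eq_singleton_of_coprime hM hNp θ).symm⟩
      have hlt : Nat.card T < Nat.card G := by
        refine lt_of_le_of_ne (Nat.le_of_dvd Nat.card_pos T.card_subgroup_dvd_card) fun he => hinv ?_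
        intro g
        exact (hT' g).1 ((Subgroup.eq_top_of_card_eq T he).symm ▸ Subgroup.mem_top g)
      have := Fintype.ofFinite T
      obtain ⟨ψ, hψ, hind, hBi⟩ :=
        exists_liesOver_of_mem N hNT hb hT hB hχ (Set.mem_singleton θ) hθ hχ
      have hB' := isPBlock_blockOf (M := M) ψ
      obtain ⟨D', hD'⟩ := exists_isDefectGroup (p := p) hB'
      obtain ⟨E, hE, hDE⟩ := IsInducedBlock.defectGroup_le hM hBi hD'
      have hIH := ih (Nat.card T) (hn ▸ hlt) T rfl (PLocal.isPSolvable_subgroup hsolv T) hB' hD'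
        (mem_blockOf_self ψ)
      have hdeg : ∀ {φ : IrrCharacter T} {χ' : IrrCharacter G},
          indFun T (φ : T → ℂ) = (χ' : G → ℂ) →
          (charDegree (χ' : G → ℂ)).factorization p =
            T.index.factorization p + (charDegree (φ : T → ℂ)).factorization p := by
        intro φ χ' h
        have h1 : charDegree (χ' : G → ℂ) = T.index * charDegree (φ : T → ℂ) := by
          apply Nat.cast_injective (R := ℂ)
          rw [← apply_one_eq_charDegree χ', ← h, indFun_apply_one, Nat.cast_mul,
            ← apply_one_eq_charDegree φ]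
        rw [h1, Nat.factorization_mul Subgroup.index_ne_zero_of_finite (charDegree_pos φ).ne',
          Finsupp.add_apply]
      -- the defects agree
      have hGT := (Nat.factorization_mul (Subgroup.index_ne_zero_of_finite (H := T))
        (Nat.card_pos (α := T)).ne')
      rw [T.index_mul_card] at hGT
      have hGT' := DFunLike.congr_fun hGT p
      rw [Finsupp.add_apply] at hGT'
      obtain ⟨g, hg, hgle, hgs⟩ := isDefectGroup_iff.1 hE
      obtain ⟨g', hg', hgle', hgs'⟩ := isDefectGroup_iff.1 hD'
      obtain ⟨χ₁, hχ₁, hmin⟩ := IsDefectClass.exists_index_eq hM hB hg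
      obtain ⟨ψ₁, hψ₁, hind₁, hBi₁⟩ :=
        exists_liesOver_of_mem N hNT hb hT hB hχ (Set.mem_singleton θ) hθ hχ₁
      have hsame : blockOf M (ψ₁ : T → ℂ) = blockOf M (ψ : T → ℂ) :=
        eq_of_isInducedBlock N hNT hb hT (mem_blockOf_self ψ₁) (mem_blockOf_self ψ) hψ₁ hψ hBi₁ hBi
      have h1 := IsDefectClass.index_le hM hg' (hsame ▸ mem_blockOf_self ψ₁ :
        ψ₁ ∈ blockOf M (ψ : T → ℂ))
      have h2 := factorization_card_eq_index_add (p := p) hM (Subgroup.centralizer ({g} : Set G))
      have h3 := factorization_card_eq_index_add (p := p) hM (Subgroup.centralizer ({g'} : Set T))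
      have hcE := (isSylowIn_iff_card hgle).1 hgs
      have hcD := (isSylowIn_iff_card hgle').1 hgs'
      have hmap : Nat.card (D'.map T.subtype) = Nat.card D' :=
        Subgroup.card_map_of_injective T.subtype_injective
      have heq : D'.map T.subtype = E := by
        refine Subgroup.eq_of_le_of_card_ge hDE ?_
        rw [hmap, hcD, hcE]
        refine Nat.pow_le_pow_right hp.pos ?_
        have h4 := hdeg hind₁
        omega
      obtain ⟨x, hx⟩ := IsDefectGroup.exists_conj hM hB hE hP
      have ecc : D' ≃* P :=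
        ((D'.equivMapOfInjective T.subtype T.subtype_injective).trans
          (MulEquiv.subgroupCongr heq)).trans
          ((E.equivMapOfInjective _ (MulAut.conj x).injective).trans (MulEquiv.subgroupCongr hx))
      rw [← index_center_congr ecc, ← Nat.card_congr ecc.toEquiv, hdeg hind]
      omega

/-- **Fong**: in a `p`-solvable group the height is bounded by the centre of a defect group. -/
theorem blockHeight_le_center {G : Type u} [Group G] [Fintype G] {p : ℕ} [Fact p.Prime]
    {M : Ideal AlgInt} [M.IsPrime] (hM : IsPModular p M) (hsolv : IsPSolvable p G)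
    {B : Set (IrrCharacter G)} (hB : IsPBlock M B) {P : Subgroup G}
    (hP : IsDefectGroup p M B P) {χ : IrrCharacter G} (hχ : χ ∈ B) :
    blockHeight p B (χ : G → ℂ) ≤ ((Subgroup.center P).index).factorization p := by
  have h := factorization_le_center_aux hM (Nat.card G) G rfl hsolv hB hP hχ
  obtain ⟨g, hg, hle, hs⟩ := isDefectGroup_iff.1 hP
  have h1 := factorization_card_eq_index_add (p := p) hM (Subgroup.centralizer ({g} : Set G))
  have h2 : (Nat.card P).factorization p =
      (Nat.card (Subgroup.centralizer ({g} : Set G))).factorization p := by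
    rw [(isSylowIn_iff_card hle).1 hs, Nat.factorization_pow_self (Fact.out : p.Prime)]
  rw [blockHeight, sInf_degree_eq hM hB hg]
  omega

end CfsgLib.Blocks
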