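import Cfsg.Agent.Lib.Blocks.QuotientBlocks
import Cfsg.Agent.Lib.Pairs.Support
import Cfsg.Agent.Lib.Core.Coprime
import Cfsg.Agent.Lib.PGroups.Basic

/-!
# Blocks of the quotient by the derived subgroup of a normal `p`-subgroup
-/

namespace CfsgLib.Blocks

open Cfsg MonoidAlgebra

variable {G : Type*} [Group G] [Fintype G] {p : ℕ} [Fact p.Prime] {M : Ideal AlgInt} [M.IsPrime]
  (hM : IsPModular p M) (P : Subgroup G) [P.Normal] (hP : IsPGroup p P)

include hP in
/-- A `p`-regular translate of a `p`-regular element centralizing the `p`-subgroup is trivial. -/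
theorem eq_one_of_regular_mul_centralizer {g u : G} (hu : u ∈ P)
    (hgc : g ∈ Subgroup.centralizer (P : Set G)) (hg : ¬ p ∣ orderOf g)
    (hgu : ¬ p ∣ orderOf (g * u)) : u = 1 := by
  have hc : Commute g u := (Subgroup.mem_centralizer_iff.1 hgc u hu).symm
  obtain ⟨i, hi⟩ := IsPGroup.iff_orderOf.1 hP ⟨u, hu⟩
  rw [Subgroup.orderOf_mk] at hi
  rcases Nat.eq_zero_or_pos i with h0 | h0
  · exact orderOf_eq_one_iff.1 (by rw [hi, h0, pow_zero])
  refine absurd ?_ hgu
  rw [hc.orderOf_mul_eq_mul_orderOf_of_coprime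
    (by rw [hi]; exact ((((Nat.Prime.coprime_iff_not_dvd Fact.out).2 hg).pow_left i)).symm), hi]
  exact (dvd_pow_self p h0.ne').mul_left _

include hP in
theorem index_centralizer_mk_eq_of_centralizer {g : G}
    (hgc : g ∈ Subgroup.centralizer (P : Set G)) (hg : ¬ p ∣ orderOf g) :
    (Subgroup.centralizer ({(g : G ⧸ P)} : Set (G ⧸ P))).index =
      (Subgroup.centralizer ({g} : Set G)).index := by
  have hle : (Subgroup.centralizer ({(g : G ⧸ P)} : Set (G ⧸ P))).comap (QuotientGroup.mk' P) =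
      Subgroup.centralizer ({g} : Set G) := by
    ext x
    rw [Subgroup.mem_comap, Subgroup.mem_centralizer_singleton_iff,
      Subgroup.mem_centralizer_singleton_iff, QuotientGroup.mk'_apply, ← QuotientGroup.mk_mul,
      ← QuotientGroup.mk_mul]
    refine ⟨fun h => ?_, fun h => congrArg _ h⟩
    have hu : g⁻¹ * (x * g * x⁻¹) ∈ P := by
      rw [← QuotientGroup.eq_one_iff]
      have h' : (x : G ⧸ P) * (g : G ⧸ P) = (g : G ⧸ P) * (x : G ⧸ P) := by
        rw [← QuotientGroup.mk_mul, ← QuotientGroup.mk_mul]; exact h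
      simp only [QuotientGroup.mk_mul, QuotientGroup.mk_inv, h']
      group
    have h1 := eq_one_of_regular_mul_centralizer P hP hu hgc hg (by
      rw [mul_inv_cancel_left, show x * g * x⁻¹ = MulAut.conj x g from rfl, MulEquiv.orderOf_eq]
      exact hg)
    rw [inv_mul_eq_one, eq_mul_inv_iff_mul_eq] at h1
    exact h1.symm
  rw [← hle, Subgroup.index_comap_of_surjective _ (QuotientGroup.mk'_surjective P)]

include hM hP

/-- Block idempotents are concentrated on the centralizer of a normal `p`-subgroup. -/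
theorem coeff_blockIdemBar_eq_zero_of_notMem {B : Set (IrrCharacter G)} (hB : IsPBlock M B) {g : G}
    (hg : g ∉ Subgroup.centralizer (P : Set G)) : (blockIdemBar M B).coeff g = 0 := by
  classical
  set C := Subgroup.centralizer (P : Set G)
  have hCn : C.Normal := inferInstance
  set e := blockIdemBar M B
  have hec : IsCentralElt e := isCentralElt_blockIdemBar hB
  let b : MonoidAlgebra (Res M) G := CfsgLib.Pairs.inclElt C (CfsgLib.Pairs.resC P e)
  have hb : ∀ x, b.coeff x = if x ∈ C then e.coeff x else 0 := fun x => by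
    split_ifs with hx
    · exact (CfsgLib.Pairs.coeff_inclElt C _ ⟨x, hx⟩).trans (CfsgLib.Pairs.coeff_resC P e ⟨x, hx⟩)
    · exact CfsgLib.Pairs.coeff_inclElt_of_notMem C _ hx
  have hbc : IsCentralElt b := fun x y => by
    rw [hb, hb]
    exact if_congr ⟨fun h => by simpa [mul_assoc] using hCn.conj_mem _ h y⁻¹,
      fun h => hCn.conj_mem _ h y⟩ (hec x y) rfl
  have hbb : b * b = b := by
    have := charP_residueField hM
    show CfsgLib.Pairs.inclElt C _ * CfsgLib.Pairs.inclElt C _ = _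
    rw [← map_mul, ← CfsgLib.Pairs.resC_mul hP (CfsgLib.Pairs.InvUnder.of_isCentralElt _ hec)
      (CfsgLib.Pairs.InvUnder.of_isCentralElt _ hec), blockIdemBar_mul_self hB]
  have heq := CfsgLib.Pairs.eq_of_resC_eq hM hP hec hbc (blockIdemBar_mul_self hB) hbb
    (MonoidAlgebra.ext (Finsupp.ext fun x => by
      rw [CfsgLib.Pairs.coeff_resC, CfsgLib.Pairs.coeff_resC, hb, if_pos x.2]))
  rw [heq, hb, if_neg hg]

/-- Agreement of central characters on `p`-regular elements centralizing a normal `p`-subgroup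
gives equality of blocks. -/
theorem sameBlock_of_regular_centralizer {χ ψ : IrrCharacter G}
    (h : ∀ g : G, g ∈ Subgroup.centralizer (P : Set G) → ¬ p ∣ orderOf g →
      centralCharBar M χ g = centralCharBar M ψ g) : SameBlock M (χ : G → ℂ) (ψ : G → ℂ) := by
  classical
  have hB := isPBlock_blockOf (M := M) χ
  have h1 : omegaBar χ (blockIdemBar M (blockOf M (χ : G → ℂ))) =
      omegaBar ψ (blockIdemBar M (blockOf M (χ : G → ℂ))) := by
    unfold omegaBar
    refine Finset.sum_congr rfl fun C _ => ?_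
    by_cases hC : p ∣ orderOf (Quotient.out C)
    · rw [coeff_blockIdemBar_eq_zero_of_dvd hM hB hC, zero_mul, zero_mul]
    by_cases hCc : Quotient.out C ∈ Subgroup.centralizer (P : Set G)
    · rw [h _ hCc hC]
    · rw [coeff_blockIdemBar_eq_zero_of_notMem hM P hP hB hCc, zero_mul, zero_mul]
  rw [omegaBar_blockIdemBar hB, omegaBar_blockIdemBar hB, if_pos (mem_blockOf_self χ)] at h1
  by_contra hcon
  rw [if_neg (show ψ ∉ blockOf M (χ : G → ℂ) from hcon)] at h1
  exact one_ne_zero h1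

/-- Every block contains a character inflated from the quotient by a normal `p`-subgroup. -/
theorem exists_inflate_mem_of_normal_pGroup [Fintype (G ⧸ P)] {B : Set (IrrCharacter G)}
    (hB : IsPBlock M B) : ∃ χ : IrrCharacter (G ⧸ P), inflate P χ ∈ B := by
  classical
  have := Fintype.ofFinite P
  by_contra hcon
  push Not at hcon
  have h0 : avgElt P * blockIdem B = 0 := by
    refine eq_of_omega_eq ((isCentralElt_avgElt P).mul (isCentralElt_blockIdem B))
      IsCentralElt.zero fun η => ?_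
    rw [omega_mul η (isCentralElt_avgElt P), omega_blockIdem, map_zero]
    by_cases hη : η ∈ B
    · rw [if_pos hη, mul_one]
      refine (omega_avgElt_eq_or P η).resolve_right fun h1 => ?_
      obtain ⟨χ, hχ⟩ := exists_inflate_eq P η ((omega_avgElt_eq_one_iff P η).1 h1)
      exact hcon χ (hχ ▸ hη)
    · rw [if_neg hη, mul_zero]
  have hP0 : (Nat.card P : ℂ) ≠ 0 := Nat.cast_ne_zero.2 Nat.card_pos.ne'
  obtain ⟨η, hη⟩ := IsPBlock.nonempty hB
  have hz : blockIdemBar M B = 0 := by
    refine MonoidAlgebra.ext (Finsupp.ext fun g => ?_)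
    rw [coeff_zero, Finsupp.zero_apply]
    by_cases hg : p ∣ orderOf g
    · exact coeff_blockIdemBar_eq_zero_of_dvd hM hB hg
    by_cases hgc : g ∈ Subgroup.centralizer (P : Set G)
    swap
    · exact coeff_blockIdemBar_eq_zero_of_notMem hM P hP hB hgc
    have h2 := congrArg (fun a : MonoidAlgebra ℂ G => a.coeff g) h0
    simp only [coeff_mul_eq_sum, coeff_zero, Finsupp.zero_apply, coeff_blockIdem, avgElt,
      coeff_ofFun, ite_mul, zero_mul, ← Finset.sum_filter] at h2
    rw [Finset.sum_eq_single (1 : G)] at h2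
    · rw [inv_one, one_mul] at h2
      rw [coeff_blockIdemBar_eq_zero_iff hB, (mul_eq_zero.1 h2).resolve_left (inv_ne_zero hP0)]
      exact ⟨0, 1, M.zero_mem, one_notMem, by simp⟩
    · intro x hx hx1
      rw [blockCoeff_eq_zero_of_dvd hM hB, mul_zero]
      by_contra hcon'
      have hxP : x ∈ P := (Finset.mem_filter.1 hx).2
      rw [Subgroup.mem_centralizer_iff.1 hgc x⁻¹ (inv_mem hxP)] at hcon'
      exact hx1 (inv_eq_one.1 (eq_one_of_regular_mul_centralizer P hP (inv_mem hxP) hgc hg hcon'))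
    · exact fun h => absurd (Finset.mem_filter.2 ⟨Finset.mem_univ _, one_mem P⟩) h
  have h1 := omegaBar_blockIdemBar (M := M) hB η
  rw [hz, omegaBar_zero, if_pos hη] at h1
  exact zero_ne_one h1

omit hP

/-- Inflation from the quotient by the derived subgroup of a normal `p`-subgroup reflects
blocks. -/
theorem sameBlock_of_inflate_derived {D : Subgroup G} [D.Normal] (hD : IsPGroup p D)
    [Fintype (G ⧸ ⁅D, D⁆)] {χ ψ : IrrCharacter (G ⧸ ⁅D, D⁆)}
    (h : SameBlock M (inflate ⁅D, D⁆ χ : G → ℂ) (inflate ⁅D, D⁆ ψ : G → ℂ)) :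
    SameBlock M (χ : G ⧸ ⁅D, D⁆ → ℂ) (ψ : G ⧸ ⁅D, D⁆ → ℂ) := by
  have hle : ⁅D, D⁆ ≤ D := Subgroup.commutator_le_self D
  have hDb : (D.map (QuotientGroup.mk' ⁅D, D⁆)).Normal :=
    Subgroup.Normal.map inferInstance _ (QuotientGroup.mk'_surjective _)
  refine sameBlock_of_regular_centralizer hM (D.map (QuotientGroup.mk' ⁅D, D⁆)) (hD.map _)
    fun q hqc hq => ?_
  obtain ⟨g, rfl⟩ := QuotientGroup.mk_surjective q
  obtain ⟨u, hu⟩ := exists_pPart hM.1 g
  obtain ⟨y, rfl, hc, ⟨i, hi⟩, hy⟩ := hu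
  have hu1 : (u : G ⧸ ⁅D, D⁆) = 1 := by
    have hcq : Commute (u : G ⧸ ⁅D, D⁆) (y : G ⧸ ⁅D, D⁆) := hc.map (QuotientGroup.mk' ⁅D, D⁆)
    have hdu : orderOf (u : G ⧸ ⁅D, D⁆) ∣ p ^ i := hi ▸ orderOf_map_dvd (QuotientGroup.mk' ⁅D, D⁆) u
    obtain ⟨l, -, hl⟩ := (Nat.dvd_prime_pow hM.1).1 hdu
    rcases Nat.eq_zero_or_pos l with h0 | h0
    · exact orderOf_eq_one_iff.1 (by rw [hl, h0, pow_zero])
    exfalso
    refine hq ?_
    rw [QuotientGroup.mk_mul, hcq.orderOf_mul_eq_mul_orderOf_of_coprime, hl]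
    · exact (dvd_pow_self p h0.ne').mul_right _
    · rw [hl]
      exact Nat.Coprime.coprime_dvd_right (orderOf_map_dvd (QuotientGroup.mk' ⁅D, D⁆) y)
        (((Nat.Prime.coprime_iff_not_dvd hM.1).2 hy).pow_left l)
  rw [QuotientGroup.mk_mul, hu1, one_mul] at hqc ⊢
  -- `y` centralizes `D`
  have hyD : Subgroup.zpowers y ≤ Subgroup.centralizer (D : Set G) := by
    refine CfsgLib.Core.centralizes_of_centralizes_frattini_quotient Subgroup.le_normalizer_of_normal ?_ ?_
    · rw [Nat.card_zpowers]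
      obtain ⟨k, hk⟩ := IsPGroup.iff_card.1 ((hD.to_subgroup (frattini D)))
      rw [hk]
      exact (((Nat.Prime.coprime_iff_not_dvd hM.1).2 hy).pow_left k).symm
    · intro a ha d hd
      obtain ⟨k, rfl⟩ := Subgroup.mem_zpowers_iff.1 ha
      have hm : y ^ k * d * (y ^ k)⁻¹ * d⁻¹ ∈ ⁅D, D⁆ := by
        rw [← QuotientGroup.eq_one_iff]
        have hcd : Commute (y : G ⧸ ⁅D, D⁆) (d : G ⧸ ⁅D, D⁆) :=
          (Subgroup.mem_centralizer_iff.1 hqc _ (Subgroup.mem_map_of_mem _ hd)).symm
        simp only [QuotientGroup.mk_mul, QuotientGroup.mk_inv, QuotientGroup.mk_zpow,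
          (hcd.zpow_left k).eq]
        group
      rw [← Subgroup.map_subtype_commutator] at hm
      exact Subgroup.map_mono (CfsgLib.PGroups.commutator_le_frattini' hD) hm
  have hyc : y ∈ Subgroup.centralizer ((⁅D, D⁆ : Subgroup G) : Set G) :=
    Subgroup.centralizer_le (SetLike.coe_subset_coe.2 hle) (hyD (Subgroup.mem_zpowers y))
  have hcc : ∀ η : IrrCharacter (G ⧸ ⁅D, D⁆),
      centralCharBar M η (y : G ⧸ ⁅D, D⁆) = centralCharBar M (inflate ⁅D, D⁆ η) y := by
    intro η
    rw [centralCharBar, centralCharBar]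
    congr 1
    refine Subtype.ext ?_
    show centralChar (η : G ⧸ ⁅D, D⁆ → ℂ) (y : G ⧸ ⁅D, D⁆) = centralChar (inflate ⁅D, D⁆ η : G → ℂ) y
    rw [centralChar, centralChar,
      index_centralizer_mk_eq_of_centralizer ⁅D, D⁆ (hD.to_le hle) hyc hy, inflate_apply,
      inflate_apply, QuotientGroup.mk_one]
  rw [hcc, hcc, sameBlock_iff.1 h]

end CfsgLib.Blocks
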