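import Cfsg.Prelude.Def_Blocks
import Mathlib.RingTheory.IntegralClosure.IsIntegralClosure.Basic
import Mathlib.RingTheory.Polynomial.ScaleRoots
import Mathlib.Algebra.Polynomial.Lifts
import Mathlib.RingTheory.LocalRing.ResidueField.Basic
import Mathlib.RingTheory.LocalRing.MaximalIdeal.Basic
import Mathlib.RingTheory.Localization.Integral
import Mathlib.RingTheory.Polynomial.GaussLemma
import Mathlib.Algebra.CharP.Lemmas
import Mathlib.FieldTheory.Minpoly.Field
import Mathlib.Data.Nat.Prime.Int
import Mathlib.RingTheory.RootsOfUnity.PrimitiveRoots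

/-!
# The valuation ring of `ℂ` cut out by a maximal ideal of the algebraic integers

`localRing M` is the ring of complex numbers `a / b` with `a, b` algebraic integers and `b ∉ M`.
It is a local ring, integrally closed in `ℂ`, and contains `z` or `z⁻¹` for every algebraic `z`.
-/

namespace CfsgLib.Blocks

open Cfsg Polynomial

theorem isIntegral_algInt (a : AlgInt) : IsIntegral ℤ (a : ℂ) := a.2

variable (M : Ideal AlgInt) [M.IsPrime]

omit [M.IsPrime] in
variable {M} in
theorem coe_ne_zero_of_notMem {b : AlgInt} (hb : b ∉ M) : (b : ℂ) ≠ 0 := fun h => by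
  rw [ZeroMemClass.coe_eq_zero] at h
  exact hb (h ▸ M.zero_mem)

/-- The local ring at `M`, as a subring of `ℂ`. -/
def localRing : Subring ℂ where
  carrier := {z | MemLocalRing M z}
  one_mem' := ⟨1, 1, fun h => Ideal.IsPrime.ne_top ‹_› ((Ideal.eq_top_iff_one _).2 h), by simp⟩
  zero_mem' := ⟨0, 1, fun h => Ideal.IsPrime.ne_top ‹_› ((Ideal.eq_top_iff_one _).2 h), by simp⟩
  add_mem' := by
    rintro x y ⟨a, b, hb, rfl⟩ ⟨c, d, hd, rfl⟩
    refine ⟨a * d + c * b, b * d, fun h => (Ideal.IsPrime.mem_or_mem ‹_› h).elim hb hd, ?_⟩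
    have := coe_ne_zero_of_notMem hb
    have := coe_ne_zero_of_notMem hd
    push_cast
    field_simp
  mul_mem' := by
    rintro x y ⟨a, b, hb, rfl⟩ ⟨c, d, hd, rfl⟩
    refine ⟨a * c, b * d, fun h => (Ideal.IsPrime.mem_or_mem ‹_› h).elim hb hd, ?_⟩
    push_cast
    exact (div_mul_div_comm _ _ _ _).symm
  neg_mem' := by
    rintro x ⟨a, b, hb, rfl⟩
    exact ⟨-a, b, hb, by push_cast; ring⟩

variable {M}

theorem mem_localRing {z : ℂ} : z ∈ localRing M ↔ MemLocalRing M z := Iff.rfl

theorem one_notMem : (1 : AlgInt) ∉ M :=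
  fun h => Ideal.IsPrime.ne_top ‹_› ((Ideal.eq_top_iff_one _).2 h)

/-- Algebraic integers lie in the local ring. -/
theorem mem_localRing_of_isIntegral {z : ℂ} (h : IsIntegral ℤ z) : z ∈ localRing M :=
  ⟨⟨z, h⟩, 1, one_notMem, by simp⟩

/-- An element `a / b` of the local ring is a unit in it exactly when `a ∉ M`. -/
theorem isUnit_localRing_iff {z : localRing M} {a b : AlgInt} (hb : b ∉ M)
    (h : (a : ℂ) / b = z) : IsUnit z ↔ a ∉ M := by
  constructor
  · intro hz ha
    obtain ⟨w, hw⟩ := isUnit_iff_exists_inv.1 hz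
    obtain ⟨c, d, hd, hcd⟩ := mem_localRing.1 w.2
    have hb0 := coe_ne_zero_of_notMem hb
    have hd0 := coe_ne_zero_of_notMem hd
    have h1 : (z : ℂ) * (w : ℂ) = 1 := by simpa using congrArg Subtype.val hw
    rw [← h, ← hcd] at h1
    have h2 : a * c = b * d := by
      apply Subtype.ext
      push_cast
      field_simp at h1
      linear_combination h1
    exact (Ideal.IsPrime.mem_or_mem ‹_› (h2 ▸ M.mul_mem_right c ha)).elim hb hd
  · intro ha
    refine isUnit_iff_exists_inv.2 ⟨⟨(b : ℂ) / a, mem_localRing.2 ⟨b, a, ha, rfl⟩⟩, ?_⟩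
    apply Subtype.ext
    have := coe_ne_zero_of_notMem hb
    have := coe_ne_zero_of_notMem ha
    rw [Subring.coe_mul, Subring.coe_one, ← h]
    field_simp

theorem memLocalIdeal_iff_not_isUnit {z : localRing M} :
    MemLocalIdeal M (z : ℂ) ↔ ¬ IsUnit z := by
  obtain ⟨a, b, hb, hab⟩ := mem_localRing.1 z.2
  rw [isUnit_localRing_iff hb hab, not_not]
  refine ⟨fun ⟨a', b', ha', hb', h⟩ => ?_, fun ha => ⟨a, b, ha, hb, hab⟩⟩
  have h2 : a * b' = a' * b := by
    apply Subtype.ext
    have := coe_ne_zero_of_notMem hb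
    have := coe_ne_zero_of_notMem hb'
    push_cast
    have h3 := hab.trans h.symm
    field_simp at h3
    linear_combination h3
  exact (Ideal.IsPrime.mem_or_mem ‹_› (h2 ▸ M.mul_mem_right b ha' : a * b' ∈ M)).resolve_right hb'

instance isLocalRing_localRing : IsLocalRing (localRing M) := by
  refine .of_nonunits_add fun x y hx hy => ?_
  rw [mem_nonunits_iff, ← memLocalIdeal_iff_not_isUnit] at hx hy ⊢
  obtain ⟨a, b, ha, hb, h⟩ := hx
  obtain ⟨c, d, hc, hd, h'⟩ := hy
  refine ⟨a * d + c * b, b * d, M.add_mem (M.mul_mem_right _ ha) (M.mul_mem_right _ hc),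
    fun e => (Ideal.IsPrime.mem_or_mem ‹_› e).elim hb hd, ?_⟩
  have := coe_ne_zero_of_notMem hb
  have := coe_ne_zero_of_notMem hd
  rw [Subring.coe_add, ← h, ← h']
  push_cast
  field_simp

theorem mem_maximalIdeal_iff {z : localRing M} :
    z ∈ IsLocalRing.maximalIdeal (localRing M) ↔ MemLocalIdeal M (z : ℂ) := by
  rw [IsLocalRing.mem_maximalIdeal, mem_nonunits_iff, memLocalIdeal_iff_not_isUnit]

theorem memLocalRing_of_memLocalIdeal {z : ℂ} (h : MemLocalIdeal M z) : z ∈ localRing M :=
  let ⟨a, b, _, hb, h⟩ := h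
  ⟨a, b, hb, h⟩

theorem residue_eq_zero_iff {z : localRing M} :
    IsLocalRing.residue (localRing M) z = 0 ↔ MemLocalIdeal M (z : ℂ) := by
  rw [IsLocalRing.residue_eq_zero_iff, mem_maximalIdeal_iff]

theorem residue_eq_iff {z w : localRing M} :
    IsLocalRing.residue (localRing M) z = IsLocalRing.residue (localRing M) w ↔
      MemLocalIdeal M ((z : ℂ) - w) := by
  rw [← sub_eq_zero, ← map_sub, residue_eq_zero_iff, AddSubgroupClass.coe_sub]

theorem coe_memLocalIdeal_iff {a : AlgInt} : MemLocalIdeal M (a : ℂ) ↔ a ∈ M := by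
  have hz := mem_localRing_of_isIntegral (M := M) (z := (a : ℂ)) a.2
  refine (memLocalIdeal_iff_not_isUnit (z := ⟨_, hz⟩)).trans ?_
  rw [isUnit_localRing_iff (z := ⟨(a : ℂ), hz⟩) (a := a) one_notMem (by simp), not_not]

/-- The local ring is integrally closed in `ℂ`. -/
theorem mem_localRing_of_isIntegral_localRing {z : ℂ} (h : IsIntegral (localRing M) z) :
    z ∈ localRing M := by
  classical
  obtain ⟨q, hq, hroot⟩ := h
  have hc : ∀ i : ℕ, ∃ a b : AlgInt, b ∉ M ∧ (a : ℂ) / b = (q.coeff i : ℂ) :=
    fun i => mem_localRing.1 (q.coeff i).2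
  choose a b hb hab using hc
  set B : AlgInt := ∏ i ∈ Finset.range (q.natDegree + 1), b i with hBdef
  have hB : B ∉ M := fun hmem => by
    obtain ⟨i, -, hi⟩ := (Ideal.IsPrime.prod_mem_iff (p := M)).1 hmem
    exact hb i hi
  have hB0 := coe_ne_zero_of_notMem hB
  let P : ℂ[X] := (q.map (localRing M).subtype).scaleRoots (B : ℂ)
  have hPmonic : P.Monic := (monic_scaleRoots_iff _).2 (hq.map _)
  have hProot : P.eval ((B : ℂ) * z) = 0 := by
    have h1 : aeval z (q.map (localRing M).subtype) = 0 := by
      simp only [aeval_def, eval₂_map]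
      exact hroot
    have h2 := scaleRoots_aeval_eq_zero (r := (B : ℂ)) h1
    rw [← coe_aeval_eq_eval]
    exact h2
  have hlift : P ∈ lifts (algebraMap AlgInt ℂ) := by
    rw [lifts_iff_coeff_lifts]
    intro i
    show P.coeff i ∈ _
    rw [coeff_scaleRoots, coeff_map, natDegree_map_eq_of_injective Subtype.val_injective]
    rcases lt_trichotomy i q.natDegree with hi | hi | hi
    · obtain ⟨m, hm⟩ : ∃ m, q.natDegree - i = m + 1 := ⟨q.natDegree - i - 1, by omega⟩
      refine ⟨a i * (∏ j ∈ (Finset.range (q.natDegree + 1)).erase i, b j) * B ^ m, ?_⟩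
      have hsplit : B = b i * ∏ j ∈ (Finset.range (q.natDegree + 1)).erase i, b j :=
        (Finset.mul_prod_erase _ _ (by simp; omega)).symm
      show ((a i * _ * B ^ m : AlgInt) : ℂ) = (q.coeff i : ℂ) * (B : ℂ) ^ (q.natDegree - i)
      rw [hm, pow_succ, ← hab i]
      have := coe_ne_zero_of_notMem (hb i)
      conv_rhs => arg 2; arg 2; rw [hsplit]
      push_cast
      field_simp
    · subst hi
      refine ⟨1, ?_⟩
      simp [hq.coeff_natDegree]
    · refine ⟨0, ?_⟩
      simp [coeff_eq_zero_of_natDegree_lt hi]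
  obtain ⟨Q, hQ, -, hQmonic⟩ := lifts_and_degree_eq_and_monic hlift hPmonic
  have hint : IsIntegral AlgInt ((B : ℂ) * z) := by
    refine ⟨Q, hQmonic, ?_⟩
    rw [← eval_map, hQ]
    exact hProot
  have hint2 : IsIntegral ℤ ((B : ℂ) * z) := isIntegral_trans _ hint
  exact ⟨⟨_, hint2⟩, B, hB, by show (B : ℂ) * z / B = z; field_simp⟩

/-- A root of a polynomial over the local ring with a unit coefficient is in the local ring or has
its inverse there. -/
theorem mem_localRing_or_inv_mem_of_root (x : ℂ) (n : ℕ) :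
    ∀ c : ℕ → localRing M, ∑ i ∈ Finset.range (n + 1), (c i : ℂ) * x ^ i = 0 →
      (∃ i ≤ n, IsUnit (c i)) → x ∈ localRing M ∨ x⁻¹ ∈ localRing M := by
  induction n with
  | zero =>
    intro c hsum ⟨i, hi, hu⟩
    obtain rfl : i = 0 := by omega
    simp at hsum
    rw [hsum] at hu
    exact absurd hu not_isUnit_zero
  | succ n ih =>
    intro c hsum hu
    have hint : (c (n + 1) : ℂ) * x ∈ localRing M := by
      refine mem_localRing_of_isIntegral_localRing ?_
      let P : (localRing M)[X] := ∑ i ∈ Finset.range (n + 2), C (c i) * X ^ i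
      have hroot : aeval x P = 0 := by
        simp only [P, map_sum, map_mul, aeval_C, map_pow, aeval_X]
        exact hsum
      by_cases h0 : c (n + 1) = 0
      · rw [h0]; simp [isIntegral_zero]
      have hcoeff : ∀ j, j < n + 2 → P.coeff j = c j := fun j hj => by
        simp [P, coeff_X_pow, hj]
      have hdeg : P.natDegree = n + 1 := by
        refine le_antisymm (natDegree_le_iff_coeff_eq_zero.2 fun N hN => ?_)
          (le_natDegree_of_ne_zero (by rw [hcoeff _ (by omega)]; exact h0))
        simp [P, coeff_X_pow, show ¬ N < n + 2 by omega]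
      have := isIntegral_leadingCoeff_smul P x hroot
      rwa [leadingCoeff, hdeg, hcoeff _ (by omega), Algebra.smul_def] at this
    by_cases hun : IsUnit (c (n + 1))
    · left
      obtain ⟨w, hw⟩ := isUnit_iff_exists_inv.1 hun
      have : x = (w : ℂ) * ((c (n + 1) : ℂ) * x) := by
        have h1 : (c (n + 1) : ℂ) * w = 1 := by simpa using congrArg Subtype.val hw
        linear_combination -x * h1
      rw [this]
      exact mul_mem w.2 hint
    let z : localRing M := ⟨_, hint⟩
    by_cases hz : IsUnit z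
    · right
      obtain ⟨w, hw⟩ := isUnit_iff_exists_inv.1 hz
      have h1 : (c (n + 1) : ℂ) * x * w = 1 := congrArg Subtype.val hw
      have hx : x⁻¹ = (c (n + 1) : ℂ) * w := by
        refine inv_eq_of_mul_eq_one_right ?_
        linear_combination h1
      rw [hx]
      exact mul_mem (c (n + 1)).2 w.2
    refine ih (fun i => if i = n then c n + z else c i) ?_ ?_
    · rw [Finset.sum_range_succ, Finset.sum_congr rfl (fun i hi => by
        rw [if_neg (by simp at hi; omega)])]
      simp only [if_true, Subring.coe_add, z]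
      rw [Finset.sum_range_succ, Finset.sum_range_succ] at hsum
      linear_combination hsum
    · obtain ⟨i, hi, hiu⟩ := hu
      rcases Nat.lt_or_ge i n with hin | hin
      · exact ⟨i, hin.le, by rw [if_neg hin.ne]; exact hiu⟩
      · have hin' : i = n := by
          rcases Nat.lt_or_ge n i with h | h
          · exact absurd ((show i = n + 1 by omega) ▸ hiu) hun
          · omega
        subst hin'
        refine ⟨i, le_rfl, ?_⟩
        rw [if_pos rfl]
        by_contra hcon
        exact IsLocalRing.nonunits_add hcon (fun h => hz (by simpa using h.neg) : -z ∈ nonunits _)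
          (by simpa using hiu)

/-- The prime `p` below `M` is not a unit in the local ring. -/
theorem residue_natCast_self {p : ℕ} (hM : IsPModular p M) :
    IsLocalRing.residue (localRing M) (p : localRing M) = 0 := by
  rw [residue_eq_zero_iff]
  exact ⟨(p : AlgInt), 1, hM.2.2, one_notMem, by simp⟩

/-- The residue field has characteristic `p`. -/
theorem charP_residueField {p : ℕ} (hM : IsPModular p M) :
    CharP (IsLocalRing.ResidueField (localRing M)) p :=
  ringChar.of_eq <| CharP.ringChar_of_prime_eq_zero hM.1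
    (by rw [← map_natCast (IsLocalRing.residue (localRing M))]; exact residue_natCast_self hM)

/-- Every algebraic number lies in the local ring or has its inverse there. -/
theorem mem_localRing_or_inv_mem {p : ℕ} (hM : IsPModular p M) {x : ℂ} (hx : IsAlgebraic ℤ x) :
    x ∈ localRing M ∨ x⁻¹ ∈ localRing M := by
  obtain ⟨P, hP0, hP⟩ := hx
  have hprim := Polynomial.isPrimitive_primPart P
  have hroot : aeval x P.primPart = 0 := aeval_primPart_eq_zero hP0 hP
  refine mem_localRing_or_inv_mem_of_root x P.primPart.natDegree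
    (fun i => ((P.primPart.coeff i : ℤ) : localRing M)) ?_ ?_
  · rw [aeval_eq_sum_range] at hroot
    simpa [Algebra.smul_def] using hroot
  · obtain ⟨i, hi, hdvd⟩ : ∃ i ≤ P.primPart.natDegree, ¬ (p : ℤ) ∣ P.primPart.coeff i := by
      by_contra hcon
      push Not at hcon
      have hd : C (p : ℤ) ∣ P.primPart := C_dvd_iff_dvd_coeff _ _ |>.2 fun i => by
        rcases Nat.lt_or_ge P.primPart.natDegree i with h | h
        · simp [coeff_eq_zero_of_natDegree_lt h]
        · exact hcon i h
      have := hprim _ hd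
      exact (Nat.prime_iff_prime_int.mp hM.1).not_unit this
    refine ⟨i, hi, ?_⟩
    by_contra hu
    have hc := charP_residueField hM
    have h0 : IsLocalRing.residue (localRing M) ((P.primPart.coeff i : ℤ) : localRing M) = 0 := by
      rw [residue_eq_zero_iff, memLocalIdeal_iff_not_isUnit]
      exact hu
    rw [map_intCast] at h0
    exact hdvd ((CharP.intCast_eq_zero_iff _ p _).1 h0)


/-! ### Rational integers and roots of unity -/

theorem natCast_mem_localRing (n : ℕ) : (n : ℂ) ∈ localRing M := natCast_mem _ n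

theorem memLocalIdeal_natCast_iff {p : ℕ} (hM : IsPModular p M) {n : ℕ} :
    MemLocalIdeal M (n : ℂ) ↔ p ∣ n := by
  have hc := charP_residueField hM
  rw [← CharP.cast_eq_zero_iff (IsLocalRing.ResidueField (localRing M)) p,
    ← map_natCast (IsLocalRing.residue (localRing M)), residue_eq_zero_iff]
  simp

theorem isUnit_natCast_iff {p : ℕ} (hM : IsPModular p M) {n : ℕ} :
    IsUnit (n : localRing M) ↔ ¬ p ∣ n := by
  rw [← memLocalIdeal_natCast_iff hM]
  conv_rhs => rw [show ((n : ℕ) : ℂ) = ((n : localRing M) : ℂ) by simp, memLocalIdeal_iff_not_isUnit]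
  exact not_not.symm

theorem inv_natCast_mem {p : ℕ} (hM : IsPModular p M) {n : ℕ} (hn : ¬ p ∣ n) :
    (n : ℂ)⁻¹ ∈ localRing M := by
  obtain ⟨w, hw⟩ := isUnit_iff_exists_inv.1 ((isUnit_natCast_iff hM).2 hn)
  have h : (n : ℂ) * w = 1 := by simpa using congrArg Subtype.val hw
  rw [inv_eq_of_mul_eq_one_right h]
  exact w.2

theorem mem_localRing_of_pow_eq_one {z : ℂ} {n : ℕ} (hn : n ≠ 0) (h : z ^ n = 1) :
    z ∈ localRing M :=
  mem_localRing_of_isIntegral
    (IsIntegral.of_pow (Nat.pos_of_ne_zero hn) (by rw [h]; exact isIntegral_one))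

/-- A root of unity of `p`-power order is congruent to `1`. -/
theorem residue_eq_one_of_pow_prime_pow {p : ℕ} (hM : IsPModular p M) {z : localRing M} {k : ℕ}
    (h : z ^ p ^ k = 1) : IsLocalRing.residue (localRing M) z = 1 := by
  have hc := charP_residueField hM
  have : Fact p.Prime := ⟨hM.1⟩
  have h1 : IsLocalRing.residue (localRing M) z ^ p ^ k = 1 := by rw [← map_pow, h, map_one]
  have h2 : (IsLocalRing.residue (localRing M) z - 1) ^ p ^ k = 0 := by
    rw [sub_pow_char_pow, h1, one_pow, sub_self]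
  exact sub_eq_zero.1 (pow_eq_zero_iff (pow_ne_zero k hM.1.ne_zero) |>.1 h2)

end CfsgLib.Blocks
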