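import Cfsg.Agent.Lib.CharAction.RegBlock
import Mathlib.GroupTheory.GroupAction.Quotient

/-!
# A congruence between the characters of height zero of a block

For `χ` of height zero the integers `m ξ = p ^ -e * ⟨p ^ a χ_reg, ξ⟩` satisfy
`∑ m ξ * x ξ = p ^ d * x χ`, where `p ^ e * x ξ = ξ 1`, and `m ξ` is proportional to `x ξ` mod `p`.
-/

namespace CfsgLib.Blocks

open Cfsg CfsgLib.Char CfsgLib.CharAction
open scoped Classical

variable {G : Type*} [Group G] [Fintype G] {p : ℕ} [Fact p.Prime] {M : Ideal AlgInt} [M.IsPrime]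
  (hM : IsPModular p M) {B : Set (IrrCharacter G)} (hB : IsPBlock M B)

/-- The height zero members of a block. -/
noncomputable def heightZeroSet (p : ℕ) (B : Set (IrrCharacter G)) : Finset (IrrCharacter G) :=
  (Set.toFinite {χ : IrrCharacter G | χ ∈ B ∧ blockHeight p B (χ : G → ℂ) = 0}).toFinset

omit [Fact p.Prime] in
theorem mem_heightZeroSet {χ : IrrCharacter G} :
    χ ∈ heightZeroSet p B ↔ χ ∈ B ∧ blockHeight p B (χ : G → ℂ) = 0 :=
  Set.Finite.mem_toFinset _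

omit [Fact p.Prime] in
theorem card_heightZeroSet :
    (heightZeroSet p B).card = Nat.card {χ : IrrCharacter G // χ ∈ B ∧ blockHeight p B (χ : G → ℂ) = 0} :=
  (Nat.card_eq_card_finite_toFinset _).symm.trans rfl

/-- The degree divided by `p ^ e`. -/
noncomputable def redDeg (p : ℕ) (B : Set (IrrCharacter G)) (χ : G → ℂ) : ℕ :=
  charDegree χ / p ^ minDeg p B

/-- The regular inner product divided by `p ^ e`. -/
noncomputable def redNum (p : ℕ) (B : Set (IrrCharacter G)) (χ ξ : G → ℂ) : ℤ :=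
  regNum p χ ξ / (p : ℤ) ^ minDeg p B

theorem mul_redDeg {ξ : IrrCharacter G} (hξ : ξ ∈ B) :
    charDegree (ξ : G → ℂ) = p ^ minDeg p B * redDeg p B (ξ : G → ℂ) :=
  (Nat.mul_div_cancel' ((pow_dvd_pow p (minDeg_le hξ)).trans (Nat.ordProj_dvd _ _))).symm

theorem mul_redNum (χ : IrrCharacter G) {ξ : IrrCharacter G} (hξ : ξ ∈ B) :
    regNum p (χ : G → ℂ) (ξ : G → ℂ) =
      (p : ℤ) ^ minDeg p B * redNum p B (χ : G → ℂ) (ξ : G → ℂ) :=
  (Int.mul_ediv_cancel' ((pow_dvd_pow _ (minDeg_le hξ)).trans (pow_dvd_regNum_right χ ξ))).symm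

theorem dvd_redDeg_iff {ξ : IrrCharacter G} (hξ : ξ ∈ B) :
    p ∣ redDeg p B (ξ : G → ℂ) ↔ blockHeight p B (ξ : G → ℂ) ≠ 0 := by
  have hp : p.Prime := Fact.out
  have h0 : redDeg p B (ξ : G → ℂ) ≠ 0 := fun h =>
    (charDegree_pos ξ).ne' (by rw [mul_redDeg (p := p) hξ, h, mul_zero])
  have h1 : degVal p (ξ : G → ℂ) = minDeg p B + (redDeg p B (ξ : G → ℂ)).factorization p := by
    rw [degVal, mul_redDeg (p := p) hξ, Nat.factorization_mul (pow_ne_zero _ hp.ne_zero) h0, Finsupp.add_apply,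
      hp.factorization_pow, Finsupp.single_eq_same]
  rw [blockHeight_eq_sub, hp.dvd_iff_one_le_factorization h0]
  have := minDeg_le (p := p) hξ
  omega

theorem dvd_redNum_of_height {χ ξ : IrrCharacter G} (hξ : ξ ∈ B)
    (h : blockHeight p B (ξ : G → ℂ) ≠ 0) : (p : ℤ) ∣ redNum p B (χ : G → ℂ) (ξ : G → ℂ) := by
  rw [blockHeight_eq_sub] at h
  have h1 : (p : ℤ) ^ (minDeg p B + 1) ∣ regNum p (χ : G → ℂ) (ξ : G → ℂ) :=
    (pow_dvd_pow _ (by omega)).trans (pow_dvd_regNum_right χ ξ)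
  rw [mul_redNum χ hξ, pow_succ] at h1
  exact (mul_dvd_mul_iff_left (pow_ne_zero _ (Int.natCast_ne_zero.2 (Fact.out : p.Prime).ne_zero))).1 h1

include hM hB

theorem sum_redNum_mul {χ : IrrCharacter G} (hχ : χ ∈ B) :
    ∑ ξ ∈ (Set.toFinite B).toFinset,
        redNum p B (χ : G → ℂ) (ξ : G → ℂ) * (redDeg p B (ξ : G → ℂ) : ℤ) =
      (p : ℤ) ^ blockDefect p B * redDeg p B (χ : G → ℂ) := by
  have := Fintype.ofFinite (IrrCharacter G)
  have hp : p.Prime := Fact.out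
  have h := sum_regNum_smul (p := p) χ 1
  rw [regCut, if_neg (by simpa using hp.ne_one), apply_one_eq_charDegree] at h
  have hint : ∑ ξ : IrrCharacter G, regNum p (χ : G → ℂ) (ξ : G → ℂ) * (charDegree (ξ : G → ℂ) : ℤ) =
      (p : ℤ) ^ (Nat.card G).factorization p * charDegree (χ : G → ℂ) := by
    apply Int.cast_injective (α := ℂ)
    push_cast
    simp only [apply_one_eq_charDegree] at h
    exact_mod_cast h
  have hd : (Nat.card G).factorization p = blockDefect p B + minDeg p B := by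
    rw [blockDefect_eq_sub, Nat.sub_add_cancel (minDeg_le_card ⟨χ, hχ⟩)]
  refine mul_left_cancel₀ (pow_ne_zero (minDeg p B + minDeg p B)
    (Int.natCast_ne_zero.2 hp.ne_zero)) ?_
  rw [← Finset.sum_subset (Finset.subset_univ ((Set.toFinite B).toFinset)) fun ξ _ hξ => by
    rw [regNum_eq_zero_of_notMem hM hB hχ (fun h => hξ ((Set.Finite.mem_toFinset _).2 h)),
      zero_mul]] at hint
  rw [Finset.mul_sum]
  refine (Finset.sum_congr rfl fun ξ hξ => ?_).trans (hint.trans ?_)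
  · rw [mul_redNum χ ((Set.Finite.mem_toFinset _).1 hξ), mul_redDeg (p := p) ((Set.Finite.mem_toFinset _).1 hξ)]
    push_cast
    ring
  · rw [hd, mul_redDeg (p := p) hχ]
    push_cast
    ring

/-- The sum over height zero is divisible by `p ^ 2` once the defect is at least two. -/
theorem dvd_sum_height_zero {χ : IrrCharacter G} (hχ : χ ∈ B) {k : ℕ} (hk : k ≤ 2)
    (hkd : k ≤ blockDefect p B) :
    (p : ℤ) ^ k ∣ ∑ ξ ∈ heightZeroSet p B,
        redNum p B (χ : G → ℂ) (ξ : G → ℂ) * (redDeg p B (ξ : G → ℂ) : ℤ) := by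
  have hsub : heightZeroSet p B ⊆ (Set.toFinite B).toFinset := fun ξ h =>
    (Set.Finite.mem_toFinset _).2 (mem_heightZeroSet.1 h).1
  refine (dvd_add_right (a := (p : ℤ) ^ k) (b := ∑ ξ ∈ (Set.toFinite B).toFinset \ heightZeroSet p B,
    redNum p B (χ : G → ℂ) (ξ : G → ℂ) * (redDeg p B (ξ : G → ℂ) : ℤ)) ?_).1 ?_
  · refine Finset.dvd_sum fun ξ hξ => ?_
    obtain ⟨hξB, hξ0⟩ := Finset.mem_sdiff.1 hξ
    rw [Set.Finite.mem_toFinset] at hξB
    have h0 : blockHeight p B (ξ : G → ℂ) ≠ 0 := fun h => hξ0 (mem_heightZeroSet.2 ⟨hξB, h⟩)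
    refine (pow_dvd_pow _ hk).trans ?_
    rw [sq]
    exact mul_dvd_mul (dvd_redNum_of_height hξB h0)
      (Int.natCast_dvd_natCast.2 ((dvd_redDeg_iff hξB).2 h0))
  · rw [Finset.sum_sdiff hsub, sum_redNum_mul hM hB hχ]
    exact dvd_mul_of_dvd_left (pow_dvd_pow _ hkd) _

omit hB in
theorem redNum_proportional (hB : IsPBlock M B) {χ ξ η : IrrCharacter G} (hξ : ξ ∈ B) (hη : η ∈ B) :
    (redNum p B (χ : G → ℂ) (ξ : G → ℂ) * redDeg p B (η : G → ℂ) : ZMod p) =
      redNum p B (χ : G → ℂ) (η : G → ℂ) * redDeg p B (ξ : G → ℂ) := by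
  have := charP_residueField hM
  obtain ⟨u, v, hu, hv, huv⟩ := exists_quotient_congr hM χ (IsPBlock.sameBlock hB hξ hη)
  have hpe : (p : ℂ) ^ minDeg p B ≠ 0 :=
    pow_ne_zero _ (Nat.cast_ne_zero.2 (Fact.out : p.Prime).ne_zero)
  have key : ∀ {ζ : IrrCharacter G} {w : localRing M}, ζ ∈ B →
      (regNum p (χ : G → ℂ) (ζ : G → ℂ) : ℂ) = (w : ℂ) * (ζ : G → ℂ) 1 →
      IsLocalRing.residue (localRing M) (redNum p B (χ : G → ℂ) (ζ : G → ℂ) : localRing M) =
        IsLocalRing.residue (localRing M) w *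
          IsLocalRing.residue (localRing M) (redDeg p B (ζ : G → ℂ) : localRing M) := by
    intro ζ w hζ hw
    rw [← map_mul]
    refine congrArg _ (Subtype.ext (mul_left_cancel₀ hpe ?_))
    rw [mul_redNum χ hζ, apply_one_eq_charDegree, mul_redDeg (p := p) hζ] at hw
    push_cast at hw ⊢
    linear_combination hw
  refine (ZMod.castHom (dvd_refl p) (IsLocalRing.ResidueField (localRing M))).injective ?_
  rw [map_mul, map_mul, map_intCast, map_natCast, map_intCast, map_natCast,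
    ← map_intCast (IsLocalRing.residue (localRing M)), ← map_natCast (IsLocalRing.residue (localRing M)),
    ← map_intCast (IsLocalRing.residue (localRing M)), ← map_natCast (IsLocalRing.residue (localRing M)),
    key hξ hu, key hη hv, huv]
  ring

theorem redNum_self_ne_zero {χ : IrrCharacter G} (hχ : χ ∈ B)
    (h : blockHeight p B (χ : G → ℂ) = 0) : (redNum p B (χ : G → ℂ) (χ : G → ℂ) : ZMod p) ≠ 0 := by
  rw [Ne, ZMod.intCast_zmod_eq_zero_iff_dvd]
  intro hd
  have hb : degVal p (χ : G → ℂ) = minDeg p B := by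
    rw [blockHeight_eq_sub] at h
    have := minDeg_le (p := p) hχ
    omega
  refine (not_pow_succ_dvd_regNum_iff hM hB hχ hχ).2 h ?_
  rw [hb, mul_redNum χ hχ, pow_succ]
  exact mul_dvd_mul_left _ hd

omit hM hB in
theorem redDeg_ne_zero {χ : IrrCharacter G} (hχ : χ ∈ B) (h : blockHeight p B (χ : G → ℂ) = 0) :
    (redDeg p B (χ : G → ℂ) : ZMod p) ≠ 0 := by
  rw [Ne, ZMod.natCast_eq_zero_iff, dvd_redDeg_iff hχ]
  exact fun h' => h' h

/-- If the weighted sum over some height zero characters vanishes mod `p`, so do their squares. -/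
theorem sum_sq_eq_zero_of_sum {ι : Type*} (s : Finset ι) (f : ι → IrrCharacter G)
    (hf : ∀ i ∈ s, f i ∈ heightZeroSet p B) {χ : IrrCharacter G} (hχ : χ ∈ heightZeroSet p B)
    (h : (p : ℤ) ∣ ∑ i ∈ s,
      redNum p B (χ : G → ℂ) (f i : G → ℂ) * (redDeg p B (f i : G → ℂ) : ℤ)) :
    ∑ i ∈ s, (redDeg p B (f i : G → ℂ) : ZMod p) ^ 2 = 0 := by
  obtain ⟨hχB, hχ0⟩ := mem_heightZeroSet.1 hχ
  rw [← ZMod.intCast_zmod_eq_zero_iff_dvd, Int.cast_sum] at h
  simp only [Int.cast_mul, Int.cast_natCast] at h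
  have hm := redNum_self_ne_zero hM hB hχB hχ0
  refine (mul_eq_zero.1 (?_ : (redNum p B (χ : G → ℂ) (χ : G → ℂ) : ZMod p) *
    ∑ i ∈ s, (redDeg p B (f i : G → ℂ) : ZMod p) ^ 2 = 0)).resolve_left hm
  rw [Finset.mul_sum, ← mul_zero (redDeg p B (χ : G → ℂ) : ZMod p), ← h, Finset.mul_sum]
  refine Finset.sum_congr rfl fun i hi => ?_
  have := redNum_proportional hM hB (χ := χ) (mem_heightZeroSet.1 (hf i hi)).1 hχB
  linear_combination -(redDeg p B (f i : G → ℂ) : ZMod p) * this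

/-- The squares of the reduced degrees of height zero sum to zero mod `p`. -/
theorem sum_sq_redDeg_eq_zero (hd : 1 ≤ blockDefect p B) :
    ∑ ξ ∈ heightZeroSet p B, (redDeg p B (ξ : G → ℂ) : ZMod p) ^ 2 = 0 := by
  obtain ⟨χ, hχ, hχ0⟩ := exists_minDeg p (IsPBlock.nonempty hB)
  have hmem : χ ∈ heightZeroSet p B :=
    mem_heightZeroSet.2 ⟨hχ, by rw [blockHeight_eq_sub, hχ0, Nat.sub_self]⟩
  refine sum_sq_eq_zero_of_sum hM hB _ id (fun _ h => h) hmem ?_
  have := dvd_sum_height_zero hM hB hχ (k := 1) (by omega) hd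
  rwa [pow_one] at this

omit hB in
theorem redNum_eq_of_regular {χ ξ η : IrrCharacter G}
    (h : ∀ x : G, ¬ p ∣ orderOf x → (ξ : G → ℂ) x = (η : G → ℂ) x) :
    redNum p B (χ : G → ℂ) (ξ : G → ℂ) = redNum p B (χ : G → ℂ) (η : G → ℂ) := by
  have : classInner (regCut p (χ : G → ℂ)) (ξ : G → ℂ) =
      classInner (regCut p (χ : G → ℂ)) (η : G → ℂ) := by
    simp only [classInner]
    congr 1
    refine Finset.sum_congr rfl fun g _ => ?_
    by_cases hg : p ∣ orderOf g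
    · simp [regCut, hg]
    · rw [h g hg]
  rw [redNum, redNum, regNum, regNum, this]

omit hM hB [Fact p.Prime] in
theorem redDeg_eq_of_regular (hp : p.Prime) {ξ η : IrrCharacter G}
    (h : ∀ x : G, ¬ p ∣ orderOf x → (ξ : G → ℂ) x = (η : G → ℂ) x) :
    redDeg p B (ξ : G → ℂ) = redDeg p B (η : G → ℂ) := by
  rw [redDeg, redDeg, charDegree, charDegree, h 1 (by simpa using hp.ne_one)]

/-- A free action by a group of order `p`, preserving the regular values, has neither one orbit nor,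
when `-1` is not a square mod `p`, two orbits. -/
theorem orbit_count_bound (hd : 2 ≤ blockDefect p B) {H : Type*} [Group H] [Finite H]
    [MulAction H {χ : IrrCharacter G // χ ∈ B ∧ blockHeight p B (χ : G → ℂ) = 0}]
    (hcard : Nat.card H = p)
    (hfree : ∀ (a : H) (χ : {χ : IrrCharacter G // χ ∈ B ∧ blockHeight p B (χ : G → ℂ) = 0}),
      a • χ = χ → a = 1)
    (hreg : ∀ (a : H) (χ : {χ : IrrCharacter G // χ ∈ B ∧ blockHeight p B (χ : G → ℂ) = 0})
      (x : G), ¬ p ∣ orderOf x → ((a • χ).1 : G → ℂ) x = (χ.1 : G → ℂ) x) :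
    2 * p ≤ Nat.card {χ : IrrCharacter G // χ ∈ B ∧ blockHeight p B (χ : G → ℂ) = 0} ∧
      (p % 4 = 3 →
        3 * p ≤ Nat.card {χ : IrrCharacter G // χ ∈ B ∧ blockHeight p B (χ : G → ℂ) = 0}) := by
  have hp : p.Prime := Fact.out
  have := Fintype.ofFinite {χ : IrrCharacter G // χ ∈ B ∧ blockHeight p B (χ : G → ℂ) = 0}
  have := Fintype.ofFinite (MulAction.orbitRel.Quotient H {χ : IrrCharacter G // χ ∈ B ∧ blockHeight p B (χ : G → ℂ) = 0})
  let rep : MulAction.orbitRel.Quotient H {χ : IrrCharacter G // χ ∈ B ∧ blockHeight p B (χ : G → ℂ) = 0} → IrrCharacter G := fun ω => (Quotient.out ω).1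
  obtain ⟨χ, hχ, hχ0⟩ := exists_minDeg p (IsPBlock.nonempty hB)
  have hmem : χ ∈ heightZeroSet p B :=
    mem_heightZeroSet.2 ⟨hχ, by rw [blockHeight_eq_sub, hχ0, Nat.sub_self]⟩
  have horb : ∀ ω : MulAction.orbitRel.Quotient H {χ : IrrCharacter G // χ ∈ B ∧ blockHeight p B (χ : G → ℂ) = 0},
      Nat.card (MulAction.orbit H (Quotient.out ω)) = p := fun ω => by
    rw [Nat.card_coe_set_eq, ← MulAction.index_stabilizer,
      show MulAction.stabilizer H (Quotient.out ω) = ⊥ from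
      (Subgroup.eq_bot_iff_forall _).2 fun a ha => hfree a _ ha, Subgroup.index_bot, hcard]
  let e := MulAction.selfEquivSigmaOrbits H {χ : IrrCharacter G // χ ∈ B ∧ blockHeight p B (χ : G → ℂ) = 0}
  have hk : Nat.card {χ : IrrCharacter G // χ ∈ B ∧ blockHeight p B (χ : G → ℂ) = 0} = Fintype.card (MulAction.orbitRel.Quotient H {χ : IrrCharacter G // χ ∈ B ∧ blockHeight p B (χ : G → ℂ) = 0}) * p := by
    rw [Nat.card_congr e, Nat.card_sigma, Finset.sum_congr rfl fun ω _ => horb ω, Finset.sum_const,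
      Finset.card_univ, smul_eq_mul]
  let f : IrrCharacter G → ℤ := fun ξ =>
    redNum p B (χ : G → ℂ) (ξ : G → ℂ) * (redDeg p B (ξ : G → ℂ) : ℤ)
  have hfe : ∀ x : {χ : IrrCharacter G // χ ∈ B ∧ blockHeight p B (χ : G → ℂ) = 0}, f x.1 = f (rep (e x).1) := by
    intro x
    have hx : x ∈ MulAction.orbit H (Quotient.out (⟦x⟧ : MulAction.orbitRel.Quotient H {χ : IrrCharacter G // χ ∈ B ∧ blockHeight p B (χ : G → ℂ) = 0})) := by
      have h : (MulAction.orbitRel H {χ : IrrCharacter G // χ ∈ B ∧ blockHeight p B (χ : G → ℂ) = 0}).r x (Quotient.out (⟦x⟧ : MulAction.orbitRel.Quotient H {χ : IrrCharacter G // χ ∈ B ∧ blockHeight p B (χ : G → ℂ) = 0})) :=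
        Setoid.symm' _ (Quotient.mk_out (s := MulAction.orbitRel H {χ : IrrCharacter G // χ ∈ B ∧ blockHeight p B (χ : G → ℂ) = 0}) x)
      exact h
    obtain ⟨a, ha⟩ := hx
    show f x.1 = f (Quotient.out (⟦x⟧ : MulAction.orbitRel.Quotient H {χ : IrrCharacter G // χ ∈ B ∧ blockHeight p B (χ : G → ℂ) = 0})).1
    conv_lhs => rw [← ha]
    simp only [f, redNum_eq_of_regular hM (B := B) (χ := χ) (hreg a _),
      redDeg_eq_of_regular (B := B) hp (hreg a _)]
  have hsum : ∑ ξ ∈ heightZeroSet p B, f ξ = (p : ℤ) * ∑ ω, f (rep ω) := by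
    rw [Finset.sum_subtype (p := fun ξ => ξ ∈ B ∧ blockHeight p B (ξ : G → ℂ) = 0)
      (heightZeroSet p B) (fun x => mem_heightZeroSet) f, Finset.sum_congr rfl fun x _ => hfe x,
      Finset.mul_sum]
    rw [Fintype.sum_equiv e (fun x : {χ : IrrCharacter G // χ ∈ B ∧ blockHeight p B (χ : G → ℂ) = 0} => f (rep (e x).1)) (fun z => f (rep z.1)) fun _ => rfl,
      Fintype.sum_sigma]
    refine Finset.sum_congr rfl fun ω _ => ?_
    show ∑ _y, f (rep ω) = _
    rw [Finset.sum_const, Finset.card_univ, ← Nat.card_eq_fintype_card, horb, nsmul_eq_mul]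
  have h2 := dvd_sum_height_zero hM hB hχ (k := 2) le_rfl hd
  rw [show ∑ ξ ∈ heightZeroSet p B, redNum p B (χ : G → ℂ) (ξ : G → ℂ) *
    (redDeg p B (ξ : G → ℂ) : ℤ) = ∑ ξ ∈ heightZeroSet p B, f ξ from rfl, hsum, sq,
    mul_dvd_mul_iff_left (Int.natCast_ne_zero.2 hp.ne_zero)] at h2
  have h3 := sum_sq_eq_zero_of_sum hM hB Finset.univ rep
    (fun ω _ => mem_heightZeroSet.2 (Quotient.out ω).2) hmem h2
  have hne : ∀ ω, (redDeg p B (rep ω : G → ℂ) : ZMod p) ≠ 0 := fun ω =>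
    redDeg_ne_zero (Quotient.out ω).2.1 (Quotient.out ω).2.2
  have hr0 : Fintype.card (MulAction.orbitRel.Quotient H {χ : IrrCharacter G // χ ∈ B ∧ blockHeight p B (χ : G → ℂ) = 0}) ≠ 0 := by
    haveI : Nonempty (MulAction.orbitRel.Quotient H {χ : IrrCharacter G // χ ∈ B ∧ blockHeight p B (χ : G → ℂ) = 0}) :=
      ⟨⟦⟨χ, (mem_heightZeroSet.1 hmem)⟩⟧⟩
    exact Fintype.card_ne_zero
  have hr1 : Fintype.card (MulAction.orbitRel.Quotient H {χ : IrrCharacter G // χ ∈ B ∧ blockHeight p B (χ : G → ℂ) = 0}) ≠ 1 := fun h1 => by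
    obtain ⟨ω, hω⟩ := Fintype.card_eq_one_iff.1 h1
    rw [Fintype.sum_eq_single ω fun b hb => absurd (hω b) hb] at h3
    exact hne ω (pow_eq_zero_iff two_ne_zero |>.1 h3)
  refine ⟨hk ▸ Nat.mul_le_mul_right p (by omega), fun h4 => hk ▸ Nat.mul_le_mul_right p ?_⟩
  by_contra hlt
  have hr2 : Fintype.card (MulAction.orbitRel.Quotient H {χ : IrrCharacter G // χ ∈ B ∧ blockHeight p B (χ : G → ℂ) = 0}) = 2 := by omega
  obtain ⟨ω₁, ω₂, h12, hu⟩ := Finset.card_eq_two.1 (Finset.card_univ.trans hr2)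
  rw [hu, Finset.sum_pair h12] at h3
  refine absurd h4 ((ZMod.exists_sq_eq_neg_one_iff (p := p)).1
    ⟨(redDeg p B (rep ω₁ : G → ℂ) : ZMod p) / redDeg p B (rep ω₂ : G → ℂ), ?_⟩)
  have := hne ω₂
  field_simp
  linear_combination -h3

end CfsgLib.Blocks
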