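import Cfsg.Agent.Lib.Blocks.Covering
import Cfsg.Agent.Lib.Blocks.DefectNumber
import Cfsg.Agent.Lib.Char.PPrimeKernel
import Cfsg.Agent.Lib.Char.CliffordCorr
import Cfsg.Agent.Lib.Blocks.CanonicalExtension
import Cfsg.Agent.Lib.PLocal.PConstrained

/-!
# Fong's theorem on blocks over an invariant character of the `p'`-core

Let `N = O_{p'}(G)`, `M₀ = O_{p',p}(G)` and `θ̂` the canonical extension of an invariant `θ` to
`M₀`. The central character of a character over `θ̂` is determined by `θ̂` on `M₀` and lies in the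
maximal ideal outside `M₀`, because a Sylow subgroup of `M₀` permutes a class outside `M₀` without
fixed points and the averages over `N` of the class elements commute with its image.
-/

namespace CfsgLib.FongInvariant

open Cfsg CfsgLib.Blocks CfsgLib.Char CfsgLib.Core
open scoped ComplexConjugate

section General

variable {G : Type*} [Group G] [Fintype G]

/-- Over an invariant character the restriction is a multiple. -/
theorem restrict_eq_smul (N : Subgroup G) [hN : N.Normal] [Fintype N] {θ : IrrCharacter N}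
    (hinv : ∀ g : G, conjIrr N g θ = θ) {χ : IrrCharacter G}
    (hc : classInner (fun n : N => (χ : G → ℂ) n) (θ : N → ℂ) ≠ 0) :
    (fun n : N => (χ : G → ℂ) n) =
      classInner (fun n : N => (χ : G → ℂ) n) (θ : N → ℂ) • (θ : N → ℂ) := by
  classical
  have horb : Finset.univ.image (Clifford.conjFn hN (θ : N → ℂ)) = {(θ : N → ℂ)} := by
    refine Finset.eq_singleton_iff_unique_mem.2
      ⟨Finset.mem_image.2 ⟨1, Finset.mem_univ _, Clifford.conjFn_one hN _⟩, fun φ hφ => ?_⟩
    obtain ⟨g, -, rfl⟩ := Finset.mem_image.1 hφ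
    refine funext fun n => ?_
    rw [Clifford.conjFn_apply, ← Blocks.conjIrr_apply, hinv]
  have h := Clifford.restrict_eq_smul_orbit_sum hN χ.2 θ.2 hc
  rwa [horb, Finset.sum_singleton] at h

/-- The multiplicity is the quotient of the degrees. -/
theorem apply_mul_eq (N : Subgroup G) [hN : N.Normal] [Fintype N] {θ : IrrCharacter N}
    (hinv : ∀ g : G, conjIrr N g θ = θ) {χ : IrrCharacter G}
    (hc : classInner (fun n : N => (χ : G → ℂ) n) (θ : N → ℂ) ≠ 0) (n : N) :
    (χ : G → ℂ) n * (θ : N → ℂ) 1 = (χ : G → ℂ) 1 * (θ : N → ℂ) n := by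
  have h := restrict_eq_smul N hinv hc
  have h1 := congrFun h n
  have h2 := congrFun h 1
  simp only [Pi.smul_apply, smul_eq_mul, OneMemClass.coe_one] at h1 h2
  rw [h1, h2]
  ring

/-- Endomorphisms commuting with two restrictions of equal norm agree. -/
theorem commute_of_classInner_eq {V : Type*} [AddCommGroup V] [Module ℂ V] [FiniteDimensional ℂ V]
    (ρ : Representation ℂ G V) {N M₀ : Subgroup G} [Fintype N] [Fintype M₀] (hle : N ≤ M₀)
    (h : classInner (fun n : N => ρ.character n) (fun n : N => ρ.character n) =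
      classInner (fun m : M₀ => ρ.character m) (fun m : M₀ => ρ.character m))
    {A : Module.End ℂ V} (hA : ∀ n ∈ N, ρ n * A = A * ρ n) {m : G} (hm : m ∈ M₀) :
    ρ m * A = A * ρ m := by
  let σ : Representation ℂ N V := ρ.comp N.subtype
  let τ : Representation ℂ M₀ V := ρ.comp M₀.subtype
  let inc : τ.IntertwiningMap τ →ₗ[ℂ] σ.IntertwiningMap σ :=
    { toFun := fun f => ⟨f.toLinearMap, fun n => f.isIntertwining' ⟨n, hle n.2⟩⟩
      map_add' := fun f g => rfl
      map_smul' := fun c f => rfl }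
  have hinj : Function.Injective inc := fun f g e =>
    Representation.IntertwiningMap.toLinearMap_injective τ τ
      (congrArg Representation.IntertwiningMap.toLinearMap e : _)
  have hdim : Module.finrank ℂ (τ.IntertwiningMap τ) = Module.finrank ℂ (σ.IntertwiningMap σ) := by
    refine Nat.cast_injective (R := ℂ) ?_
    rw [← classInner_eq_finrank, ← classInner_eq_finrank]
    exact h.symm
  have hsurj := (LinearMap.injective_iff_surjective_of_finrank_eq_finrank hdim).1 hinj
  obtain ⟨f, hf⟩ := hsurj ⟨A, fun n => LinearMap.ext fun v =>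
    (LinearMap.congr_fun (hA n n.2) v).symm⟩
  have hfA : f.toLinearMap = A := congrArg Representation.IntertwiningMap.toLinearMap hf
  rw [← hfA]
  exact LinearMap.ext fun v => (LinearMap.congr_fun (f.isIntertwining' ⟨m, hm⟩) v).symm

open scoped Classical in
/-- Conjugation averages over a normal subgroup make the central character lie in the maximal
ideal when a `p`-subgroup moves every element of the class. -/
theorem memLocalIdeal_centralChar {p : ℕ} [Fact p.Prime] {M : Ideal AlgInt} [M.IsPrime]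
    (hM : IsPModular p M) {V : Type*} [AddCommGroup V] [Module ℂ V] [FiniteDimensional ℂ V]
    (ρ : Representation ℂ G V) [ρ.IsIrreducible] {N Q : Subgroup G} [hN : N.Normal] [Fintype N]
    (hNp : ¬ p ∣ Nat.card N) (hQ : IsPGroup p Q)
    (hcomm : ∀ A : Module.End ℂ V, (∀ n ∈ N, ρ n * A = A * ρ n) → ∀ q ∈ Q, ρ q * A = A * ρ q)
    {g : G} (hfree : ∀ x : G, IsConj g x → x ∉ Subgroup.centralizer (Q : Set G)) :
    MemLocalIdeal M (centralChar ρ.character g) := by
  let L := MonoidAlgebra.lift ℤ (Module.End ℂ V) G ρ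
  let u : G → MonoidAlgebra ℤ G := fun x =>
    ∑ n : N, MonoidAlgebra.of ℤ G ((n : G) * x * (n : G)⁻¹)
  let A : G → Module.End ℂ V := fun x => ∑ n : N, ρ ((n : G) * x * (n : G)⁻¹)
  have hLu : ∀ x, L (u x) = A x := fun x => by
    simp only [L, u, A, map_sum]
    exact Finset.sum_congr rfl fun n _ => MonoidAlgebra.lift_of _ _
  have hAN : ∀ x, ∀ k ∈ N, ρ k * A x = A x * ρ k := by
    intro x k hk
    simp only [A, Finset.mul_sum, Finset.sum_mul, ← map_mul]
    refine Fintype.sum_equiv (Equiv.mulLeft (⟨k, hk⟩ : N)) _ _ fun n => ?_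
    simp only [Equiv.coe_mulLeft, Subgroup.coe_mul]
    congr 1
    group
  let X := {x : G // IsConj g x}
  let _ : MulAction Q X :=
    { smul := fun q x => ⟨(q : G) * x.1 * (q : G)⁻¹, x.2.trans (isConj_iff.2 ⟨q, rfl⟩)⟩
      one_smul := fun x => Subtype.ext <| by
        show ((1 : Q) : G) * x.1 * ((1 : Q) : G)⁻¹ = x.1
        simp
      mul_smul := fun a b x => Subtype.ext <| by
        show ((a * b : Q) : G) * x.1 * ((a * b : Q) : G)⁻¹ = (a : G) * ((b : G) * x.1 * (b : G)⁻¹) * (a : G)⁻¹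
        simp only [Subgroup.coe_mul]
        group }
  have hAQ : ∀ (q : Q) (x : X), A (q • x).1 = A x.1 := by
    intro q x
    have h := hcomm (A x.1) (fun n hn => hAN x.1 n hn) q q.2
    have h2 : A ((q : G) * x.1 * (q : G)⁻¹) = ρ q * A x.1 * ρ (q : G)⁻¹ := by
      simp only [A, Finset.mul_sum, Finset.sum_mul, ← map_mul]
      refine Fintype.sum_equiv (MulAut.conjNormal ((q : G)⁻¹)).toEquiv _ _ fun n => ?_
      simp only [MulEquiv.toEquiv_eq_coe, MulEquiv.coe_toEquiv, MulAut.conjNormal_apply]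
      congr 1
      group
    show A ((q : G) * x.1 * (q : G)⁻¹) = A x.1
    rw [h2, h, mul_assoc, ← map_mul, mul_inv_cancel, map_one, mul_one]
  have hp : ∀ x : X, p ∣ Nat.card (MulAction.orbit Q x) := by
    intro x
    obtain ⟨j, hj⟩ := hQ.card_orbit x
    rcases j with _ | j
    · refine absurd ?_ (hfree x.1 x.2)
      rw [pow_zero, Nat.card_eq_one_iff_unique] at hj
      have := hj.1
      refine Subgroup.mem_centralizer_iff.2 fun q hq => ?_
      have he := congrArg (fun y : MulAction.orbit Q x => y.1.1)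
        (Subsingleton.elim (⟨(⟨q, hq⟩ : Q) • x, MulAction.mem_orbit x _⟩ : MulAction.orbit Q x)
          ⟨x, MulAction.mem_orbit_self x⟩)
      have he' : q * x.1 * q⁻¹ = x.1 := he
      calc q * x.1 = q * x.1 * q⁻¹ * q := by group
        _ = x.1 * q := by rw [he']
    · rw [hj]
      exact dvd_pow_self p j.succ_ne_zero
  let T : MonoidAlgebra ℤ G := ∑ ω : Quotient (MulAction.orbitRel Q X),
    (Nat.card (MulAction.orbit Q ω.out) / p) • u ω.out.1
  have hsum : ∑ x : X, A x.1 = p • L T := by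
    rw [map_sum, Finset.smul_sum, ← (MulAction.selfEquivSigmaOrbits Q X).symm.sum_comp
      (fun x : X => A x.1), Fintype.sum_sigma]
    refine Finset.sum_congr rfl fun ω _ => ?_
    rw [map_nsmul, hLu, ← mul_smul, Nat.mul_div_cancel' (hp ω.out), Nat.card_eq_fintype_card,
      ← Finset.card_univ, ← Finset.sum_const]
    refine Finset.sum_congr rfl fun y _ => ?_
    obtain ⟨q, hq⟩ := y.2
    show A y.1.1 = A ω.out.1
    rw [← hq]
    exact hAQ q ω.out
  set c : ℂ := centralChar ρ.character g with hc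
  have hscal : ∑ x : X, A x.1 = ((Nat.card N : ℂ) * c) • LinearMap.id := by
    simp only [A]
    rw [Finset.sum_comm]
    have h1 : ∀ n : N, ∑ x : X, ρ ((n : G) * x.1 * (n : G)⁻¹) = c • LinearMap.id := by
      intro n
      have h0 : ∑ x : X, ρ x.1 = c • LinearMap.id := by
        rw [← Finset.sum_subtype (CharIntegral.classFinset g)
          (fun x => CharIntegral.mem_classFinset) ρ, CharIntegral.classSum_eq_scalar, hc,
          centralChar, Representation.char_one]
      rw [← h0]
      refine Fintype.sum_equiv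
        { toFun := fun x : X => (⟨(n : G) * x.1 * (n : G)⁻¹,
            x.2.trans (isConj_iff.2 ⟨n, rfl⟩)⟩ : X)
          invFun := fun x : X => (⟨(n : G)⁻¹ * x.1 * (n : G),
            x.2.trans (isConj_iff.2 ⟨(n : G)⁻¹, by group⟩)⟩ : X)
          left_inv := fun x => Subtype.ext (by simp [mul_assoc])
          right_inv := fun x => Subtype.ext (by simp [mul_assoc]) } _ _ fun x => rfl
    rw [Finset.sum_congr rfl fun n _ => h1 n, Finset.sum_const, Finset.card_univ,
      ← Nat.card_eq_fintype_card, ← Nat.cast_smul_eq_nsmul ℂ, smul_smul]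
  have hp0 : (p : ℂ) ≠ 0 := Nat.cast_ne_zero.2 (Fact.out : p.Prime).ne_zero
  have hT : L T = ((Nat.card N : ℂ) * c / p) • LinearMap.id := by
    rw [hsum, ← Nat.cast_smul_eq_nsmul ℂ] at hscal
    rw [div_eq_inv_mul, mul_smul, ← hscal, smul_smul, inv_mul_cancel₀ hp0, one_smul]
  have hint := CharIntegral.isIntegral_of_scalar_mem ρ T hT
  refine ⟨(p : AlgInt) * ⟨_, hint⟩, (Nat.card N : AlgInt), Ideal.mul_mem_right _ _ hM.2.2, ?_, ?_⟩
  · intro hmem
    refine hNp ((memLocalIdeal_natCast_iff hM).1 ⟨(Nat.card N : AlgInt), 1, hmem, one_notMem, ?_⟩)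
    simp
  · push_cast
    field_simp

end General

section Fong

variable {G : Type*} [Group G] [Fintype G] {p : ℕ} [Fact p.Prime] {M : Ideal AlgInt} [M.IsPrime]

/-- An invariant character of `O_{p'}(G)` has an invariant extension to `O_{p',p}(G)`. -/
theorem exists_invariant_extension {N H : Subgroup G} [N.Normal] [H.Normal] [Fintype N] [Fintype H]
    (hle : N ≤ H) {k : ℕ} (hk : N.relIndex H = p ^ k) (hcop : (Nat.card N).Coprime p)
    (θ : IrrCharacter N) (hinv : ∀ g : G, conjIrr N g θ = θ) :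
    ∃ η : IrrCharacter H, (∀ n : N, (η : H → ℂ) ⟨n, hle n.2⟩ = (θ : N → ℂ) n) ∧
      ∀ g : G, conjIrr H g η = η := by
  classical
  let e := Subgroup.subgroupOfEquivOfLe hle
  have := Fintype.ofFinite (N.subgroupOf H)
  have hθ' : IsIrrCharacter (N.subgroupOf H) fun x => (θ : N → ℂ) (e x) :=
    IsIrr.comp_surjective e.toMonoidHom e.surjective θ.2
  have hinv' : ∀ (h : H) (x : N.subgroupOf H), (θ : N → ℂ) (e ⟨h * x * h⁻¹,
      (inferInstance : (N.subgroupOf H).Normal).conj_mem _ x.2 h⟩) = (θ : N → ℂ) (e x) := by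
    intro h x
    conv_rhs => rw [← hinv (h : G), Blocks.conjIrr_apply]
    rfl
  have hcard : Nat.card (N.subgroupOf H) = Nat.card N := Nat.card_congr e.toEquiv
  have hdeg : ((fun x => (θ : N → ℂ) (e x)) : N.subgroupOf H → ℂ) 1 =
      (charDegree (θ : N → ℂ) : ℂ) := by
    simp [CharDegree.cast_irrDegree]
  obtain ⟨η, ⟨hη, hres, hdet⟩, huniq⟩ := Exceptional.canonical_extension
    (N := N.subgroupOf H) hθ' hinv' hdeg (by
      rw [show (N.subgroupOf H).index = p ^ k from hk]
      refine Nat.Coprime.pow_left k ?_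
      obtain ⟨n, ρ, hρ, hρc⟩ := hθ'
      rw [← hρc, CharExt.detOrder_eq]
      refine (Nat.Coprime.symm ?_).mul_right (Nat.Coprime.symm ?_)
      · refine hcop.coprime_dvd_left ?_
        rw [← hcard]
        exact orderOf_dvd_of_pow_eq_one (CharExt.hom_pow_card _)
      · exact hcop.coprime_dvd_left (CharDegree.charDegree_dvd_card θ))
  refine ⟨⟨η, hη⟩, fun n => (hres (e.symm n)).trans
    (congrArg (θ : N → ℂ) (e.apply_symm_apply n)), fun g => Subtype.ext ?_⟩
  refine huniq _ (conjIrr H g ⟨η, hη⟩).2 (fun x => ?_) ?_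
  · rw [Blocks.conjIrr_apply]
    refine (hres ⟨⟨g * ((x : H) : G) * g⁻¹, (inferInstance : H.Normal).conj_mem _ (x : H).2 g⟩,
      Subgroup.mem_subgroupOf.2 ((inferInstance : N.Normal).conj_mem _
        (Subgroup.mem_subgroupOf.1 x.2) g)⟩).trans ?_
    conv_rhs => rw [← hinv g, Blocks.conjIrr_apply]
    rfl
  · obtain ⟨j, τ, hτ, hτc⟩ := (conjIrr H g ⟨η, hη⟩).2
    obtain ⟨j', τ', hτ', rfl⟩ := id hη
    obtain ⟨j'', τ'', hτ'', hτc''⟩ := hθ'
    have h1 : detOrder τ.character ∣ detOrder τ'.character :=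
      CanonExt.detOrder_dvd τ' τ (MulAut.conjNormal g).toMonoidHom (by
        rw [hτc]
        rfl)
    rw [← hτc]
    refine Nat.Coprime.coprime_dvd_right h1 ?_
    rw [hdet, show (N.subgroupOf H).index = p ^ k from hk, ← hτc'', CharExt.detOrder_eq]
    refine Nat.Coprime.pow_left k (Nat.Coprime.symm (hcop.coprime_dvd_left ?_))
    rw [← hcard]
    exact orderOf_dvd_of_pow_eq_one (CharExt.hom_pow_card _)

/-- Every block over `θ` meets the characters over its extension. -/
theorem exists_mem_over (hM : IsPModular p M) {N H : Subgroup G} [N.Normal] [Fintype N] [Fintype H]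
    (hle : N ≤ H) {k : ℕ} (hidx : N.relIndex H = p ^ k) (hNp : ¬ p ∣ Nat.card N)
    {θ : IrrCharacter N} (hinv : ∀ g : G, conjIrr N g θ = θ) {η : IrrCharacter H}
    (hη : ∀ n : N, (η : H → ℂ) ⟨n, hle n.2⟩ = (θ : N → ℂ) n) {χ : IrrCharacter G}
    (hc : classInner (fun n : N => (χ : G → ℂ) n) (θ : N → ℂ) ≠ 0) :
    ∃ ψ : IrrCharacter G, SameBlock M (χ : G → ℂ) (ψ : G → ℂ) ∧
      classInner (fun h : H => (ψ : G → ℂ) h) (η : H → ℂ) ≠ 0 := by
  classical
  by_contra hcon
  push Not at hcon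
  set B := blockOf M (χ : G → ℂ)
  let Φ : G → ℂ := fun x => ∑ᶠ ψ ∈ B, (ψ : G → ℂ) 1 * (ψ : G → ℂ) x
  set s : Finset (IrrCharacter G) := (Set.toFinite B).toFinset
  have hΦ : ∀ x, Φ x = ∑ ψ ∈ s, (ψ : G → ℂ) 1 * (ψ : G → ℂ) x := fun x =>
    finsum_mem_eq_finite_toFinset_sum _ _
  have hmem : ∀ ψ ∈ s, ψ ∈ B := fun ψ h => (Set.Finite.mem_toFinset _).1 h
  have h0 : classInner (fun h : H => Φ h) (η : H → ℂ) = 0 := by
    have : (fun h : H => Φ h) = ∑ ψ ∈ s, (ψ : G → ℂ) 1 • (fun h : H => (ψ : G → ℂ) h) := by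
      funext h
      simp [hΦ]
    rw [this, classInner_sum_left]
    refine Finset.sum_eq_zero fun ψ hψ => ?_
    rw [classInner_smul_left, hcon ψ (hmem ψ hψ), mul_zero]
  have hval : ∀ n : N, Φ n * (θ : N → ℂ) 1 = Φ 1 * (θ : N → ℂ) n := fun n => by
    rw [hΦ, hΦ, Finset.sum_mul, Finset.sum_mul]
    refine Finset.sum_congr rfl fun ψ hψ => ?_
    rw [mul_assoc, mul_assoc, apply_mul_eq N hinv
      (constituent_of_sameBlock N hM hNp (hmem ψ hψ) hc) n]
  have hoff : ∀ h : H, (h : G) ∉ N → Φ h = 0 := by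
    intro h hh
    refine sum_block_regular_singular hM (isPBlock_blockOf χ)
      (by simp [(Fact.out : p.Prime).ne_one]) ?_
    by_contra hd
    refine hh (Subgroup.mem_subgroupOf.1
      ((QuotientGroup.eq_one_iff (N := N.subgroupOf H) h).1 (orderOf_eq_one_iff.1 ?_)))
    have h1 : orderOf (h : H ⧸ N.subgroupOf H) ∣ p ^ k := by
      rw [← hidx, Subgroup.relIndex, Subgroup.index_eq_card]
      exact orderOf_dvd_natCard _
    refine Nat.eq_one_of_dvd_coprimes
      (((Nat.Prime.coprime_iff_not_dvd (Fact.out : p.Prime)).2 hd).pow_left k) h1 ?_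
    rw [Subgroup.orderOf_coe h]
    exact orderOf_map_dvd (QuotientGroup.mk' _) h
  have hinner : (Nat.card H : ℂ) * classInner (fun h : H => Φ h) (η : H → ℂ) * (θ : N → ℂ) 1 =
      Φ 1 * Nat.card N := by
    have h1 : classInner (θ : N → ℂ) (θ : N → ℂ) = 1 := classInner_irr_self θ
    simp only [classInner] at h1 ⊢
    rw [← mul_assoc, mul_inv_cancel₀ (Nat.cast_ne_zero.2 Nat.card_pos.ne'), one_mul,
      ← Fintype.sum_of_injective (Subgroup.inclusion hle) (Subgroup.inclusion_injective hle)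
        (fun n : N => Φ n * conj ((θ : N → ℂ) n)) (fun h : H => Φ h * conj ((η : H → ℂ) h))
        (fun h hh => by
          rw [hoff h fun hn => hh ⟨⟨h, hn⟩, Subtype.ext rfl⟩, zero_mul])
        (fun n => by rw [← hη n]; rfl),
      Finset.sum_mul]
    rw [inv_mul_eq_one₀ (Nat.cast_ne_zero.2 Nat.card_pos.ne')] at h1
    rw [h1, Finset.mul_sum]
    refine Finset.sum_congr rfl fun n _ => ?_
    rw [mul_right_comm, hval n, mul_assoc]
  rw [h0, mul_zero, zero_mul] at hinner
  have hΦ1 : Φ 1 ≠ 0 := by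
    rw [hΦ, Finset.sum_congr rfl (g := fun ψ : IrrCharacter G =>
      ((charDegree (ψ : G → ℂ) ^ 2 : ℕ) : ℂ)) fun ψ _ => by
        rw [Nat.cast_pow, CharDegree.cast_irrDegree, sq], ← Nat.cast_sum, Nat.cast_ne_zero]
    refine fun h => ?_
    have := Finset.sum_eq_zero_iff.1 h χ ((Set.Finite.mem_toFinset _).2 (mem_blockOf_self χ))
    exact (charDegree_pos χ).ne' (pow_eq_zero_iff two_ne_zero |>.1 this)
  exact mul_ne_zero hΦ1 (Nat.cast_ne_zero.2 Nat.card_pos.ne') hinner.symm

/-- The characters over an invariant character of `O_{p'}(G)` form one block in a constrained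
group. -/
theorem exists_block_of_constrained (hM : IsPModular p M) (hcon : IsPConstrained p G)
    {N : Subgroup G} [N.Normal] [Fintype N] (hNdef : N = pPrimeCore p G) (θ : IrrCharacter N)
    (hinv : ∀ g : G, conjIrr N g θ = θ) :
    ∃ B : Set (IrrCharacter G), IsPBlock M B ∧
      (∀ χ : IrrCharacter G, χ ∈ B ↔
        classInner (fun n : N => (χ : G → ℂ) n) (θ : N → ℂ) ≠ 0) ∧
      ∃ χ ∈ B, ¬ p ∣ charDegree (χ : G → ℂ) := by
  classical
  let H := pPrimePCore p G
  have := Fintype.ofFinite H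
  have hle : N ≤ H := hNdef ▸ PLocal.pPrimeCore_le_pPrimePCore
  have hcop : (Nat.card N).Coprime p := hNdef ▸ coprime_card_pPrimeCore p G
  have hNp : ¬ p ∣ Nat.card N := (Nat.Prime.coprime_iff_not_dvd Fact.out).1 hcop.symm
  obtain ⟨k, hk⟩ : ∃ k, N.relIndex H = p ^ k :=
    hNdef ▸ PLocal.relIndex_pPrimeCore_pPrimePCore
  obtain ⟨η, hη, hηinv⟩ := exists_invariant_extension hle hk hcop θ hinv
  -- restrictions of characters over the extension
  have hres : ∀ χ : IrrCharacter G, classInner (fun h : H => (χ : G → ℂ) h) (η : H → ℂ) ≠ 0 →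
      classInner (fun n : N => (χ : G → ℂ) n) (θ : N → ℂ) =
        classInner (fun h : H => (χ : G → ℂ) h) (η : H → ℂ) := by
    intro χ hχ
    have h := restrict_eq_smul H hηinv hχ
    have h2 : (fun n : N => (χ : G → ℂ) n) =
        classInner (fun h : H => (χ : G → ℂ) h) (η : H → ℂ) • (θ : N → ℂ) := funext fun n => by
      rw [Pi.smul_apply, ← hη n]
      exact congrFun h ⟨n, hle n.2⟩
    rw [h2, classInner_smul_left, classInner_irr_self, mul_one]
  -- central characters outside the upper core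
  obtain ⟨Q⟩ : Nonempty (Sylow p H) := inferInstance
  have hzero : ∀ χ : IrrCharacter G, classInner (fun h : H => (χ : G → ℂ) h) (η : H → ℂ) ≠ 0 →
      ∀ g : G, g ∉ H → centralCharBar M χ g = 0 := by
    intro χ hχ g hg
    obtain ⟨n, ρ, hρ, hρc⟩ := id χ.2
    rw [centralCharBar_eq_zero_iff, ← hρc]
    have := hρ
    refine memLocalIdeal_centralChar hM ρ (N := N) (Q := (Q : Subgroup H).map H.subtype) hNp
      (Q.2.map _) (fun A hA q hq => ?_) fun x hx hxc => hg ?_
    · refine commute_of_classInner_eq ρ hle ?_ hA (Subgroup.map_subtype_le _ hq)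
      simp only [hρc]
      have hN : classInner (fun n : N => (χ : G → ℂ) n) (θ : N → ℂ) ≠ 0 := by
        rwa [hres χ hχ]
      obtain ⟨m, hm⟩ := IsChar.classInner_eq_natCast
        (IsChar.restrict H (IsIrr.isCharacter χ.2)) (IsIrr.isCharacter η.2)
      conv_lhs => rw [restrict_eq_smul N hinv hN, hres χ hχ, hm]
      conv_rhs => rw [restrict_eq_smul H hηinv hχ, hm]
      simp only [classInner_smul_left, classInner_smul_right, classInner_irr_self]
    · have hxH : x ∈ H := hcon Q hxc
      obtain ⟨y, rfl⟩ := isConj_iff.1 hx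
      simpa [mul_assoc] using (inferInstance : H.Normal).conj_mem _ hxH y⁻¹
  have hsame : ∀ χ χ' : IrrCharacter G,
      classInner (fun h : H => (χ : G → ℂ) h) (η : H → ℂ) ≠ 0 →
      classInner (fun h : H => (χ' : G → ℂ) h) (η : H → ℂ) ≠ 0 →
      SameBlock M (χ : G → ℂ) (χ' : G → ℂ) := by
    intro χ χ' h h'
    refine sameBlock_iff.2 fun g => ?_
    by_cases hg : g ∈ H
    · have hs : ∀ x, x ∉ H → (classSum (Res M) g).coeff x = 0 := by
        intro x hx
        by_contra hne
        rw [coeff_classSum] at hne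
        refine hx ?_
        obtain ⟨y, rfl⟩ := isConj_iff.1 (of_not_not fun hc => hne (if_neg hc))
        exact (inferInstance : H.Normal).conj_mem g hg y
      rw [← omegaBar_classSum, ← omegaBar_classSum,
        omegaBar_eq_omegaBar_resElt H h (isCentralElt_classSum _ g) hs,
        omegaBar_eq_omegaBar_resElt H h' (isCentralElt_classSum _ g) hs]
    · rw [hzero χ h g hg, hzero χ' h' g hg]
  obtain ⟨χ₀, hχ₀⟩ := exists_irr_over H η
  refine ⟨blockOf M (χ₀ : G → ℂ), isPBlock_blockOf χ₀, ?_⟩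
  have hchar : ∀ χ : IrrCharacter G, χ ∈ blockOf M (χ₀ : G → ℂ) ↔
      classInner (fun n : N => (χ : G → ℂ) n) (θ : N → ℂ) ≠ 0 := by
    intro χ
    refine ⟨fun hχ => constituent_of_sameBlock N hM hNp hχ (by rwa [hres χ₀ hχ₀]), fun hχ => ?_⟩
    obtain ⟨ψ, hs, hψ⟩ := exists_mem_over hM hle hk hNp hinv hη hχ
    exact SameBlock.trans' (hsame χ₀ ψ hχ₀ hψ) (SameBlock.symm' hs)
  refine ⟨hchar, ?_⟩
  obtain ⟨P⟩ : Nonempty (Sylow p G) := inferInstance
  obtain ⟨j, hj⟩ := P.2.exists_card_eq
  obtain ⟨χ, hχ, hc⟩ := PPrimeKernel.exists_constituent_invariant P (N := N)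
    (by rw [hj]; exact hcop.pow_right j) θ fun s _ n n' he => by
      conv_rhs => rw [← hinv s, Blocks.conjIrr_apply]
      exact congrArg (θ : N → ℂ) (Subtype.ext he)
  exact ⟨χ, (hchar χ).2 hc, hχ⟩


/-- Fong: the characters over an invariant character of `O_{p'}(G)` form one block. -/
theorem exists_block (hM : IsPModular p M) (hsolv : IsPSolvable p G)
    {N : Subgroup G} [N.Normal] [Fintype N] (hNdef : N = pPrimeCore p G) (θ : IrrCharacter N)
    (hinv : ∀ g : G, conjIrr N g θ = θ) :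
    ∃ B : Set (IrrCharacter G), IsPBlock M B ∧
      (∀ χ : IrrCharacter G, χ ∈ B ↔
        classInner (fun n : N => (χ : G → ℂ) n) (θ : N → ℂ) ≠ 0) ∧
      ∃ χ ∈ B, ¬ p ∣ charDegree (χ : G → ℂ) :=
  exists_block_of_constrained hM (PLocal.isPConstrained_of_isPSolvable hsolv) hNdef θ hinv

/-- A block with a character of `p'`-degree has the Sylow subgroups as defect groups. -/
theorem isDefectGroup_sylow (hM : IsPModular p M) {B : Set (IrrCharacter G)}
    (hB : IsPBlock M B) {χ : IrrCharacter G} (hχ : χ ∈ B)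
    (hd : ¬ p ∣ charDegree (χ : G → ℂ)) :
    (∀ P : Sylow p G, IsDefectGroup p M B (P : Subgroup G)) ∧
      ∀ D : Subgroup G, IsDefectGroup p M B D → ∃ P : Sylow p G, D = (P : Subgroup G) := by
  have hdef : blockDefect p B = (Nat.card G).factorization p := by
    rw [blockDefect, Nat.sInf_eq_zero.2 (Or.inl ((Set.mem_image _ _ _).2 ⟨χ, hχ, Nat.factorization_eq_zero_of_not_dvd hd⟩)),
      Nat.sub_zero]
  have hsyl : ∀ D : Subgroup G, IsDefectGroup p M B D → ∃ P : Sylow p G, D = (P : Subgroup G) :=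
    fun D hD => ⟨Sylow.ofCard D (by rw [IsDefectGroup.card_eq hM hB hD, hdef]), rfl⟩
  refine ⟨fun P => ?_, hsyl⟩
  obtain ⟨D, hD⟩ := exists_isDefectGroup (p := p) hB
  obtain ⟨P₀, rfl⟩ := hsyl D hD
  obtain ⟨x, rfl⟩ := MulAction.exists_smul_eq G P₀ P
  exact IsDefectGroup.map_conj hD x

end Fong

end CfsgLib.FongInvariant
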