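import Cfsg.Agent.Lib.Blocks.AbelianIndexThree
import Mathlib.GroupTheory.Transfer

/-!
# Abelian Sylow subgroups with semiregular automizer

The principal block of a group whose abelian Sylow `p`-subgroup has an automizer acting
semiregularly on its nontrivial elements: orthogonality relations on the singular elements.
-/

set_option autoImplicit false

namespace CfsgLib.Automizer

open Cfsg CfsgLib.Char CfsgLib.Blocks CfsgLib.Fusion
open scoped ComplexConjugate

variable {G : Type*} [Group G] [Fintype G]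

/-- The hypotheses. -/
structure Setting (p : ℕ) (P : Sylow p G) (m : ℕ) : Prop where
  comm : ∀ x ∈ (P : Subgroup G), ∀ y ∈ (P : Subgroup G), x * y = y * x
  index : (Subgroup.centralizer ((P : Subgroup G) : Set G)).relIndex
    (Subgroup.normalizer ((P : Subgroup G) : Set G)) = m
  fpf : ∀ y ∈ (P : Subgroup G), y ≠ 1 →
    Subgroup.centralizer ({y} : Set G) ⊓ Subgroup.normalizer ((P : Subgroup G) : Set G) =
      Subgroup.centralizer ((P : Subgroup G) : Set G)

/-- The automizer. -/
noncomputable abbrev aut {p : ℕ} (P : Sylow p G) : Subgroup (MulAut (P : Subgroup G)) :=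
  ((P : Subgroup G).normalizerMonoidHom).range

variable {p : ℕ} [Fact p.Prime] {P : Sylow p G} {m : ℕ} (S : Setting p P m)
include S

theorem card_aut : Nat.card (aut P) = m := by
  rw [← Subgroup.index_ker, Subgroup.normalizerMonoidHom_ker]
  exact S.index

theorem le_centralizer_self :
    (P : Subgroup G) ≤ Subgroup.centralizer ((P : Subgroup G) : Set G) :=
  fun _ hx => Subgroup.mem_centralizer_iff.mpr fun y hy => S.comm y hy _ hx

theorem le_centralizer {y : G} (hy : y ∈ (P : Subgroup G)) :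
    (P : Subgroup G) ≤ Subgroup.centralizer ({y} : Set G) :=
  fun x hx => Subgroup.mem_centralizer_singleton_iff.mpr (S.comm x hx y hy)

omit S in
theorem exists_rep (a : aut P) : ∃ n ∈ Subgroup.normalizer ((P : Subgroup G) : Set G),
    ∀ x : (P : Subgroup G), n * x * n⁻¹ = ((a : MulAut (P : Subgroup G)) x : G) := by
  obtain ⟨n, hn⟩ := a.2
  exact ⟨n, n.2, fun x => by rw [← hn]; rfl⟩

omit S in
theorem exists_aut {n : G} (hn : n ∈ Subgroup.normalizer ((P : Subgroup G) : Set G)) :
    ∃ a : aut P, ∀ x : (P : Subgroup G), n * x * n⁻¹ = ((a : MulAut (P : Subgroup G)) x : G) :=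
  ⟨⟨_, ⟨⟨n, hn⟩, rfl⟩⟩, fun _ => rfl⟩

omit S in
theorem isConj_act (a : aut P) (x : (P : Subgroup G)) :
    IsConj (x : G) ((a : MulAut (P : Subgroup G)) x : G) := by
  obtain ⟨n, -, h⟩ := exists_rep a
  exact isConj_iff.mpr ⟨n, h x⟩

theorem act_fixed {a : aut P} {x : (P : Subgroup G)} (hx : x ≠ 1)
    (h : (a : MulAut (P : Subgroup G)) x = x) : a = 1 := by
  obtain ⟨n, hn, hn'⟩ := exists_rep a
  have hc : n ∈ Subgroup.centralizer ({(x : G)} : Set G) :=
    Subgroup.mem_centralizer_singleton_iff.mpr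
      (mul_inv_eq_iff_eq_mul.mp (by rw [hn' x, h]))
  have h1 : n ∈ Subgroup.centralizer ((P : Subgroup G) : Set G) := by
    rw [← S.fpf x x.2 fun e => hx (Subtype.ext e)]
    exact ⟨hc, hn⟩
  refine Subtype.ext (MulEquiv.ext fun y => Subtype.ext ?_)
  rw [← hn' y, ← Subgroup.mem_centralizer_iff.mp h1 y y.2, mul_inv_cancel_right]
  rfl

theorem act_inj {a b : aut P} {x : (P : Subgroup G)} (hx : x ≠ 1)
    (h : (a : MulAut (P : Subgroup G)) x = (b : MulAut (P : Subgroup G)) x) : a = b := by
  refine (inv_mul_eq_one.mp (act_fixed S hx (a := a⁻¹ * b) ?_))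
  rw [Subgroup.coe_mul, MulAut.mul_apply, ← h, Subgroup.coe_inv, MulAut.inv_apply_self]

theorem isSylowIn_centralizer {y : G} (hy : y ∈ (P : Subgroup G)) :
    IsSylowIn p (P : Subgroup G) (Subgroup.centralizer ({y} : Set G)) :=
  ⟨P.subtype (le_centralizer S hy), rfl⟩

/-- Fusion in `P`. -/
theorem exists_act_of_isConj {x y : (P : Subgroup G)} (h : IsConj (x : G) y) :
    ∃ a : aut P, (a : MulAut (P : Subgroup G)) x = y := by
  obtain ⟨n, hn, he⟩ := exists_normalizer_conj P.2 (le_centralizer S x.2)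
    (isSylowIn_centralizer S x.2) h (le_centralizer_self S y.2)
  obtain ⟨a, ha⟩ := exists_aut hn
  exact ⟨a, Subtype.ext (by rw [← ha x, he])⟩

omit S in
theorem isPElement {x : G} (hx : x ∈ (P : Subgroup G)) : ∃ k : ℕ, orderOf x = p ^ k := by
  obtain ⟨k, hk⟩ := IsPGroup.iff_orderOf.mp P.2 ⟨x, hx⟩
  exact ⟨k, by rw [← hk, ← Subgroup.orderOf_coe]⟩

section Block

variable {M : Ideal AlgInt} [M.IsPrime] (hM : IsPModular p M)

/-- Burnside: a normal `p`-complement in the centralizer of an element of `P`, with `P` as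
quotient. -/
theorem exists_complement {y : G} (hy : y ∈ (P : Subgroup G)) (hy1 : y ≠ 1) :
    ∃ f : Subgroup.centralizer ({y} : Set G) →* (P : Subgroup G),
      (∀ x : Subgroup.centralizer ({y} : Set G), ∀ h : (x : G) ∈ (P : Subgroup G), f x = ⟨x, h⟩) ∧
        ¬ p ∣ Nat.card f.ker ∧ f.ker.index = Nat.card (P : Subgroup G) := by
  let Cy := Subgroup.centralizer ({y} : Set G)
  let P' : Sylow p Cy := P.subtype (le_centralizer S hy)
  have hP' : Subgroup.normalizer ((P' : Subgroup Cy) : Set Cy) ≤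
      Subgroup.centralizer ((P' : Subgroup Cy) : Set Cy) := fun n hn => by
    have hnG : (n : G) ∈ Subgroup.normalizer ((P : Subgroup G) : Set G) := by
      refine Subgroup.mem_normalizer_iff.mpr fun x => ?_
      constructor
      · intro hx
        exact (Subgroup.mem_normalizer_iff.mp hn ⟨x, le_centralizer S hy hx⟩).mp hx
      · intro hx
        have hx' : x ∈ Cy := by
          have : x = (n : G)⁻¹ * ((n : G) * x * (n : G)⁻¹) * (n : G) := by group
          rw [this]
          exact mul_mem (mul_mem (inv_mem n.2) (le_centralizer S hy hx)) n.2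
        exact (Subgroup.mem_normalizer_iff.mp hn ⟨x, hx'⟩).mpr hx
    have hc : (n : G) ∈ Subgroup.centralizer ((P : Subgroup G) : Set G) := by
      rw [← S.fpf y hy hy1]
      exact ⟨n.2, hnG⟩
    exact Subgroup.mem_centralizer_iff.mpr fun x hx => Subtype.ext
      (Subgroup.mem_centralizer_iff.mp hc x hx)
  let τ := MonoidHom.transferSylow P' hP'
  have hbij : Function.Bijective (τ.domRestrict (P' : Subgroup Cy)) := by
    rw [MonoidHom.transferSylow_domRestrict_eq_pow]
    exact (P'.2.powEquiv' P'.not_dvd_index).bijective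
  let e := MulEquiv.ofBijective _ hbij
  let ι : (P' : Subgroup Cy) ≃* (P : Subgroup G) := Subgroup.subgroupOfEquivOfLe (le_centralizer S hy)
  let f : Cy →* (P : Subgroup G) := ι.toMonoidHom.comp (e.symm.toMonoidHom.comp τ)
  have hker : f.ker = τ.ker := by
    ext x
    simp [f, MonoidHom.mem_ker]
  refine ⟨f, fun x h => ?_, ?_, ?_⟩
  · have h1 : e ⟨x, h⟩ = τ x := rfl
    show ι (e.symm (τ x)) = _
    rw [← h1, e.symm_apply_apply]
    rfl
  · rw [hker]
    exact MonoidHom.not_dvd_card_ker_transferSylow P' hP'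
  · rw [hker, (MonoidHom.ker_transferSylow_isComplement' P' hP').symm.index_eq_card]
    exact Nat.card_congr ι.toEquiv

include hM

/-- A principal block character is constant on the section of an element of `P`. -/
theorem apply_eq_pPart {χ : IrrCharacter G} (hχ : χ ∈ principalBlock M G) {z y : G}
    (hz : IsPPart p z y) (hy : y ∈ (P : Subgroup G)) (hy1 : y ≠ 1) :
    (χ : G → ℂ) z = (χ : G → ℂ) y := by
  obtain ⟨v, rfl, hc, hk, hv⟩ := hz
  obtain ⟨f, -, hker, -⟩ := exists_complement S hy hy1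
  let v' : Subgroup.centralizer ({y} : Set G) :=
    ⟨v, Subgroup.mem_centralizer_singleton_iff.mpr hc.eq.symm⟩
  have := Fintype.ofFinite (Subgroup.centralizer ({y} : Set G))
  refine apply_mul_eq_of_mem_principalBlock hM hk hχ (N := f.ker) hker (v := v') ?_
  rw [MonoidHom.mem_ker]
  obtain ⟨k, hk⟩ := IsPGroup.iff_orderOf.mp P.2 (f v')
  have h1 : orderOf (f v') ∣ orderOf v' := orderOf_map_dvd f v'
  rw [← orderOf_eq_one_iff, hk]
  rcases k with _ | k
  · exact pow_zero p
  · exfalso
    refine hv ((dvd_pow_self p (Nat.succ_ne_zero k)).trans ?_)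
    rw [← hk]
    exact h1.trans (by rw [show v = (v' : G) from rfl, Subgroup.orderOf_coe])

/-- The column norm at a nontrivial element of `P`. -/
theorem sum_norm {y : G} (hy : y ∈ (P : Subgroup G)) (hy1 : y ≠ 1) :
    ∑ᶠ χ ∈ principalBlock M G, (χ : G → ℂ) y * (χ : G → ℂ) y⁻¹ =
      (Nat.card (P : Subgroup G) : ℂ) := by
  classical
  let Cy := Subgroup.centralizer ({y} : Set G)
  have := Fintype.ofFinite Cy
  have := Fintype.ofFinite (IrrCharacter Cy)
  obtain ⟨f, hf, hker, hidx⟩ := exists_complement S hy hy1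
  have hy' := isPElement hy
  have h1 := sum_principalBlock_norm_sq hM (x := y) hy' (y := (1 : Cy)) (by simp [hM.1.ne_one])
  rw [OneMemClass.coe_one, mul_one] at h1
  have hB := isPBlock_principalBlock (G := Cy) (M := M)
  set T := ∑ᶠ ψ ∈ principalBlock M Cy, charDegree (ψ : Cy → ℂ) ^ 2 with hT
  have hTle : T ≤ Nat.card (P : Subgroup G) := by
    rw [← hidx, ← sum_degree_sq_trivial f.ker, hT,
      finsum_mem_eq_finite_toFinset_sum _ (Set.toFinite _)]
    refine Finset.sum_le_sum_of_subset fun ψ hψ => Finset.mem_filter.mpr ⟨Finset.mem_univ _, ?_⟩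
    exact apply_eq_of_mem_principalBlock f.ker hM hker ((Set.Finite.mem_toFinset _).mp hψ)
  have hTpos : 0 < T := by
    rw [hT, finsum_mem_eq_finite_toFinset_sum _ (Set.toFinite _)]
    exact Finset.sum_pos' (fun _ _ => Nat.zero_le _)
      ⟨Char.trivChar Cy, (Set.Finite.mem_toFinset _).mpr trivChar_mem_principalBlock,
        pow_pos (charDegree_pos _) 2⟩
  have hTval : T = Nat.card (P : Subgroup G) := by
    refine le_antisymm hTle (Nat.le_of_dvd hTpos ?_)
    have hfac := CharAction.factorization_sum_degree_sq hM hB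
    have hdef : blockDefect p (principalBlock M Cy) = (Nat.card Cy).factorization p := by
      have h0 : (0 : ℕ) ∈ ((fun χ : IrrCharacter Cy =>
          (charDegree (χ : Cy → ℂ)).factorization p) '' principalBlock M Cy) :=
        ⟨Char.trivChar Cy, trivChar_mem_principalBlock, by simp [charDegree, Char.trivChar_apply]⟩
      rw [blockDefect, Nat.sInf_eq_zero.mpr (Or.inl h0), Nat.sub_zero]
    rw [hdef, ← hT] at hfac
    have hP' : Nat.card (P : Subgroup G) = p ^ (Nat.card Cy).factorization p := by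
      rw [← (P.subtype (le_centralizer S hy)).card_eq_multiplicity]
      exact (Nat.card_congr (Subgroup.subgroupOfEquivOfLe (le_centralizer S hy)).toEquiv).symm
    rw [hP', show (Nat.card Cy).factorization p = T.factorization p by omega]
    exact Nat.ordProj_dvd T p
  have h2 : (∑ᶠ ψ ∈ principalBlock M Cy, ‖(ψ : Cy → ℂ) 1‖ ^ 2 : ℝ) = (T : ℝ) := by
    rw [hT, finsum_mem_eq_finite_toFinset_sum _ (Set.toFinite _),
      finsum_mem_eq_finite_toFinset_sum _ (Set.toFinite _), Nat.cast_sum]
    refine Finset.sum_congr rfl fun ψ _ => ?_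
    rw [apply_one_eq_charDegree, Complex.norm_natCast, Nat.cast_pow]
  rw [h2, hTval] at h1
  rw [show (Nat.card (P : Subgroup G) : ℂ) = ((Nat.card (P : Subgroup G) : ℝ) : ℂ) by simp, ← h1,
    finsum_mem_eq_finite_toFinset_sum _ (Set.toFinite _),
    finsum_mem_eq_finite_toFinset_sum _ (Set.toFinite _), Complex.ofReal_sum]
  refine Finset.sum_congr rfl fun χ _ => ?_
  rw [IsIrr.map_inv χ.2, Complex.mul_conj', Complex.ofReal_pow]

open scoped Classical in
/-- Column orthogonality on `P`. -/
theorem sum_orth [Fintype (aut P)] (x : (P : Subgroup G)) (hx : x ≠ 1) (x' : (P : Subgroup G))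
    (hx' : x' ≠ 1) :
    ∑ᶠ χ ∈ principalBlock M G, (χ : G → ℂ) x * conj ((χ : G → ℂ) x') =
      (Nat.card (P : Subgroup G) : ℂ) *
        ∑ a : aut P, if x' = (a : MulAut (P : Subgroup G)) x then (1 : ℂ) else 0 := by
  classical
  have hconv : ∀ χ : IrrCharacter G, conj ((χ : G → ℂ) x') = (χ : G → ℂ) (x' : G)⁻¹ :=
    fun χ => (IsIrr.map_inv χ.2 _).symm
  simp only [hconv]
  have hx1 : (x : G) ≠ 1 := fun e => hx (Subtype.ext e)
  by_cases h : ∃ a : aut P, (a : MulAut (P : Subgroup G)) x = x'
  · obtain ⟨a, rfl⟩ := h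
    have hv : ∀ χ : IrrCharacter G,
        (χ : G → ℂ) (((a : MulAut (P : Subgroup G)) x : G))⁻¹ = (χ : G → ℂ) (x : G)⁻¹ := fun χ => by
      rw [IsIrr.map_inv χ.2, IsIrr.map_inv χ.2]
      obtain ⟨n, -, hn⟩ := exists_rep a
      rw [← hn x, IsIrr.isClassFunction χ.2 (x : G) n]
    simp only [hv]
    rw [sum_norm S hM x.2 hx1, Finset.sum_eq_single a (fun b _ hb => if_neg fun e =>
      hb (act_inj S hx e).symm) (fun h => absurd (Finset.mem_univ a) h), if_pos rfl, mul_one]
  · have : ∑ᶠ χ ∈ principalBlock M G, (χ : G → ℂ) x * (χ : G → ℂ) (x' : G)⁻¹ = 0 := by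
      refine sum_block_apply_mul_eq_zero hM isPBlock_principalBlock
        (u := (x : G)) (v := (x' : G)) ⟨1, mul_one _, Commute.one_right _, isPElement x.2, by
          simp [hM.1.ne_one]⟩ ⟨1, mul_one _, Commute.one_right _, isPElement x'.2, by
          simp [hM.1.ne_one]⟩ fun hc => h (exists_act_of_isConj S hc)
    push Not at h
    rw [this, Finset.sum_eq_zero (fun a _ => if_neg (Ne.symm (h a))), mul_zero]

omit S in
/-- Orthogonality of the singular elements of `P` to the regular ones. -/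
theorem sum_regular {x : (P : Subgroup G)} (hx : x ≠ 1) {r : G} (hr : ¬ p ∣ orderOf r) :
    ∑ᶠ χ ∈ principalBlock M G, (χ : G → ℂ) r * (χ : G → ℂ) x = 0 := by
  refine sum_block_regular_singular hM isPBlock_principalBlock hr ?_
  obtain ⟨k, hk⟩ := isPElement x.2
  rcases k with _ | k
  · rw [pow_zero, orderOf_eq_one_iff] at hk
    exact absurd (Subtype.ext hk) hx
  · rw [hk]
    exact dvd_pow_self p (Nat.succ_ne_zero k)

end Block

end CfsgLib.Automizer
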