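import Cfsg.Agent.Lib.Blocks.FrobeniusAutomizer
import Cfsg.Agent.Lib.CharAction.DegreeSum
import Cfsg.Agent.Lib.Char.AbelianInertia
import Mathlib.GroupTheory.FiniteAbelian.Duality
import Mathlib.RingTheory.RootsOfUnity.AlgebraicallyClosed

/-!
# Exceptional characters for a semiregular automizer
-/

set_option autoImplicit false

namespace CfsgLib.Automizer

open Cfsg CfsgLib.Char CfsgLib.Blocks
open scoped ComplexConjugate

/-- Coherence: integer vectors with all norms `m + 1` and all mutual products `m`, orthogonal to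
positive weights. -/
theorem coherent {ι J : Type*} [Fintype ι] [Fintype J] [DecidableEq ι] [DecidableEq J]
    (v : J → ι → ℤ) (w : ι → ℤ) (hw : ∀ i, 0 < w i) {m : ℤ}
    (hg : ∀ j k, ∑ i, v j i * v k i = m + if j = k then 1 else 0)
    (hdeg : ∀ j, ∑ i, v j i * w i = 0) (hJ : 2 ≤ Fintype.card J) :
    ∃ (e : J → ι) (δ : ℤ) (base : ι → ℤ) (D : ℤ), (δ = 1 ∨ δ = -1) ∧ Function.Injective e ∧
      (∀ j i, v j i = base i + if e j = i then δ else 0) ∧ ∀ j, base (e j) = D := by
  obtain ⟨j₀, j₁, hj01⟩ := Fintype.one_lt_card_iff.mp (by omega : 1 < Fintype.card J)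
  have hd : ∀ j k : J, j ≠ k → ∃ a b : ι, a ≠ b ∧
      ∀ i, v j i - v k i = (if a = i then 1 else 0) - (if b = i then 1 else 0) := by
    intro j k hjk
    have hn : ∑ i, (v j i - v k i) * (v j i - v k i) = 2 := by
      have h : ∑ i, (v j i - v k i) * (v j i - v k i) =
          ∑ i, v j i * v j i - ∑ i, v j i * v k i - ∑ i, v k i * v j i + ∑ i, v k i * v k i := by
        rw [← Finset.sum_sub_distrib, ← Finset.sum_sub_distrib, ← Finset.sum_add_distrib]
        exact Finset.sum_congr rfl fun i _ => by ring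
      rw [h, hg, hg, hg, hg, if_pos rfl, if_neg hjk, if_neg (Ne.symm hjk), if_pos rfl]
      ring
    have hwt : ∑ i, (v j i - v k i) * w i = 0 := by
      simp only [sub_mul, Finset.sum_sub_distrib, hdeg, sub_self]
    have hle : ∀ i, (v j i - v k i) * (v j i - v k i) ≤ 2 := fun i =>
      (Finset.single_le_sum (f := fun i => (v j i - v k i) * (v j i - v k i))
        (fun i _ => mul_self_nonneg _) (Finset.mem_univ i)).trans hn.le
    have hunit : ∀ i, v j i - v k i ≠ 0 → v j i - v k i = 1 ∨ v j i - v k i = -1 := fun i h => by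
      have h1 := hle i
      have h2 : -1 ≤ v j i - v k i := by nlinarith
      have h3 : v j i - v k i ≤ 1 := by nlinarith
      omega
    set T := Finset.univ.filter (fun i => v j i - v k i ≠ 0) with hT
    have hT2 : T.card = 2 := by
      have h : ((T.card : ℕ) : ℤ) = 2 := by
        rw [← hn, Finset.card_eq_sum_ones, Nat.cast_sum, hT, Finset.sum_filter]
        refine Finset.sum_congr rfl fun i _ => ?_
        by_cases h : v j i - v k i = 0
        · simp [h]
        · rw [if_pos h]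
          rcases hunit i h with e | e <;> rw [e] <;> norm_num
      exact_mod_cast h
    obtain ⟨a, b, hab, hTab⟩ := Finset.card_eq_two.mp hT2
    have hz : ∀ i, i ≠ a → i ≠ b → v j i - v k i = 0 := fun i ha hb => by
      by_contra h
      have : i ∈ T := Finset.mem_filter.mpr ⟨Finset.mem_univ _, h⟩
      simp [hTab, ha, hb] at this
    have hua := hunit a (Finset.mem_filter.mp (show a ∈ T by simp [hTab])).2
    have hub := hunit b (Finset.mem_filter.mp (show b ∈ T by simp [hTab])).2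
    have hsum : (v j a - v k a) * w a + (v j b - v k b) * w b = 0 := by
      rw [← hwt, ← Finset.sum_subset (Finset.subset_univ ({a, b} : Finset ι)) (fun i _ hi => by
        simp only [Finset.mem_insert, Finset.mem_singleton, not_or] at hi
        rw [hz i hi.1 hi.2, zero_mul]), Finset.sum_pair hab]
    have := hw a
    have := hw b
    rcases hua with ea | ea <;> rcases hub with eb | eb <;> rw [ea, eb] at hsum
    · omega
    · refine ⟨a, b, hab, fun i => ?_⟩
      by_cases ha : a = i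
      · subst ha; simp [ea, Ne.symm hab]
      by_cases hb : b = i
      · subst hb; simp [eb, hab]
      rw [hz i (Ne.symm ha) (Ne.symm hb), if_neg ha, if_neg hb, sub_zero]
    · refine ⟨b, a, Ne.symm hab, fun i => ?_⟩
      by_cases ha : a = i
      · subst ha; simp [ea, Ne.symm hab]
      by_cases hb : b = i
      · subst hb; simp [eb, hab]
      rw [hz i (Ne.symm ha) (Ne.symm hb), if_neg ha, if_neg hb, sub_zero]
    · omega
  have : Nonempty ι := ⟨(hd j₁ j₀ (Ne.symm hj01)).choose⟩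
  choose! pp nn hne hpn using fun j (h : j ≠ j₀) => hd j j₀ h
  have hrel : ∀ j k, j ≠ j₀ → k ≠ j₀ → j ≠ k →
      (pp j = pp k ∧ nn j ≠ nn k) ∨ (pp j ≠ pp k ∧ nn j = nn k) := by
    intro j k hj hk hjk
    have h1 : ∑ i, (v j i - v j₀ i) * (v k i - v j₀ i) = 1 := by
      have h : ∑ i, (v j i - v j₀ i) * (v k i - v j₀ i) =
          ∑ i, v j i * v k i - ∑ i, v j i * v j₀ i - ∑ i, v j₀ i * v k i + ∑ i, v j₀ i * v j₀ i := by
        rw [← Finset.sum_sub_distrib, ← Finset.sum_sub_distrib, ← Finset.sum_add_distrib]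
        exact Finset.sum_congr rfl fun i _ => by ring
      rw [h, hg, hg, hg, hg, if_neg hjk, if_neg hj, if_neg (Ne.symm hk), if_pos rfl]
      ring
    simp only [hpn j hj, hpn k hk, mul_sub, sub_mul, ite_mul, one_mul, zero_mul, mul_ite, mul_one,
      mul_zero, Finset.sum_sub_distrib, Finset.sum_ite_eq, Finset.mem_univ, if_true] at h1
    have n1 := hne j hj
    have n2 := hne k hk
    split_ifs at h1 <;> simp_all
  -- the common centre
  have key : (∀ j, j ≠ j₀ → pp j = pp j₁) ∨ ∀ j, j ≠ j₀ → nn j = nn j₁ := by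
    by_contra hall
    simp only [not_or, not_forall] at hall
    obtain ⟨⟨j, hj, hpj⟩, l, hl, hnl⟩ := hall
    have hj1 : j ≠ j₁ := fun e => hpj (by rw [e])
    have hl1 : l ≠ j₁ := fun e => hnl (by rw [e])
    have r1 := hrel j j₁ hj (Ne.symm hj01) hj1
    have r2 := hrel l j₁ hl (Ne.symm hj01) hl1
    have hjn : nn j = nn j₁ := (r1.resolve_left fun h => hpj h.1).2
    have hlp : pp l = pp j₁ := (r2.resolve_right fun h => hnl h.2).1
    have hjl : j ≠ l := fun e => hpj (e ▸ hlp)
    rcases hrel j l hj hl hjl with h | h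
    · exact hpj (h.1.trans hlp)
    · exact hnl (h.2.symm.trans hjn)
  obtain ⟨e, δ, base, hδ, he, hv⟩ : ∃ (e : J → ι) (δ : ℤ) (base : ι → ℤ), (δ = 1 ∨ δ = -1) ∧
      Function.Injective e ∧ ∀ j i, v j i = base i + if e j = i then δ else 0 := by
    rcases key with hc | hc
    · refine ⟨fun j => if j = j₀ then pp j₁ else nn j, -1,
        fun i => v j₀ i + (if pp j₁ = i then 1 else 0), Or.inr rfl, ?_, ?_⟩
      · intro j k h
        simp only at h
        by_cases hj : j = j₀ <;> by_cases hk : k = j₀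
        · rw [hj, hk]
        · rw [if_pos hj, if_neg hk, ← hc k hk] at h
          exact absurd h (hne k hk)
        · rw [if_neg hj, if_pos hk, ← hc j hj] at h
          exact absurd h.symm (hne j hj)
        · rw [if_neg hj, if_neg hk] at h
          by_contra hjk
          rcases hrel j k hj hk hjk with r | r
          exacts [r.2 h, r.1 ((hc j hj).trans (hc k hk).symm)]
      · intro j i
        by_cases hj : j = j₀
        · subst hj; simp only [if_true]; split_ifs <;> ring
        · simp only [if_neg hj]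
          have h := hpn j hj i
          rw [hc j hj] at h
          split_ifs at h ⊢ <;> linarith
    · refine ⟨fun j => if j = j₀ then nn j₁ else pp j, 1,
        fun i => v j₀ i - (if nn j₁ = i then 1 else 0), Or.inl rfl, ?_, ?_⟩
      · intro j k h
        simp only at h
        by_cases hj : j = j₀ <;> by_cases hk : k = j₀
        · rw [hj, hk]
        · rw [if_pos hj, if_neg hk, ← hc k hk] at h
          exact absurd h.symm (hne k hk)
        · rw [if_neg hj, if_pos hk, ← hc j hj] at h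
          exact absurd h (hne j hj)
        · rw [if_neg hj, if_neg hk] at h
          by_contra hjk
          rcases hrel j k hj hk hjk with r | r
          exacts [r.2 ((hc j hj).trans (hc k hk).symm) , r.1 h]
      · intro j i
        by_cases hj : j = j₀
        · subst hj; simp only [if_true]; split_ifs <;> ring
        · simp only [if_neg hj]
          have h := hpn j hj i
          rw [hc j hj] at h
          split_ifs at h ⊢ <;> linarith
  refine ⟨e, δ, base, base (e j₀), hδ, he, hv, fun j => ?_⟩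
  have hnorm : ∀ j, ∑ i, base i * base i + 2 * δ * base (e j) + δ * δ = m + 1 := fun j => by
    have h := hg j j
    rw [if_pos rfl] at h
    rw [← h]
    simp only [hv, add_mul, mul_add, ite_mul, mul_ite, zero_mul, mul_zero, Finset.sum_add_distrib,
      Finset.sum_ite_eq, Finset.mem_univ, if_true]
    ring
  have h1 := hnorm j
  have h2 := hnorm j₀
  rcases hδ with e' | e' <;> subst e' <;> linarith

variable {G : Type*} [Group G] [Fintype G] {p : ℕ} [Fact p.Prime] {P : Sylow p G} {m : ℕ}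
  (S : Setting p P m)
include S

/-- The linear characters of `P`. -/
abbrev Lin (_ : Setting p P m) := (P : Subgroup G) →* ℂˣ

theorem sum_apply_lin [Fintype (Lin S)] [DecidableEq (P : Subgroup G)] (x : (P : Subgroup G)) :
    ∑ ψ : Lin S, (ψ x : ℂ) = if x = 1 then (Nat.card (P : Subgroup G) : ℂ) else 0 := by
  letI : CommGroup (P : Subgroup G) :=
    { (inferInstance : Group (P : Subgroup G)) with
      mul_comm := fun a b => Subtype.ext (S.comm a a.2 b b.2) }
  split_ifs with h
  · subst h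
    obtain ⟨e⟩ := CommGroup.monoidHom_mulEquiv_of_hasEnoughRootsOfUnity (P : Subgroup G) ℂ
    simp [← Nat.card_congr e.toEquiv, Nat.card_eq_fintype_card]
  · obtain ⟨φ, hφ⟩ := CommGroup.exists_apply_ne_one_of_hasEnoughRootsOfUnity (P : Subgroup G) ℂ h
    have key : ∑ ψ : Lin S, (ψ x : ℂ) = (φ x : ℂ) * ∑ ψ : Lin S, (ψ x : ℂ) := by
      rw [Finset.mul_sum]
      exact (Fintype.sum_equiv (Equiv.mulLeft φ) (fun ψ : Lin S => (φ x : ℂ) * (ψ x : ℂ))
        (fun ψ : Lin S => (ψ x : ℂ)) fun ψ => by simp).symm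
    have h1 : ((φ x : ℂ) - 1) * ∑ ψ : Lin S, (ψ x : ℂ) = 0 := by
      rw [sub_mul, one_mul, ← key, sub_self]
    exact (mul_eq_zero.mp h1).resolve_left fun e => hφ (Units.ext (sub_eq_zero.mp e))

theorem finite_lin : Finite (Lin S) :=
  Finite.of_injective (fun l => (⟨_, isIrrCharacter_linear l⟩ : IrrCharacter (P : Subgroup G)))
    fun _ _ h => MonoidHom.ext fun x => Units.ext (congrFun (congrArg Subtype.val h) x)

theorem sum_apply [Fintype (P : Subgroup G)] (ψ : Lin S) [Decidable (ψ = 1)] :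
    ∑ x : (P : Subgroup G), (ψ x : ℂ) = if ψ = 1 then (Nat.card (P : Subgroup G) : ℂ) else 0 := by
  split_ifs with h
  · subst h
    simp [Nat.card_eq_fintype_card]
  · obtain ⟨a, ha⟩ : ∃ a, ψ a ≠ 1 := by
      by_contra hall
      push Not at hall
      exact h (MonoidHom.ext hall)
    have key : ∑ x : (P : Subgroup G), (ψ x : ℂ) = (ψ a : ℂ) * ∑ x : (P : Subgroup G), (ψ x : ℂ) := by
      rw [Finset.mul_sum]
      exact (Fintype.sum_equiv (Equiv.mulLeft a) (fun x => (ψ a : ℂ) * (ψ x : ℂ))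
        (fun x => (ψ x : ℂ)) fun x => by simp).symm
    have h1 : ((ψ a : ℂ) - 1) * ∑ x : (P : Subgroup G), (ψ x : ℂ) = 0 := by
      rw [sub_mul, one_mul, ← key, sub_self]
    exact (mul_eq_zero.mp h1).resolve_left fun e => ha (Units.ext (sub_eq_zero.mp e))

/-- The conjugate of a linear character. -/
noncomputable def twist (a : aut P) (ψ : Lin S) : Lin S :=
  ψ.comp (a : MulAut (P : Subgroup G)).toMonoidHom

theorem twist_apply (a : aut P) (ψ : Lin S) (x : (P : Subgroup G)) :
    twist S a ψ x = ψ ((a : MulAut (P : Subgroup G)) x) := rfl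

theorem twist_twist (a b : aut P) (ψ : Lin S) : twist S a (twist S b ψ) = twist S (b * a) ψ := rfl

theorem twist_id (ψ : Lin S) : twist S 1 ψ = ψ := rfl

theorem twist_one (a : aut P) : twist S a 1 = 1 := MonoidHom.ext fun _ => rfl

theorem twist_fixed {a : aut P} (ha : a ≠ 1) {ψ : Lin S} (h : twist S a ψ = ψ) : ψ = 1 := by
  let c : ↥(P : Subgroup G) → ↥(P : Subgroup G) := fun x => (a : MulAut (P : Subgroup G)) x * x⁻¹
  have hinj : Function.Injective c := fun x y hxy => by
    have hxy' : (a : MulAut (P : Subgroup G)) x * x⁻¹ = (a : MulAut (P : Subgroup G)) y * y⁻¹ := hxy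
    have : (a : MulAut (P : Subgroup G)) (y⁻¹ * x) = y⁻¹ * x := by
      rw [map_mul, map_inv]
      calc ((a : MulAut (P : Subgroup G)) y)⁻¹ * (a : MulAut (P : Subgroup G)) x
          = ((a : MulAut (P : Subgroup G)) y)⁻¹ * ((a : MulAut (P : Subgroup G)) x * x⁻¹) * x := by
            group
        _ = _ := by rw [hxy']; group
    by_contra hne
    exact ha (act_fixed S (fun e => hne (inv_mul_eq_one.mp e).symm) this)
  refine MonoidHom.ext fun z => ?_
  obtain ⟨x, rfl⟩ := Finite.injective_iff_surjective.mp hinj z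
  show ψ ((a : MulAut (P : Subgroup G)) x * x⁻¹) = 1
  rw [map_mul, map_inv, show ψ ((a : MulAut (P : Subgroup G)) x) = ψ x from DFunLike.congr_fun h x,
    mul_inv_cancel]

theorem twist_inj {a b : aut P} {ψ : Lin S} (hψ : ψ ≠ 1) (h : twist S a ψ = twist S b ψ) :
    a = b := by
  by_contra hne
  have h1 : twist S (a * b⁻¹) ψ = ψ := by
    have := congrArg (twist S b⁻¹) h
    rwa [twist_twist, twist_twist, mul_inv_cancel, twist_id] at this
  exact hψ (twist_fixed S (fun e => hne (mul_inv_eq_one.mp e)) h1)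

/-- The coefficient of a class function on `P`. -/
noncomputable def coef [Fintype (P : Subgroup G)] (χ : G → ℂ) (ψ : Lin S) : ℂ :=
  (Nat.card (P : Subgroup G) : ℂ)⁻¹ * ∑ x : (P : Subgroup G), χ x * (conj (ψ x : ℂ) - 1)

variable [Fintype (P : Subgroup G)]

theorem coef_int (χ : IrrCharacter G) (ψ : Lin S) : ∃ n : ℤ, coef S (χ : G → ℂ) ψ = n := by
  obtain ⟨a, ha⟩ := IsChar.classInner_eq_natCast (IsChar.restrict _ (IsIrr.isCharacter χ.2))
    (IsIrr.isCharacter (isIrrCharacter_linear ψ))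
  obtain ⟨b, hb⟩ := IsChar.classInner_eq_natCast
    (IsChar.restrict (P : Subgroup G) (IsIrr.isCharacter χ.2)) isCharacter_one
  refine ⟨(a : ℤ) - b, ?_⟩
  push_cast
  rw [← ha, ← hb]
  simp only [coef, Cfsg.classInner, mul_sub, Finset.sum_sub_distrib, map_one]

theorem coef_twist (χ : IrrCharacter G) (a : aut P) (ψ : Lin S) :
    coef S (χ : G → ℂ) (twist S a ψ) = coef S (χ : G → ℂ) ψ := by
  simp only [coef]
  congr 1
  refine Fintype.sum_equiv (a : MulAut (P : Subgroup G)).toEquiv _ _ fun x => ?_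
  show (χ : G → ℂ) x * (conj (ψ ((a : MulAut (P : Subgroup G)) x) : ℂ) - 1) =
    (χ : G → ℂ) ((a : MulAut (P : Subgroup G)) x : G) *
      (conj (ψ ((a : MulAut (P : Subgroup G)) x) : ℂ) - 1)
  obtain ⟨n, -, hn⟩ := exists_rep a
  rw [← hn x, IsIrr.isClassFunction χ.2 (x : G) n]

theorem apply_eq_sum_coef [Fintype (Lin S)] (χ : G → ℂ) {x : (P : Subgroup G)} (hx : x ≠ 1) :
    χ x = ∑ ψ : Lin S, coef S χ ψ * (ψ x : ℂ) := by
  classical
  have hcard : (Nat.card (P : Subgroup G) : ℂ) ≠ 0 := Nat.cast_ne_zero.mpr Nat.card_pos.ne'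
  have hconj : ∀ (ψ : Lin S) (z : (P : Subgroup G)), conj (ψ z : ℂ) = (ψ z⁻¹ : ℂ) := fun ψ z =>
    (IsIrr.map_inv (isIrrCharacter_linear ψ) z).symm
  simp only [coef, mul_assoc, Finset.sum_mul, ← Finset.mul_sum]
  rw [Finset.sum_comm]
  have : ∀ z : (P : Subgroup G), ∑ ψ : Lin S, χ z * ((conj (ψ z : ℂ) - 1) * (ψ x : ℂ)) =
      if z = x then χ x * (Nat.card (P : Subgroup G) : ℂ) else 0 := fun z => by
    simp only [hconj, sub_mul, one_mul, ← Units.val_mul, ← map_mul, mul_sub,
      Finset.sum_sub_distrib, ← Finset.mul_sum, sum_apply_lin S, if_neg hx, mul_zero, sub_zero,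
      inv_mul_eq_one]
    split_ifs with h <;> simp [h]
  rw [Finset.sum_congr rfl fun z _ => this z, Finset.sum_ite_eq' Finset.univ x,
    if_pos (Finset.mem_univ x), mul_comm (χ x), ← mul_assoc, inv_mul_cancel₀ hcard, one_mul]

theorem coef_triv {ψ : Lin S} (hψ : ψ ≠ 1) : coef S (Char.trivChar G : G → ℂ) ψ = -1 := by
  classical
  have hn : (Nat.card (P : Subgroup G) : ℂ) ≠ 0 := Nat.cast_ne_zero.mpr Nat.card_pos.ne'
  simp only [coef, trivChar_apply, one_mul, Finset.sum_sub_distrib]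
  rw [← map_sum, sum_apply S, if_neg hψ, map_zero, Finset.sum_const, Finset.card_univ,
    nsmul_eq_mul, mul_one, ← Nat.card_eq_fintype_card]
  field_simp
  ring

variable {M : Ideal AlgInt} [M.IsPrime] (hM : IsPModular p M)
include hM

theorem coef_gram [DecidableEq (Lin S)] [Fintype (aut P)] {ψ φ : Lin S} (hψ : ψ ≠ 1) (hφ : φ ≠ 1) :
    ∑ᶠ χ ∈ principalBlock M G, coef S (χ : G → ℂ) ψ * conj (coef S (χ : G → ℂ) φ) =
      (m : ℂ) + ∑ a : aut P, if ψ = twist S a φ then 1 else 0 := by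
  classical
  set n : ℂ := (Nat.card (P : Subgroup G) : ℂ) with hn
  have hn0 : n ≠ 0 := Nat.cast_ne_zero.mpr Nat.card_pos.ne'
  set K := (Set.toFinite (principalBlock M G)).toFinset
  rw [finsum_mem_eq_finite_toFinset_sum _ (Set.toFinite _)]
  let f : Lin S → ↥(P : Subgroup G) → ℂ := fun η x => conj (η x : ℂ) - 1
  have hf1 : ∀ η, f η 1 = 0 := fun η => by simp [f]
  have hrow : ∀ x : (P : Subgroup G), x ≠ 1 →
      ∑ x' : (P : Subgroup G), conj (f φ x') * ∑ χ ∈ K, (χ : G → ℂ) x * conj ((χ : G → ℂ) x') =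
        n * ∑ a : aut P, conj (f φ ((a : MulAut (P : Subgroup G)) x)) := by
    intro x hx
    have h : ∀ x' : (P : Subgroup G),
        conj (f φ x') * ∑ χ ∈ K, (χ : G → ℂ) x * conj ((χ : G → ℂ) x') =
        n * ∑ a : aut P,
          if x' = (a : MulAut (P : Subgroup G)) x then conj (f φ x') else 0 := fun x' => by
      by_cases hx' : x' = 1
      · subst hx'
        simp [hf1]
      · have := sum_orth S hM x hx x' hx'
        rw [finsum_mem_eq_finite_toFinset_sum _ (Set.toFinite _)] at this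
        rw [this, ← mul_assoc, mul_comm _ n, mul_assoc, Finset.mul_sum]
        congr 1
        exact Finset.sum_congr rfl fun a _ => by split_ifs <;> ring
    rw [Finset.sum_congr rfl fun x' _ => h x', ← Finset.mul_sum, Finset.sum_comm]
    congr 1
    exact Finset.sum_congr rfl fun a _ => by rw [Finset.sum_ite_eq']; simp
  have key : ∀ η : Lin S, η ≠ 1 → n⁻¹ * ∑ x : (P : Subgroup G), f ψ x * conj (f η x) =
      (if ψ = η then 1 else 0) + 1 := fun η hη => by
    have hmul : ∀ x : (P : Subgroup G), conj (ψ x : ℂ) * (η x : ℂ) = (((η * ψ⁻¹) x : ℂˣ) : ℂ) := fun x => by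
      rw [show conj (ψ x : ℂ) = (ψ x⁻¹ : ℂ) from (IsIrr.map_inv (isIrrCharacter_linear ψ) x).symm,
        MonoidHom.mul_apply, MonoidHom.inv_apply, map_inv, Units.val_mul, mul_comm]
    simp only [f, map_sub, Complex.conj_conj, map_one, sub_mul, mul_sub, one_mul, mul_one, hmul,
      Finset.sum_sub_distrib]
    have e1 : ∑ x : (P : Subgroup G), (((η * ψ⁻¹) x : ℂˣ) : ℂ) = if ψ = η then n else 0 := by
      rw [sum_apply S]
      by_cases h : ψ = η
      · subst h; rw [if_pos (mul_inv_cancel ψ), if_pos rfl]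
      · rw [if_neg fun e => h (mul_inv_eq_one.mp e).symm, if_neg h]
    have e2 : ∑ x : (P : Subgroup G), conj (ψ x : ℂ) = 0 := by
      rw [← map_sum, sum_apply S, if_neg hψ, map_zero]
    have e3 : ∑ x : (P : Subgroup G), (η x : ℂ) = 0 := by rw [sum_apply S, if_neg hη]
    rw [e1, e2, e3, Finset.sum_const, Finset.card_univ, nsmul_eq_mul, mul_one,
      ← Nat.card_eq_fintype_card, ← hn]
    split_ifs with h1 <;> field_simp <;> ring
  have hexp : ∀ χ : IrrCharacter G, coef S (χ : G → ℂ) ψ * conj (coef S (χ : G → ℂ) φ) =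
      n⁻¹ * n⁻¹ * ∑ x : (P : Subgroup G), f ψ x * ∑ x' : (P : Subgroup G),
        conj (f φ x') * ((χ : G → ℂ) x * conj ((χ : G → ℂ) x')) := fun χ => by
    simp only [coef, ← hn, map_mul, map_inv₀, map_sum, f, Finset.mul_sum, Finset.sum_mul]
    rw [show conj n = n from Complex.conj_natCast _]
    rw [Finset.sum_comm]
    exact Finset.sum_congr rfl fun x _ => Finset.sum_congr rfl fun x' _ => by ring
  rw [Finset.sum_congr rfl fun χ _ => hexp χ, ← Finset.mul_sum, Finset.sum_comm]
  have houter : ∀ x : (P : Subgroup G),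
      ∑ χ ∈ K, f ψ x * ∑ x' : (P : Subgroup G), conj (f φ x') * ((χ : G → ℂ) x * conj ((χ : G → ℂ) x')) =
        n * ∑ a : aut P, f ψ x * conj (f (twist S a φ) x) := fun x => by
    by_cases hx : x = 1
    · subst hx
      simp [hf1]
    · rw [← Finset.mul_sum, Finset.sum_comm]
      simp only [← Finset.mul_sum]
      rw [hrow x hx, ← mul_assoc, mul_comm (f ψ x) n, mul_assoc]
      simp only [f, twist_apply]
  rw [Finset.sum_congr rfl fun x _ => houter x, ← Finset.mul_sum, mul_assoc, ← mul_assoc n⁻¹ n,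
    inv_mul_cancel₀ hn0, one_mul, Finset.sum_comm, Finset.mul_sum,
    Finset.sum_congr rfl fun a _ => key (twist S a φ) fun e => hφ (by
      have := congrArg (twist S a⁻¹) e
      rwa [twist_twist, mul_inv_cancel, twist_id, twist_one] at this),
    Finset.sum_add_distrib, Finset.sum_const, Finset.card_univ, nsmul_eq_mul, mul_one,
    ← Nat.card_eq_fintype_card, card_aut S, add_comm]

theorem coef_regular {ψ : Lin S} {r : G} (hr : ¬ p ∣ orderOf r) :
    ∑ᶠ χ ∈ principalBlock M G, (χ : G → ℂ) r * coef S (χ : G → ℂ) ψ = 0 := by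
  classical
  rw [finsum_mem_eq_finite_toFinset_sum _ (Set.toFinite _)]
  simp only [coef, Finset.mul_sum]
  rw [Finset.sum_comm]
  refine Finset.sum_eq_zero fun x _ => ?_
  by_cases hx : x = 1
  · subst hx; simp
  · have h := sum_regular (P := P) hM hx hr
    rw [finsum_mem_eq_finite_toFinset_sum _ (Set.toFinite _)] at h
    calc _ = (Nat.card (P : Subgroup G) : ℂ)⁻¹ * (conj (ψ x : ℂ) - 1) *
          ∑ χ ∈ (Set.toFinite (principalBlock M G)).toFinset, (χ : G → ℂ) r * (χ : G → ℂ) x := by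
          rw [Finset.mul_sum]
          exact Finset.sum_congr rfl fun χ _ => by ring
      _ = 0 := by rw [h, mul_zero]

/-- The structure of the principal block. -/
theorem exists_config (hm : m + 1 < Nat.card (P : Subgroup G)) :
    ∃ (s : ℕ) (X Y : Set (IrrCharacter G)), s ≤ m ∧ principalBlock M G = X ∪ Y ∧ Disjoint X Y ∧
      Nat.card X = s ∧ Nat.card Y = (Nat.card (P : Subgroup G) - 1) / m ∧ Char.trivChar G ∈ X ∧
      ∃ (a : IrrCharacter G → ℤ) (d δ : ℤ) (ζ : Lin S → IrrCharacter G), (δ = 1 ∨ δ = -1) ∧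
        (∀ χ ∈ X, a χ ≠ 0 ∧ ∀ x : (P : Subgroup G), x ≠ 1 → (χ : G → ℂ) x = (a χ : ℂ)) ∧
        (∀ ψ, ψ ≠ 1 → ζ ψ ∈ Y) ∧ (∀ η ∈ Y, ∃ ψ, ψ ≠ 1 ∧ ζ ψ = η) ∧
        (∀ ψ, ψ ≠ 1 → ∀ b : aut P, ζ (twist S b ψ) = ζ ψ) ∧
        (∀ ψ, ψ ≠ 1 → ∀ x : (P : Subgroup G), x ≠ 1 → (ζ ψ : G → ℂ) x =
          (d : ℂ) + (δ : ℂ) * ∑ᶠ η ∈ Set.range (fun b : aut P => twist S b ψ), (η x : ℂ)) ∧
        ((d - δ) ^ 2 + ((Nat.card (P : Subgroup G) - 1) / m - 1 : ℤ) * d ^ 2 +
          ∑ᶠ χ ∈ X, a χ ^ 2 = (m : ℤ) + 1) ∧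
        (∀ η ∈ Y, ∀ η' ∈ Y, ∀ g : G, ¬ p ∣ orderOf g → (η : G → ℂ) g = (η' : G → ℂ) g) ∧
        (∀ η ∈ Y, ∀ g : G, ¬ p ∣ orderOf g →
          ((((Nat.card (P : Subgroup G) - 1) / m : ℕ) : ℂ) * d - δ) * (η : G → ℂ) g +
            ∑ᶠ χ ∈ X, (a χ : ℂ) * (χ : G → ℂ) g = 0) := by
  classical
  have := finite_lin S
  have := Fintype.ofFinite (Lin S)
  have := Fintype.ofFinite (aut P)
  let r : Setoid {ψ : Lin S // ψ ≠ 1} :=
    { r := fun u v => ∃ b : aut P, twist S b v.1 = u.1
      iseqv :=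
        { refl := fun u => ⟨1, twist_id S u.1⟩
          symm := fun {u v} ⟨b, h⟩ => ⟨b⁻¹, by
            rw [← h, twist_twist, mul_inv_cancel, twist_id]⟩
          trans := fun {u v w} ⟨b, h⟩ ⟨c, h'⟩ => ⟨c * b, by rw [← h, ← h', twist_twist]⟩ } }
  let J := Quotient r
  have := Fintype.ofFinite J
  let mk : {ψ : Lin S // ψ ≠ 1} → J := Quotient.mk r
  let rep : J → {ψ : Lin S // ψ ≠ 1} := Quotient.out
  have htw : ∀ (b : aut P) {ψ : Lin S}, ψ ≠ 1 → twist S b ψ ≠ 1 := fun b ψ hψ e => hψ (by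
    have := congrArg (twist S b⁻¹) e
    rwa [twist_twist, mul_inv_cancel, twist_id, twist_one] at this)
  have hfib : ∀ ψ : {ψ : Lin S // ψ ≠ 1}, (Finset.univ.filter fun φ => mk φ = mk ψ) =
      Finset.univ.image fun b : aut P => (⟨twist S b ψ.1, htw b ψ.2⟩ : {ψ : Lin S // ψ ≠ 1}) := by
    intro ψ
    ext φ
    simp only [Finset.mem_filter, Finset.mem_univ, true_and, Finset.mem_image, Subtype.ext_iff]
    exact ⟨fun h => Quotient.exact h, fun h => Quotient.sound h⟩
  have hfibcard : ∀ j : J, (Finset.univ.filter fun φ => mk φ = j).card = m := fun j => by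
    obtain ⟨ψ, rfl⟩ := Quotient.exists_rep j
    rw [show (Finset.univ.filter fun φ => mk φ = ⟦ψ⟧) = _ from hfib ψ, Finset.card_image_of_injective,
      Finset.card_univ, ← Nat.card_eq_fintype_card, card_aut S]
    exact fun b c h => twist_inj S ψ.2 (congrArg Subtype.val h)
  have hlin : Fintype.card (Lin S) = Nat.card (P : Subgroup G) := by
    have h := sum_apply_lin S 1
    simp only [map_one, Units.val_one, Finset.sum_const, Finset.card_univ, nsmul_eq_mul, mul_one,
      if_true] at h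
    exact_mod_cast h
  have hcardJ : m * Fintype.card J + 1 = Nat.card (P : Subgroup G) := by
    have h1 : Fintype.card {ψ : Lin S // ψ ≠ 1} = m * Fintype.card J := by
      rw [← Finset.card_univ, Finset.card_eq_sum_card_fiberwise (f := mk) (t := Finset.univ)
        (fun _ _ => Finset.mem_univ _), Finset.sum_congr rfl fun j _ => hfibcard j, Finset.sum_const,
        Finset.card_univ, smul_eq_mul, mul_comm]
    rw [Fintype.card_subtype_compl, Fintype.card_subtype_eq] at h1
    have : 0 < Fintype.card (Lin S) := Fintype.card_pos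
    omega
  have hm0 : 0 < m := by rw [← card_aut S]; exact Nat.card_pos
  have hJ2 : 2 ≤ Fintype.card J := by
    by_contra h
    have : m * Fintype.card J ≤ m * 1 := Nat.mul_le_mul_left m (by omega)
    omega
  have hr : (Nat.card (P : Subgroup G) - 1) / m = Fintype.card J := by
    rw [← hcardJ, Nat.add_sub_cancel, Nat.mul_div_cancel_left _ hm0]
  let ι := {χ : IrrCharacter G // χ ∈ principalBlock M G}
  have := Fintype.ofFinite (IrrCharacter G)
  have := Fintype.ofFinite ι
  choose c hc using fun (χ : IrrCharacter G) (ψ : Lin S) => coef_int S χ ψ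
  have hsplit : ∀ F : IrrCharacter G → ℂ, ∑ᶠ χ ∈ principalBlock M G, F χ = ∑ i : ι, F i.1 :=
    fun F => by
    rw [finsum_mem_eq_finite_toFinset_sum _ (Set.toFinite _)]
    exact Finset.sum_subtype _ (fun χ => by simp) F
  have hg : ∀ j k : J, ∑ i : ι, c i.1 (rep j).1 * c i.1 (rep k).1 =
      (m : ℤ) + if j = k then 1 else 0 := by
    intro j k
    have h := coef_gram S hM (rep j).2 (rep k).2
    rw [hsplit] at h
    simp only [hc, map_intCast] at h
    refine Int.cast_injective (α := ℂ) ?_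
    push_cast
    rw [h]
    congr 1
    by_cases hjk : j = k
    · subst hjk
      rw [if_pos rfl, Finset.sum_eq_single (1 : aut P) (fun b _ hb => if_neg fun e =>
        hb (twist_inj S (rep j).2 (b := 1) (e.symm.trans (twist_id S _).symm))) (by simp),
        if_pos (twist_id S _).symm]
    · rw [if_neg hjk, Finset.sum_eq_zero]
      intro b _
      refine if_neg fun e => hjk ?_
      rw [← Quotient.out_eq j, ← Quotient.out_eq k]
      exact Quotient.sound ⟨b, e.symm⟩
  have hreg : ∀ (j : J) {g : G}, ¬ p ∣ orderOf g →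
      ∑ i : ι, (c i.1 (rep j).1 : ℂ) * (i.1 : G → ℂ) g = 0 := fun j g hg' => by
    have h := coef_regular S hM (ψ := (rep j).1) hg'
    rw [hsplit] at h
    rw [← h]
    exact Finset.sum_congr rfl fun i _ => by rw [hc, mul_comm]
  have hdeg : ∀ j : J, ∑ i : ι, c i.1 (rep j).1 * (charDegree (i.1 : G → ℂ) : ℤ) = 0 := fun j => by
    have h := hreg j (g := 1) (by simp [hM.1.ne_one])
    simp only [apply_one_eq_charDegree] at h
    exact_mod_cast h
  obtain ⟨e, δ, base, D, hδ, he, hv, hD⟩ := coherent (fun (j : J) (i : ι) => c i.1 (rep j).1)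
    (fun i => (charDegree (i.1 : G → ℂ) : ℤ)) (fun i => Nat.cast_pos.mpr (charDegree_pos i.1))
    hg hdeg hJ2
  set i₁ : ι := ⟨Char.trivChar G, trivChar_mem_principalBlock⟩ with hi₁
  obtain ⟨j₀, j₁, hj01⟩ := Fintype.one_lt_card_iff.mp (by omega : 1 < Fintype.card J)
  have htriv : ∀ j : J, c (Char.trivChar G) (rep j).1 = -1 := fun j => by
    refine Int.cast_injective (α := ℂ) ?_
    rw [← hc, coef_triv S (rep j).2]
    simp
  have hδ0 : δ ≠ 0 := by rcases hδ with h | h <;> rw [h] <;> norm_num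
  have hne1 : ∀ j, e j ≠ i₁ := fun j h => by
    obtain ⟨k, hk⟩ : ∃ k, k ≠ j := ⟨if j = j₀ then j₁ else j₀, by
      split_ifs with hh
      · exact fun h' => hj01 (hh ▸ h'.symm)
      · exact Ne.symm hh⟩
    have h1 : (-1 : ℤ) = base i₁ + if e j = i₁ then δ else 0 := (htriv j).symm.trans (hv j i₁)
    have h2 : (-1 : ℤ) = base i₁ + if e k = i₁ then δ else 0 := (htriv k).symm.trans (hv k i₁)
    rw [if_pos h] at h1
    rw [if_neg fun h' => hk (he (h'.trans h.symm))] at h2
    exact hδ0 (by linarith)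
  have hbase1 : base i₁ = -1 := by
    have h1 : (-1 : ℤ) = base i₁ + if e j₀ = i₁ then δ else 0 := (htriv j₀).symm.trans (hv j₀ i₁)
    rw [if_neg (hne1 j₀)] at h1
    linarith
  -- values on the singular elements
  have hinvar : ∀ (χ : IrrCharacter G) (ψ : {ψ : Lin S // ψ ≠ 1}), c χ ψ.1 = c χ (rep (mk ψ)).1 := by
    intro χ ψ
    obtain ⟨b, hb⟩ : ∃ b : aut P, twist S b (rep (mk ψ)).1 = ψ.1 :=
      Quotient.exact (Quotient.out_eq (mk ψ)).symm
    refine Int.cast_injective (α := ℂ) ?_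
    rw [← hc, ← hc, ← hb, coef_twist]
  have hnontriv : ∀ x : (P : Subgroup G), x ≠ 1 →
      ∑ ψ : {ψ : Lin S // ψ ≠ 1}, (ψ.1 x : ℂ) = -1 := fun x hx => by
    have h := sum_apply_lin S x
    rw [if_neg hx, ← Finset.add_sum_erase _ _ (Finset.mem_univ (1 : Lin S)),
      Finset.sum_subtype (Finset.univ.erase (1 : Lin S)) (p := fun ψ => ψ ≠ 1) (fun ψ => by simp),
      MonoidHom.one_apply, Units.val_one] at h
    linear_combination h
  have hval : ∀ (i : ι) (x : (P : Subgroup G)), x ≠ 1 → (i.1 : G → ℂ) x =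
      -(base i : ℂ) + (δ : ℂ) *
        ∑ ψ : {ψ : Lin S // ψ ≠ 1}, if e (mk ψ) = i then (ψ.1 x : ℂ) else 0 := fun i x hx => by
    rw [apply_eq_sum_coef S (i.1 : G → ℂ) hx, ← Finset.add_sum_erase _ _ (Finset.mem_univ (1 : Lin S)),
      show coef S (i.1 : G → ℂ) 1 = 0 by simp [coef], zero_mul, zero_add]
    rw [Finset.sum_subtype (Finset.univ.erase (1 : Lin S)) (p := fun ψ => ψ ≠ 1) (fun ψ => by simp)]
    rw [Finset.sum_congr rfl (g := fun ψ : {ψ : Lin S // ψ ≠ 1} => (base i : ℂ) * (ψ.1 x : ℂ) +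
        (δ : ℂ) * (if e (mk ψ) = i then (ψ.1 x : ℂ) else 0)) (fun ψ _ => by
      rw [hc, hinvar, show c i.1 (rep (mk ψ)).1 = base i + if e (mk ψ) = i then δ else 0 from
        hv (mk ψ) i]
      split_ifs <;> push_cast <;> ring), Finset.sum_add_distrib, ← Finset.mul_sum, hnontriv x hx,
      ← Finset.mul_sum]
    ring
  obtain ⟨x₀, hx₀⟩ : ∃ x : (P : Subgroup G), x ≠ 1 := by
    have : Nontrivial (P : Subgroup G) := Finite.one_lt_card_iff_nontrivial.mp (by omega)
    exact exists_ne 1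
  have hcover : ∀ i : ι, base i ≠ 0 ∨ ∃ j, e j = i := by
    intro i
    by_contra hh
    simp only [not_or, not_exists, not_not] at hh
    have hz : (i.1 : G → ℂ) x₀ = 0 := by
      rw [hval i x₀ hx₀, hh.1, Finset.sum_eq_zero (fun ψ _ => if_neg (hh.2 _))]
      simp
    have hsb : SameBlock M (fun _ : G => (1 : ℂ)) (i.1 : G → ℂ) := i.2
    have h3 := hsb (x₀ : G)
    rw [centralChar, centralChar, hz, mul_zero, zero_div, sub_zero, mul_one, div_one] at h3
    exact P.not_dvd_index (((memLocalIdeal_natCast_iff hM).mp h3).trans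
      (Subgroup.index_dvd_of_le (le_centralizer S x₀.2)))
  let Xf : Finset ι := Finset.univ.filter fun i => ∀ j, e j ≠ i
  let X : Set (IrrCharacter G) := Subtype.val '' (Xf : Set ι)
  let Y : Set (IrrCharacter G) := Set.range fun j => (e j).1
  let a : IrrCharacter G → ℤ := fun χ =>
    if h : χ ∈ principalBlock M G then -base ⟨χ, h⟩ else 0
  have ha : ∀ i : ι, a i.1 = -base i := fun i => dif_pos i.2
  have hXsum : ∀ {A : Type} [AddCommMonoid A] (F : IrrCharacter G → A),
      ∑ᶠ χ ∈ X, F χ = ∑ i ∈ Xf, F i.1 := fun F => by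
    rw [finsum_mem_image (Subtype.val_injective.injOn), finsum_mem_coe_finset]
  have hcompl : Finset.univ.filter (fun i : ι => ¬ ∀ j, e j ≠ i) = Finset.univ.image e := by
    ext i; simp
  let ζ : Lin S → IrrCharacter G := fun ψ => if h : ψ = 1 then Char.trivChar G else (e (mk ⟨ψ, h⟩)).1
  have hζ : ∀ ψ (h : ψ ≠ 1), ζ ψ = (e (mk ⟨ψ, h⟩)).1 := fun ψ h => dif_neg h
  have hnorm : (D + δ) ^ 2 + ((Fintype.card J : ℤ) - 1) * D ^ 2 + ∑ i ∈ Xf, base i ^ 2 =
      (m : ℤ) + 1 := by
    have h := hg j₀ j₀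
    rw [if_pos rfl, Finset.sum_congr rfl (g := fun i => base i ^ 2 +
        if e j₀ = i then 2 * δ * base i + δ * δ else 0) (fun i _ => by
      rw [show c i.1 (rep j₀).1 = base i + if e j₀ = i then δ else 0 from hv j₀ i]
      split_ifs <;> ring), Finset.sum_add_distrib, Finset.sum_ite_eq, if_pos (Finset.mem_univ _),
      hD, ← Finset.sum_filter_add_sum_filter_not Finset.univ (fun i : ι => ∀ j, e j ≠ i), hcompl,
      Finset.sum_image (fun u _ v _ h => he h)] at h
    simp only [hD, Finset.sum_const, Finset.card_univ, nsmul_eq_mul] at h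
    linear_combination h
  have hregX : ∀ (j : J) {g : G}, ¬ p ∣ orderOf g →
      (∑ i ∈ Xf, (base i : ℂ) * (i.1 : G → ℂ) g) + ((D : ℂ) * ∑ k : J, ((e k).1 : G → ℂ) g) +
        (δ : ℂ) * ((e j).1 : G → ℂ) g = 0 := fun j g hg' => by
    have h := hreg j hg'
    rw [Finset.sum_congr rfl (g := fun i => (base i : ℂ) * (i.1 : G → ℂ) g +
        if e j = i then (δ : ℂ) * (i.1 : G → ℂ) g else 0) (fun i _ => by
      rw [show c i.1 (rep j).1 = base i + if e j = i then δ else 0 from hv j i]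
      split_ifs <;> push_cast <;> ring), Finset.sum_add_distrib, Finset.sum_ite_eq,
      if_pos (Finset.mem_univ _),
      ← Finset.sum_filter_add_sum_filter_not Finset.univ (fun i : ι => ∀ j, e j ≠ i), hcompl,
      Finset.sum_image (fun u _ v _ h => he h)] at h
    simp only [hD, ← Finset.mul_sum] at h
    exact h
  have hsame : ∀ (j k : J) {g : G}, ¬ p ∣ orderOf g →
      ((e j).1 : G → ℂ) g = ((e k).1 : G → ℂ) g := fun j k g hg' =>
    mul_left_cancel₀ (Int.cast_ne_zero.mpr hδ0)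
      (by linear_combination hregX j hg' - hregX k hg')
  have hXcard : Nat.card X ≤ m := by
    rw [Nat.card_image_of_injective Subtype.val_injective, Nat.card_coe_set_eq, Set.ncard_coe_finset]
    have h1 : (Xf.card : ℤ) ≤ ∑ i ∈ Xf, base i ^ 2 := by
      rw [Finset.card_eq_sum_ones, Nat.cast_sum]
      refine Finset.sum_le_sum fun i hi => ?_
      rcases hcover i with h | ⟨j, hj⟩
      · push_cast
        exact (sq_pos_of_ne_zero h)
      · exact absurd hj ((Finset.mem_filter.mp hi).2 j)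
    have h2 : 1 ≤ (D + δ) ^ 2 + ((Fintype.card J : ℤ) - 1) * D ^ 2 := by
      rcases eq_or_ne D 0 with h | h
      · rcases hδ with h' | h' <;> rw [h, h'] <;> norm_num
      · nlinarith [sq_pos_of_ne_zero h, sq_nonneg (D + δ)]
    omega
  refine ⟨Nat.card X, X, Y, hXcard, ?_, ?_, rfl, ?_, ⟨i₁, ?_, rfl⟩, a, -D, δ, ζ, hδ, ?_, ?_, ?_, ?_,
    ?_, ?_, ?_, ?_⟩
  · ext χ
    constructor
    · intro hχ
      by_cases hh : ∀ j, e j ≠ ⟨χ, hχ⟩
      · exact Or.inl ⟨⟨χ, hχ⟩, Finset.mem_filter.mpr ⟨Finset.mem_univ _, hh⟩, rfl⟩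
      · simp only [not_forall, not_not] at hh
        obtain ⟨j, hj⟩ := hh
        exact Or.inr ⟨j, congrArg Subtype.val hj⟩
    · rintro (⟨i, -, rfl⟩ | ⟨j, rfl⟩)
      exacts [i.2, (e j).2]
  · rw [Set.disjoint_right]
    rintro _ ⟨j, rfl⟩ ⟨i, hi, h⟩
    exact (Finset.mem_filter.mp hi).2 j (Subtype.ext h).symm
  · rw [Nat.card_range_of_injective fun u v h => he (Subtype.ext h), Nat.card_eq_fintype_card, hr]
  · exact Finset.mem_coe.mpr (Finset.mem_filter.mpr ⟨Finset.mem_univ _, hne1⟩)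
  · rintro _ ⟨i, hi, rfl⟩
    have hi' := (Finset.mem_filter.mp hi).2
    refine ⟨?_, fun x hx => ?_⟩
    · rw [ha]
      rcases hcover i with h | ⟨j, hj⟩
      exacts [neg_ne_zero.mpr h, absurd hj (hi' j)]
    · rw [hval i x hx, ha, Finset.sum_eq_zero (fun ψ _ => if_neg (hi' _))]
      push_cast
      ring
  · exact fun ψ hψ => ⟨mk ⟨ψ, hψ⟩, (hζ ψ hψ).symm⟩
  · rintro _ ⟨j, rfl⟩
    refine ⟨(rep j).1, (rep j).2, ?_⟩
    rw [hζ _ (rep j).2]
    exact congrArg (fun k => (e k).1) (Quotient.out_eq j)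
  · intro ψ hψ b
    rw [hζ ψ hψ, hζ _ (htw b hψ), show mk ⟨twist S b ψ, htw b hψ⟩ = mk ⟨ψ, hψ⟩ from
      Quotient.sound ⟨b, rfl⟩]
  · intro ψ hψ x hx
    rw [hζ ψ hψ, hval _ x hx, hD, finsum_mem_range (fun b c h => twist_inj S hψ h),
      finsum_eq_sum_of_fintype, ← Finset.sum_filter,
      show (Finset.univ.filter fun φ => e (mk φ) = e (mk ⟨ψ, hψ⟩)) =
        Finset.univ.filter (fun φ => mk φ = mk ⟨ψ, hψ⟩) from Finset.filter_congr fun φ _ =>
          he.eq_iff, hfib, Finset.sum_image fun b _ c _ h => twist_inj S hψ (congrArg Subtype.val h)]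
    push_cast
    ring
  · rw [hXsum, Finset.sum_congr rfl (g := fun i => base i ^ 2) (fun i _ => by rw [ha, neg_sq])]
    have hJz : ((Nat.card (P : Subgroup G) : ℤ) - 1) / (m : ℤ) = (Fintype.card J : ℤ) := by
      rw [← hr]
      push_cast [Nat.cast_sub (show 1 ≤ Nat.card (P : Subgroup G) from Nat.card_pos)]
      rfl
    rw [hJz]
    linear_combination hnorm
  · rintro _ ⟨j, rfl⟩ _ ⟨k, rfl⟩ g hg'
    exact hsame j k hg'
  · rintro _ ⟨j, rfl⟩ g hg'
    have h := hregX j hg'
    rw [Finset.sum_congr rfl (fun k _ => hsame k j hg'), Finset.sum_const, Finset.card_univ,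
      nsmul_eq_mul] at h
    rw [hr, hXsum, Finset.sum_congr rfl (g := fun i : ι => -((base i : ℂ) * (i.1 : G → ℂ) g))
      (fun i _ => by rw [ha]; push_cast; ring), Finset.sum_neg_distrib]
    push_cast
    linear_combination -h

end CfsgLib.Automizer
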