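import Cfsg.Prelude.Def_Blocks
import Cfsg.Agent.Lib.Char.Complete
import Cfsg.Agent.Lib.Char.Central
import Cfsg.Agent.Lib.Blocks.LocalRing
import Mathlib.RepresentationTheory.Basic
import Mathlib.Algebra.MonoidAlgebra.MapDomain
import Mathlib.LinearAlgebra.Trace

/-!
# The group algebra of a finite group, central characters and central idempotents

`omega χ a = ∑ g, a g * χ g / χ 1` extends `Cfsg.centralChar` linearly; on central elements it is
multiplicative.  `blockIdem A` is the element with coefficients `Cfsg.blockCoeff A`.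
-/

namespace CfsgLib.Blocks

open Cfsg MonoidAlgebra
open scoped ComplexConjugate

variable {G : Type*} [Group G]

/-- A central element of a group algebra, by its coefficients. -/
def IsCentralElt {R : Type*} [Semiring R] (a : MonoidAlgebra R G) : Prop :=
  ∀ g h : G, a.coeff (h * g * h⁻¹) = a.coeff g

variable [Fintype G]

theorem coeff_mul_eq_sum {R : Type*} [Semiring R] (a b : MonoidAlgebra R G) (g : G) :
    (a * b).coeff g = ∑ x : G, a.coeff x * b.coeff (x⁻¹ * g) := by
  classical
  rw [coeff_mul_antidiag a b g (Finset.univ.image fun x => (x, x⁻¹ * g)) fun {q} => ?_,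
    Finset.sum_image fun x _ y _ h => (Prod.ext_iff.1 h).1]
  obtain ⟨u, v⟩ := q
  simp only [Finset.mem_image, Finset.mem_univ, true_and, Prod.mk.injEq]
  exact ⟨by rintro ⟨x, rfl, rfl⟩; simp, fun h => ⟨u, rfl, by rw [← h]; simp⟩⟩

/-- A function as an element of the group algebra. -/
noncomputable def ofFun {G : Type*} [Finite G] {R : Type*} [Semiring R] (f : G → R) : MonoidAlgebra R G :=
  ofCoeff (Finsupp.equivFunOnFinite.symm f)

@[simp]
theorem coeff_ofFun {G : Type*} [Finite G] {R : Type*} [Semiring R] (f : G → R) (g : G) : (ofFun f).coeff g = f g := rfl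

omit [Fintype G] in
theorem IsCentralElt.zero {R : Type*} [Semiring R] : IsCentralElt (0 : MonoidAlgebra R G) :=
  fun _ _ => by simp

omit [Fintype G] in
theorem IsCentralElt.one {R : Type*} [Semiring R] : IsCentralElt (1 : MonoidAlgebra R G) := by
  classical
  intro g h
  rw [one_def, coeff_single, Finsupp.single_apply, Finsupp.single_apply]
  by_cases hg : g = 1
  · simp [hg]
  · rw [if_neg, if_neg (Ne.symm hg)]
    exact fun e => hg (conj_eq_one_iff.1 e.symm)

omit [Fintype G] in
theorem IsCentralElt.add {R : Type*} [Semiring R] {a b : MonoidAlgebra R G} (ha : IsCentralElt a)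
    (hb : IsCentralElt b) : IsCentralElt (a + b) := fun g h => by simp [ha g h, hb g h]

omit [Fintype G] in
theorem IsCentralElt.sub {R : Type*} [Ring R] {a b : MonoidAlgebra R G} (ha : IsCentralElt a)
    (hb : IsCentralElt b) : IsCentralElt (a - b) := fun g h => by simp [ha g h, hb g h]

omit [Fintype G] in
theorem IsCentralElt.smul {R : Type*} [Semiring R] {a : MonoidAlgebra R G} (c : R)
    (ha : IsCentralElt a) : IsCentralElt (c • a) := fun g h => by simp [ha g h]

omit [Fintype G] in
theorem IsCentralElt.sum {R : Type*} [Semiring R] {ι : Type*} (s : Finset ι)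
    {a : ι → MonoidAlgebra R G} (ha : ∀ i ∈ s, IsCentralElt (a i)) :
    IsCentralElt (∑ i ∈ s, a i) := fun g h => by
  simp only [coeff_sum, Finsupp.coe_finsetSum, Finset.sum_apply]
  exact Finset.sum_congr rfl fun i hi => ha i hi g h

theorem IsCentralElt.mul {R : Type*} [Semiring R] {a b : MonoidAlgebra R G} (ha : IsCentralElt a)
    (hb : IsCentralElt b) : IsCentralElt (a * b) := fun g h => by
  rw [coeff_mul_eq_sum, coeff_mul_eq_sum]
  refine Fintype.sum_equiv (MulAut.conj h⁻¹).toEquiv _ _ fun x => ?_
  simp only [MulEquiv.toEquiv_eq_coe, MulEquiv.coe_toEquiv, MulAut.conj_apply, inv_inv]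
  rw [← ha x h⁻¹, ← hb (x⁻¹ * (h * g * h⁻¹)) h⁻¹]
  simp [mul_assoc]

theorem IsCentralElt.pow {R : Type*} [Semiring R] {a : MonoidAlgebra R G} (ha : IsCentralElt a)
    (n : ℕ) : IsCentralElt (a ^ n) := by
  induction n with
  | zero => simpa using IsCentralElt.one
  | succ n ih => rw [pow_succ]; exact ih.mul ha

theorem IsCentralElt.commute {R : Type*} [CommSemiring R] {a : MonoidAlgebra R G}
    (ha : IsCentralElt a) (b : MonoidAlgebra R G) : Commute a b := by
  ext g
  rw [coeff_mul_eq_sum, coeff_mul_eq_sum]
  refine Fintype.sum_equiv ((Equiv.inv G).trans (Equiv.mulRight g)) _ _ fun x => ?_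
  simp only [Equiv.trans_apply, Equiv.inv_apply, Equiv.coe_mulRight]
  rw [mul_comm]
  congr 1
  rw [← ha x (x⁻¹ * g)⁻¹]
  simp [mul_assoc]

/-! ### The linear extension of the central character -/

/-- The linear extension of the central character of `χ`. -/
noncomputable def omega (χ : G → ℂ) : MonoidAlgebra ℂ G →ₗ[ℂ] ℂ where
  toFun a := (∑ g, a.coeff g * χ g) / χ 1
  map_add' a b := by simp [add_mul, Finset.sum_add_distrib, add_div]
  map_smul' c a := by simp [mul_assoc, ← Finset.mul_sum, mul_div_assoc]

theorem omega_apply (χ : G → ℂ) (a : MonoidAlgebra ℂ G) :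
    omega χ a = (∑ g, a.coeff g * χ g) / χ 1 := rfl

theorem asAlgebraHom_eq_sum {V : Type*} [AddCommGroup V] [Module ℂ V]
    (ρ : Representation ℂ G V) (a : MonoidAlgebra ℂ G) :
    ρ.asAlgebraHom a = ∑ g, a.coeff g • ρ g := by
  rw [Representation.asAlgebraHom_def, lift_apply, Finsupp.sum_fintype]
  exact fun _ => zero_smul _ _

theorem trace_asAlgebraHom {V : Type*} [AddCommGroup V] [Module ℂ V] [FiniteDimensional ℂ V]
    (ρ : Representation ℂ G V) (a : MonoidAlgebra ℂ G) :
    LinearMap.trace ℂ V (ρ.asAlgebraHom a) = ∑ g, a.coeff g * ρ.character g := by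
  rw [asAlgebraHom_eq_sum]
  simp [Representation.character]

theorem asAlgebraHom_of_central {V : Type*} [AddCommGroup V] [Module ℂ V] [FiniteDimensional ℂ V]
    (ρ : Representation ℂ G V) [ρ.IsIrreducible] {a : MonoidAlgebra ℂ G} (ha : IsCentralElt a) :
    ρ.asAlgebraHom a = omega ρ.character a • LinearMap.id := by
  obtain ⟨c, hc⟩ := CfsgLib.CharIntegral.exists_scalar_of_commute ρ _ fun g => by
    rw [← Representation.asAlgebraHom_single_one, ← map_mul, ← map_mul, (ha.commute _).eq]
  have h := congrArg (LinearMap.trace ℂ V) hc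
  rw [trace_asAlgebraHom, map_smul, LinearMap.trace_id, smul_eq_mul] at h
  rw [hc, omega_apply, h, Representation.char_one,
    mul_div_cancel_right₀ _ (CfsgLib.CharIntegral.finrank_cast_ne_zero ρ)]

/-- The central character is multiplicative when one factor is central. -/
theorem omega_mul (χ : IrrCharacter G) {a : MonoidAlgebra ℂ G} (ha : IsCentralElt a)
    (b : MonoidAlgebra ℂ G) :
    omega (χ : G → ℂ) (a * b) = omega (χ : G → ℂ) a * omega (χ : G → ℂ) b := by
  obtain ⟨χ, n, ρ, hρ, rfl⟩ := χ
  show omega ρ.character (a * b) = omega ρ.character a * omega ρ.character b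
  conv_lhs => rw [omega_apply, ← trace_asAlgebraHom, map_mul, asAlgebraHom_of_central ρ ha,
    smul_mul_assoc, map_smul, smul_eq_mul, mul_div_assoc]
  rw [omega_apply ρ.character b, ← trace_asAlgebraHom]
  rfl

theorem omega_one (χ : IrrCharacter G) : omega (χ : G → ℂ) 1 = 1 := by
  classical
  rw [omega_apply]
  simp only [one_def, coeff_single, Finsupp.single_apply, ite_mul, one_mul, zero_mul,
    Finset.sum_ite_eq, Finset.mem_univ, if_true]
  exact div_self (Char.IsIrr.apply_one_ne_zero χ.2)

theorem omega_pow (χ : IrrCharacter G) {a : MonoidAlgebra ℂ G} (ha : IsCentralElt a) (n : ℕ) :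
    omega (χ : G → ℂ) (a ^ n) = omega (χ : G → ℂ) a ^ n := by
  induction n with
  | zero => simp [omega_one]
  | succ n ih => rw [pow_succ', omega_mul χ ha, ih, pow_succ']

/-- The sum over the conjugacy class of `g`. -/
noncomputable def classSum (R : Type*) [Semiring R] (g : G) : MonoidAlgebra R G :=
  ofFun (Set.indicator {x | IsConj g x} fun _ => 1)

theorem coeff_classSum (R : Type*) [Semiring R] (g x : G) [Decidable (IsConj g x)] :
    (classSum R g).coeff x = if IsConj g x then 1 else 0 := by
  rw [classSum, coeff_ofFun, Set.indicator_apply]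
  exact if_congr Iff.rfl rfl rfl

theorem isCentralElt_classSum (R : Type*) [Semiring R] (g : G) : IsCentralElt (classSum R g) := by
  classical
  intro x h
  rw [coeff_classSum, coeff_classSum]
  have hx : IsConj x (h * x * h⁻¹) := isConj_iff.2 ⟨h, rfl⟩
  exact if_congr ⟨fun e => e.trans hx.symm, fun e => e.trans hx⟩ rfl rfl

omit [Fintype G] in
theorem card_isConj_eq_index (g : G) :
    Nat.card {x // IsConj g x} = (Subgroup.centralizer ({g} : Set G)).index := by
  rw [← Char.card_carrier_eq_index]
  exact Nat.card_congr (Equiv.subtypeEquivRight fun x => by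
    rw [ConjClasses.mem_carrier_iff_mk_eq, ConjClasses.mk_eq_mk_iff_isConj]
    exact ⟨IsConj.symm, IsConj.symm⟩)

theorem omega_classSum {χ : G → ℂ} (hχ : IsClassFunction G χ) (g : G) :
    omega χ (classSum ℂ g) = centralChar χ g := by
  classical
  rw [omega_apply, centralChar, ← card_isConj_eq_index]
  congr 1
  simp only [coeff_classSum, ite_mul, one_mul, zero_mul, ← Finset.sum_filter]
  rw [Finset.sum_eq_card_nsmul fun x hx => Char.isClassFunction_iff_isConj.1 hχ x g
    (Finset.mem_filter.1 hx).2.symm, nsmul_eq_mul, Nat.card_eq_fintype_card, Fintype.card_subtype]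

theorem centralChar_eq_of_isConj {χ : G → ℂ} (hχ : IsClassFunction G χ) {g h : G}
    (hc : IsConj g h) : centralChar χ g = centralChar χ h := by
  classical
  rw [← omega_classSum hχ, ← omega_classSum hχ]
  congr 1
  ext x
  rw [coeff_classSum, coeff_classSum]
  exact if_congr ⟨fun e => hc.symm.trans e, fun e => hc.trans e⟩ rfl rfl

/-- Central character values are algebraic integers. -/
theorem isIntegral_centralChar (χ : IrrCharacter G) (g : G) :
    IsIntegral ℤ (centralChar (χ : G → ℂ) g) := by
  obtain ⟨χ, n, ρ, hρ, rfl⟩ := χ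
  show IsIntegral ℤ (centralChar ρ.character g)
  rw [centralChar, Representation.char_one]
  exact CfsgLib.CharIntegral.isIntegral_central ρ g

/-- A central element is the combination of class sums given by its coefficients. -/
theorem omega_eq_sum_centralChar (χ : G → ℂ) (a : MonoidAlgebra ℂ G) :
    omega χ a =
      ∑ g, a.coeff g * centralChar χ g / ((Subgroup.centralizer ({g} : Set G)).index : ℂ) := by
  rw [omega_apply, Finset.sum_div]
  refine Finset.sum_congr rfl fun g _ => ?_
  have h : ((Subgroup.centralizer ({g} : Set G)).index : ℂ) ≠ 0 :=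
    Nat.cast_ne_zero.2 Subgroup.index_ne_zero_of_finite
  rw [centralChar]
  field_simp

/-- A central element as a sum of class sums. -/
theorem central_eq_sum_classSum {R : Type*} [CommSemiring R] {a : MonoidAlgebra R G}
    (ha : IsCentralElt a) [Fintype (ConjClasses G)] :
    a = ∑ C : ConjClasses G, a.coeff (Quotient.out C) • classSum R (Quotient.out C) := by
  classical
  ext x
  simp only [coeff_sum, Finsupp.coe_finsetSum, Finset.sum_apply, coeff_smul, Finsupp.smul_apply,
    coeff_classSum, smul_eq_mul, mul_ite, mul_one, mul_zero]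
  rw [Finset.sum_eq_single (ConjClasses.mk x)]
  · have h : IsConj (Quotient.out (ConjClasses.mk x)) x :=
      ConjClasses.mk_eq_mk_iff_isConj.1 (Quotient.out_eq _)
    rw [if_pos h]
    obtain ⟨c, hc⟩ := isConj_iff.1 h
    conv_lhs => rw [← hc]
    exact ha _ _
  · intro C _ hC
    refine if_neg fun h => hC ?_
    rw [← ConjClasses.mk_eq_mk_iff_isConj.2 h]
    exact (Quotient.out_eq C).symm
  · exact fun h => absurd (Finset.mem_univ _) h

/-- A central element killed by all central characters is `0`. -/
theorem eq_zero_of_omega_eq_zero {a : MonoidAlgebra ℂ G} (ha : IsCentralElt a)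
    (h : ∀ χ : IrrCharacter G, omega (χ : G → ℂ) a = 0) : a = 0 := by
  have h0 := Char.eq_zero_of_classInner_eq_zero (θ := fun g => conj (a.coeff g))
    (fun g x => by simp [ha g x]) fun χ => by
      have h1 := h χ
      rw [omega_apply, div_eq_zero_iff, or_iff_left (Char.IsIrr.apply_one_ne_zero χ.2)] at h1
      have h2 := congrArg (starRingEnd ℂ) h1
      simp only [map_sum, map_mul, map_zero] at h2
      rw [classInner, h2, mul_zero]
  ext g
  simpa using congrFun h0 g

theorem eq_of_omega_eq {a b : MonoidAlgebra ℂ G} (ha : IsCentralElt a) (hb : IsCentralElt b)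
    (h : ∀ χ : IrrCharacter G, omega (χ : G → ℂ) a = omega (χ : G → ℂ) b) : a = b :=
  sub_eq_zero.1 <| eq_zero_of_omega_eq_zero (ha.sub hb) fun χ => by simp [h χ]

/-! ### Central idempotents of sets of irreducible characters -/

/-- The central idempotent of a set of irreducible characters. -/
noncomputable def blockIdem (A : Set (IrrCharacter G)) : MonoidAlgebra ℂ G :=
  ofFun (blockCoeff A)

@[simp]
theorem coeff_blockIdem (A : Set (IrrCharacter G)) (g : G) :
    (blockIdem A).coeff g = blockCoeff A g := rfl

theorem blockCoeff_eq_sum [Fintype (IrrCharacter G)] (A : Set (IrrCharacter G)) (g : G)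
    [DecidablePred (· ∈ A)] :
    blockCoeff A g =
      (Nat.card G : ℂ)⁻¹ *
        ∑ χ ∈ Finset.univ.filter (· ∈ A), (χ : G → ℂ) 1 * (χ : G → ℂ) g⁻¹ := by
  rw [blockCoeff, finsum_mem_eq_finite_toFinset_sum _ (Set.toFinite A)]
  congr 1
  refine Finset.sum_congr (by ext; simp) fun χ _ => ?_
  rw [Char.IsIrr.map_inv χ.2]

omit [Fintype G] in
theorem isClassFunction_blockCoeff (A : Set (IrrCharacter G)) :
    IsClassFunction G (blockCoeff A) := by
  intro g h
  simp only [blockCoeff]
  congr 1
  exact finsum_congr fun χ => finsum_congr fun _ => by rw [Char.IsIrr.isClassFunction χ.2 g h]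

theorem isCentralElt_blockIdem (A : Set (IrrCharacter G)) : IsCentralElt (blockIdem A) :=
  fun g h => isClassFunction_blockCoeff A g h

theorem omega_blockIdem (A : Set (IrrCharacter G)) (ψ : IrrCharacter G) [Decidable (ψ ∈ A)] :
    omega (ψ : G → ℂ) (blockIdem A) = if ψ ∈ A then 1 else 0 := by
  classical
  have := Fintype.ofFinite (IrrCharacter G)
  rw [omega_apply]
  simp only [coeff_blockIdem, blockCoeff_eq_sum, mul_assoc, Finset.sum_mul]
  simp only [Finset.mul_sum]
  rw [Finset.sum_comm]
  have key : ∀ χ : IrrCharacter G, ∑ g : G, (Nat.card G : ℂ)⁻¹ *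
      ((χ : G → ℂ) 1 * ((χ : G → ℂ) g⁻¹ * (ψ : G → ℂ) g)) =
      (χ : G → ℂ) 1 * if ψ = χ then 1 else 0 := fun χ => by
    rw [← Char.classInner_irr, classInner, ← Finset.mul_sum]
    simp only [← Finset.mul_sum, Char.IsIrr.map_inv χ.2, mul_comm ((starRingEnd ℂ) _)]
    ring
  simp only [key, mul_ite, mul_one, mul_zero, Finset.sum_ite_eq, Finset.mem_filter,
    Finset.mem_univ, true_and]
  split_ifs
  · exact div_self (Char.IsIrr.apply_one_ne_zero ψ.2)
  · simp

theorem blockIdem_mul (A B : Set (IrrCharacter G)) :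
    blockIdem A * blockIdem B = blockIdem (A ∩ B) := by
  classical
  refine eq_of_omega_eq ((isCentralElt_blockIdem A).mul (isCentralElt_blockIdem B))
    (isCentralElt_blockIdem _) fun χ => ?_
  rw [omega_mul χ (isCentralElt_blockIdem A), omega_blockIdem, omega_blockIdem, omega_blockIdem]
  by_cases h1 : χ ∈ A <;> by_cases h2 : χ ∈ B <;> simp [h1, h2]

theorem blockIdem_mul_self (A : Set (IrrCharacter G)) :
    blockIdem A * blockIdem A = blockIdem A := by
  rw [blockIdem_mul, Set.inter_self]

theorem blockIdem_empty : blockIdem (∅ : Set (IrrCharacter G)) = 0 := by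
  ext g
  simp [blockCoeff]

theorem blockIdem_univ : blockIdem (Set.univ : Set (IrrCharacter G)) = 1 := by
  classical
  refine eq_of_omega_eq (isCentralElt_blockIdem _) IsCentralElt.one fun χ => ?_
  rw [omega_blockIdem, omega_one]
  simp

end CfsgLib.Blocks
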