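import Cfsg.Agent.S4721
import Cfsg.Agent.Lib.ZStar.PrincipalBlock

/-!
# No normally generating involution for a large abelian Sylow 2-subgroup with automizer of order three
-/

set_option autoImplicit false

namespace CfsgLib.IndexThree

open Cfsg CfsgLib.Char CfsgLib.Blocks
open scoped ComplexConjugate

/-- The arithmetic of the principal block relation. -/
theorem no_degrees {A B Z : ℤ} (hA : 15 ≤ |A|) (hB : 15 ≤ |B|) (hZ : Z = 1 + A + B)
    (hA16 : (16 : ℤ) ∣ A - 1) (hB16 : (16 : ℤ) ∣ B - 1)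
    (h : (A * B + A + B) * Z = 9 * (A * B)) : False := by
  have hab : 0 < |A * B| := by rw [abs_mul]; positivity
  have h1 : |A + B| * 15 ≤ 2 * |A * B| := by
    rw [abs_mul]
    nlinarith [abs_add_le A B, abs_nonneg A, abs_nonneg B]
  have h2 : |A * B + A + B| * |Z| = 9 * |A * B| := by
    rw [← abs_mul, h, abs_mul]; norm_num
  have hup : |A * B + A + B| ≤ |A * B| + |A + B| := by rw [add_assoc]; exact abs_add_le _ _
  have hlow : |A * B| ≤ |A * B + A + B| + |A + B| := by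
    have := abs_sub (A * B + A + B) (A + B)
    rwa [show A * B + A + B - (A + B) = A * B by ring] at this
  have hZ10 : |Z| ≤ 10 := by nlinarith [abs_nonneg Z]
  have hZ8 : 8 ≤ |Z| := by nlinarith [abs_nonneg Z]
  rcases abs_cases Z with ⟨e, -⟩ | ⟨e, -⟩ <;> omega

/-- A character with constant value on the nontrivial elements of a subgroup. -/
theorem card_dvd_degree_sub {G : Type*} [Group G] [Fintype G] (H : Subgroup G) [Fintype H]
    (χ : IrrCharacter G) {s : ℤ} (h : ∀ x : H, x ≠ 1 → (χ : G → ℂ) x = s) :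
    (Nat.card H : ℤ) ∣ (charDegree (χ : G → ℂ) : ℤ) - s := by
  classical
  obtain ⟨b, hb⟩ := IsChar.classInner_eq_natCast (IsChar.restrict H (IsIrr.isCharacter χ.2))
    isCharacter_one
  refine ⟨(b : ℤ) - s, ?_⟩
  have hsum : ∑ x : H, (χ : G → ℂ) x =
      ((charDegree (χ : G → ℂ) : ℤ) : ℂ) - s + (Nat.card H : ℂ) * s := by
    rw [← Finset.add_sum_erase _ _ (Finset.mem_univ (1 : H)),
      Finset.sum_congr rfl (g := fun _ => (s : ℂ)) (fun x hx => h x (Finset.mem_erase.1 hx).1),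
      Finset.sum_const, Finset.card_erase_of_mem (Finset.mem_univ _), Finset.card_univ,
      ← Nat.card_eq_fintype_card, nsmul_eq_mul, Nat.cast_sub Nat.card_pos, Subgroup.coe_one,
      apply_one_eq_charDegree]
    push_cast
    ring
  have hb' : ∑ x : H, (χ : G → ℂ) x = (Nat.card H : ℂ) * b := by
    rw [← hb, Cfsg.classInner]
    simp only [map_one, mul_one]
    rw [← mul_assoc, mul_inv_cancel₀ (Nat.cast_ne_zero.2 Nat.card_pos.ne'), one_mul]
  rw [hb'] at hsum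
  have : (((Nat.card H : ℤ) * ((b : ℤ) - s) : ℤ) : ℂ) =
      (((charDegree (χ : G → ℂ) : ℤ) - s : ℤ) : ℂ) := by
    push_cast at hsum ⊢
    linear_combination hsum
  exact (Int.cast_inj.1 this).symm

/-- There is no normally generating involution when the Sylow subgroup is not elementary. -/
theorem no_generating_involution {G : Type*} [Group G] [Fintype G] {P : Sylow 2 G} {g : G}
    (S : Setting 2 P g) (h16 : 16 ∣ Nat.card (P : Subgroup G)) {y : (P : Subgroup G)} (hy : y * y ≠ 1)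
    {t : G} (ht : orderOf t = 2) (hgen : ∀ K : Subgroup G, K.Normal → t ∈ K → K = ⊤) : False := by
  classical
  obtain ⟨M, hM⟩ : ∃ M : Ideal AlgInt, IsPModular 2 M := CfsgLib.ZStar.exists_isPModular Nat.prime_two
  have := hM.2.1.isPrime
  have hP4 : 4 < Nat.card (P : Subgroup G) :=
    lt_of_lt_of_le (by norm_num) (Nat.le_of_dvd Nat.card_pos h16)
  obtain ⟨D⟩ := exists_config S hM hP4
  have := Fintype.ofFinite (P : Subgroup G)
  have := finite_lin S
  have := Fintype.ofFinite (Lin S)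
  have htt : t * t = 1 := t_sq ht
  obtain ⟨c, hc⟩ : ∃ c : G, c * t * c⁻¹ ∈ (P : Subgroup G) := by
    obtain ⟨Q, hQ⟩ := (IsPGroup.of_card (p := 2) (n := 1) (G := Subgroup.zpowers t)
      (by rw [Nat.card_zpowers, ht, pow_one])).exists_le_sylow
    obtain ⟨c, hc⟩ := MulAction.exists_smul_eq G Q P
    refine ⟨c, ?_⟩
    rw [← hc]
    exact Subgroup.smul_mem_pointwise_smul t (MulAut.conj c) _ (hQ (Subgroup.mem_zpowers t))
  set t₀ : (P : Subgroup G) := ⟨c * t * c⁻¹, hc⟩ with ht₀def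
  have ht₀2 : t₀ * t₀ = 1 := Subtype.ext (by
    show c * t * c⁻¹ * (c * t * c⁻¹) = 1
    calc c * t * c⁻¹ * (c * t * c⁻¹) = c * (t * t) * c⁻¹ := by group
      _ = 1 := by rw [htt]; group)
  have ht₀1 : t₀ ≠ 1 := fun e => by
    have e' : c * t * c⁻¹ = 1 := congrArg Subtype.val e
    rw [conj_eq_one_iff] at e'
    rw [e', orderOf_one] at ht
    omega
  have hval : ∀ χ : IrrCharacter G, (χ : G → ℂ) t = (χ : G → ℂ) (t₀ : G) := fun χ =>
    ((IsIrr.isClassFunction χ.2) t c).symm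
  have hsig : ∀ z : (P : Subgroup G), z * z = 1 → y ≠ z := fun z hz e => hy (e ▸ hz)
  have hy1 : y ≠ 1 := hsig 1 (one_mul 1)
  have hn : ∀ s : (P : Subgroup G), s * s = 1 →
      y ≠ s ∧ y ≠ sigma S s ∧ y ≠ sigma S (sigma S s) := fun s hs =>
    ⟨hsig s hs, hsig _ (by rw [← map_mul, hs, map_one]),
      hsig _ (by rw [← map_mul, ← map_mul, hs, map_one, map_one])⟩
  have hpair := sum_pair_eq_zero S ht hM hy1 (fun _ s hs => hn s (Subtype.ext (by
    obtain ⟨d, hd⟩ := isConj_iff.1 hs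
    show (s : G) * s = 1
    rw [← hd]
    calc d * t * d⁻¹ * (d * t * d⁻¹) = d * (t * t) * d⁻¹ := by group
      _ = 1 := by rw [htt]; group)))
  obtain ⟨ψ₀, hψ₀, -, -⟩ := Cfsg.Agent.S4721.exists_trivial_at S hP4 ht₀2
  set a : ℤ := (charDegree (D.χa : G → ℂ) : ℤ) with ha
  set b : ℤ := (charDegree (D.χb : G → ℂ) : ℤ) with hb
  set d : ℤ := (charDegree (D.ζ ψ₀ : G → ℂ) : ℤ) with hd
  have hreg : ∀ ψ, ψ ≠ 1 → (1 : ℂ) + D.sa * a + D.sb * b - D.δ * (D.ζ ψ : G → ℂ) 1 = 0 := by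
    intro ψ hψ
    have h := Cfsg.Agent.S4721.regular_rel S hM D hψ (r := (1 : G)) (by simp)
    rw [apply_one_eq_charDegree D.χa, apply_one_eq_charDegree D.χb] at h
    rw [ha, hb]
    exact_mod_cast h
  have hδ2 : (D.δ : ℂ) * D.δ = 1 := by rcases D.hδ with e | e <;> simp [e]
  have hsa2 : (D.sa : ℂ) * D.sa = 1 := by rcases D.hsa with e | e <;> simp [e]
  have hsb2 : (D.sb : ℂ) * D.sb = 1 := by rcases D.hsb with e | e <;> simp [e]
  have hdd : ∀ ψ, ψ ≠ 1 → (D.ζ ψ : G → ℂ) 1 = (d : ℂ) := fun ψ hψ => by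
    rw [hd, Int.cast_natCast, ← apply_one_eq_charDegree]
    linear_combination (D.δ : ℂ) * hreg ψ₀ hψ₀ - (D.δ : ℂ) * hreg ψ hψ -
      ((D.ζ ψ : G → ℂ) 1 - (D.ζ ψ₀ : G → ℂ) 1) * hδ2
  have ha0 : (a : ℂ) ≠ 0 := by rw [ha]; exact_mod_cast (charDegree_pos _).ne'
  have hb0 : (b : ℂ) ≠ 0 := by rw [hb]; exact_mod_cast (charDegree_pos _).ne'
  have hd0 : (d : ℂ) ≠ 0 := by rw [hd]; exact_mod_cast (charDegree_pos _).ne'
  rw [Cfsg.Agent.S4721.sum_split S D, Finset.sum_congr rfl (g := fun φ =>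
      (D.δ : ℂ) / d * (orbitSum S φ t₀ * orbitSum S φ t₀ * orbitSum S φ y)) (fun φ hφ => by
        have hφ1 := (Finset.mem_filter.1 hφ).2
        rw [hdd φ hφ1, hval, D.val_ζ φ hφ1 t₀ ht₀1, D.val_ζ φ hφ1 y hy1]
        linear_combination (D.δ : ℂ) * orbitSum S φ t₀ * orbitSum S φ t₀ * orbitSum S φ y /
          (d : ℂ) * hδ2), ← Finset.mul_sum,
    Cfsg.Agent.S4721.sum_orbit_prod S ht₀2 ⟨hy1, hn t₀ ht₀2⟩] at hpair
  simp only [trivChar_apply, hval, D.val_a t₀ ht₀1, D.val_b t₀ ht₀1, D.val_a y hy1, D.val_b y hy1,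
    apply_one_eq_charDegree] at hpair
  rw [show ((charDegree (D.χa : G → ℂ) : ℕ) : ℂ) = (a : ℂ) by rw [ha]; norm_cast,
    show ((charDegree (D.χb : G → ℂ) : ℕ) : ℂ) = (b : ℂ) by rw [hb]; norm_cast] at hpair
  have h0 : (1 : ℂ) + D.sa / a + D.sb / b - 9 * D.δ / d = 0 := by
    linear_combination hpair - (D.sa : ℂ) / a * hsa2 - (D.sb : ℂ) / b * hsb2
  have hdR : (1 : ℂ) + D.sa * a + D.sb * b - D.δ * d = 0 := by rw [← hdd ψ₀ hψ₀]; exact hreg ψ₀ hψ₀
  have hkey : ((((D.sa * a) * (D.sb * b) + D.sa * a + D.sb * b) * (D.δ * d) : ℤ) : ℂ) =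
      ((9 * ((D.sa * a) * (D.sb * b)) : ℤ) : ℂ) := by
    push_cast
    field_simp at h0
    linear_combination ((D.sa : ℂ) * D.sb * D.δ) * h0 + (-(D.sb : ℂ) * D.δ * b * d) * hsa2 +
      (-(D.sa : ℂ) * D.δ * a * d) * hsb2 + (9 * (a : ℂ) * b * D.sa * D.sb) * hδ2
  have hZ : D.δ * d = 1 + D.sa * a + D.sb * b := by
    have : (((D.δ * d : ℤ)) : ℂ) = ((1 + D.sa * a + D.sb * b : ℤ) : ℂ) := by
      push_cast; linear_combination -hdR
    exact Int.cast_inj.1 this
  have hbound : ∀ (χ : IrrCharacter G) (s : ℤ), (s = 1 ∨ s = -1) → χ ≠ Char.trivChar G →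
      (∀ x : (P : Subgroup G), x ≠ 1 → (χ : G → ℂ) x = s) →
      (16 : ℤ) ∣ s * charDegree (χ : G → ℂ) - 1 ∧ 15 ≤ |s * (charDegree (χ : G → ℂ) : ℤ)| := by
    intro χ s hs hne hv
    obtain ⟨k, hk⟩ := (Int.natCast_dvd_natCast.2 h16).trans
      (card_dvd_degree_sub (P : Subgroup G) χ hv)
    have hpos : 0 < charDegree (χ : G → ℂ) := charDegree_pos _
    have hne1 : s * (charDegree (χ : G → ℂ) : ℤ) ≠ 1 := fun e => by
      have hs1 : s = 1 ∧ (charDegree (χ : G → ℂ) : ℤ) = 1 := by rcases hs with h | h <;> subst h <;> omega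
      refine apply_ne_degree hgen hne ?_
      rw [hval, hv t₀ ht₀1, apply_one_eq_charDegree, hs1.1,
        show charDegree (χ : G → ℂ) = 1 by exact_mod_cast hs1.2]
      simp
    push_cast at hk
    refine ⟨?_, ?_⟩
    · rcases hs with h | h <;> subst h <;> omega
    · rw [le_abs]
      rcases hs with h | h <;> subst h <;> omega
  obtain ⟨hA1, hA2⟩ := hbound D.χa D.sa D.hsa D.a_ne D.val_a
  obtain ⟨hB1, hB2⟩ := hbound D.χb D.sb D.hsb D.b_ne D.val_b
  exact no_degrees hA2 hB2 hZ hA1 hB1 (Int.cast_inj.1 hkey)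

end CfsgLib.IndexThree
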