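import Cfsg.Agent.Lib.Blocks.ExtendedFirst
import Cfsg.Agent.Lib.Blocks.CentralizerProduct
import Cfsg.Agent.Lib.CharAction.RegBlock
import Cfsg.Agent.Lib.Char.CliffordRestrict
import Mathlib.Tactic.LinearCombination

/-!
# The inertial index decides the defect group

Let `b` be a block of `H = P C(P)` with defect group `P`, `θ` its canonical character and `T` the
stabilizer of `θ` in `N(P)`.  If `p ∤ [T : H]`, every character over `θ` has full `p`-part of degree
in `N(P) ⧸ P`, and this passes to the whole block by expanding regular parts in inflated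
characters; otherwise some character over `θ` has smaller `p`-part.
-/

namespace CfsgLib.Blocks

open Cfsg MonoidAlgebra
open scoped ComplexConjugate

variable {G : Type*} [Group G] [Fintype G] {p : ℕ} [Fact p.Prime] {M : Ideal AlgInt} [M.IsPrime]
  (hM : IsPModular p M)
include hM

/-- Divisibility of degrees passes from the inflated members to all members of a block. -/
theorem pow_dvd_charDegree_of_inflate (P : Subgroup G) [P.Normal] [Fintype (G ⧸ P)]
    (hP : IsPGroup p P) {β : Set (IrrCharacter G)} (hβ : IsPBlock M β)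
    (hfull : ∀ η : IrrCharacter (G ⧸ P), inflate P η ∈ β →
      P.index.factorization p ≤ (charDegree (η : G ⧸ P → ℂ)).factorization p)
    {ψ : IrrCharacter G} (hψ : ψ ∈ β) :
    P.index.factorization p ≤ (charDegree (ψ : G → ℂ)).factorization p := by
  classical
  have hp : p.Prime := Fact.out
  have := Fintype.ofFinite (IrrCharacter (G ⧸ P))
  obtain ⟨j, hj⟩ := IsPGroup.iff_card.1 hP
  set R := Finset.univ.filter (fun x : G => ¬ p ∣ orderOf x)
  let F : G ⧸ P → ℂ := fun q => ∑ x ∈ R.filter (fun x : G => (x : G ⧸ P) = q), (ψ : G → ℂ) x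
  have hF : IsClassFunction (G ⧸ P) F := by
    intro q c
    obtain ⟨g, rfl⟩ := QuotientGroup.mk_surjective c
    refine (Finset.sum_equiv (MulAut.conj g).toEquiv (fun x => ?_) fun x _ => ?_).symm
    · simp only [R, Finset.mem_filter, Finset.mem_univ, true_and, MulEquiv.toEquiv_eq_coe,
        MulEquiv.coe_toEquiv, MulEquiv.orderOf_eq]
      refine and_congr_right fun _ => ⟨fun e => ?_, fun e => ?_⟩
      · rw [MulAut.conj_apply, QuotientGroup.mk_mul, QuotientGroup.mk_mul, QuotientGroup.mk_inv, e]
      · rw [MulAut.conj_apply, QuotientGroup.mk_mul, QuotientGroup.mk_mul,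
          QuotientGroup.mk_inv] at e
        exact mul_left_cancel (mul_right_cancel e)
    · exact (Char.IsIrr.isClassFunction ψ.2 x g).symm
  have hinner : ∀ η : IrrCharacter (G ⧸ P), ∃ k : ℤ, classInner F (η : G ⧸ P → ℂ) = (k : ℂ) ∧
      (inflate P η ∉ β → k = 0) := by
    intro η
    have h1 : classInner F (η : G ⧸ P → ℂ) = (Nat.card (G ⧸ P) : ℂ)⁻¹ *
        ∑ x ∈ R, (ψ : G → ℂ) x * conj ((inflate P η : G → ℂ) x) := by
      rw [classInner, ← Finset.sum_fiberwise R (fun x : G => (x : G ⧸ P))]
      congr 1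
      refine Finset.sum_congr rfl fun q _ => ?_
      simp only [F, Finset.sum_mul]
      refine Finset.sum_congr rfl fun x hx => ?_
      rw [inflate_apply, (Finset.mem_filter.1 hx).2]
    by_cases hη : inflate P η ∈ β
    · have hc : (Nat.card G).factorization p ≤ j +
          CfsgLib.CharAction.degVal p (inflate P η : G → ℂ) := by
        have hd : charDegree (inflate P η : G → ℂ) = charDegree (η : G ⧸ P → ℂ) :=
          charDegree_eq (χ := inflate P η)
            (by rw [inflate_apply, QuotientGroup.mk_one, apply_one_eq_charDegree])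
        show _ ≤ j + (charDegree (inflate P η : G → ℂ)).factorization p
        rw [hd, factorization_card_eq_index_add hM P, hj, hp.factorization_pow,
          Finsupp.single_eq_same, add_comm]
        exact Nat.add_le_add_left (hfull η hη) j
      obtain ⟨k, hk⟩ := CfsgLib.CharAction.exists_int_pow_mul_inner (inflate P η) ψ hc
      refine ⟨k, ?_, fun h => absurd hη h⟩
      have hk' := congrArg conj hk
      rw [map_mul, Complex.conj_natCast, map_intCast, CfsgLib.Char.classInner_conj_symm] at hk'
      rw [h1, ← hk', classInner, ← hj, ← P.card_mul_index, ← Subgroup.index_eq_card, Nat.cast_mul,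
        mul_inv, ← mul_assoc, ← mul_assoc, mul_inv_cancel₀ (Nat.cast_ne_zero.2 Nat.card_pos.ne'),
        one_mul, Finset.sum_filter]
      refine congrArg _ (Finset.sum_congr rfl fun x _ => ?_)
      by_cases hx : p ∣ orderOf x <;> simp [hx, CfsgLib.Char.regCut]
    · refine ⟨0, ?_, fun _ => rfl⟩
      rw [h1, Finset.sum_congr rfl fun x _ => by rw [← Char.IsIrr.map_inv (inflate P η).2],
        sum_regular_eq_zero hM fun hs => hη (by rw [IsPBlock.eq_blockOf hβ hψ]; exact hs), mul_zero,
        Int.cast_zero]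
  choose k hk hk0 using hinner
  have h1 : F 1 = (ψ : G → ℂ) 1 := by
    refine Finset.sum_eq_single (1 : G) (fun z hz hne => ?_) fun h => absurd ?_ h
    · obtain ⟨hzR, hz1⟩ := Finset.mem_filter.1 hz
      have hzP : z ∈ P := (QuotientGroup.eq_one_iff z).1 hz1
      obtain ⟨i, hi⟩ := IsPGroup.iff_orderOf.1 hP ⟨z, hzP⟩
      rw [Subgroup.orderOf_mk] at hi
      refine absurd ?_ hne
      rcases Nat.eq_zero_or_pos i with h0 | h0
      · exact orderOf_eq_one_iff.1 (by rw [hi, h0, pow_zero])
      · exact absurd (hi ▸ dvd_pow_self p h0.ne') (Finset.mem_filter.1 hzR).2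
    · simp [R, hp.ne_one]
  have hdiv : ∀ η : IrrCharacter (G ⧸ P), ∃ n : ℤ,
      k η * (charDegree (η : G ⧸ P → ℂ) : ℤ) = (p : ℤ) ^ P.index.factorization p * n := by
    intro η
    by_cases hη : inflate P η ∈ β
    · obtain ⟨n, hn⟩ : p ^ P.index.factorization p ∣ charDegree (η : G ⧸ P → ℂ) :=
        (pow_dvd_pow p (hfull η hη)).trans (Nat.ordProj_dvd _ _)
      exact ⟨k η * n, by rw [hn]; push_cast; ring⟩
    · exact ⟨0, by rw [hk0 η hη, zero_mul, mul_zero]⟩
  choose n hn using hdiv
  have hsum : (charDegree (ψ : G → ℂ) : ℤ) = (p : ℤ) ^ P.index.factorization p * ∑ η, n η := by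
    have h2 := Char.classFunction_apply_eq_sum hF 1
    rw [h1, apply_one_eq_charDegree] at h2
    have h3 : ((charDegree (ψ : G → ℂ) : ℤ) : ℂ) =
        ((∑ η, k η * (charDegree (η : G ⧸ P → ℂ) : ℤ) : ℤ) : ℂ) := by
      push_cast
      rw [h2]
      exact Finset.sum_congr rfl fun η _ => by rw [hk, apply_one_eq_charDegree]
    rw [Finset.mul_sum, ← Finset.sum_congr rfl fun η _ => hn η]
    exact_mod_cast h3
  refine (Nat.Prime.pow_dvd_iff_le_factorization hp (charDegree_pos ψ).ne').1
    (Int.natCast_dvd_natCast.1 ⟨∑ η, n η, ?_⟩)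
  push_cast
  exact hsum

/-- The block of any character over a member of `b` induces `b^G`. -/
theorem isInducedBlock_of_over {P L : Subgroup G} [Fintype L]
    [Fintype (Subgroup.normalizer (P : Set G))]
    [Fintype (L.subgroupOf (Subgroup.normalizer (P : Set G)))] (hP : IsPGroup p P) (hPL : P ≤ L)
    (hCL : Subgroup.centralizer (P : Set G) ≤ L) (hLN : L ≤ Subgroup.normalizer (P : Set G))
    [(L.subgroupOf (Subgroup.normalizer (P : Set G))).Normal]
    {b : Set (IrrCharacter L)} {B : Set (IrrCharacter G)} (h : IsInducedBlock M L b B)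
    {θ : IrrCharacter L} (hθ : θ ∈ b) {χ : IrrCharacter (Subgroup.normalizer (P : Set G))}
    (hχ : classInner (fun n : L.subgroupOf (Subgroup.normalizer (P : Set G)) =>
          (χ : Subgroup.normalizer (P : Set G) → ℂ) n)
        (pullEquiv (Subgroup.subgroupOfEquivOfLe hLN) θ :
          L.subgroupOf (Subgroup.normalizer (P : Set G)) → ℂ) ≠ 0) :
    IsInducedBlock M (Subgroup.normalizer (P : Set G))
        (blockOf M (χ : Subgroup.normalizer (P : Set G) → ℂ)) B := by
  classical
  obtain ⟨hb, hB, hh⟩ := isInducedBlock_iff.1 h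
  obtain ⟨ψ, hψ⟩ := IsPBlock.nonempty hB
  refine isInducedBlock_of_rep (isPBlock_blockOf χ) hB (mem_blockOf_self χ) hψ fun a ha => ?_
  have := charP_residueField hM
  have hc := isCentralElt_brauerMap (H := Subgroup.normalizer (P : Set G)) (P := P) le_rfl ha
  rw [omegaBar_resElt_eq_brauerMap hM hP Subgroup.le_normalizer le_rfl χ ha,
    omegaBar_eq_omegaBar_resElt _ hχ hc (fun g hg => by
      rw [coeff_brauerMap, if_neg]
      exact fun hgc => hg (hCL hgc)),
    omegaBar_pullEquiv _ θ (isCentralElt_resElt _ hc) (c := brauerMap P L a) (fun x => by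
      rw [coeff_resElt, coeff_brauerMap, coeff_brauerMap]; rfl),
    ← omegaBar_resElt_eq_brauerMap hM hP hPL hLN θ ha]
  exact hh θ hθ ψ hψ a ha

omit hM in
/-- Degrees of the characters over an irreducible character of a normal subgroup. -/
theorem exists_clifford_degrees (N : Subgroup G) [hN : N.Normal] [Fintype N] (θ : IrrCharacter N) :
    ∃ (e : IrrCharacter G → ℕ) (o t : ℕ),
      (∀ χ : IrrCharacter G, classInner (fun n : N => (χ : G → ℂ) n) (θ : N → ℂ) = (e χ : ℂ)) ∧
      (∀ χ : IrrCharacter G, e χ ≠ 0 → charDegree (χ : G → ℂ) = e χ * (o * charDegree (θ : N → ℂ))) ∧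
      o * t = N.index ∧ (∀ [Fintype (IrrCharacter G)], ∑ χ : IrrCharacter G, e χ ^ 2 = t) ∧
      Nat.card N * t = Nat.card {g : G // CfsgLib.Clifford.conjFn hN (θ : N → ℂ) g = θ} := by
  classical
  have := Fintype.ofFinite (IrrCharacter G)
  have hm : ∀ χ : IrrCharacter G, ∃ m : ℕ,
      classInner (fun n : N => (χ : G → ℂ) n) (θ : N → ℂ) = (m : ℂ) := fun χ =>
    Char.IsChar.classInner_eq_natCast (Char.IsChar.restrict N (Char.IsIrr.isCharacter χ.2))
      (Char.IsIrr.isCharacter θ.2)
  choose e he using hm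
  set o := (Finset.univ.image (CfsgLib.Clifford.conjFn hN (θ : N → ℂ))).card with ho
  have hdeg : ∀ χ : IrrCharacter G, e χ ≠ 0 → charDegree (χ : G → ℂ) = e χ * (o * charDegree (θ : N → ℂ)) := by
    intro χ hne
    have h := congrFun (CfsgLib.Clifford.restrict_eq_smul_orbit_sum hN χ.2 θ.2
      (by rw [he]; exact Nat.cast_ne_zero.2 hne)) 1
    rw [Pi.smul_apply, Finset.sum_apply, he, smul_eq_mul, OneMemClass.coe_one,
      apply_one_eq_charDegree,
      Finset.sum_congr rfl (g := fun _ => (charDegree (θ : N → ℂ) : ℂ)) fun f hf => ?_,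
      Finset.sum_const, nsmul_eq_mul, ← ho] at h
    · exact_mod_cast h
    · obtain ⟨g, -, rfl⟩ := Finset.mem_image.1 hf
      rw [CfsgLib.Clifford.conjFn_apply, ← apply_one_eq_charDegree]
      exact congrArg _ (Subtype.ext (by simp))
  have hI : ∀ χ : IrrCharacter G, classInner (indFun N (θ : N → ℂ)) (χ : G → ℂ) = (e χ : ℂ) :=
    fun χ => by
      rw [Char.frobenius_reciprocity N _ (Char.IsIrr.isClassFunction χ.2),
        ← Char.classInner_conj_symm, he, Complex.conj_natCast]
  have h1 := CfsgLib.Clifford.card_mul_classInner_indFun hN θ.2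
  have hnorm : classInner (indFun N (θ : N → ℂ)) (indFun N (θ : N → ℂ)) =
      ((∑ χ, e χ ^ 2 : ℕ) : ℂ) := by
    conv_lhs => arg 2; rw [Char.classFunction_eq_sum (Char.isClassFunction_indFun N (θ : N → ℂ))]
    rw [Char.classInner_sum_right, Nat.cast_sum]
    refine Finset.sum_congr rfl fun χ _ => ?_
    rw [← Char.classInner_conj_symm, Char.classInner_smul_left, map_mul, hI, Complex.conj_natCast,
      Char.classInner_conj_symm, hI, Nat.cast_pow, sq]
  refine ⟨e, o, ∑ χ, e χ ^ 2, he, hdeg, ?_, fun {inst} => ?_, ?_⟩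
  · have h := Char.classFunction_apply_eq_sum (Char.isClassFunction_indFun N (θ : N → ℂ)) (1 : G)
    simp only [hI, Char.indFun_apply_one, apply_one_eq_charDegree, ← Nat.cast_mul,
      ← Nat.cast_sum, Nat.cast_inj] at h
    refine Nat.eq_of_mul_eq_mul_right (charDegree_pos θ) ?_
    rw [h, Finset.mul_sum, Finset.sum_mul]
    refine Finset.sum_congr rfl fun χ _ => ?_
    by_cases hne : e χ = 0
    · simp [hne]
    · rw [hdeg χ hne]; ring
  · congr 1
    exact Finset.ext fun x => by simp
  · have h2 : ((Nat.card N * ∑ χ, e χ ^ 2 : ℕ) : ℂ) =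
        (Nat.card {g : G // CfsgLib.Clifford.conjFn hN (θ : N → ℂ) g = θ} : ℂ) := by
      rw [Nat.cast_mul, ← hnorm, h1]
    exact_mod_cast h2

end CfsgLib.Blocks
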