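import Cfsg.Agent.Lib.Blocks.DefectFour
import Cfsg.Agent.Lib.Blocks.SubsectionNorms
import Cfsg.Agent.Lib.Pairs.AbelianLocal
import Cfsg.Agent.Lib.Pairs.MaximalCriterion

/-!
# 2-blocks with a Klein four defect group
-/

namespace CfsgLib.Blocks

open Cfsg CfsgLib.Char CfsgLib.CharAction CfsgLib.Pairs
open scoped ComplexConjugate Classical

variable {G : Type*} [Group G] [Fintype G] {M : Ideal AlgInt} [M.IsPrime] (hM : IsPModular 2 M)
  {B : Set (IrrCharacter G)} {P : Subgroup G}
  {c : Set (IrrCharacter (Subgroup.centralizer (P : Set G)))}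

theorem centralizer_zpowers (x : G) :
    Subgroup.centralizer (Subgroup.zpowers x : Set G) = Subgroup.centralizer ({x} : Set G) := by
  ext g
  rw [Subgroup.mem_centralizer_singleton_iff, Subgroup.mem_centralizer_iff]
  refine ⟨fun h => (h x (Subgroup.mem_zpowers x)).symm, fun h v hv => ?_⟩
  obtain ⟨i, rfl⟩ := Subgroup.mem_zpowers_iff.1 hv
  exact ((show Commute g x from h).zpow_right i).eq.symm

theorem eq_of_zpowers_eq {x y : G} (hx : orderOf x = 2) (hy : orderOf y = 2)
    (h : Subgroup.zpowers x = Subgroup.zpowers y) : x = y := by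
  have hx1 : x ≠ 1 := fun e => by rw [e, orderOf_one] at hx; omega
  obtain ⟨i, hi⟩ := Subgroup.mem_zpowers_iff.1 (h ▸ Subgroup.mem_zpowers x)
  rw [← hi, zpow_mod_orderOf y i |>.symm, hy] at hx1 ⊢
  rcases Int.emod_two_eq_zero_or_one i with e | e <;>
    simp only [Nat.cast_ofNat, e, zpow_zero, zpow_one] at hx1 ⊢
  exact absurd rfl hx1

section

variable (hcard : Nat.card P = 4) (hab : ∀ a ∈ P, ∀ b ∈ P, a * b = b * a)
  (hmax : IsMaximalBrauerPair 2 M B P c)
include hM hcard hab hmax

theorem blockDefect_eq_two : blockDefect 2 B = 2 := by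
  have : Fact (Nat.Prime 2) := ⟨Nat.prime_two⟩
  have h := IsDefectGroup.card_eq hM hmax.1.2.1 (isDefectGroup_of_maximal hM hmax)
  rw [hcard] at h
  exact (Nat.pow_right_injective le_rfl (a₁ := 2) (a₂ := blockDefect 2 B) (by simpa using h)).symm

/-- Local blocks at subgroups of order two have rank one. -/
theorem blockRank_local {Q : Subgroup G} {f : Set (IrrCharacter (Subgroup.centralizer (Q : Set G)))}
    (hle : SubpairLE 2 M Q f P c) (hQ : Nat.card Q = 2) : blockRank 2 f = 1 := by
  have : Fact (Nat.Prime 2) := ⟨Nat.prime_two⟩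
  have hQP : Q ≤ P := le_of_subpairLE hle
  have hPC := le_centralizer_of_abelian hmax hab hQP
  have hfb : IsPBlock M f := (isBrauerPair_of_subpairLE hle hmax.1.1).2
  have hfc : (blockFusion hM hmax).IsFullyCentralized Q := by
    refine ⟨hQP, fun R hR => ?_⟩
    have hRP : R ≤ P := CfsgLib.Fusion.isConj_le_right hR
    rw [CfsgLib.Fusion.centralizerIn_eq_self hab hQP, CfsgLib.Fusion.centralizerIn_eq_self hab hRP]
  have h := (isFullyCentralized_iff (isBlockFusionSystemOn_blockFusion hM hmax) hM hle).1 hfc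
  rw [inf_eq_left.2 hPC] at h
  have hd : blockDefect 2 f = 2 := by
    have h' := IsDefectGroup.card_eq hM hfb h
    rw [Nat.card_congr (Subgroup.subgroupOfEquivOfLe hPC).toEquiv, hcard] at h'
    exact (Nat.pow_right_injective le_rfl (a₁ := 2) (a₂ := blockDefect 2 f) (by simpa using h')).symm
  obtain ⟨x, hx⟩ := exists_prime_orderOf_dvd_card' (G := Q) 2 (hQ ▸ dvd_rfl)
  have hx' : orderOf (x : G) = 2 := (Subgroup.orderOf_coe x).trans hx
  refine blockRank_eq_one_of_central hM hfb hd h (x := ⟨x, hPC (hQP x.2)⟩)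
    (Subgroup.mem_subgroupOf.2 (hQP x.2)) ?_ fun g => Subtype.ext ?_
  · rw [← Subgroup.orderOf_coe]; exact hx'
  · exact (Subgroup.mem_centralizer_iff.1 g.2 x x.2).symm

/-- Every pair of `B` on a subgroup of order two gives a block of rank one. -/
theorem blockRank_pair {Q : Subgroup G} {f : Set (IrrCharacter (Subgroup.centralizer (Q : Set G)))}
    (hf : IsBrauerPairOf 2 M B Q f) (hQ : Nat.card Q = 2) : blockRank 2 f = 1 := by
  have : Fact (Nat.Prime 2) := ⟨Nat.prime_two⟩
  obtain ⟨y, hy⟩ := exists_conj_le hM hmax hf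
  have h := subpairLE_conjPair y⁻¹ hy
  rw [← conjPair_mul, inv_mul_cancel, conjPair_one] at h
  have hmax' := isMaximalBrauerPair_conjPair y⁻¹ (a := ⟨P, c⟩) hmax
  refine blockRank_local hM ?_ ?_ hmax' h hQ
  · show Nat.card (P.map (MulAut.conj y⁻¹).toMonoidHom : Subgroup G) = 4
    rw [Subgroup.card_map_of_injective (MulAut.conj y⁻¹).injective, hcard]
  · rintro a ⟨u, hu, rfl⟩ b ⟨v, hv, rfl⟩
    rw [← map_mul, hab u hu v hv, map_mul]

end

section

variable (hV : IsKleinFour P) (hmax : IsMaximalBrauerPair 2 M B P c)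
include hM hV hmax

omit hM hmax in
theorem orderOf_of_mem {u : G} (hu : u ∈ P) (hu1 : u ≠ 1) : orderOf u = 2 := by
  have h := Monoid.pow_exponent_eq_one (⟨u, hu⟩ : P)
  rw [hV.exponent_two] at h
  exact orderOf_eq_prime (congrArg Subtype.val h) hu1

omit hM hmax in
theorem commute_mem {a b : G} (ha : a ∈ P) (hb : b ∈ P) : a * b = b * a := by
  have hinv : ∀ w : P, w⁻¹ = w := fun w => inv_eq_of_mul_eq_one_right (by
    rw [← pow_two]; exact hV.exponent_two ▸ Monoid.pow_exponent_eq_one w)
  have := hinv (⟨a, ha⟩ * ⟨b, hb⟩)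
  rw [mul_inv_rev, hinv, hinv] at this
  exact (congrArg Subtype.val this).symm

/-- The pairs of `B` on subgroups of order two. -/
def involutionPairs (_ : IsMaximalBrauerPair 2 M B P c) : Set (BrauerPairIdx G) :=
  {a | IsBrauerPairOf 2 M B a.1 a.2 ∧ Nat.card a.1 = 2}

/-- The mass of the 2-singular elements. -/
theorem singular_mass :
    (Nat.card G : ℝ) * (4 - (blockRank 2 B : ℝ)) =
      ∑ a ∈ (Set.toFinite (involutionPairs hmax)).toFinset,
        (Nat.card (Subgroup.centralizer (a.1 : Set G)) : ℝ) := by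
  have : Fact (Nat.Prime 2) := ⟨Nat.prime_two⟩
  have hB : IsPBlock M B := hmax.1.2.1
  have hab : ∀ a ∈ P, ∀ b ∈ P, a * b = b * a := fun a ha b hb => commute_mem hV ha hb
  have h4 := card_eq_four_of_defect_two hM hB (blockDefect_eq_two hM hV.card_four hab hmax)
  set A := (Set.toFinite B).toFinset with hA
  let f : G → ℝ := fun g => ∑ χ ∈ A, Complex.normSq ((χ : G → ℂ) g)
  have htot : ∑ g, f g = 4 * (Nat.card G : ℝ) := by
    rw [Finset.sum_comm, Finset.sum_congr rfl (g := fun _ => (Nat.card G : ℝ)) fun χ _ => ?_,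
      Finset.sum_const, nsmul_eq_mul]
    · rw [hA, ← Set.ncard_eq_toFinset_card B (Set.toFinite B), ← Nat.card_coe_set_eq, h4]
      norm_num
    · have h := Char.classInner_irr_self χ
      rw [classInner, inv_mul_eq_one₀ (Nat.cast_ne_zero.2 Nat.card_pos.ne')] at h
      have h1 := congrArg Complex.re h
      rw [Complex.re_sum, Complex.natCast_re,
        Finset.sum_congr rfl fun g _ => by rw [Complex.mul_conj, Complex.ofReal_re]] at h1
      exact h1.symm
  set S := Finset.univ.filter (fun g : G => ¬ 2 ∣ orderOf g) with hS'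
  have hreg : ∑ g ∈ S, f g = (Nat.card G : ℝ) * (blockRank 2 B : ℝ) := by
    have h := card_mul_blockRank hM hB
    rw [Finset.sum_congr rfl (g := fun g : G => ((if ¬ 2 ∣ orderOf g then f g else 0 : ℝ) : ℂ))
      fun g _ => ?_, ← Complex.ofReal_sum, ← Finset.sum_filter] at h
    · rw [hS']
      exact_mod_cast h.symm
    · rw [finsum_mem_eq_finite_toFinset_sum _ (Set.toFinite _)]
      by_cases hg : 2 ∣ orderOf g
      · simp [pRegularPart_eq_regCut, regCut, hg]
      · simp only [f, if_pos hg, ← hA, Complex.ofReal_sum, pRegularPart_eq_regCut, regCut, if_neg hg]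
        exact Finset.sum_congr rfl fun χ _ => by rw [Char.IsIrr.map_inv χ.2, Complex.mul_conj]
  set X := Finset.univ.filter (fun x : G => x ≠ 1 ∧ ∃ k, orderOf x = 2 ^ k) with hX
  let R : ∀ x : G, Finset (Subgroup.centralizer ({x} : Set G)) := fun x =>
    Finset.univ.filter fun y => ¬ 2 ∣ orderOf y
  have hsing : ∑ g ∈ Finset.univ.filter (fun g : G => 2 ∣ orderOf g), f g =
      ∑ x ∈ X, ∑ y ∈ R x, f (x * (y : G)) := by
    rw [Finset.sum_sigma' X R fun x y => f (x * (y : G))]
    symm
    refine Finset.sum_bij (fun q _ => q.1 * (q.2 : G)) ?_ ?_ ?_ fun _ _ => rfl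
    · rintro ⟨x, y⟩ hq
      obtain ⟨hx, hy⟩ := Finset.mem_sigma.1 hq
      obtain ⟨hx1, hxk⟩ := (Finset.mem_filter.1 hx).2
      exact Finset.mem_filter.2 ⟨Finset.mem_univ _, (IsPPart.dvd_orderOf_iff hM.1
        (isPPart_mul_of_mem_centralizer hxk (Finset.mem_filter.1 hy).2)).2 hx1⟩
    · rintro ⟨x, y⟩ hq ⟨x', y'⟩ hq' he
      obtain ⟨hx, hy⟩ := Finset.mem_sigma.1 hq
      obtain ⟨hx', hy'⟩ := Finset.mem_sigma.1 hq'
      obtain rfl : x = x' := pPart_unique hM.1
        (isPPart_mul_of_mem_centralizer (Finset.mem_filter.1 hx).2.2 (Finset.mem_filter.1 hy).2)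
        (he ▸ isPPart_mul_of_mem_centralizer (Finset.mem_filter.1 hx').2.2
          (Finset.mem_filter.1 hy').2)
      obtain rfl : y = y' := Subtype.ext (mul_left_cancel he)
      rfl
    · intro g hg
      obtain ⟨u, hu⟩ := exists_pPart hM.1 g
      have hu1 := (IsPPart.dvd_orderOf_iff hM.1 hu).1 (Finset.mem_filter.1 hg).2
      obtain ⟨w, hw, hcw, hk, hwo⟩ := hu
      refine ⟨⟨u, ⟨w, Subgroup.mem_centralizer_singleton_iff.2 hcw.eq.symm⟩⟩,
        Finset.mem_sigma.2 ⟨Finset.mem_filter.2 ⟨Finset.mem_univ _, hu1, hk⟩,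
          Finset.mem_filter.2 ⟨Finset.mem_univ _, ?_⟩⟩, hw⟩
      rwa [← Subgroup.orderOf_coe]
  -- pairs on a given element have order two
  have hinv : ∀ x ∈ X, ∀ e, IsBrauerPairOf 2 M B (Subgroup.zpowers x) e → orderOf x = 2 := by
    intro x hx e he
    obtain ⟨y, hy⟩ := exists_conj_le hM hmax he
    have h1 : y * x * y⁻¹ ∈ P :=
      le_of_subpairLE hy (Subgroup.mem_map_of_mem _ (Subgroup.mem_zpowers x))
    have h2 := orderOf_of_mem hV h1 fun e => (Finset.mem_filter.1 hx).2.1 (conj_eq_one_iff.1 e)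
    rwa [show y * x * y⁻¹ = MulAut.conj y x from rfl, MulEquiv.orderOf_eq] at h2
  -- the mass of one element
  have hT : ∀ x ∈ X, ∑ y ∈ R x, f (x * (y : G)) =
      (Nat.card (Subgroup.centralizer (Subgroup.zpowers x : Set G)) : ℝ) *
        (Nat.card {e // IsBrauerPairOf 2 M B (Subgroup.zpowers x) e} : ℝ) := by
    intro x hx
    obtain ⟨hx1, hxk⟩ := (Finset.mem_filter.1 hx).2
    have := Fintype.ofFinite (IrrCharacter (Subgroup.centralizer ({x} : Set G)))
    set Bs := ((Finset.univ.image fun ψ : IrrCharacter (Subgroup.centralizer ({x} : Set G)) =>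
      blockOf M (ψ : Subgroup.centralizer ({x} : Set G) → ℂ)).filter
        fun b => IsInducedBlock M (Subgroup.centralizer ({x} : Set G)) b B) with hBs
    have hmem : ∀ b, b ∈ Bs ↔ IsInducedBlock M (Subgroup.centralizer ({x} : Set G)) b B := by
      intro b
      refine ⟨fun h => (Finset.mem_filter.1 h).2, fun h => Finset.mem_filter.2 ⟨?_, h⟩⟩
      obtain ⟨ψ, hψ⟩ := (isInducedBlock_iff.1 h).1
      exact Finset.mem_image.2 ⟨ψ, Finset.mem_univ _, hψ.symm⟩
    -- transfer to the centralizer of the cyclic group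
    have hgen : ∀ H : Subgroup G, H = Subgroup.centralizer (Subgroup.zpowers x : Set G) →
        (∀ b : Set (IrrCharacter H), IsInducedBlock M H b B → blockRank 2 b = 1) ∧
          Nat.card {b : Set (IrrCharacter H) // IsInducedBlock M H b B} =
            Nat.card {e // IsBrauerPairOf 2 M B (Subgroup.zpowers x) e} := by
      intro H hH
      subst hH
      have hp : IsPGroup 2 (Subgroup.zpowers x) := by
        obtain ⟨k, hk⟩ := hxk
        exact IsPGroup.of_card (n := k) (by rw [Nat.card_zpowers, hk])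
      have hC : Subgroup.zpowers x ≤ Subgroup.centralizer (Subgroup.zpowers x : Set G) := by
        rw [centralizer_zpowers, Subgroup.zpowers_le]
        exact Subgroup.mem_centralizer_singleton_iff.2 rfl
      have hiff : ∀ b : Set (IrrCharacter (Subgroup.centralizer (Subgroup.zpowers x : Set G))),
          IsInducedBlock M (Subgroup.centralizer (Subgroup.zpowers x : Set G)) b B ↔
            IsBrauerPairOf 2 M B (Subgroup.zpowers x) b := fun b =>
        ⟨fun h => (inducedFromCent_iff hM hp hC (isInducedBlock_iff.1 h).1 B).1 h,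
          fun h => (inducedFromCent_iff hM hp hC h.1.2 B).2 h⟩
      refine ⟨fun b hb => blockRank_pair hM hV.card_four hab hmax ((hiff b).1 hb) ?_,
        Nat.card_congr (Equiv.subtypeEquivRight hiff)⟩
      rw [Nat.card_zpowers, hinv x hx b ((hiff b).1 hb)]
    obtain ⟨hrank, hnum⟩ := hgen _ (centralizer_zpowers x).symm
    have hnum' : Nat.card {e // IsBrauerPairOf 2 M B (Subgroup.zpowers x) e} = Bs.card := by
      rw [← hnum, ← Nat.card_eq_finsetCard]
      exact Nat.card_congr (Equiv.subtypeEquivRight fun b => (hmem b).symm)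
    rw [hnum', centralizer_zpowers]
    refine Complex.ofReal_injective ?_
    push_cast
    simp only [f, Complex.ofReal_sum, ← Complex.mul_conj]
    rw [Finset.sum_comm]
    let bp : IrrCharacter G → Set (IrrCharacter (Subgroup.centralizer ({x} : Set G))) →
        Subgroup.centralizer ({x} : Set G) → ℂ := fun χ b =>
      blockPart b fun c : Subgroup.centralizer ({x} : Set G) => (χ : G → ℂ) (x * (c : G))
    calc ∑ χ ∈ A, ∑ y ∈ R x, (χ : G → ℂ) (x * (y : G)) * conj ((χ : G → ℂ) (x * (y : G)))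
        = ∑ χ ∈ A, ∑ y ∈ R x, (∑ b ∈ Bs, bp χ b y) * conj (∑ b ∈ Bs, bp χ b y) := by
          refine Finset.sum_congr rfl fun χ hχ => Finset.sum_congr rfl fun y hy => ?_
          rw [apply_mul_eq_sum_blockPart hM hxk hB ((Set.Finite.mem_toFinset _).1 hχ)
            (Finset.mem_filter.1 hy).2]
      _ = ∑ χ ∈ A, ∑ b ∈ Bs, ∑ y ∈ R x, bp χ b y * conj (bp χ b y) := by
          refine Finset.sum_congr rfl fun χ _ => ?_
          rw [Finset.sum_congr rfl fun y _ => by rw [map_sum, Finset.sum_mul_sum],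
            Finset.sum_comm]
          refine Finset.sum_congr rfl fun b hb => ?_
          rw [Finset.sum_comm, Finset.sum_eq_single_of_mem b hb fun b' hb' hne =>
            sum_regular_blockPart_mul_eq_zero hM (isInducedBlock_iff.1 ((hmem b).1 hb)).1
              (isInducedBlock_iff.1 ((hmem b').1 hb')).1 (Ne.symm hne) _ _]
      _ = ∑ b ∈ Bs, ∑ χ ∈ A, ∑ y ∈ R x, bp χ b y * conj (bp χ b y) := Finset.sum_comm
      _ = ∑ b ∈ Bs, (Nat.card (Subgroup.centralizer ({x} : Set G)) : ℂ) := by
          refine Finset.sum_congr rfl fun b hb => ?_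
          have h := sum_block_blockPart_norm hM hxk ((hmem b).1 hb)
          rw [finsum_mem_eq_finite_toFinset_sum _ (Set.toFinite B), hrank b ((hmem b).1 hb),
            Nat.cast_one, mul_one] at h
          convert h using 5
      _ = _ := by rw [Finset.sum_const, nsmul_eq_mul, mul_comm]
  -- pairs
  have hfin : ∀ x : {x // x ∈ X}, Fintype {e // IsBrauerPairOf 2 M B (Subgroup.zpowers (x : G)) e} :=
    fun _ => Fintype.ofFinite _
  let Ψ : (Σ x : {x // x ∈ X}, {e // IsBrauerPairOf 2 M B (Subgroup.zpowers (x : G)) e}) →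
      {a // a ∈ (Set.toFinite (involutionPairs hmax)).toFinset} := fun q =>
    ⟨⟨Subgroup.zpowers (q.1 : G), q.2.1⟩, (Set.Finite.mem_toFinset _).2
      ⟨q.2.2, by rw [Nat.card_zpowers, hinv _ q.1.2 _ q.2.2]⟩⟩
  have hΨ : Function.Bijective Ψ := by
    constructor
    · rintro ⟨⟨x, hx⟩, e, he⟩ ⟨⟨x', hx'⟩, e', he'⟩ h
      have h' := congrArg Subtype.val h
      obtain rfl : x = x' :=
        eq_of_zpowers_eq (hinv x hx e he) (hinv x' hx' e' he') (congrArg Sigma.fst h')
      obtain rfl : e = e' := eq_of_heq (Sigma.ext_iff.1 h').2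
      rfl
    · rintro ⟨⟨Q, e⟩, ha⟩
      obtain ⟨he, hQ⟩ := (Set.Finite.mem_toFinset _).1 ha
      obtain ⟨⟨x, hxQ⟩, hx⟩ := exists_prime_orderOf_dvd_card' (G := Q) 2 (hQ ▸ dvd_rfl)
      have hx' : orderOf x = 2 := (Subgroup.orderOf_mk x hxQ).symm.trans hx
      obtain rfl : Subgroup.zpowers x = Q := Subgroup.eq_of_le_of_card_ge
        (Subgroup.zpowers_le.2 hxQ) (by rw [Nat.card_zpowers, hx', hQ])
      refine ⟨⟨⟨x, Finset.mem_filter.2 ⟨Finset.mem_univ _, fun e => ?_, 1, by rw [hx', pow_one]⟩⟩,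
        e, he⟩, rfl⟩
      rw [e, orderOf_one] at hx'
      omega
  rw [← Finset.sum_coe_sort, ← Fintype.sum_bijective Ψ hΨ
    (fun q => (Nat.card (Subgroup.centralizer (Subgroup.zpowers (q.1 : G) : Set G)) : ℝ)) _
    fun q => rfl, Fintype.sum_sigma]
  have h := Finset.sum_filter_add_sum_filter_not Finset.univ (fun g : G => ¬ 2 ∣ orderOf g) f
  simp only [not_not] at h
  rw [hreg, htot, hsing, Finset.sum_congr rfl hT, ← Finset.sum_coe_sort] at h
  rw [Finset.sum_congr rfl (g := fun x : {x // x ∈ X} =>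
    (Nat.card (Subgroup.centralizer (Subgroup.zpowers (x : G) : Set G)) : ℝ) *
      (Nat.card {e // IsBrauerPairOf 2 M B (Subgroup.zpowers (x : G)) e} : ℝ)) fun x _ => ?_]
  · linarith
  · dsimp only
    rw [Finset.sum_const, nsmul_eq_mul, Finset.card_univ, ← Nat.card_eq_fintype_card, mul_comm]

/-- The inertial quotient has order one or three and acts freely. -/
theorem inertial_index :
    (Subgroup.centralizer (P : Set G)).relIndex (pairStab P c) = 1 ∨
      (Subgroup.centralizer (P : Set G)).relIndex (pairStab P c) = 3 := by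
  have : Fact (Nat.Prime 2) := ⟨Nat.prime_two⟩
  have hPC : P ≤ (Subgroup.centralizer (P : Set G)) := fun x hx =>
    Subgroup.mem_centralizer_iff.2 fun y hy => commute_mem hV hy hx
  set T := pairStab P c
  let Ω := {u : P // u ≠ 1}
  have hTN : ∀ g ∈ T, ∀ u, u ∈ P ↔ g * u * g⁻¹ ∈ P := fun g hg =>
    Subgroup.mem_normalizer_iff.1 (pairStab_le_normalizer P c hg)
  let : MulAction T Ω :=
    { smul := fun g u => ⟨⟨g * (u.1 : G) * (g : G)⁻¹, (hTN g g.2 _).1 u.1.2⟩,
        fun e => u.2 (Subtype.ext (conj_eq_one_iff.1 (congrArg Subtype.val e)))⟩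
      one_smul := fun u => Subtype.ext (Subtype.ext (by
        show ((1 : T) : G) * _ * _ = _
        simp))
      mul_smul := fun g h u => Subtype.ext (Subtype.ext (by
        show ((g * h : T) : G) * _ * _ = (g : G) * ((h : G) * _ * _) * _
        simp [mul_assoc])) }
  let Θ := MulAction.toPermHom T Ω
  have hker : Θ.ker = (Subgroup.centralizer (P : Set G)).subgroupOf T := by
    ext g
    rw [MonoidHom.mem_ker, Subgroup.mem_subgroupOf, Subgroup.mem_centralizer_iff]
    constructor
    · intro h u hu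
      by_cases hu1 : u = 1
      · simp [hu1]
      · have h1 : (g : G) * u * (g : G)⁻¹ = u := congrArg
          (fun v : Ω => ((v.1 : P) : G)) (Equiv.Perm.ext_iff.1 h ⟨⟨u, hu⟩, fun e => hu1 (congrArg Subtype.val e)⟩)
        exact (mul_inv_eq_iff_eq_mul.1 h1).symm
    · intro h
      refine Equiv.Perm.ext fun u => Subtype.ext (Subtype.ext ?_)
      show (g : G) * (u.1 : G) * (g : G)⁻¹ = u.1
      rw [← h _ u.1.2, mul_inv_cancel_right]
  have hΩ : Nat.card Ω = 3 := by
    rw [Nat.card_eq_fintype_card, Fintype.card_subtype, Finset.filter_ne',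
      Finset.card_erase_of_mem (Finset.mem_univ _), Finset.card_univ, ← Nat.card_eq_fintype_card,
      hV.card_four]
  have hdvd : (Subgroup.centralizer (P : Set G)).relIndex T ∣ 6 := by
    rw [Subgroup.relIndex, ← hker, Subgroup.index_ker]
    have h := Subgroup.card_subgroup_dvd_card Θ.range
    rwa [Nat.card_perm, hΩ, show (3 : ℕ).factorial = 6 from rfl] at h
  have hodd : ¬ 2 ∣ (Subgroup.centralizer (P : Set G)).relIndex T := by
    intro h2
    rw [Subgroup.relIndex, ← hker, Subgroup.index_ker] at h2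
    obtain ⟨π, hπ⟩ := exists_prime_orderOf_dvd_card' (G := Θ.range) 2 h2
    obtain ⟨g, hg⟩ := π.2
    obtain ⟨a, b, hb, hord⟩ := Nat.exists_eq_pow_mul_and_not_dvd (orderOf_pos (g : G)).ne' 2 (by omega)
    have hgb : ((g : G) ^ b) ∈ (Subgroup.centralizer (P : Set G)) := by
      have hT' := pow_mem g.2 b
      have h := mem_sup_of_maximal hM hmax.1.1 hmax (pairStab_le_normalizer P c hT') hT'.2 ⟨a, by
        rw [orderOf_pow' _ (by rintro rfl; exact hb (dvd_zero 2)), hord, Nat.gcd_mul_left_left,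
          Nat.mul_div_cancel _ (Nat.pos_of_ne_zero (by rintro rfl; exact hb (dvd_zero 2)))]⟩
      rwa [sup_eq_right.2 hPC] at h
    have h1 : Θ (g ^ b) = 1 := by
      rw [← MonoidHom.mem_ker, hker, Subgroup.mem_subgroupOf, SubgroupClass.coe_pow]
      exact hgb
    have h3 : π ^ b = 1 := Subtype.ext (by rw [SubgroupClass.coe_pow, ← hg, ← map_pow, h1]; rfl)
    exact hb (hπ ▸ orderOf_dvd_of_pow_eq_one h3)
  have hle : (Subgroup.centralizer (P : Set G)).relIndex T ≤ 6 := Nat.le_of_dvd (by norm_num) hdvd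
  have : ∀ n, n ≤ 6 → n ∣ 6 → ¬ 2 ∣ n → n = 1 ∨ n = 3 := by decide
  exact this _ hle hdvd hodd

/-- An element of the stabilizer outside the centralizer permutes the involutions transitively. -/
theorem exists_transitive {t : G} (ht : t ∈ pairStab P c)
    (htC : t ∉ Subgroup.centralizer (P : Set G)) {u v : G} (hu : u ∈ P) (hu1 : u ≠ 1) (hv : v ∈ P)
    (hv1 : v ≠ 1) : ∃ s ∈ pairStab P c, s * u * s⁻¹ = v := by
  have h : (Subgroup.centralizer (P : Set G)).relIndex (pairStab P c) = 3 :=
    (inertial_index hM hV hmax).resolve_left fun e => htC (Subgroup.relIndex_eq_one.1 e ht)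
  have hnorm : ((Subgroup.centralizer (P : Set G)).subgroupOf (pairStab P c)).Normal := by
    rw [← Subgroup.normalizer_eq_top_iff, eq_top_iff]
    intro y _
    refine Subgroup.mem_normalizer_iff.2 fun k => ?_
    simp only [Subgroup.mem_subgroupOf, SetLike.mem_coe, Subgroup.coe_mul, Subgroup.coe_inv]
    exact conj_centralizer_iff (pairStab_le_normalizer P c y.2) _
  have h3 := Subgroup.pow_index_mem
    ((Subgroup.centralizer (P : Set G)).subgroupOf (pairStab P c)) (⟨t, ht⟩ : pairStab P c)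
  rw [← Subgroup.relIndex, h, Subgroup.mem_subgroupOf, SubgroupClass.coe_pow] at h3
  have hN := Subgroup.mem_normalizer_iff.1 (pairStab_le_normalizer P c ht)
  have hN' := Subgroup.mem_normalizer_iff.1 (pairStab_le_normalizer P c (inv_mem ht))
  let σ : Equiv.Perm {w : P // w ≠ 1} :=
    { toFun := fun w => ⟨⟨t * (w.1 : G) * t⁻¹, (hN _).1 w.1.2⟩,
        fun e => w.2 (Subtype.ext (conj_eq_one_iff.1 (congrArg Subtype.val e)))⟩
      invFun := fun w => ⟨⟨t⁻¹ * (w.1 : G) * t⁻¹⁻¹, (hN' _).1 w.1.2⟩,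
        fun e => w.2 (Subtype.ext (conj_eq_one_iff.1 (congrArg Subtype.val e)))⟩
      left_inv := fun w => Subtype.ext (Subtype.ext (by simp [mul_assoc]))
      right_inv := fun w => Subtype.ext (Subtype.ext (by simp [mul_assoc])) }
  have hpow : ∀ (n : ℕ) (w : {w : P // w ≠ 1}),
      ((((σ ^ n) w).1 : P) : G) = t ^ n * (w.1 : G) * (t ^ n)⁻¹ := by
    intro n
    induction n with
    | zero => intro w; simp
    | succ n ih =>
      intro w
      rw [pow_succ', Equiv.Perm.mul_apply]
      show t * _ * t⁻¹ = _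
      rw [ih, pow_succ']
      group
  have hσ3 : σ ^ 3 = 1 := by
    refine Equiv.Perm.ext fun w => Subtype.ext (Subtype.ext ?_)
    rw [hpow, Equiv.Perm.one_apply, ← Subgroup.mem_centralizer_iff.1 h3 _ w.1.2,
      mul_inv_cancel_right]
  have hσ1 : σ ≠ 1 := by
    intro e
    refine htC (Subgroup.mem_centralizer_iff.2 fun w hw => ?_)
    by_cases hw1 : w = 1
    · simp [hw1]
    · have h1 : t * w * t⁻¹ = w := congrArg (fun z : {w : P // w ≠ 1} => ((z.1 : P) : G))
        (Equiv.Perm.ext_iff.1 e ⟨⟨w, hw⟩, fun e' => hw1 (congrArg Subtype.val e')⟩)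
      exact (mul_inv_eq_iff_eq_mul.1 h1).symm
  have : Fact (Nat.Prime 3) := ⟨Nat.prime_three⟩
  have hord : orderOf σ = 3 := orderOf_eq_prime hσ3 hσ1
  have hΩ : Fintype.card {w : P // w ≠ 1} = 3 := by
    rw [Fintype.card_subtype, Finset.filter_ne', Finset.card_erase_of_mem (Finset.mem_univ _),
      Finset.card_univ, ← Nat.card_eq_fintype_card, hV.card_four]
  have hcyc : σ.IsCycle := Equiv.Perm.isCycle_of_prime_order (hord ▸ Nat.prime_three)
    ((Finset.card_le_univ _).trans_lt (by rw [hord, hΩ]; norm_num))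
  have hsupp : σ.support = Finset.univ :=
    Finset.eq_univ_of_card _ (by rw [hΩ, ← hord, hcyc.orderOf])
  have hmov : ∀ w, σ w ≠ w := fun w => Equiv.Perm.mem_support.1 (hsupp ▸ Finset.mem_univ w)
  obtain ⟨i, hi⟩ := hcyc.exists_pow_eq
    (hmov ⟨⟨u, hu⟩, fun e => hu1 (congrArg Subtype.val e)⟩)
    (hmov ⟨⟨v, hv⟩, fun e => hv1 (congrArg Subtype.val e)⟩)
  exact ⟨t ^ i, pow_mem ht i, (hpow i _).symm.trans (congrArg (fun z => ((z.1 : P) : G)) hi)⟩

/-- The number of irreducible Brauer characters equals the inertial index. -/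
theorem blockRank_eq_relIndex :
    blockRank 2 B = (Subgroup.centralizer (P : Set G)).relIndex (pairStab P c) := by
  have : Fact (Nat.Prime 2) := ⟨Nat.prime_two⟩
  have hab : ∀ a ∈ P, ∀ b ∈ P, a * b = b * a := fun a ha b hb => commute_mem hV ha hb
  have hPC : P ≤ Subgroup.centralizer (P : Set G) := fun x hx =>
    Subgroup.mem_centralizer_iff.2 fun y hy => hab y hy x hx
  let Ω := {u : P // u ≠ 1}
  have hΩ : Nat.card Ω = 3 := by
    rw [Nat.card_eq_fintype_card, Fintype.card_subtype, Finset.filter_ne',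
      Finset.card_erase_of_mem (Finset.mem_univ _), Finset.card_univ, ← Nat.card_eq_fintype_card,
      hV.card_four]
  have hΩo : ∀ u : Ω, orderOf ((u.1 : P) : G) = 2 := fun u =>
    orderOf_of_mem hV u.1.2 fun e => u.2 (Subtype.ext e)
  have hbelow : ∀ u : Ω, ∃ e, IsPBlock M e ∧
      SubpairLE 2 M (Subgroup.zpowers ((u.1 : P) : G)) e P c := fun u =>
    exists_below hM (Nat.card P) (Nat.sub_le _ _) hmax.1.1 (Subgroup.zpowers_le.2 u.1.2)
  choose fu _ hfle using hbelow
  let pu : Ω → BrauerPairIdx G := fun u => ⟨Subgroup.zpowers ((u.1 : P) : G), fu u⟩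
  have hpu : ∀ u, IsBrauerPairOf 2 M B (pu u).1 (pu u).2 := fun u =>
    (subpairLE_pairOf_iff hM (a := pu u) (b := ⟨P, c⟩) (hfle u) B).1 hmax.1
  set Λ := (Set.toFinite (involutionPairs hmax)).toFinset with hΛ
  let Φ : G × Ω → BrauerPairIdx G := fun γ => conjPair γ.1 (pu γ.2)
  have hΦmem : ∀ γ, Φ γ ∈ Λ := fun γ => by
    refine (Set.Finite.mem_toFinset _).2 ⟨isBrauerPairOf_conjPair γ.1 (hpu γ.2), ?_⟩
    show Nat.card ((Subgroup.zpowers ((γ.2.1 : P) : G)).map (MulAut.conj γ.1).toMonoidHom : Subgroup G) = 2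
    rw [Subgroup.card_map_of_injective (MulAut.conj γ.1).injective, Nat.card_zpowers, hΩo]
  have hsurj : ∀ a ∈ Λ, ∃ γ, Φ γ = a := by
    rintro ⟨Q, e⟩ ha
    obtain ⟨he, hQ⟩ := (Set.Finite.mem_toFinset _).1 ha
    obtain ⟨y, hy⟩ := exists_conj_le hM hmax he
    obtain ⟨⟨x, hxQ⟩, hx⟩ := exists_prime_orderOf_dvd_card' (G := Q) 2 (hQ ▸ dvd_rfl)
    have hx' : orderOf x = 2 := (Subgroup.orderOf_mk x hxQ).symm.trans hx
    obtain rfl : Subgroup.zpowers x = Q := Subgroup.eq_of_le_of_card_ge
      (Subgroup.zpowers_le.2 hxQ) (by rw [Nat.card_zpowers, hx', hQ])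
    have hu : y * (x : G) * y⁻¹ ∈ P :=
      le_of_subpairLE hy (Subgroup.mem_map_of_mem _ (Subgroup.mem_zpowers (x : G)))
    have hu1 : (⟨_, hu⟩ : P) ≠ 1 := fun e => by
      rw [conj_eq_one_iff.1 (congrArg Subtype.val e), orderOf_one] at hx'
      omega
    refine ⟨(y⁻¹, ⟨⟨_, hu⟩, hu1⟩), ?_⟩
    have heq : pu ⟨⟨_, hu⟩, hu1⟩ = conjPair y ⟨_, e⟩ :=
      eq_of_subpairLE hM hmax.1.1 (hfle _) hy (by
        show Subgroup.zpowers (y * (x : G) * y⁻¹) = (Subgroup.zpowers (x : G)).map _
        rw [MonoidHom.map_zpowers]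
        rfl)
    show conjPair y⁻¹ _ = _
    rw [heq, ← conjPair_mul, inv_mul_cancel, conjPair_one]
  -- stabilizers of the pairs are centralizers
  have hstab : ∀ a ∈ Λ, ∀ h : G,
      conjPair h a = a ↔ h ∈ Subgroup.centralizer (a.1 : Set G) := by
    rintro ⟨Q, e⟩ ha h
    obtain ⟨-, hQ⟩ := (Set.Finite.mem_toFinset _).1 ha
    rw [← mem_pairStab_iff_conjPair]
    refine ⟨fun hh => Subgroup.mem_centralizer_iff.2 fun v hv => ?_,
      fun hh => centralizer_le_pairStab Q e hh⟩
    rcases eq_or_ne v 1 with rfl | hv1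
    · simp
    have h1 : h * v * h⁻¹ ∈ Q :=
      (Subgroup.mem_normalizer_iff.1 (pairStab_le_normalizer Q e hh) v).1 hv
    obtain ⟨a', b', hab'⟩ := Nat.card_eq_two_iff.1 hQ
    have key : ∀ w : Q, w ≠ 1 → w = ⟨v, hv⟩ := by
      intro w hw
      have hw' := hab'.2 ▸ Set.mem_univ w
      have hv' := hab'.2 ▸ Set.mem_univ (⟨v, hv⟩ : Q)
      have h1' := hab'.2 ▸ Set.mem_univ (1 : Q)
      simp only [Set.mem_insert_iff, Set.mem_singleton_iff] at hw' hv' h1'
      have hvne : (⟨v, hv⟩ : Q) ≠ 1 := fun e' => hv1 (congrArg Subtype.val e')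
      grind
    have h2 := congrArg Subtype.val (key ⟨_, h1⟩ fun e' =>
      hv1 (conj_eq_one_iff.1 (congrArg Subtype.val e')))
    exact (mul_inv_eq_iff_eq_mul.1 h2).symm
  have hfib : ∀ a ∈ Λ, ∀ u : Ω, (∃ h, conjPair h (pu u) = a) →
      (Finset.univ.filter fun g : G => conjPair g (pu u) = a).card =
        Nat.card (Subgroup.centralizer (a.1 : Set G)) := by
    rintro a ha u ⟨h, hh⟩
    rw [← Fintype.card_subtype, ← Nat.card_eq_fintype_card]
    refine Nat.card_congr
      { toFun := fun g => ⟨g.1 * h⁻¹, (hstab a ha _).1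
          ((congrArg (conjPair (g.1 * h⁻¹)) hh.symm).trans
            (by rw [← conjPair_mul, inv_mul_cancel_right]; exact g.2))⟩
        invFun := fun k => ⟨(k : G) * h, by rw [conjPair_mul, hh]; exact (hstab a ha _).2 k.2⟩
        left_inv := fun g => by simp
        right_inv := fun k => by simp }
  -- the relation between the pairs below `(P, c)`
  have hrel : ∀ u v : Ω, (∃ g, conjPair g (pu u) = pu v) ↔
      ∃ t ∈ pairStab P c, t * ((u.1 : P) : G) * t⁻¹ = ((v.1 : P) : G) := by
    intro u v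
    constructor
    · rintro ⟨g, hg⟩
      by_cases htriv : ∀ x, x ∈ pairStab P c → x ∈ Subgroup.centralizer (P : Set G)
      · have hF := isBlockFusionSystemOn_blockFusion hM hmax
        have hnil := (nilpotent_iff_inertial_trivial hF hM hab).2 htriv
        have hinner := eq_inner_of_nilpotent hF hM hnil
        let φ : (Subgroup.zpowers ((u.1 : P) : G) : Subgroup G) →* G :=
          (MulAut.conj g).toMonoidHom.comp (Subgroup.subtype _)
        have hφ : φ ∈ (blockFusion hM hmax).Hom _ :=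
          ⟨g, fun w => rfl, fu u, hfle u, by
            have := hfle v
            change SubpairLE 2 M (pu v).1 (pu v).2 P c at this
            rw [← hg] at this
            exact this⟩
        rw [hinner] at hφ
        obtain ⟨-, w, hw, hφw⟩ := hφ
        refine ⟨1, one_mem _, ?_⟩
        have h1 : g * ((u.1 : P) : G) * g⁻¹ = w * ((u.1 : P) : G) * w⁻¹ :=
          hφw ⟨_, Subgroup.mem_zpowers _⟩
        rw [hab w hw _ u.1.2, mul_inv_cancel_right] at h1
        have h2 : Subgroup.zpowers (g * ((u.1 : P) : G) * g⁻¹) =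
            Subgroup.zpowers ((v.1 : P) : G) := by
          rw [show g * ((u.1 : P) : G) * g⁻¹ = (MulAut.conj g).toMonoidHom ((u.1 : P) : G) from rfl,
            ← MonoidHom.map_zpowers]
          exact congrArg Sigma.fst hg
        rw [h1] at h2
        rw [one_mul, inv_one, mul_one, eq_of_zpowers_eq (hΩo u) (hΩo v) h2]
      · push Not at htriv
        obtain ⟨t, ht, htC⟩ := htriv
        exact exists_transitive hM hV hmax ht htC u.1.2 (fun e => u.2 (Subtype.ext e)) v.1.2
          fun e => v.2 (Subtype.ext e)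
    · rintro ⟨t, ht, htu⟩
      refine ⟨t, eq_of_subpairLE hM hmax.1.1 ?_ (hfle v) ?_⟩
      · have := subpairLE_conjPair t (hfle u)
        rwa [(mem_pairStab_iff_conjPair).1 ht] at this
      · show (Subgroup.zpowers ((u.1 : P) : G)).map _ = Subgroup.zpowers ((v.1 : P) : G)
        rw [MonoidHom.map_zpowers, ← htu]
        rfl
  -- counting
  set e := (Subgroup.centralizer (P : Set G)).relIndex (pairStab P c) with he
  have horb : ∀ u : Ω, (Finset.univ.filter fun v : Ω => ∃ g, conjPair g (pu v) = pu u).card = e := by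
    intro u
    simp only [hrel]
    rcases inertial_index hM hV hmax with h | h
    · rw [he, h, Finset.card_eq_one]
      refine ⟨u, Finset.ext fun v => ?_⟩
      simp only [Finset.mem_filter, Finset.mem_univ, true_and, Finset.mem_singleton]
      constructor
      · rintro ⟨t, ht, htv⟩
        have htC := Subgroup.relIndex_eq_one.1 h ht
        rw [show t * ((v.1 : P) : G) * t⁻¹ = v.1 by
          rw [← Subgroup.mem_centralizer_iff.1 htC _ v.1.2, mul_inv_cancel_right]] at htv
        exact Subtype.ext (Subtype.ext htv)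
      · rintro rfl
        exact ⟨1, one_mem _, by simp⟩
    · rw [he, h, ← hΩ, Nat.card_eq_fintype_card, ← Finset.card_univ]
      congr 1
      refine Finset.filter_true_of_mem fun v _ => ?_
      obtain ⟨t, ht, htC⟩ : ∃ t ∈ pairStab P c, t ∉ Subgroup.centralizer (P : Set G) := by
        by_contra hcon
        push Not at hcon
        rw [Subgroup.relIndex_eq_one.2 hcon] at h
        omega
      exact exists_transitive hM hV hmax ht htC v.1.2 (fun e' => v.2 (Subtype.ext e')) u.1.2
        fun e' => u.2 (Subtype.ext e')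
  have hcount : (3 * Nat.card G : ℝ) =
      (e : ℝ) * ∑ a ∈ Λ, (Nat.card (Subgroup.centralizer (a.1 : Set G)) : ℝ) := by
    have h1 := Finset.card_eq_sum_card_fiberwise (f := Φ) (s := Finset.univ) (t := Λ)
      fun γ _ => hΦmem γ
    rw [Finset.card_univ, Fintype.card_prod, ← Nat.card_eq_fintype_card,
      ← Nat.card_eq_fintype_card (α := Ω), hΩ] at h1
    have h2 : ∀ a ∈ Λ, (Finset.univ.filter fun γ => Φ γ = a).card =
        e * Nat.card (Subgroup.centralizer (a.1 : Set G)) := by
      intro a ha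
      obtain ⟨⟨g₀, u₀⟩, h₀⟩ := hsurj a ha
      have h3 : (Finset.univ.filter fun γ : G × Ω => Φ γ = a).card =
          ∑ u : Ω, (Finset.univ.filter fun g : G => conjPair g (pu u) = a).card := by
        rw [← Finset.card_sigma]
        refine Finset.card_nbij' (fun γ => ⟨γ.2, γ.1⟩) (fun q => (q.2, q.1)) ?_ ?_ ?_ ?_
        · intro γ hγ; simpa [Φ] using hγ
        · intro q hq; simpa [Φ] using hq
        · intro γ _; rfl
        · intro q _; rfl
      rw [h3, ← horb u₀, Finset.sum_congr rfl (g := fun u : Ω =>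
        if ∃ g, conjPair g (pu u) = pu u₀ then Nat.card (Subgroup.centralizer (a.1 : Set G)) else 0)
        fun u _ => ?_, ← Finset.sum_filter, Finset.sum_const, smul_eq_mul]
      split_ifs with h
      · obtain ⟨g, hg⟩ := h
        exact hfib a ha u ⟨g₀ * g, by rw [conjPair_mul, hg]; exact h₀⟩
      · rw [Finset.card_eq_zero, Finset.filter_eq_empty_iff]
        intro g _ hg
        refine h ⟨g₀⁻¹ * g, ?_⟩
        rw [conjPair_mul, hg, ← h₀, ← conjPair_mul, inv_mul_cancel, conjPair_one]
    rw [Finset.mul_sum]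
    have h4 : Nat.card G * 3 = ∑ a ∈ Λ, e * Nat.card (Subgroup.centralizer (a.1 : Set G)) :=
      h1.trans (Finset.sum_congr rfl h2)
    have h5 := congrArg (Nat.cast : ℕ → ℝ) h4
    push_cast at h5
    linarith
  rw [← singular_mass hM hV hmax] at hcount
  have hG : (Nat.card G : ℝ) ≠ 0 := Nat.cast_ne_zero.2 Nat.card_pos.ne'
  have h6 : (3 : ℝ) = e * (4 - (blockRank 2 B : ℝ)) := mul_left_cancel₀ hG (by linear_combination hcount)
  rcases inertial_index hM hV hmax with h | h
  · rw [he, h] at h6 ⊢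
    have : (blockRank 2 B : ℝ) = 1 := by push_cast at h6; linarith
    exact_mod_cast this
  · rw [he, h] at h6 ⊢
    have : (blockRank 2 B : ℝ) = 3 := by push_cast at h6; linarith
    exact_mod_cast this

end

end CfsgLib.Blocks
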