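import Cfsg.Agent.Lib.Blocks.SimplePrincipal
import Cfsg.Agent.Lib.Blocks.KleinOrder
import Cfsg.Agent.Lib.Blocks.PrincipalGalois
import Cfsg.Agent.Lib.Char.SchurBound
import Cfsg.Agent.Lib.CharDegree.Basic
import Cfsg.Agent.Lib.Perm.SimpleCount
import Cfsg.Agent.Lib.Perm.ThreePrimeOrder.Five
import Cfsg.Agent.S0948
import Cfsg.Agent.S4479
import Cfsg.Agent.S4480

/-!
# Simple groups with a four-group as Sylow `2`-subgroup and at most three prime divisors

The degrees of the principal `2`-block and their shifts by one have all their prime divisors among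
the prime divisors of the order, which forces the degrees `1, 5, 3, 3` and then the order `60`.
-/

set_option autoImplicit false

namespace CfsgLib.Blocks.KleinThreePrimes

open Cfsg CfsgLib

/-- All prime divisors of `n` are `3` or `r`. -/
def Smooth (r n : ℕ) : Prop := ∀ l : ℕ, l.Prime → l ∣ n → l = 3 ∨ l = r

theorem eq_one_or_dvd {r n : ℕ} (hn : Smooth r n) : n = 1 ∨ 3 ∣ n ∨ r ∣ n := by
  by_contra! h
  obtain ⟨l, hl, hd⟩ := Nat.exists_prime_and_dvd h.1
  rcases hn l hl hd with e | e <;> subst e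
  · exact h.2.1 hd
  · exact h.2.2 hd

theorem eq_three_pow {r n : ℕ} (hn0 : n ≠ 0) (hn : Smooth r n) (h : ¬ r ∣ n) : ∃ k, n = 3 ^ k :=
  ⟨_, Nat.eq_prime_pow_of_unique_prime_dvd hn0 fun {l} hl hd =>
    (hn l hl hd).resolve_right fun e => h (e ▸ hd)⟩

/-- The arithmetic behind the case of three real characters with signs `+, -, -`. -/
theorem eq_three_of_sum {r u v w : ℕ} (hr : r.Prime) (hr3 : r ≠ 3) (hu : u ≠ 0) (hv : v ≠ 0)
    (hw : w = u + v + 1) (hx : Smooth r (2 * u + 1)) (hu' : Smooth r u) (hy : Smooth r (2 * v + 1))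
    (hv' : Smooth r v) (hz : Smooth r (2 * w - 1)) (hw' : Smooth r w) : u = 1 ∧ v = 1 := by
  have h3 := Nat.prime_three
  have hnd : ∀ {l a b : ℕ}, l.Prime → l ∣ a → l ∣ b → (∃ s t : ℤ, s * a + t * b = 1) → False := by
    rintro l a b hl ha hb ⟨s, t, h⟩
    refine hl.not_dvd_one (Int.natCast_dvd_natCast.1 ?_)
    rw [Nat.cast_one, ← h]
    exact dvd_add (dvd_mul_of_dvd_right (Int.natCast_dvd_natCast.2 ha) _)
      (dvd_mul_of_dvd_right (Int.natCast_dvd_natCast.2 hb) _)
  have side : ∀ {n : ℕ}, n ≠ 0 → Smooth r (2 * n + 1) → Smooth r n →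
      (∃ A, A ≠ 0 ∧ 2 * n + 1 = 3 ^ A) ∨
        (r ∣ 2 * n + 1 ∧ (2 * n + 1) % 3 = 1 ∧ ∃ B, n = 3 ^ B) := by
    intro n hn0 hn hn'
    by_cases hd : r ∣ 2 * n + 1
    swap
    · obtain ⟨A, hA⟩ := eq_three_pow (by omega) hn hd
      refine Or.inl ⟨A, fun e => ?_, hA⟩
      rw [e, pow_zero] at hA
      omega
    have hrn : ¬ r ∣ n := fun h => hnd hr hd h ⟨1, -2, by push_cast; ring⟩
    obtain ⟨B, hB⟩ := eq_three_pow hn0 hn' hrn
    refine Or.inr ⟨hd, ?_, B, hB⟩
    rcases B with _ | B
    · rw [hB] at hd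
      exact absurd ((Nat.prime_dvd_prime_iff_eq hr h3).1 (by simpa using hd)) hr3
    · rw [pow_succ] at hB
      omega
  have one : ∀ {n : ℕ}, Smooth r n → r ∣ 2 * (2 * n + 1) - 1 → (∃ A, 2 * n + 1 = 3 ^ (A + 1)) →
      n = 1 := by
    rintro n hn hz ⟨A, hA⟩
    rw [pow_succ] at hA
    rcases eq_one_or_dvd hn with h | h | h
    · exact h
    · omega
    · exfalso
      rw [show 2 * (2 * n + 1) - 1 = 4 * n + 1 by omega] at hz
      exact hnd hr hz h ⟨1, -4, by push_cast; ring⟩
  by_cases h3w : 3 ∣ w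
  · have hzr : r ∣ 2 * w - 1 := by
      rcases eq_one_or_dvd hz with h | h | h
      · omega
      · omega
      · exact h
    rcases side hu hx hu' with ⟨A, hA0, hA⟩ | ⟨-, hxm, -⟩ <;>
      rcases side hv hy hv' with ⟨C, hC0, hC⟩ | ⟨-, hym, -⟩
    · have hrw : ¬ r ∣ w := fun h => hnd hr hzr h ⟨-1, 2, by
        rw [Nat.cast_sub (by omega)]
        push_cast
        ring⟩
      obtain ⟨B, hB⟩ := eq_three_pow (by omega) hw' hrw
      have hsum : 3 ^ A + 3 ^ C = 2 * 3 ^ B := by omega
      have key : ∀ {A C : ℕ}, 3 ^ A + 3 ^ C = 2 * 3 ^ B → A ≤ C → A = B := by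
        intro A C h hle
        rcases lt_trichotomy A B with hlt | heq | hgt
        · exfalso
          obtain ⟨d, rfl⟩ := Nat.exists_eq_add_of_lt hlt
          rcases Nat.eq_or_lt_of_le hle with rfl | hlt'
          · have := Nat.pow_right_injective (le_refl 2 |>.trans (by norm_num : (2 : ℕ) ≤ 3))
              (show 3 ^ A = 3 ^ (A + d + 1) by omega)
            omega
          obtain ⟨e, rfl⟩ := Nat.exists_eq_add_of_lt hlt'
          have h' : 3 ^ A * (1 + 3 * 3 ^ e) = 3 ^ A * (2 * 3 * 3 ^ d) := by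
            calc _ = 3 ^ A + 3 ^ (A + e + 1) := by ring
              _ = _ := h
              _ = _ := by ring
          have := Nat.eq_of_mul_eq_mul_left (pow_pos (by norm_num) A) h'
          omega
        · exact heq
        · exfalso
          have h1 : 3 ^ B < 3 ^ A := Nat.pow_lt_pow_right (by norm_num) hgt
          have h2 : 3 ^ B < 3 ^ C := Nat.pow_lt_pow_right (by norm_num) (by omega)
          omega
      have hAC : A = B ∧ C = B := by
        rcases le_total A C with h | h
        · have e := key hsum h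
          refine ⟨e, Nat.pow_right_injective (by norm_num : (2 : ℕ) ≤ 3) (show 3 ^ C = 3 ^ B by
            rw [e] at hsum; omega)⟩
        · have e := key (by omega : 3 ^ C + 3 ^ A = 2 * 3 ^ B) h
          exact ⟨Nat.pow_right_injective (by norm_num : (2 : ℕ) ≤ 3) (show 3 ^ A = 3 ^ B by
            rw [e] at hsum; omega), e⟩
      obtain ⟨rfl, rfl⟩ := hAC
      obtain ⟨A', rfl⟩ := Nat.exists_eq_succ_of_ne_zero hA0
      have hu1 := one hu' (by rwa [show w = 2 * u + 1 by omega] at hzr) ⟨A', hA⟩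
      omega
    · obtain ⟨A', rfl⟩ := Nat.exists_eq_succ_of_ne_zero hA0
      rw [pow_succ] at hA
      omega
    · obtain ⟨C', rfl⟩ := Nat.exists_eq_succ_of_ne_zero hC0
      rw [pow_succ] at hC
      omega
    · omega
  · exfalso
    have hwr : r ∣ w := by
      rcases eq_one_or_dvd hw' with h | h | h
      · omega
      · exact absurd h h3w
      · exact h
    obtain ⟨A, hA⟩ := eq_three_pow (by omega) hz fun h => hnd hr h hwr ⟨-1, 2, by
      rw [Nat.cast_sub (by omega)]
      push_cast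
      ring⟩
    obtain ⟨A', rfl⟩ : ∃ A', A = A' + 1 := Nat.exists_eq_succ_of_ne_zero fun e => by
      rw [e, pow_zero] at hA
      omega
    rw [pow_succ] at hA
    have mixed : ∀ {C E u v : ℕ}, 3 ^ (C + 1) + 2 * 3 ^ E = 3 ^ A' * 3 → 2 * u + 1 = 3 ^ (C + 1) →
        v = 3 ^ E → r ∣ 2 * v + 1 → w = u + v + 1 → False := by
      intro C E u v h hu2 hv2 hd hwe
      have hE : E = C + 1 := by
        rcases lt_trichotomy E (C + 1) with hlt | heq | hgt
        · exfalso
          obtain ⟨d, hd'⟩ := Nat.exists_eq_add_of_lt hlt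
          rw [hd'] at h
          rcases le_or_gt (A' + 1) E with hle | hgt'
          · have : 3 ^ (A' + 1) ≤ 3 ^ E := Nat.pow_le_pow_right (by norm_num) hle
            rw [pow_succ] at this
            have : 0 < 3 ^ (E + d + 1) := pow_pos (by norm_num) _
            omega
          obtain ⟨g, hg⟩ := Nat.exists_eq_add_of_lt hgt'
          have h' : 3 ^ E * (3 * 3 ^ d + 2) = 3 ^ E * (3 * 3 ^ g) := by
            calc _ = 3 ^ (E + d + 1) + 2 * 3 ^ E := by ring
              _ = 3 ^ A' * 3 := h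
              _ = 3 ^ (A' + 1) := by ring
              _ = _ := by rw [hg]; ring
          have := Nat.eq_of_mul_eq_mul_left (pow_pos (by norm_num) E) h'
          omega
        · exact heq
        · exfalso
          obtain ⟨d, hd'⟩ := Nat.exists_eq_add_of_lt hgt
          rw [hd'] at h
          rcases le_or_gt A' C with hle | hgt'
          · have : 3 ^ A' ≤ 3 ^ C := Nat.pow_le_pow_right (by norm_num) hle
            have h2 : 0 < 3 ^ (C + 1 + d + 1) := pow_pos (by norm_num) _
            rw [pow_succ] at h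
            omega
          obtain ⟨g, hg⟩ := Nat.exists_eq_add_of_lt hgt'
          have h' : 3 ^ (C + 1) * (1 + 6 * 3 ^ d) = 3 ^ (C + 1) * (3 * 3 ^ g) := by
            calc _ = 3 ^ (C + 1) + 2 * 3 ^ (C + 1 + d + 1) := by ring
              _ = 3 ^ A' * 3 := h
              _ = _ := by rw [hg]; ring
          have := Nat.eq_of_mul_eq_mul_left (pow_pos (by norm_num) (C + 1)) h'
          omega
      rw [hE] at h hv2
      have hwy : 3 * (2 * v + 1) = 4 * w + 1 := by omega
      exact hnd hr hd hwr ⟨3, -4, by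
        have : ((3 * (2 * v + 1) : ℕ) : ℤ) = ((4 * w + 1 : ℕ) : ℤ) := by rw [hwy]
        push_cast at this ⊢
        linarith⟩
    rcases side hu hx hu' with ⟨a, ha0, ha⟩ | ⟨hxr, hxm, E, hE⟩ <;>
      rcases side hv hy hv' with ⟨c, hc0, hc⟩ | ⟨hyr, hym, E', hE'⟩
    · obtain ⟨a', rfl⟩ := Nat.exists_eq_succ_of_ne_zero ha0
      obtain ⟨c', rfl⟩ := Nat.exists_eq_succ_of_ne_zero hc0
      rw [pow_succ] at ha hc
      omega
    · obtain ⟨a', rfl⟩ := Nat.exists_eq_succ_of_ne_zero ha0
      exact mixed (C := a') (E := E') (u := u) (v := v) (by omega) ha hE' hyr hw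
    · obtain ⟨c', rfl⟩ := Nat.exists_eq_succ_of_ne_zero hc0
      exact mixed (C := c') (E := E) (u := v) (v := u) (by omega) hc hE hxr (by omega)
    · omega

/-- The arithmetic behind the case of two conjugate characters: only the degree `3` survives. -/
theorem eq_one_of_three_factors {r v : ℕ} (hv : v ≠ 0) (hv' : Smooth r v) (hu : Smooth r (2 * v - 1))
    (hf : Smooth r (4 * v - 1)) : v = 1 := by
  by_contra h1
  obtain ⟨a, ha, ha'⟩ := Nat.exists_prime_and_dvd h1
  obtain ⟨b, hb, hb'⟩ := Nat.exists_prime_and_dvd (show 2 * v - 1 ≠ 1 by omega)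
  obtain ⟨c, hc, hc'⟩ := Nat.exists_prime_and_dvd (show 4 * v - 1 ≠ 1 by omega)
  have hab : a ≠ b := fun e => by
    subst e
    exact ha.not_dvd_one (by
      have := Nat.dvd_sub (ha'.mul_left 2) hb'
      rwa [show 2 * v - (2 * v - 1) = 1 by omega] at this)
  have hac : a ≠ c := fun e => by
    subst e
    exact ha.not_dvd_one (by
      have := Nat.dvd_sub (ha'.mul_left 4) hc'
      rwa [show 4 * v - (4 * v - 1) = 1 by omega] at this)
  have hbc : b ≠ c := fun e => by
    subst e
    exact hb.not_dvd_one (by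
      have := Nat.dvd_sub hc' (hb'.mul_left 2)
      rwa [show 4 * v - 1 - 2 * (2 * v - 1) = 1 by omega] at this)
  rcases hv' a ha ha' with e | e <;> rcases hu b hb hb' with e' | e' <;>
    rcases hf c hc hc' with e'' | e'' <;> omega

section Group

variable {G : Type*} [Group G] [Finite G]

/-- Without a normal complement, a four-group Sylow `2`-subgroup forces `3` to divide the order. -/
theorem three_dvd_card (P : Sylow 2 G) (hP : IsKleinFour (P : Subgroup G))
    (hnot : ¬ Subgroup.normalizer ((P : Subgroup G) : Set G) ≤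
      Subgroup.centralizer ((P : Subgroup G) : Set G)) : 3 ∣ Nat.card G := by
  classical
  set S : Subgroup G := (P : Subgroup G) with hS
  set φ := S.normalizerMonoidHom with hφ
  have hS4 : Nat.card S = 4 := hP.card_four
  have h24 : Nat.card φ.range ∣ 24 := by
    refine (Subgroup.card_subgroup_dvd_card φ.range).trans ?_
    have hinj : Function.Injective (MulAut.toPerm S) := fun e e' h =>
      MulEquiv.ext fun x => Equiv.congr_fun h x
    refine (Subgroup.card_dvd_of_injective _ hinj).trans ?_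
    rw [Nat.card_perm, hS4]
    decide
  have hker : φ.ker = (Subgroup.centralizer (S : Set G)).subgroupOf
      (Subgroup.normalizer (S : Set G)) := Subgroup.normalizerMonoidHom_ker S
  have hle : S ≤ Subgroup.centralizer (S : Set G) := fun x hx =>
    Subgroup.mem_centralizer_iff.2 fun y hy =>
      congrArg Subtype.val ((CfsgLib.Signalizer.klein_comm P hP).is_comm.comm ⟨y, hy⟩ ⟨x, hx⟩)
  have hodd : Nat.card φ.range ∣ S.index := by
    rw [← Subgroup.index_ker φ, hker]
    exact (Subgroup.relIndex_dvd_of_le_left (L := Subgroup.normalizer (S : Set G)) hle).trans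
      (Subgroup.relIndex_dvd_index_of_le Subgroup.le_normalizer)
  have h1 : Nat.card φ.range ≠ 1 := by
    rw [← Subgroup.index_ker φ, hker]
    exact fun h => hnot (Subgroup.relIndex_eq_one.1 h)
  obtain ⟨l, hl, hld⟩ := Nat.exists_prime_and_dvd h1
  have hl2 : l ≠ 2 := by
    rintro rfl
    exact P.not_dvd_index (hld.trans hodd)
  have h3 : l = 3 := by
    have h : l ∣ 2 ^ 3 * 3 := hld.trans h24
    rcases hl.dvd_mul.1 h with h' | h'
    · exact absurd ((Nat.prime_dvd_prime_iff_eq hl Nat.prime_two).1 (hl.dvd_of_dvd_pow h')) hl2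
    · exact (Nat.prime_dvd_prime_iff_eq hl Nat.prime_three).1 h'
  exact h3 ▸ (hld.trans hodd).trans S.index_dvd_card

variable [IsSimpleGroup G]

/-- A simple group with a four-group as Sylow `2`-subgroup and only three prime divisors has
order `60`. -/
theorem card_eq_sixty (hna : ∃ x y : G, x * y ≠ y * x) {g₀ r : ℕ} (hg₀ : Odd g₀)
    (hG : Nat.card G = 4 * g₀) (hr : r.Prime) (hr3 : r ≠ 3) (hs : Smooth r g₀) :
    Nat.card G = 60 := by
  classical
  have := Fintype.ofFinite G
  haveI : Fact (Nat.Prime 2) := ⟨Nat.prime_two⟩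
  haveI : Fact (Nat.Prime 3) := ⟨Nat.prime_three⟩
  haveI : Fact (Nat.Prime 5) := ⟨by norm_num⟩
  have hnc' : ¬ IsMulCommutative G := fun h => by
    obtain ⟨x, y, hxy⟩ := hna
    exact hxy (h.is_comm.comm x y)
  have hperf := CfsgLib.Perm.ThreePrimeOrder.perfect_of_nc hnc'
  have hnc : ¬ ∃ N : Subgroup G, N.Normal ∧ Nat.card N = g₀ := by
    rintro ⟨N, hN, hNc⟩
    rcases IsSimpleGroup.eq_bot_or_eq_top_of_normal N hN with h | h <;> subst h
    · rw [Subgroup.card_bot] at hNc
      rw [← hNc] at hG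
      exact hnc' (IsPGroup.isMulCommutative_of_card_eq_prime_sq (p := 2) (by rw [hG]; norm_num))
    · rw [Subgroup.card_top, hG] at hNc
      have : 0 < g₀ := hg₀.pos
      omega
  obtain ⟨P⟩ : Nonempty (Sylow 2 G) := inferInstance
  obtain ⟨hPK, hone⟩ := klein_of_no_complement hg₀ hG hnc P
  have hnot : ¬ Subgroup.normalizer ((P : Subgroup G) : Set G) ≤
      Subgroup.centralizer ((P : Subgroup G) : Set G) := fun h => by
    have hc := MonoidHom.ker_transferSylow_isComplement' P h
    refine hnc ⟨_, MonoidHom.normal_ker (MonoidHom.transferSylow P h), ?_⟩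
    have h1 := hc.card_mul_card
    rw [hPK.card_four, hG] at h1
    omega
  have h3G := three_dvd_card P hPK hnot
  obtain ⟨J, hJ⟩ : ∃ J : (P : Subgroup G), J ≠ 1 := by
    haveI : Nontrivial (P : Subgroup G) :=
      Finite.one_lt_card_iff_nontrivial.1 (by rw [hPK.card_four]; norm_num)
    exact exists_ne 1
  have hJ2 : orderOf (J : G) = 2 :=
    CfsgLib.Signalizer.klein_orderOf P hPK J.2 fun e => hJ (Subtype.ext e)
  obtain ⟨M, hM⟩ := ZStar.exists_isPModular Nat.prime_two
  haveI := hM.2.1.isPrime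
  obtain ⟨ζ₂, ζ₃, ζ₄, ε, hε, h2t, h3t, h23, h24, h34, hB, hval, hd₂, hd₃, hd₄, hrel⟩ :=
    Cfsg.Agent.S0948.result M hM P hPK hone
  obtain ⟨hv₂, hv₃, hv₄⟩ := hval _ hJ2
  have h4t : (ζ₄ : G → ℂ) ≠ (fun _ => 1) := fun h => by
    have := congrFun h (J : G)
    rw [hv₄] at this
    norm_num at this
  have hrel1 := hrel 1 (by rw [orderOf_one]; exact odd_one)
  rw [apply_one_eq_charDegree, apply_one_eq_charDegree, apply_one_eq_charDegree] at hrel1
  set f₂ := charDegree (ζ₂ : G → ℂ) with hf₂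
  set f₃ := charDegree (ζ₃ : G → ℂ) with hf₃
  set f₄ := charDegree (ζ₄ : G → ℂ) with hf₄
  have hone' : ∀ χ : IrrCharacter G, (χ : G → ℂ) ≠ (fun _ => 1) →
      charDegree (χ : G → ℂ) ≠ 1 := by
    intro χ hχ h
    refine hχ (funext fun g => ?_)
    rw [CfsgLib.CharDegree.le_ker_of_degree_one χ h (by rw [hperf]; trivial),
      apply_one_eq_charDegree, h, Nat.cast_one]
  -- the prime divisors of the order
  have hGs : ∀ l : ℕ, l.Prime → l ≠ 2 → l ∣ Nat.card G → l = 3 ∨ l = r := by
    intro l hl hl2 hd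
    rw [hG] at hd
    rcases hl.dvd_mul.1 hd with h | h
    · exact absurd ((Nat.prime_dvd_prime_iff_eq hl Nat.prime_two).1
        (hl.dvd_of_dvd_pow (show l ∣ 2 ^ 2 from h))) hl2
    · exact hs l hl h
  have smooth_of : ∀ {n : ℕ}, Odd n →
      (∀ l : ℕ, l.Prime → l ∣ n → l ∣ 8 * Nat.card G) → Smooth r n := by
    intro n hn h l hl hd
    have hl2 : l ≠ 2 := by
      rintro rfl
      exact (Nat.not_even_iff_odd.2 hn) (even_iff_two_dvd.2 hd)
    rcases hl.dvd_mul.1 (h l hl hd) with h' | h'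
    · exact absurd ((Nat.prime_dvd_prime_iff_eq hl Nat.prime_two).1
        (hl.dvd_of_dvd_pow (show l ∣ 2 ^ 3 from h'))) hl2
    · exact hGs l hl hl2 h'
  have hcC := (Subgroup.centralizer ({(J : G)} : Set G)).card_subgroup_dvd_card
  have hdeg : ∀ χ : IrrCharacter G, charDegree (χ : G → ℂ) ∣ Nat.card G :=
    CfsgLib.CharDegree.charDegree_dvd_card
  rcases hε with rfl | rfl
  · -- two conjugate characters
    exfalso
    obtain ⟨m, hm1, hm2⟩ := Cfsg.Agent.S4480.result M hM g₀ hg₀ hG hnc P J J.2 hJ2 ζ₂ ζ₃ ζ₄ 1 1 (-1)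
      hB ⟨h2t, h3t, h4t, h23, h24, h34⟩ ⟨Or.inl rfl, Or.inl rfl, Or.inr rfl⟩
      ⟨by rw [hv₂, Int.cast_one], by rw [hv₃], by rw [hv₄]; simp⟩ (by norm_num) rfl
    rw [← hf₄] at hm1 hm2
    have hsum : f₄ = 1 + f₂ + f₃ := by
      have : ((f₄ : ℕ) : ℂ) = ((1 + f₂ + f₃ : ℕ) : ℂ) := by
        push_cast at hrel1 ⊢
        linear_combination -hrel1
      exact_mod_cast this
    obtain ⟨v, hv⟩ : 4 ∣ f₄ + 1 := Int.natCast_dvd_natCast.1 (by push_cast; exact hd₄)
    have hcube : f₄ ^ 3 - f₄ = 8 * (v * (2 * v - 1) * (4 * v - 1)) := by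
      have e : f₄ = 4 * v - 1 := by omega
      obtain ⟨v', rfl⟩ : ∃ v', v = v' + 1 := ⟨v - 1, by omega⟩
      rw [e, show 4 * (v' + 1) - 1 = 4 * v' + 3 by omega, show 2 * (v' + 1) - 1 = 2 * v' + 1 by omega]
      exact Nat.sub_eq_of_eq_add (by ring)
    have hvodd : Odd v := by
      rw [Nat.odd_iff]
      by_contra hev
      have h2v : 2 ∣ v := by omega
      have h64 : 64 ∣ 8 * Nat.card G := by
        rw [hm2, hcube]
        obtain ⟨t, ht⟩ : 4 ∣ Nat.card (Subgroup.centralizer ((P : Subgroup G) : Set G)) := by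
          have hle : (P : Subgroup G) ≤ Subgroup.centralizer ((P : Subgroup G) : Set G) := fun x hx =>
            Subgroup.mem_centralizer_iff.2 fun y hy => congrArg Subtype.val
              ((CfsgLib.Signalizer.klein_comm P hPK).is_comm.comm ⟨y, hy⟩ ⟨x, hx⟩)
          rw [← hPK.card_four]
          exact Subgroup.card_dvd_of_le hle
        obtain ⟨s, hs'⟩ := h2v
        rw [ht, hs']
        exact ⟨m ^ 3 * t * (s * (2 * (2 * s) - 1) * (4 * (2 * s) - 1)), by ring⟩
      rw [hG] at h64
      obtain ⟨k, hk⟩ := h64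
      obtain ⟨i, hi⟩ := hg₀
      omega
    have hdv : ∀ n, n ∣ v * (2 * v - 1) * (4 * v - 1) → ∀ l : ℕ, l.Prime → l ∣ n →
        l ∣ 8 * Nat.card G := by
      intro n hn l _ hl
      rw [hm2, hcube]
      exact Dvd.dvd.mul_left (Dvd.dvd.mul_left (hl.trans hn) _) _
    have hv1 := eq_one_of_three_factors (r := r) (v := v) (by omega)
      (smooth_of hvodd (hdv v (Dvd.intro _ (by rw [mul_assoc]))))
      (smooth_of (Nat.odd_iff.2 (by omega)) (hdv _ (Dvd.intro (v * (4 * v - 1)) (by ring))))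
      (smooth_of (Nat.odd_iff.2 (by omega)) (hdv _ (dvd_mul_left _ _)))
    have := hone' ζ₂ h2t
    have := charDegree_pos ζ₂
    have := charDegree_pos ζ₃
    omega
  · have hform := Cfsg.Agent.S4479.result M hM g₀ hg₀ hG hnc P J J.2 hJ2 ζ₂ ζ₃ ζ₄ 1 (-1) (-1)
      hB ⟨h2t, h3t, h4t, h23, h24, h34⟩ ⟨Or.inl rfl, Or.inr rfl, Or.inr rfl⟩
      ⟨by rw [hv₂, Int.cast_one], by rw [hv₃], by rw [hv₄]; simp⟩
    rw [← hf₂, ← hf₃, ← hf₄] at hform
    have hsum : 1 + f₂ = f₃ + f₄ := by
      have : ((1 + f₂ : ℕ) : ℂ) = ((f₃ + f₄ : ℕ) : ℂ) := by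
        push_cast at hrel1 ⊢
        linear_combination hrel1
      exact_mod_cast this
    have hpos₂ := charDegree_pos ζ₂
    have hpos₃ := charDegree_pos ζ₃
    have hpos₄ := charDegree_pos ζ₄
    have hne₂ := hone' ζ₂ h2t
    rw [← hf₂] at hne₂ hpos₂
    rw [← hf₃] at hpos₃
    rw [← hf₄] at hpos₄
    obtain ⟨a, ha⟩ : 4 ∣ f₃ + 1 := Int.natCast_dvd_natCast.1 (by push_cast; simpa using hd₃)
    obtain ⟨b, hb⟩ : 4 ∣ f₄ + 1 := Int.natCast_dvd_natCast.1 (by push_cast; exact hd₄)
    obtain ⟨u, hu⟩ : ∃ u, f₃ = 2 * u + 1 := ⟨2 * a - 1, by omega⟩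
    obtain ⟨v, hv⟩ : ∃ v, f₄ = 2 * v + 1 := ⟨2 * b - 1, by omega⟩
    set w := u + v + 1 with hw
    have hf2w : f₂ = 2 * w - 1 := by omega
    set c := Nat.card (Subgroup.centralizer ({(J : G)} : Set G)) with hc
    set cP := Nat.card (Subgroup.centralizer ((P : Subgroup G) : Set G)) with hcP
    have hform' : Nat.card G * cP ^ 2 * (u * v * w) = f₂ * f₃ * f₄ * c ^ 3 := by
      have hcP0 : (cP : ℚ) ≠ 0 := Nat.cast_ne_zero.2 Nat.card_pos.ne'
      have hu0 : (u : ℚ) ≠ 0 := Nat.cast_ne_zero.2 (by omega)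
      have hv0 : (v : ℚ) ≠ 0 := Nat.cast_ne_zero.2 (by omega)
      have hw0 : (w : ℚ) ≠ 0 := Nat.cast_ne_zero.2 (by omega)
      have e2 : (f₂ : ℚ) + ((1 : ℤ) : ℚ) = 2 * (w : ℚ) := by
        have : f₂ + 1 = 2 * w := by omega
        rw [Int.cast_one]
        exact_mod_cast this
      have e3 : (f₃ : ℚ) + ((-1 : ℤ) : ℚ) = 2 * (u : ℚ) := by rw [hu]; push_cast; ring
      have e4 : (f₄ : ℚ) + ((-1 : ℤ) : ℚ) = 2 * (v : ℚ) := by rw [hv]; push_cast; ring
      rw [e2, e3, e4] at hform
      have h' : (Nat.card G : ℚ) * (cP : ℚ) ^ 2 * ((u : ℚ) * v * w) =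
          (f₂ : ℚ) * f₃ * f₄ * (c : ℚ) ^ 3 := by
        rw [hform]
        field_simp
        ring
      exact_mod_cast h'
    have hdv : ∀ n, n ∣ u * v * w → ∀ l : ℕ, l.Prime → l ∣ n → l ∣ 8 * Nat.card G := by
      intro n hn l hlp hl
      refine Dvd.dvd.mul_left ?_ _
      have h : l ∣ f₂ * f₃ * f₄ * c ^ 3 := hform' ▸ Dvd.dvd.mul_left (hl.trans hn) _
      rcases hlp.dvd_mul.1 h with h1 | h1
      · rcases hlp.dvd_mul.1 h1 with h2 | h2
        · rcases hlp.dvd_mul.1 h2 with h3 | h3
          · exact h3.trans (hdeg ζ₂)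
          · exact h3.trans (hdeg ζ₃)
        · exact h2.trans (hdeg ζ₄)
      · exact (hlp.dvd_of_dvd_pow h1).trans hcC
    have hdd : ∀ χ : IrrCharacter G, ∀ l : ℕ, l.Prime → l ∣ charDegree (χ : G → ℂ) →
        l ∣ 8 * Nat.card G := fun χ l _ h => Dvd.dvd.mul_left (h.trans (hdeg χ)) _
    have huo : Odd u := Nat.odd_iff.2 (by omega)
    have hvo : Odd v := Nat.odd_iff.2 (by omega)
    obtain ⟨hu1, hv1⟩ := eq_three_of_sum hr hr3 huo.pos.ne' hvo.pos.ne' hw
      (hu ▸ smooth_of (Nat.odd_iff.2 (by omega)) (hdd ζ₃))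
      (smooth_of huo (hdv u (Dvd.intro (v * w) (by ring))))
      (hv ▸ smooth_of (Nat.odd_iff.2 (by omega)) (hdd ζ₄))
      (smooth_of hvo (hdv v (Dvd.intro (u * w) (by ring))))
      (hf2w ▸ smooth_of (Nat.odd_iff.2 (by omega)) (hdd ζ₂))
      (smooth_of (Nat.odd_iff.2 (by omega)) (hdv w (dvd_mul_left _ _)))
    have he₃ : f₃ = 3 := by omega
    have he₄ : f₄ = 3 := by omega
    have he₂ : f₂ = 5 := by omega
    have h5G : 5 ∣ Nat.card G := he₂ ▸ hdeg ζ₂
    have hr5 : r = 5 := ((hGs 5 (by norm_num) (by norm_num) h5G).resolve_left (by norm_num)).symm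
    -- the character of degree five is rational
    have hfaith : ∀ g : G, (ζ₂ : G → ℂ) g = (ζ₂ : G → ℂ) 1 → g = 1 := by
      intro g hg
      rcases IsSimpleGroup.eq_bot_or_eq_top_of_normal (charKer ζ₂) inferInstance with h | h
      · have : g ∈ charKer ζ₂ := mem_charKer.2 hg
        rwa [h, Subgroup.mem_bot] at this
      · exact absurd (congrArg Subtype.val (eq_trivChar_of_charKer_eq_top h)) h2t
    have hrat : ∀ g : G, (ζ₂ : G → ℂ) g ∈ IntermediateField.adjoin ℚ
        ({Complex.exp (2 * Real.pi * Complex.I / (1 : ℕ))} : Set ℂ) := by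
      intro g
      obtain ⟨n, ρ, -, hρ, -⟩ := CfsgLib.CharDegree.exists_rep ζ₂
      obtain ⟨q, hq⟩ := CharRational.exists_rat_of_apply_pow_eq ρ g fun k hk => by
        rw [hρ]
        have hmem : powTwist hk ζ₂ ∈ principalBlock M G :=
          powTwist_mem_principalBlock hM hk (by rw [hB]; exact Or.inr (Or.inl rfl))
        have h1 : (powTwist hk ζ₂ : G → ℂ) 1 = ((5 : ℕ) : ℂ) := by
          rw [powTwist_apply, one_pow, apply_one_eq_charDegree, ← hf₂, he₂]
        rw [hB] at hmem
        rcases hmem with e | e | e | e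
        · rw [e] at h1
          norm_num at h1
        · exact congrFun (congrArg Subtype.val e) g
        · rw [e, apply_one_eq_charDegree, ← hf₃, he₃] at h1
          norm_num at h1
        · rw [e, apply_one_eq_charDegree, ← hf₄, he₄] at h1
          norm_num at h1
      rw [← hρ, hq]
      exact IntermediateField.algebraMap_mem _ q
    have hn5 : (ζ₂ : G → ℂ) 1 = ((5 : ℕ) : ℂ) := by rw [apply_one_eq_charDegree, ← hf₂, he₂]
    have hb3 : (Nat.card G).factorization 3 ≤ 2 :=
      (SchurBound.factorization_le (p := 3) (Char.IsIrr.isCharacter ζ₂.2) hfaith one_pos (by norm_num)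
        hrat hn5).trans (by decide)
    have hb5 : (Nat.card G).factorization 5 ≤ 1 :=
      (SchurBound.factorization_le (p := 5) (Char.IsIrr.isCharacter ζ₂.2) hfaith one_pos (by norm_num)
        hrat hn5).trans (by decide)
    have hb2 : (Nat.card G).factorization 2 ≤ 2 := by
      by_contra hlt
      have h8 : 2 ^ 3 ∣ Nat.card G :=
        (Nat.prime_two.pow_dvd_iff_le_factorization Nat.card_pos.ne').2 (by omega)
      rw [hG] at h8
      obtain ⟨i, hi⟩ := hg₀
      omega
    have h180 : Nat.card G ∣ 180 := by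
      refine (Nat.factorization_le_iff_dvd Nat.card_pos.ne' (by norm_num)).1 fun l => ?_
      by_cases hl : l.Prime ∧ l ∣ Nat.card G
      · have e2 : 2 ≤ (180 : ℕ).factorization 2 :=
          (Nat.prime_two.pow_dvd_iff_le_factorization (by norm_num)).1 (by norm_num)
        have e3 : 2 ≤ (180 : ℕ).factorization 3 :=
          (Nat.prime_three.pow_dvd_iff_le_factorization (by norm_num)).1 (by norm_num)
        have e5 : 1 ≤ (180 : ℕ).factorization 5 :=
          ((Fact.out : Nat.Prime 5).pow_dvd_iff_le_factorization (by norm_num)).1 (by norm_num)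
        by_cases hl2 : l = 2
        · subst hl2; omega
        rcases hGs l hl.1 hl2 hl.2 with e | e
        · subst e; omega
        · rw [e, hr5]; omega
      · rw [not_and] at hl
        by_cases hlp : l.Prime
        · rw [Nat.factorization_eq_zero_of_not_dvd (hl hlp)]
          exact Nat.zero_le _
        · rw [Nat.factorization_eq_zero_of_not_prime _ hlp]
          exact Nat.zero_le _
    have h4G : 4 ∣ Nat.card G := ⟨g₀, hG⟩
    have hcases : Nat.card G = 60 ∨ Nat.card G = 180 := by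
      have hle := Nat.le_of_dvd (by norm_num) h180
      obtain ⟨k, hk⟩ : 60 ∣ Nat.card G := by omega
      have h3 : k ≤ 3 := by omega
      rw [hk] at h180 ⊢
      interval_cases k <;> first | omega | norm_num at h180
    refine hcases.resolve_right fun h180' => ?_
    -- a group of order 180 would have a subgroup of index five
    have hcd : cP ∣ c := Subgroup.card_dvd_of_le fun g hg =>
      mem_centralizer_singleton.2 (Subgroup.mem_centralizer_iff.1 hg (J : G) J.2).symm
    obtain ⟨j, hj⟩ := hcd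
    rw [h180', he₂, he₃, he₄, hu1, hv1, show w = 3 by omega, hj] at hform'
    have hj3 : cP * j ^ 3 = 12 := by
      have hpos : 0 < cP ^ 2 := pow_pos Nat.card_pos 2
      refine Nat.eq_of_mul_eq_mul_left (show 0 < 45 * cP ^ 2 by omega) ?_
      calc 45 * cP ^ 2 * (cP * j ^ 3) = 5 * 3 * 3 * (cP * j) ^ 3 := by ring
        _ = 180 * cP ^ 2 * (1 * 1 * 3) := hform'.symm
        _ = _ := by ring
    have h3P : 3 ∣ cP := by
      rcases Nat.prime_three.dvd_mul.1 (show 3 ∣ cP * j ^ 3 by omega) with h | h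
      · exact h
      · exfalso
        have : 27 ∣ 12 := hj3 ▸ Dvd.dvd.mul_left (pow_dvd_pow_of_dvd (Nat.prime_three.dvd_of_dvd_pow h) 3) _
        norm_num at this
    obtain ⟨x, hx⟩ := exists_prime_orderOf_dvd_card' 3 h3P
    have hx3 : orderOf (x : G) = 3 := by rw [Subgroup.orderOf_coe, hx]
    set C := Subgroup.centralizer ({(x : G)} : Set G) with hC
    have h4C : 4 ∣ Nat.card C := by
      rw [← hPK.card_four]
      exact Subgroup.card_dvd_of_le fun g hg => Subgroup.mem_centralizer_singleton_iff.2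
        (Subgroup.mem_centralizer_iff.1 x.2 g hg)
    obtain ⟨Q, hQ⟩ := (IsPGroup.of_card (p := 3) (G := Subgroup.zpowers (x : G)) (n := 1)
      (by rw [Nat.card_zpowers, hx3, pow_one])).exists_le_sylow
    have hQ9 : Nat.card (Q : Subgroup G) = 9 := by
      rw [Q.card_eq_multiplicity, h180']
      have : (180 : ℕ).factorization 3 = 2 := by
        rw [show (180 : ℕ) = 3 ^ 2 * 20 by norm_num, Nat.factorization_mul (by norm_num) (by norm_num),
          Finsupp.add_apply, Nat.prime_three.factorization_pow, Finsupp.single_eq_same,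
          Nat.factorization_eq_zero_of_not_dvd (n := 20) (p := 3) (by norm_num)]
      rw [this]
      norm_num
    have h9C : 9 ∣ Nat.card C := by
      rw [← hQ9]
      haveI := IsPGroup.isMulCommutative_of_card_eq_prime_sq (p := 3) (G := (Q : Subgroup G))
        (by rw [hQ9]; norm_num)
      exact Subgroup.card_dvd_of_le fun g hg => Subgroup.mem_centralizer_singleton_iff.2
        (congrArg Subtype.val (mul_comm' (⟨g, hg⟩ : (Q : Subgroup G))
          ⟨(x : G), hQ (Subgroup.mem_zpowers _)⟩))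
    have h36 : 36 ∣ Nat.card C :=
      (show Nat.Coprime 4 9 by norm_num).mul_dvd_of_dvd_of_dvd h4C h9C
    have hne : C ≠ ⊤ := fun h => by
      have hxc : (x : G) ∈ Subgroup.center G := Subgroup.mem_center_iff.2 fun g =>
        Subgroup.mem_centralizer_singleton_iff.1 (show g ∈ C by rw [h]; trivial)
      rw [center_eq_bot_of_not_comm hna, Subgroup.mem_bot] at hxc
      rw [hxc, orderOf_one] at hx3
      exact absurd hx3 (by norm_num)
    have h5 : C.index ∣ 5 := by
      obtain ⟨k, hk⟩ := h36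
      have h1 := C.index_mul_card
      rw [hk, h180'] at h1
      exact Dvd.intro k (Nat.eq_of_mul_eq_mul_left (show 0 < 36 by norm_num) (by linarith))
    have hfac := CfsgLib.Perm.two_mul_card_dvd_factorial_index hnc' C hne
    have := hfac.trans (Nat.factorial_dvd_factorial (Nat.le_of_dvd (by norm_num) h5))
    rw [h180'] at this
    norm_num [Nat.factorial] at this

end Group

end CfsgLib.Blocks.KleinThreePrimes
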