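import Cfsg.Agent.Lib.Blocks.Principal

/-!
# Külshammer's formula for the principal block idempotent

On `p`-regular elements a block idempotent is a combination over the local ring of the characters
of the block; pairing this with the sum of all `p`-regular elements gives the coefficient of the
principal block idempotent as a count of factorizations into a `p`-element and a `p'`-element.
-/

namespace CfsgLib.Blocks

open Cfsg MonoidAlgebra
open scoped ComplexConjugate

variable {G : Type*} [Group G] [Fintype G] {p : ℕ} [Fact p.Prime] {M : Ideal AlgInt} [M.IsPrime]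
  (hM : IsPModular p M)
include hM

open scoped Classical in
/-- On `p`-regular elements a block idempotent is a combination of the characters of the block. -/
theorem exists_blockCoeff_eq_combination [Fintype (IrrCharacter G)] {B : Set (IrrCharacter G)}
    (hB : IsPBlock M B) : ∃ P : IrrCharacter G → localRing M, ∀ g : G, ¬ p ∣ orderOf g →
      blockCoeff B g = ∑ φ : IrrCharacter G,
        if φ ∈ B then (P φ : ℂ) * (φ : G → ℂ) g⁻¹ else 0 := by
  classical
  set A := (Set.toFinite B).toFinset with hA
  obtain ⟨S, d, hSA, hexp, hvan⟩ := exists_projective_decomposition hM A fun x y hx hy => by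
    rw [hA, ← finsum_mem_eq_finite_toFinset_sum]
    exact sum_block_regular_singular hM hB hx hy
  obtain ⟨r, hr, hrp⟩ := exists_factorization (p := p) (Nat.card_pos (α := G)).ne'
  have hq := fun φ (hφ : φ ∈ S) => sum_degree_div_mem hM A (fun χ => d χ φ) (hvan φ hφ)
  refine ⟨fun φ => if h : φ ∈ S then ⟨(r : ℂ)⁻¹, inv_natCast_mem hM hrp⟩ * ⟨_, hq φ h⟩ else 0,
    fun g hg => ?_⟩
  rw [blockCoeff, finsum_mem_eq_finite_toFinset_sum _ (Set.toFinite B), ← hA,
    Finset.sum_congr rfl fun χ _ => by rw [← Char.IsIrr.map_inv χ.2, mul_comm],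
    hexp _ _ (by rwa [orderOf_inv]), Finset.mul_sum,
    ← Finset.sum_subset (Finset.subset_univ S)
      (fun φ _ hφ => by simp [dif_neg hφ])]
  refine Finset.sum_congr rfl fun φ hφ => ?_
  dsimp only
  rw [if_pos (by simpa [hA] using hSA hφ), dif_pos hφ, Subring.coe_mul,
    show (Nat.card G : ℂ)⁻¹ =
      ((p ^ (Nat.card G).factorization p : ℕ) : ℂ)⁻¹ * (r : ℂ)⁻¹ by
    rw [← mul_inv, ← Nat.cast_mul, ← hr]]
  ring

open scoped Classical in
/-- The number of `p`-regular `y` with `g y⁻¹` a `p`-element, reduced, is the number of `p`-regular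
elements times the coefficient of the principal block idempotent. -/
theorem residue_card_factorization {g : G} (hg : ¬ p ∣ orderOf g) :
    (((Finset.univ.filter fun y : G =>
        ¬ p ∣ orderOf y ∧ ∃ k : ℕ, orderOf (g * y⁻¹) = p ^ k).card : ℕ) : Res M) =
      ((Finset.univ.filter fun y : G => ¬ p ∣ orderOf y).card : ℕ) *
        resHom M ⟨_, blockCoeff_mem (isPBlock_principalBlock (M := M)) g⟩ := by
  classical
  have := Fintype.ofFinite (IrrCharacter G)
  have hb := fun φ : IrrCharacter G =>
    exists_blockCoeff_eq_combination (G := G) hM (isPBlock_blockOf (M := M) φ)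
  have hbl : ∀ B : {B : Set (IrrCharacter G) // IsPBlock M B}, ∃ P : IrrCharacter G → localRing M,
      ∀ g : G, ¬ p ∣ orderOf g → blockCoeff B.1 g = ∑ φ : IrrCharacter G,
        if φ ∈ B.1 then (P φ : ℂ) * (φ : G → ℂ) g⁻¹ else 0 := fun B =>
    exists_blockCoeff_eq_combination hM B.2
  choose P hP using hbl
  have := Fintype.ofFinite {B : Set (IrrCharacter G) // IsPBlock M B}
  let blk : IrrCharacter G → {B : Set (IrrCharacter G) // IsPBlock M B} :=
    fun φ => ⟨_, isPBlock_blockOf φ⟩
  have hmem : ∀ (φ : IrrCharacter G) (B : {B : Set (IrrCharacter G) // IsPBlock M B}),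
      φ ∈ B.1 ↔ blk φ = B := fun φ B =>
    ⟨fun h => Subtype.ext (IsPBlock.eq_blockOf B.2 h).symm, fun h => h ▸ mem_blockOf_self φ⟩
  let a : IrrCharacter G → localRing M := fun φ => P (blk φ) φ
  let cval : IrrCharacter G → G → localRing M := fun φ w =>
    ⟨(φ : G → ℂ) w, mem_localRing_of_isIntegral (Char.IsChar.isIntegral (Char.IsIrr.isCharacter φ.2) w)⟩
  let F : G → localRing M := fun w => ∑ φ : IrrCharacter G, a φ * cval φ w⁻¹
  have hF : ∀ w : G, ¬ p ∣ orderOf w →
      (F w : ℂ) = ∑ B : {B : Set (IrrCharacter G) // IsPBlock M B}, blockCoeff B.1 w := by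
    intro w hw
    simp only [hP _ w hw, hmem]
    rw [Finset.sum_comm]
    simp only [Finset.sum_ite_eq, Finset.mem_univ, if_true, F, AddSubmonoidClass.coe_finsetSum,
      Subring.coe_mul]
    rfl
  have hF1 : ∀ w : G, ¬ p ∣ orderOf w → resHom M (F w) = if w = 1 then 1 else 0 := by
    intro w hw
    have h1 : F w = ∑ B : {B : Set (IrrCharacter G) // IsPBlock M B},
        (⟨_, blockCoeff_mem B.2 w⟩ : localRing M) :=
      Subtype.ext (by rw [hF w hw, AddSubmonoidClass.coe_finsetSum])
    have h2 := congrArg (fun z : MonoidAlgebra (Res M) G => z.coeff w)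
      (sum_blockIdemBar (M := M) (G := G))
    simp only [coeff_sum, Finsupp.coe_finsetSum, Finset.sum_apply] at h2
    rw [h1, map_sum]
    refine Eq.trans (Finset.sum_congr rfl fun B _ => ?_) (h2.trans ?_)
    · rw [blockIdemBar, coeff_red, blockIdemO, coeff_ofFun, dif_pos (blockCoeff_mem B.2 w)]
    · simp [one_def, coeff_single, Finsupp.single_apply, eq_comm]
  have hFres : ∀ w : G, resHom M (F w) = if ∃ k : ℕ, orderOf w = p ^ k then 1 else 0 := by
    intro w
    obtain ⟨u, hu⟩ := exists_pPart hM.1 w
    obtain ⟨v, hv, hc, hk, hvr⟩ := hu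
    have hcong : resHom M (F w) = resHom M (F v) := by
      simp only [F, map_sum, map_mul]
      refine Finset.sum_congr rfl fun φ _ => ?_
      congr 1
      refine residue_eq_iff.2 ?_
      show MemLocalIdeal M ((φ : G → ℂ) w⁻¹ - (φ : G → ℂ) v⁻¹)
      rw [← hv, mul_inv_rev, ← (hc.inv_inv).eq]
      exact apply_mul_congr hM φ hc.inv_inv (by simpa using hk)
    rw [hcong, hF1 v hvr]
    refine if_congr ⟨fun h => ?_, fun ⟨j, hj⟩ => ?_⟩ rfl rfl
    · rw [← hv, h, mul_one]; exact hk
    · rw [← hv, hc.orderOf_mul_eq_mul_orderOf_of_coprime] at hj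
      · rw [← orderOf_eq_one_iff]
        refine Nat.eq_one_of_dvd_coprimes (((Nat.Prime.coprime_iff_not_dvd hM.1).2 hvr).pow_left j)
          ⟨orderOf u, by rw [← hj, mul_comm]⟩ dvd_rfl
      · obtain ⟨i, hi⟩ := hk
        rw [hi]
        exact ((Nat.Prime.coprime_iff_not_dvd hM.1).2 hvr).pow_left i
  set V : MonoidAlgebra (localRing M) G :=
    regElt (p := p) ((Char.trivChar G : IrrCharacter G) : G → ℂ)
      (Char.IsChar.isIntegral (Char.IsIrr.isCharacter (Char.trivChar G).2)) with hVdef
  have hVc : IsCentralElt V :=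
    isCentralElt_regElt (Char.IsIrr.isClassFunction (Char.trivChar G).2) _
  have hV : ∀ y, ((inc M V).coeff y) = if p ∣ orderOf y then 0 else 1 := fun y => by
    rw [coeff_inc, hVdef, coeff_regElt, Char.trivChar_apply]
  have hωV : ∀ φ : IrrCharacter G, omegaBar φ (red M V) =
      if φ ∈ principalBlock M G
      then ((Finset.univ.filter fun y : G => ¬ p ∣ orderOf y).card : Res M) else 0 := by
    intro φ
    split_ifs with hφ
    · rw [omegaBar_congr (M := M)
        (IsPBlock.sameBlock isPBlock_principalBlock hφ trivChar_mem_principalBlock),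
        omegaBar_red _ hVc, ← map_natCast (resHom M)]
      congr 1
      refine Subtype.ext ?_
      show omega _ (inc M V) = _
      simp [omega_apply, hV, Char.trivChar_apply, Finset.sum_ite]
    · refine omegaBar_regElt_eq_zero hM fun h => hφ ?_
      rw [IsPBlock.eq_blockOf isPBlock_principalBlock trivChar_mem_principalBlock]
      intro x
      have := h x
      rwa [← centralCharBar_eq_iff, eq_comm, centralCharBar_eq_iff] at this
  have hsum : ∀ φ : IrrCharacter G,
      ∑ y ∈ Finset.univ.filter (fun y : G => ¬ p ∣ orderOf y), resHom M (cval φ (y * g⁻¹)) =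
        resHom M (cval φ g⁻¹) * omegaBar φ (red M V) := by
    intro φ
    rw [omegaBar_red φ hVc, ← map_sum, ← map_mul]
    congr 1
    refine Subtype.ext ?_
    rw [AddSubmonoidClass.coe_finsetSum, Subring.coe_mul]
    show ∑ y ∈ _, (φ : G → ℂ) (y * g⁻¹) = (φ : G → ℂ) g⁻¹ * omega (φ : G → ℂ) (inc M V)
    have h := sum_apply_mul_eq_omega φ (inc M V) g⁻¹
    rw [omega_mul φ (isCentralElt_inc hVc), omega_apply (φ : G → ℂ) (single g⁻¹ 1)] at h
    simp only [coeff_single, Finsupp.single_apply, ite_mul, one_mul, zero_mul, Finset.sum_ite_eq,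
      Finset.mem_univ, if_true, hV] at h
    rw [Finset.sum_filter]
    simp only [ite_not]
    rw [h]
    have := Char.IsIrr.apply_one_ne_zero φ.2
    field_simp
  calc (((Finset.univ.filter fun y : G =>
        ¬ p ∣ orderOf y ∧ ∃ k : ℕ, orderOf (g * y⁻¹) = p ^ k).card : ℕ) : Res M)
      = ∑ y ∈ Finset.univ.filter (fun y : G => ¬ p ∣ orderOf y), resHom M (F (g * y⁻¹)) := by
        simp only [hFres, Finset.sum_boole, Finset.filter_filter]
    _ = ∑ φ : IrrCharacter G, resHom M (a φ) * (resHom M (cval φ g⁻¹) * omegaBar φ (red M V)) := by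
        simp only [← hsum, F, map_sum, map_mul, Finset.mul_sum, mul_inv_rev, inv_inv]
        rw [Finset.sum_comm]
    _ = _ := by
        simp only [hωV]
        have h0 : (⟨_, blockCoeff_mem (isPBlock_principalBlock (M := M)) g⟩ : localRing M) =
            ∑ φ : IrrCharacter G, if φ ∈ principalBlock M G then a φ * cval φ g⁻¹ else 0 := by
          refine Subtype.ext ?_
          rw [AddSubmonoidClass.coe_finsetSum]
          refine (hP ⟨_, isPBlock_principalBlock⟩ g hg).trans (Finset.sum_congr rfl fun φ _ => ?_)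
          by_cases hφ : φ ∈ principalBlock M G
          · rw [if_pos hφ, if_pos hφ, Subring.coe_mul]
            simp only [a, (hmem φ ⟨_, isPBlock_principalBlock⟩).1 hφ]
            rfl
          · rw [if_neg hφ, if_neg hφ]
            rfl
        rw [h0, map_sum, Finset.mul_sum]
        refine Finset.sum_congr rfl fun φ _ => ?_
        split_ifs
        · rw [map_mul]; ring
        · simp

/-- **Külshammer's formula** for the principal block idempotent. -/
theorem blockCoeff_principalBlock_congr {g : G} (hg : ¬ p ∣ orderOf g) :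
    MemLocalIdeal M (blockCoeff (principalBlock M G) g -
      (Nat.card {xy : G × G // (∃ k : ℕ, orderOf xy.1 = p ^ k) ∧ ¬ p ∣ orderOf xy.2 ∧
          xy.1 * xy.2 = g} : ℂ) / (Nat.card {y : G // ¬ p ∣ orderOf y} : ℂ)) := by
  classical
  have hN : Nat.card {xy : G × G // (∃ k : ℕ, orderOf xy.1 = p ^ k) ∧ ¬ p ∣ orderOf xy.2 ∧
      xy.1 * xy.2 = g} = (Finset.univ.filter fun y : G =>
        ¬ p ∣ orderOf y ∧ ∃ k : ℕ, orderOf (g * y⁻¹) = p ^ k).card := by
    rw [← Fintype.card_subtype, ← Nat.card_eq_fintype_card]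
    exact Nat.card_congr
      { toFun := fun t => ⟨t.1.2, t.2.2.1, by
          rw [← eq_mul_inv_of_mul_eq t.2.2.2]; exact t.2.1⟩
        invFun := fun y => ⟨(g * (y : G)⁻¹, (y : G)), y.2.2, y.2.1, inv_mul_cancel_right g _⟩
        left_inv := fun t => Subtype.ext (Prod.ext (eq_mul_inv_of_mul_eq t.2.2.2).symm rfl)
        right_inv := fun _ => rfl }
  rw [hN, Nat.card_eq_fintype_card (α := {y : G // ¬ p ∣ orderOf y}), Fintype.card_subtype]
  have key := residue_card_factorization hM hg
  set R := (Finset.univ.filter fun y : G => ¬ p ∣ orderOf y).card with hR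
  set N := (Finset.univ.filter fun y : G =>
    ¬ p ∣ orderOf y ∧ ∃ k : ℕ, orderOf (g * y⁻¹) = p ^ k).card
  have := charP_residueField hM
  have hRne : (R : Res M) ≠ 0 := by
    have h0 := omegaBar_regElt_ne_zero (b := principalBlock M G) hM isPBlock_principalBlock
      trivChar_mem_principalBlock (blockHeight_trivChar _)
    rw [omegaBar_red _ (isCentralElt_regElt (Char.IsIrr.isClassFunction (Char.trivChar G).2) _)] at h0
    intro e
    refine h0 ?_
    rw [← map_natCast (resHom M)] at e
    rw [← e]
    congr 1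
    refine Subtype.ext ?_
    show omega _ (inc M _) = _
    simp [omega_apply, coeff_inc, coeff_regElt, Char.trivChar_apply, Finset.sum_ite, hR]
  have hRp : ¬ p ∣ R := fun h => hRne ((CharP.cast_eq_zero_iff (Res M) p R).2 h)
  let q : localRing M := (N : localRing M) * ⟨(R : ℂ)⁻¹, inv_natCast_mem hM hRp⟩
  have hq : (q : ℂ) = (N : ℂ) / (R : ℂ) := by
    rw [div_eq_mul_inv]
    simp [q]
  rw [← hq]
  refine (residue_eq_iff (z := ⟨_, blockCoeff_mem (isPBlock_principalBlock (M := M)) g⟩)).1 ?_
  refine mul_left_cancel₀ hRne ?_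
  rw [← key, ← map_natCast (resHom M) R, ← map_natCast (resHom M) N, ← map_mul]
  congr 1
  refine Subtype.ext ?_
  have hR0 : (R : ℂ) ≠ 0 := Nat.cast_ne_zero.2 fun e => hRp (e ▸ dvd_zero p)
  rw [Subring.coe_mul, hq]
  push_cast
  field_simp

end CfsgLib.Blocks
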