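import Cfsg.Agent.Lib.Blocks.OneOrbit
import Cfsg.Agent.Lib.Blocks.Cyclic1.Translate
import Cfsg.Agent.Lib.Blocks.Brauer.Corner
import Cfsg.Agent.Lib.Pairs.Correspondence
import Cfsg.Agent.Lib.Pairs.Nilpotent

/-!
# Blocks of the least possible dimension

As a bimodule for a Sylow subgroup such a block is one transitive permutation module, so all its
fusion comes from the Sylow subgroup and the block is nilpotent.
-/

set_option autoImplicit false

namespace CfsgLib.MinimalDim

open Cfsg CfsgLib.Blocks CfsgLib.Pairs MonoidAlgebra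

variable {G : Type*} [Group G] [Fintype G]

/-- The two-sided action of a subgroup. -/
@[implicit_reducible]
def sided (P : Subgroup G) : MulAction (P × P) G where
  smul q g := (q.1 : G) * g * (q.2 : G)⁻¹
  mul_smul a b g := by
    show ((a * b).1 : G) * g * ((a * b).2 : G)⁻¹ = (a.1 : G) * ((b.1 : G) * g * (b.2 : G)⁻¹) * (a.2 : G)⁻¹
    simp [mul_assoc]
  one_smul g := by
    show ((1 : P × P).1 : G) * g * ((1 : P × P).2 : G)⁻¹ = g
    simp

variable {M : Ideal AlgInt} [M.IsPrime] {p : ℕ} [Fact p.Prime] (hM : IsPModular p M)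
  {B : Set (IrrCharacter G)}
include hM


/-- In a block of the least dimension every fusion between local pairs comes from the Sylow
subgroup. -/
theorem exists_mem_conj_eq (hB : IsPBlock M B) {D : Subgroup G} (hD : IsDefectGroup p M B D)
    {a d : ℕ} (ha : (Nat.card G).factorization p = a) (hd : Nat.card D = p ^ d)
    (hmin : ∑ᶠ χ ∈ B, charDegree (χ : G → ℂ) ^ 2 = p ^ (2 * a - d)) (P : Sylow p G)
    {Q : Subgroup G} (hQ : Q ≤ (P : Subgroup G)) {c : G} (hc : (blockIdemBar M B).coeff c ≠ 0)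
    (hcQ : c ∈ Subgroup.centralizer (Q : Set G)) {x : G}
    (hx : x ∈ Subgroup.normalizer (Q : Set G)) :
    ∃ n ∈ (P : Subgroup G), ∀ q ∈ Q, x * q * x⁻¹ = n * q * n⁻¹ := by
  classical
  have := charP_residueField hM
  have := Fintype.ofFinite (IrrCharacter G)
  have hp := (Fact.out : p.Prime)
  let := sided (P : Subgroup G)
  have hsmul : ∀ (q : ↥(P : Subgroup G) × ↥(P : Subgroup G)) (g : G),
      q • g = (q.1 : G) * g * (q.2 : G)⁻¹ := fun q g => rfl
  set e := blockIdemBar M B with he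
  have hec : ∀ b, e * b = b * e := fun b => ((isCentralElt_blockIdemBar hB).commute b).eq
  have hee : e * e = e := blockIdemBar_mul_self hB
  have hecl : ∀ g h : G, e.coeff (h * g * h⁻¹) = e.coeff g := fun g h =>
    isCentralElt_blockIdemBar hB g h
  -- functions and the group algebra
  let E : (G → Res M) ≃ₗ[Res M] MonoidAlgebra (Res M) G :=
    (Finsupp.linearEquivFunOnFinite (Res M) (Res M) G).symm ≪≫ₗ
      (MonoidAlgebra.coeffLinearEquiv (Res M)).symm
  have hE : ∀ f g, (E f).coeff g = f g := fun f g => rfl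
  have hE' : ∀ m g, E.symm m g = m.coeff g := fun m g => rfl
  let π : Module.End (Res M) (G → Res M) :=
    E.symm.toLinearMap ∘ₗ LinearMap.mulLeft (Res M) e ∘ₗ E.toLinearMap
  have hπ : ∀ f, π f = E.symm (e * E f) := fun f => rfl
  have htrans : ∀ (q : ↥(P : Subgroup G) × ↥(P : Subgroup G)) (f : G → Res M),
      E (OneOrbit.perm (Res M) _ G q f) = single (q.1 : G) 1 * E f * single (q.2 : G)⁻¹ 1 := by
    intro q f
    refine MonoidAlgebra.ext (Finsupp.ext fun g => ?_)
    rw [hE, OneOrbit.perm_apply, coeff_translate, hE, inv_inv, hsmul]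
    simp
  have hπeq : π ∈ OneOrbit.equivariant (Res M) (↥(P : Subgroup G) × ↥(P : Subgroup G)) G := by
    refine (Subalgebra.mem_centralizer_iff _).2 ?_
    rintro _ ⟨q, rfl⟩
    refine LinearMap.ext fun f => E.injective ?_
    rw [Module.End.mul_apply, Module.End.mul_apply, htrans, hπ, hπ, LinearEquiv.apply_symm_apply,
      LinearEquiv.apply_symm_apply, htrans]
    simp only [← mul_assoc, hec (single (q.1 : G) 1)]
  have hππ : π * π = π := LinearMap.ext fun f => by
    rw [Module.End.mul_apply, hπ, hπ, LinearEquiv.apply_symm_apply, ← mul_assoc, hee]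
  have hda : d ≤ a := by
    rw [← ha]
    exact (hp.pow_dvd_iff_le_factorization Nat.card_pos.ne').1 (hd ▸ D.card_subgroup_dvd_card)
  -- the dimension
  have hdim : Module.finrank (Res M) (LinearMap.range π) = p ^ (2 * a - d) := by
    have hr : LinearMap.range π = (LinearMap.range (IBr.compr (Res M) e)).map E.symm.toLinearMap := by
      rw [show IBr.compr (Res M) e = LinearMap.mulLeft (Res M) e from LinearMap.ext fun b => by
        rw [IBr.compr_apply, LinearMap.mulLeft_apply, mul_assoc, ← hec b, ← mul_assoc, hee],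
        ← LinearMap.range_comp]
      show LinearMap.range ((E.symm.toLinearMap ∘ₗ LinearMap.mulLeft (Res M) e) ∘ₗ E.toLinearMap) = _
      rw [LinearMap.range_comp, LinearEquiv.range, Submodule.map_top]
    rw [hr, LinearEquiv.finrank_map_eq]
    have h := IBr.finrank_corner_eq hM (f := e) hee
    refine Nat.cast_injective (R := ℂ) ?_
    rw [← hmin, finsum_mem_eq_finite_toFinset_sum _ (Set.toFinite B)]
    have h' := congrArg (Int.cast : ℤ → ℂ) h
    push_cast at h' ⊢
    rw [h']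
    rw [← Finset.sum_subset (Finset.subset_univ (Set.toFinite B).toFinset) fun χ _ hχ => by
      rw [he, IBr.Data.mult_blockIdemBar hM hB χ, if_neg fun h => hχ ((Set.Finite.mem_toFinset _).2 h)]
      simp]
    refine Finset.sum_congr rfl fun χ hχ => ?_
    rw [he, IBr.Data.mult_blockIdemBar hM hB χ, if_pos ((Set.Finite.mem_toFinset _).1 hχ),
      apply_one_eq_charDegree]
  have hne : π ≠ 0 := fun h => by
    rw [h, LinearMap.range_zero, finrank_bot] at hdim
    exact pow_ne_zero _ hp.ne_zero hdim.symm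
  have hPP : IsPGroup p (↥(P : Subgroup G) × ↥(P : Subgroup G)) :=
    IsPGroup.of_card (n := a + a) (by
      rw [Nat.card_prod, P.card_eq_multiplicity, ha, pow_add])
  obtain ⟨x₀, hle, ⟨w, hwπ, hwfix, hw1⟩, hmeet⟩ := OneOrbit.exists_orbit hPP hπeq hππ hne
  let Qz : G → Subgroup G := fun z => (P : Subgroup G) ⊓ (P : Subgroup G).comap (MulAut.conj z).toMonoidHom
  have hQzmem : ∀ z q, q ∈ Qz z ↔ q ∈ (P : Subgroup G) ∧ z * q * z⁻¹ ∈ (P : Subgroup G) :=
    fun z q => Iff.rfl
  have horb : ∀ z : G, Nat.card (MulAction.orbit (↥(P : Subgroup G) × ↥(P : Subgroup G)) z) *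
      Nat.card (Qz z) = p ^ (2 * a) := by
    intro z
    let e0 : MulAction.stabilizer (↥(P : Subgroup G) × ↥(P : Subgroup G)) z ≃ Qz z :=
      { toFun := fun q => ⟨(q.1.2 : G), (hQzmem _ _).2 ⟨q.1.2.2, by
          have h := (hsmul q.1 z).symm.trans q.2
          rw [show z * (q.1.2 : G) * z⁻¹ = (q.1.1 : G) by
            nth_rewrite 1 [← h]; group]
          exact q.1.1.2⟩⟩
        invFun := fun q => ⟨(⟨z * q * z⁻¹, ((hQzmem _ _).1 q.2).2⟩, ⟨q, ((hQzmem _ _).1 q.2).1⟩), by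
          show _ = z
          rw [hsmul]
          show z * (q : G) * z⁻¹ * z * (q : G)⁻¹ = z
          group⟩
        left_inv := fun q => by
          have h := (hsmul q.1 z).symm.trans q.2
          refine Subtype.ext (Prod.ext (Subtype.ext ?_) rfl)
          show z * (q.1.2 : G) * z⁻¹ = (q.1.1 : G)
          nth_rewrite 1 [← h]
          group
        right_inv := fun q => rfl }
    rw [← Nat.card_congr e0, ← Nat.card_prod,
      Nat.card_congr (MulAction.orbitProdStabilizerEquivGroup _ z), Nat.card_prod,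
      P.card_eq_multiplicity, ha, ← pow_add, two_mul]
  -- the stabilizer is the diagonal of a group below a defect group
  have hsmall : Nat.card (Qz x₀) ≤ p ^ d := by
    set v := single x₀⁻¹ 1 * E w with hv
    have hvc : ∀ g, v.coeff g = w (x₀ * g) := fun g => by
      rw [hv, show single x₀⁻¹ 1 * E w = single x₀⁻¹ (1 : Res M) * E w * single 1 1 by
        rw [← one_def, mul_one], coeff_translate, hE, inv_inv, inv_one, mul_one]
    have hev : e * v = v := by
      rw [hv, ← mul_assoc, hec, mul_assoc]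
      conv_rhs => rw [← hwπ, hπ, LinearEquiv.apply_symm_apply]
    have hinv : ∀ u ∈ Qz x₀, ∀ g, v.coeff (u * g * u⁻¹) = v.coeff g := by
      intro u hu g
      obtain ⟨h1, h2⟩ := (hQzmem _ _).1 hu
      set q : ↥(P : Subgroup G) × ↥(P : Subgroup G) := (⟨_, h2⟩, ⟨u, h1⟩) with hq
      have hqx : q • x₀ = x₀ := by rw [hsmul, hq]; show x₀ * u * x₀⁻¹ * x₀ * u⁻¹ = x₀; group
      have h := congrFun (hwfix q hqx) (x₀ * (u * g * u⁻¹))
      rw [OneOrbit.perm_apply, hsmul] at h
      rw [hvc, hvc, ← h, hq]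
      congr 1
      simp only [Prod.fst_inv, Prod.snd_inv, Subgroup.coe_inv]
      group
    have hQp : IsPGroup p (Qz x₀) := P.isPGroup'.to_le inf_le_left
    have h1 := coeff_mul_eq_sum_centralizer hQp (a := e) (b := v) (fun u _ g => hecl g u) hinv
      (one_mem (Subgroup.centralizer (Qz x₀ : Set G)))
    rw [hev, hvc, mul_one, hw1] at h1
    obtain ⟨g, hg, hgne⟩ := Finset.exists_ne_zero_of_sum_ne_zero (h1 ▸ one_ne_zero)
    have h2 := ((exists_coeff_ne_zero_centralizer_iff hM hB hD hQp).1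
      ⟨g, left_ne_zero_of_mul hgne, (Finset.mem_filter.1 hg).2⟩).card_dvd
    rw [hd] at h2
    exact Nat.le_of_dvd (pow_pos hp.pos d) h2
  have hpow : p ^ (2 * a - d) * p ^ d = p ^ (2 * a) := by rw [← pow_add]; congr 1; omega
  have hbig : p ^ (2 * a - d) ≤ Nat.card (MulAction.orbit (↥(P : Subgroup G) × ↥(P : Subgroup G)) x₀) := by
    refine Nat.le_of_mul_le_mul_right ?_ (pow_pos hp.pos d)
    rw [hpow, ← horb x₀]
    exact Nat.mul_le_mul_left _ hsmall
  have hmeet' := hmeet (hdim.le.trans hbig)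
  -- a defect group in the Sylow subgroup
  obtain ⟨D₁, hD₁P, hD₁D, hD₁c⟩ : ∃ D₁ : Subgroup G, D₁ ≤ (P : Subgroup G) ∧ SubConj D₁ D ∧
      Nat.card D₁ = p ^ d := by
    obtain ⟨S, hS⟩ := (IsDefectGroup.isPGroup hD).exists_le_sylow
    obtain ⟨g, hg⟩ := MulAction.exists_smul_eq G S P
    refine ⟨D.map (MulAut.conj g).toMonoidHom, ?_, ⟨g⁻¹, ?_⟩, by rw [card_map_conj, hd]⟩
    · rintro _ ⟨u, hu, rfl⟩
      rw [← hg, Sylow.coe_subgroup_smul]
      exact Subgroup.smul_mem_pointwise_smul u (MulAut.conj g) _ (hS hu)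
    · rintro _ ⟨u, hu, rfl⟩
      simpa [mul_assoc] using hu
  have hD₁p : IsPGroup p D₁ := P.isPGroup'.to_le hD₁P
  obtain ⟨c₁, hc₁, hc₁C⟩ := (exists_coeff_ne_zero_centralizer_iff hM hB hD hD₁p).2 hD₁D
  let diag : ↥D₁ →* ↥(P : Subgroup G) × ↥(P : Subgroup G) :=
    (Subgroup.inclusion hD₁P).prod (Subgroup.inclusion hD₁P)
  obtain ⟨z, hz, hzfix⟩ := hmeet' diag.range (fun g => e.coeff g) c₁
    (by
      refine E.injective ?_
      rw [hπ, LinearEquiv.apply_symm_apply,
        show E (fun g => e.coeff g) = e from E.apply_symm_apply e, hee])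
    (by
      rintro _ ⟨u, rfl⟩
      funext g
      rw [OneOrbit.perm_apply, hsmul]
      show e.coeff ((u : G)⁻¹ * g * (u : G)⁻¹⁻¹) = e.coeff g
      exact hecl g (u : G)⁻¹)
    (by
      rintro _ ⟨u, rfl⟩
      rw [hsmul]
      show (u : G) * c₁ * (u : G)⁻¹ = c₁
      rw [Subgroup.mem_centralizer_iff.1 hc₁C _ u.2, mul_inv_cancel_right])
    hc₁
  have hzD : ∀ u ∈ D₁, z * u * z⁻¹ = u := by
    intro u hu
    have h := hzfix (diag ⟨u, hu⟩) ⟨_, rfl⟩
    rw [hsmul] at h
    have h' : u * z * u⁻¹ = z := h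
    calc z * u * z⁻¹ = (u * z * u⁻¹) * u * z⁻¹ := by rw [h']
      _ = u := by group
  have hQzD : Qz z = D₁ := by
    refine (Subgroup.eq_of_le_of_card_ge (fun u hu => (hQzmem _ _).2
      ⟨hD₁P hu, by rw [hzD u hu]; exact hD₁P hu⟩) ?_).symm
    rw [hD₁c]
    refine Nat.le_of_mul_le_mul_left ?_ (pow_pos hp.pos (2 * a - d))
    rw [hpow, ← horb z, MulAction.orbit_eq_iff.2 hz]
    exact Nat.mul_le_mul_right _ hbig
  -- the twisted diagonal
  let tw : ↥Q →* ↥(P : Subgroup G) × ↥(P : Subgroup G) :=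
    { toFun := fun q => (⟨x * q * x⁻¹, hQ ((Subgroup.mem_normalizer_iff.1 hx _).1 q.2)⟩, ⟨q, hQ q.2⟩)
      map_one' := by ext <;> simp
      map_mul' := fun q r => by ext <;> simp [mul_assoc] }
  obtain ⟨z', hz', hz'fix⟩ := hmeet' tw.range (E.symm (single x 1 * e)) (x * c)
    (by
      refine E.injective ?_
      rw [hπ, LinearEquiv.apply_symm_apply, LinearEquiv.apply_symm_apply, ← mul_assoc, hec,
        mul_assoc, hee])
    (by
      rintro _ ⟨q, rfl⟩
      refine E.injective ?_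
      rw [htrans, LinearEquiv.apply_symm_apply]
      show single (x * (q : G) * x⁻¹) 1 * (single x 1 * e) * single (q : G)⁻¹ 1 = single x 1 * e
      rw [← mul_assoc, single_mul_single, mul_one, mul_assoc, hec, ← mul_assoc, single_mul_single,
        mul_one]
      congr 2
      group)
    (by
      rintro _ ⟨q, rfl⟩
      rw [hsmul]
      show x * (q : G) * x⁻¹ * (x * c) * (q : G)⁻¹ = x * c
      have h := Subgroup.mem_centralizer_iff.1 hcQ _ q.2
      calc x * (q : G) * x⁻¹ * (x * c) * (q : G)⁻¹ = x * ((q : G) * c) * (q : G)⁻¹ := by group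
        _ = _ := by rw [h]; group)
    (by
      rw [hE', show single x 1 * e = single x (1 : Res M) * e * single 1 1 by
        rw [← one_def, mul_one], coeff_translate]
      simpa using hc)
  rw [← MulAction.orbit_eq_iff.2 hz] at hz'
  obtain ⟨⟨u, v⟩, huv⟩ := hz'
  refine ⟨(u : G) * (v : G)⁻¹, mul_mem u.2 (inv_mem v.2), fun q hq => ?_⟩
  have h := hz'fix (tw ⟨q, hq⟩) ⟨_, rfl⟩
  simp only at huv
  rw [hsmul, ← huv, hsmul] at h
  have h' : x * q * x⁻¹ * ((u : G) * z * (v : G)⁻¹) * q⁻¹ = (u : G) * z * (v : G)⁻¹ := h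
  have hkey : (u : G)⁻¹ * (x * q * x⁻¹) * u = z * ((v : G)⁻¹ * q * v) * z⁻¹ := by
    calc (u : G)⁻¹ * (x * q * x⁻¹) * u
        = (u : G)⁻¹ * (x * q * x⁻¹ * ((u : G) * z * (v : G)⁻¹) * q⁻¹) * (q * v * z⁻¹) := by group
      _ = z * ((v : G)⁻¹ * q * v) * z⁻¹ := by rw [h']; group
  have hmem : (v : G)⁻¹ * q * v ∈ D₁ := by
    rw [← hQzD]
    refine (hQzmem _ _).2 ⟨mul_mem (mul_mem (inv_mem v.2) (hQ hq)) v.2, ?_⟩
    rw [← hkey]
    exact mul_mem (mul_mem (inv_mem u.2) (hQ ((Subgroup.mem_normalizer_iff.1 hx _).1 hq))) u.2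
  rw [hzD _ hmem] at hkey
  calc x * q * x⁻¹ = u * ((u : G)⁻¹ * (x * q * x⁻¹) * u) * (u : G)⁻¹ := by group
    _ = _ := by rw [hkey]; group

/-- A block of the least dimension is nilpotent. -/
theorem isNilpotentBlock (hB : IsPBlock M B) {D : Subgroup G} (hD : IsDefectGroup p M B D)
    {a d : ℕ} (ha : (Nat.card G).factorization p = a) (hd : Nat.card D = p ^ d)
    (hmin : ∑ᶠ χ ∈ B, charDegree (χ : G → ℂ) ^ 2 = p ^ (2 * a - d)) :
    IsNilpotentBlock p M B := by
  classical
  refine ⟨hB, fun Q e hQe x hx _ hreg => ?_⟩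
  obtain ⟨P, hP⟩ := hQe.1.1.exists_le_sylow
  obtain ⟨he, -, hval⟩ := isBrauerPairOf_iff.1 hQe
  obtain ⟨ξ, hξ⟩ := IsPBlock.nonempty he.2
  obtain ⟨c, hcQ, hc⟩ := brv_of_pairVal (ξ := ξ) (by rw [hval ξ hξ]; exact one_ne_zero)
  obtain ⟨n, hnP, hn⟩ := exists_mem_conj_eq hM hB hD ha hd hmin P hP hc hcQ hx
  have hnN : n ∈ Subgroup.normalizer (Q : Set G) := by
    refine Subgroup.mem_normalizer_iff.2 fun q => ⟨fun hq => ?_, fun hq => ?_⟩
    · rw [← hn q hq]; exact (Subgroup.mem_normalizer_iff.1 hx q).1 hq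
    · obtain ⟨r, hr, hrq⟩ : ∃ r ∈ Q, x * r * x⁻¹ = n * q * n⁻¹ :=
        ⟨x⁻¹ * (n * q * n⁻¹) * x, by
          simpa using (Subgroup.mem_normalizer_iff.1 (inv_mem hx) _).1 hq, by group⟩
      rw [hn r hr] at hrq
      rwa [mul_left_cancel (mul_right_cancel hrq)] at hr
  let f := Q.normalizerMonoidHom
  have hfx : f ⟨x, hx⟩ = f ⟨n, hnN⟩ := MulEquiv.ext fun q => Subtype.ext (hn q q.2)
  obtain ⟨k, hk⟩ := P.isPGroup' ⟨n, hnP⟩
  have hk' : n ^ p ^ k = 1 := congrArg Subtype.val hk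
  have h1 : orderOf (f ⟨x, hx⟩) ∣ p ^ k := by
    rw [hfx]
    refine (orderOf_map_dvd f _).trans ?_
    rw [Subgroup.orderOf_mk]
    exact orderOf_dvd_of_pow_eq_one hk'
  have h2 : orderOf (f ⟨x, hx⟩) ∣ orderOf x := by
    refine (orderOf_map_dvd f _).trans ?_
    rw [Subgroup.orderOf_mk]
  obtain ⟨i, -, hi⟩ := (Nat.dvd_prime_pow hM.1).1 h1
  have hi0 : i = 0 := by
    by_contra h
    exact hreg ((dvd_pow_self p h).trans (hi ▸ h2))
  rw [hi0, pow_zero, orderOf_eq_one_iff] at hi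
  have hker : (⟨x, hx⟩ : Subgroup.normalizer (Q : Set G)) ∈ f.ker := hi
  rwa [Subgroup.normalizerMonoidHom_ker, Subgroup.mem_subgroupOf] at hker

end CfsgLib.MinimalDim
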