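import Cfsg.Agent.Lib.Blocks.QuotientBlocks
import Cfsg.Agent.Lib.Blocks.Quotient
import Cfsg.Agent.Lib.Blocks.Vanishing
import Cfsg.Agent.Lib.Blocks.Union
import Cfsg.Agent.Lib.Char.Central
import Cfsg.Agent.Lib.Char.Complete
import Mathlib.LinearAlgebra.Matrix.Rank
import Mathlib.Algebra.Field.ZMod

/-!
# The number of blocks with a given normal defect group

For a normal `p`-subgroup `D` the matrix counting pairs in two regular classes of defect group `D`
whose quotient lies in a Sylow subgroup reduces modulo `M` to `Wᵀ C V`, where `V`, `W` are the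
values of the reduced central characters of the blocks with defect group `D` and `C` is diagonal
and invertible.
-/

namespace CfsgLib.Blocks

open Cfsg MonoidAlgebra CfsgLib.Fusion
open scoped ComplexConjugate

/-- The rank of a square matrix does not change under an extension of the field. -/
theorem rank_map_ringHom {m L : Type*} [Fintype m] [DecidableEq m] [Field L] {p : ℕ} [Fact p.Prime]
    (f : ZMod p →+* L) (A : Matrix m m (ZMod p)) : (A.map f).rank = A.rank := by
  classical
  obtain ⟨V, U, e, hV, hU, h⟩ := A.exists_rank_normal_form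
  have h' := congrArg f.mapMatrix h
  simp only [map_mul, RingHom.mapMatrix_apply] at h'
  have hV' : IsUnit (V.map f).det := (Matrix.isUnit_iff_isUnit_det _).1 (hV.map f.mapMatrix)
  have hU' : IsUnit (U.map f).det := (Matrix.isUnit_iff_isUnit_det _).1 (hU.map f.mapMatrix)
  rw [← Matrix.rank_mul_eq_right_of_isUnit_det _ (A.map f) hV',
    ← Matrix.rank_mul_eq_left_of_isUnit_det _ ((V.map f) * (A.map f)) hU', h',
    ← Matrix.submatrix_map, Matrix.fromBlocks_map, Matrix.map_one f (map_zero f) (map_one f)]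
  simp only [Matrix.map_zero f (map_zero f)]
  rw [Matrix.rank_submatrix, ← Matrix.diagonal_one, ← Matrix.diagonal_zero,
    Matrix.fromBlocks_diagonal, Matrix.rank_diagonal]
  let s : {i : Fin A.rank ⊕ Fin (Fintype.card m - A.rank) //
      Sum.elim (fun _ => (1 : L)) (fun _ => (0 : L)) i ≠ 0} ≃ Fin A.rank :=
    { toFun := fun i => match i with
        | ⟨Sum.inl a, _⟩ => a
        | ⟨Sum.inr _, h⟩ => absurd rfl h
      invFun := fun a => ⟨Sum.inl a, one_ne_zero⟩
      left_inv := fun i => by
        rcases i with ⟨a | b, h⟩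
        · rfl
        · exact absurd rfl h
      right_inv := fun a => rfl }
  rw [Fintype.card_congr s, Fintype.card_fin]

theorem isConj_inv_inv {H : Type*} [Group H] {a b : H} (h : IsConj a b) : IsConj a⁻¹ b⁻¹ := by
  obtain ⟨y, rfl⟩ := isConj_iff.1 h
  exact isConj_iff.2 ⟨y, by group⟩

variable {G : Type*} [Group G] [Fintype G] {p : ℕ} [Fact p.Prime] {M : Ideal AlgInt} [M.IsPrime]

section Normal

variable (D : Subgroup G) [hDn : D.Normal]

omit [Fact p.Prime] in
/-- The sum of a character over a translate of a normal subgroup. -/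
theorem sum_normal_apply_mul [Fintype D] (χ : IrrCharacter G) (g : G) :
    ∑ u : D, (χ : G → ℂ) (g * u) =
      (χ : G → ℂ) g * (∑ u : D, (χ : G → ℂ) u) / (χ : G → ℂ) 1 := by
  have h : ∑ x : G, ∑ u : D, (χ : G → ℂ) (g * (x * u * x⁻¹)) =
      (Nat.card G : ℂ) * ∑ u : D, (χ : G → ℂ) (g * u) := by
    rw [Nat.card_eq_fintype_card, Finset.sum_congr rfl fun x _ => ?_, Finset.sum_const,
      Finset.card_univ, nsmul_eq_mul]
    refine Fintype.sum_equiv (MulAut.conjNormal x : D ≃* D).toEquiv _ _ fun u => ?_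
    simp only [MulEquiv.toEquiv_eq_coe, MulEquiv.coe_toEquiv, MulAut.conjNormal_apply]
  rw [Finset.sum_comm] at h
  simp only [sum_char_mul_conj] at h
  refine mul_left_cancel₀ (Nat.cast_ne_zero.2 (Nat.card_pos (α := G)).ne') (h.symm.trans ?_)
  rw [Finset.mul_sum, Finset.sum_div, Finset.mul_sum]
  exact Finset.sum_congr rfl fun u _ => by ring

omit [Fact p.Prime] in
/-- A character with a trivial constituent on a normal subgroup is trivial on it. -/
theorem apply_eq_of_sum_normal_ne_zero [Fintype D] (χ : IrrCharacter G)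
    (h : ∑ u : D, (χ : G → ℂ) u ≠ 0) {v : G} (hv : v ∈ D) :
    (χ : G → ℂ) v = (χ : G → ℂ) 1 := by
  have h1 := sum_normal_apply_mul D χ v
  rw [show ∑ u : D, (χ : G → ℂ) (v * u) = ∑ u : D, (χ : G → ℂ) u from
    Fintype.sum_equiv (Equiv.mulLeft (⟨v, hv⟩ : D)) _ _ fun u => rfl,
    eq_div_iff (Char.IsIrr.apply_one_ne_zero χ.2), mul_comm] at h1
  exact (mul_right_cancel₀ h h1).symm

omit [Fact p.Prime] [Fintype G] hDn in
theorem sum_normal_eq_of_trivial [Fintype D] {χ : IrrCharacter G}
    (h : ∀ v ∈ D, (χ : G → ℂ) v = (χ : G → ℂ) 1) :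
    ∑ u : D, (χ : G → ℂ) u = (Nat.card D : ℂ) * (χ : G → ℂ) 1 := by
  rw [Finset.sum_congr rfl fun (u : D) _ => h u u.2, Finset.sum_const, Finset.card_univ, nsmul_eq_mul,
    Nat.card_eq_fintype_card]

omit [Fact p.Prime] in
/-- A character with `D` in its kernel has degree dividing the index. -/
theorem charDegree_dvd_index {χ : IrrCharacter G} (h : ∀ v ∈ D, (χ : G → ℂ) v = (χ : G → ℂ) 1) :
    charDegree (χ : G → ℂ) ∣ D.index := by
  classical
  have := Fintype.ofFinite (G ⧸ D)
  obtain ⟨χ', rfl⟩ := exists_inflate_eq (N := D) χ h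
  have h1 : charDegree (inflate D χ' : G → ℂ) = charDegree (χ' : G ⧸ D → ℂ) := by
    simp only [charDegree, inflate_apply, QuotientGroup.mk_one]
  rw [h1, Subgroup.index]
  exact charDegree_dvd_card χ'

variable (hM : IsPModular p M)
include hM

omit [Fact p.Prime] in
/-- A character of defect zero of the quotient vanishes on `p`-elements outside `D`. -/
theorem apply_eq_zero_of_quotient_defect_zero {χ : IrrCharacter G}
    (h : ∀ v ∈ D, (χ : G → ℂ) v = (χ : G → ℂ) 1)
    (hdeg : (charDegree (χ : G → ℂ)).factorization p = D.index.factorization p) {s : G}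
    (hs : ∃ k, orderOf s = p ^ k) (hsD : s ∉ D) : (χ : G → ℂ) s = 0 := by
  classical
  have := Fintype.ofFinite (G ⧸ D)
  obtain ⟨χ', rfl⟩ := exists_inflate_eq (N := D) χ h
  have h1 : charDegree (inflate D χ' : G → ℂ) = charDegree (χ' : G ⧸ D → ℂ) := by
    simp only [charDegree, inflate_apply, QuotientGroup.mk_one]
  have hdd : ¬ p ∣ Nat.card (G ⧸ D) / charDegree (χ' : G ⧸ D → ℂ) := by
    intro hd
    have hq0 : Nat.card (G ⧸ D) / charDegree (χ' : G ⧸ D → ℂ) ≠ 0 :=
      (Nat.div_pos (Nat.le_of_dvd Nat.card_pos (charDegree_dvd_card χ')) (charDegree_pos χ')).ne'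
    have h2 := (Nat.Prime.dvd_iff_one_le_factorization hM.1 hq0).1 hd
    rw [Nat.factorization_div (charDegree_dvd_card χ'), ← h1, Finsupp.coe_tsub, Pi.sub_apply,
      hdeg, Subgroup.index] at h2
    omega
  have hord : p ∣ orderOf (s : G ⧸ D) := by
    obtain ⟨k, hk⟩ := hs
    obtain ⟨j, -, hj⟩ := (Nat.dvd_prime_pow hM.1).1
      (hk ▸ orderOf_map_dvd (QuotientGroup.mk' D) s)
    rcases Nat.eq_zero_or_pos j with rfl | hj0
    · exact absurd ((QuotientGroup.eq_one_iff s).1 (orderOf_eq_one_iff.1 (by simpa using hj))) hsD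
    · exact ⟨p ^ (j - 1), (show orderOf (s : G ⧸ D) = _ from hj).trans (by
        rw [← pow_succ', Nat.sub_add_cancel hj0])⟩
  have h3 := sum_block_regular_singular hM (isPBlock_blockOf χ') (x := (1 : G ⧸ D))
    (by simp [hM.1.ne_one]) hord
  rw [blockOf_eq_singleton hM χ' hdd, finsum_mem_singleton] at h3
  exact (mul_eq_zero.1 h3).resolve_left (Char.IsIrr.apply_one_ne_zero χ'.2)

end Normal

section Count

omit [Fact p.Prime] in
/-- Pairs in two classes with quotient in a subgroup, in terms of characters. -/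
theorem centralizer_mul_card_pairs (S : Subgroup G) [Fintype S] [Fintype (IrrCharacter G)]
    (a b : G) :
    (Nat.card (Subgroup.centralizer ({a} : Set G)) : ℂ) *
      Nat.card (Subgroup.centralizer ({b} : Set G)) *
      Nat.card {yz : G × G // IsConj a yz.1 ∧ IsConj b yz.2 ∧ yz.2 * yz.1⁻¹ ∈ S} =
    (Nat.card G : ℂ) * ∑ χ : IrrCharacter G, conj (∑ s : S, (χ : G → ℂ) s) *
      (χ : G → ℂ) b * (χ : G → ℂ) a⁻¹ / (χ : G → ℂ) 1 := by
  classical
  have hsum : ∀ F : G → ℂ, ∑ x : G, F (x * a * x⁻¹) =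
      (Nat.card (Subgroup.centralizer ({a} : Set G)) : ℂ) *
        ∑ y ∈ Finset.univ.filter (IsConj a), F y := by
    intro F
    rw [← Finset.sum_fiberwise_of_maps_to' (g := fun x : G => x * a * x⁻¹)
      (t := Finset.univ.filter (IsConj a))
      (fun x _ => Finset.mem_filter.2 ⟨Finset.mem_univ _, isConj_iff.2 ⟨x, rfl⟩⟩) F, Finset.mul_sum]
    refine Finset.sum_congr rfl fun y hy => ?_
    obtain ⟨x₀, hx₀⟩ := isConj_iff.1 (Finset.mem_filter.1 hy).2
    rw [Finset.sum_const, nsmul_eq_mul]
    congr 2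
    rw [Nat.card_eq_fintype_card, ← Finset.card_univ]
    refine Finset.card_bij' (fun x hx => ⟨x₀⁻¹ * x, ?_⟩) (fun c _ => x₀ * c) ?_ ?_ ?_ ?_
    · rw [mem_centralizer_singleton]
      have h : x * a * x⁻¹ = x₀ * a * x₀⁻¹ := (Finset.mem_filter.1 hx).2.trans hx₀.symm
      show x₀⁻¹ * x * a = a * (x₀⁻¹ * x)
      calc x₀⁻¹ * x * a = x₀⁻¹ * (x * a * x⁻¹) * x := by group
        _ = a * (x₀⁻¹ * x) := by rw [h]; group
    · exact fun _ _ => Finset.mem_univ _
    · intro c _
      refine Finset.mem_filter.2 ⟨Finset.mem_univ _, ?_⟩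
      show x₀ * c * a * (x₀ * c)⁻¹ = y
      rw [mul_assoc x₀, (mem_centralizer_singleton.1 c.2).eq, ← hx₀]
      group
    · exact fun x _ => by simp
    · exact fun c _ => by simp
  have hcard : (Nat.card {yz : G × G // IsConj a yz.1 ∧ IsConj b yz.2 ∧ yz.2 * yz.1⁻¹ ∈ S} : ℂ) =
      ∑ s : S, ∑ y ∈ Finset.univ.filter (IsConj a), if IsConj b (s * y) then 1 else 0 := by
    rw [← Finset.sum_product', ← Finset.sum_filter, Finset.sum_const, nsmul_one,
      Nat.card_eq_fintype_card, ← Finset.card_univ]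
    congr 1
    refine Finset.card_bij'
      (fun yz _ => (⟨yz.1.2 * yz.1.1⁻¹, yz.2.2.2⟩, yz.1.1))
      (fun sy h => ⟨(sy.2, sy.1 * sy.2), ?_⟩) ?_ ?_ ?_ ?_
    · simp only [Finset.mem_filter, Finset.mem_product, Finset.mem_univ, true_and] at h
      exact ⟨h.1, h.2, by simp⟩
    · intro yz _
      simp only [Finset.mem_filter, Finset.mem_product, Finset.mem_univ, true_and]
      exact ⟨yz.2.1, by simpa using yz.2.2.1⟩
    · exact fun _ _ => Finset.mem_univ _
    · exact fun yz _ => by simp
    · exact fun sy _ => by simp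
  rw [hcard, mul_right_comm, Finset.mul_sum, Finset.sum_mul]
  have key : ∀ s : S,
      (Nat.card (Subgroup.centralizer ({a} : Set G)) : ℂ) *
          (∑ y ∈ Finset.univ.filter (IsConj a), if IsConj b (s * y) then 1 else 0) *
        Nat.card (Subgroup.centralizer ({b} : Set G)) =
      ∑ χ : IrrCharacter G, (Nat.card G : ℂ) *
        (conj ((χ : G → ℂ) s) * (χ : G → ℂ) b * (χ : G → ℂ) a⁻¹ / (χ : G → ℂ) 1) := by
    intro s
    rw [← hsum fun y => if IsConj b (s * y) then 1 else 0, Finset.sum_mul]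
    calc ∑ x : G, (if IsConj b (s * (x * a * x⁻¹)) then (1 : ℂ) else 0) *
          Nat.card (Subgroup.centralizer ({b} : Set G))
        = ∑ x : G, ∑ χ : IrrCharacter G,
            (χ : G → ℂ) b * conj ((χ : G → ℂ) (s * (x * a * x⁻¹))) :=
          Finset.sum_congr rfl fun x _ => by
            rw [Char.column_orthogonality, ite_mul, one_mul, zero_mul]
      _ = _ := by
          rw [Finset.sum_comm]
          refine Finset.sum_congr rfl fun χ _ => ?_
          rw [← Finset.mul_sum, ← map_sum, sum_char_mul_conj, map_div₀, map_mul, map_mul,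
            map_natCast, ← Char.IsIrr.map_inv χ.2 (1 : G), inv_one, ← Char.IsIrr.map_inv χ.2 a]
          ring
  rw [Finset.sum_congr rfl fun s _ => key s, Finset.sum_comm, Finset.mul_sum]
  refine Finset.sum_congr rfl fun χ _ => ?_
  rw [map_sum, Finset.sum_mul, Finset.sum_mul, Finset.sum_div, Finset.mul_sum]

end Count

section Main

variable (hM : IsPModular p M) (D : Subgroup G) [hDn : D.Normal] (hD : IsPGroup p D)

/-- The regular elements whose centralizer has `D` as a Sylow subgroup. -/
def IsRegDefect (p : ℕ) (D : Subgroup G) (x : G) : Prop :=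
  ¬ p ∣ orderOf x ∧ D ≤ Subgroup.centralizer ({x} : Set G) ∧
    IsSylowIn p D (Subgroup.centralizer ({x} : Set G))

omit [Fact p.Prime] [Fintype G] hDn in
theorem IsRegDefect.inv {x : G} (h : IsRegDefect p D x) : IsRegDefect p D x⁻¹ := by
  have he : Subgroup.centralizer ({x⁻¹} : Set G) = Subgroup.centralizer ({x} : Set G) := by
    ext y
    rw [mem_centralizer_singleton, mem_centralizer_singleton, Commute.inv_right_iff]
  exact ⟨by rw [orderOf_inv]; exact h.1, he ▸ h.2.1, he ▸ h.2.2⟩

omit hDn in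
include hM in
theorem IsRegDefect.index_factorization {x : G} (h : IsRegDefect p D x) :
    (Subgroup.centralizer ({x} : Set G)).index.factorization p =
      (Nat.card G).factorization p - (Nat.card D).factorization p := by
  have h1 := factorization_card_eq_index_add (p := p) (M := M) hM
    (Subgroup.centralizer ({x} : Set G))
  rw [(isSylowIn_iff_card h.2.1).1 h.2.2, Nat.factorization_pow_self (Fact.out : p.Prime)]
  omega

include hM hD in
/-- A nonzero reduced central character at such a class forces the defect group `D`. -/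
theorem isDefectGroup_of_centralCharBar_ne_zero {B : Set (IrrCharacter G)} (hB : IsPBlock M B)
    {χ : IrrCharacter G} (hχ : χ ∈ B) {x : G} (hx : IsRegDefect p D x)
    (hω : centralCharBar M χ x ≠ 0) : IsDefectGroup p M B D := by
  obtain ⟨E, hE⟩ := exists_isDefectGroup (p := p) hB
  have h1 := IsDefectGroup.subConj_of_centralCharBar_ne_zero hM hB hE hχ hω (defLE_self hx.2.2)
  have h2 := IsDefectGroup.normal_le hM hB hE (P := D) hD
  rwa [Subgroup.eq_of_le_of_card_ge h2 (Nat.le_of_dvd Nat.card_pos h1.card_dvd)]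

include hM in
/-- Regular classes in the support of the idempotent with nonzero central character. -/
theorem isRegDefect_of_ne_zero {B : Set (IrrCharacter G)} (hB : IsPBlock M B)
    (hBD : IsDefectGroup p M B D) {χ : IrrCharacter G} (hχ : χ ∈ B) {x : G}
    (he : (blockIdemBar M B).coeff x ≠ 0) (hω : centralCharBar M χ x ≠ 0) :
    IsRegDefect p D x := by
  obtain ⟨Q, -, hQ, -, hQs⟩ := exists_isSylowIn_ge (p := p)
    (bot_le : (⊥ : Subgroup G) ≤ Subgroup.centralizer ({x} : Set G)) IsPGroup.of_bot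
  have h1 : SubConj D Q :=
    IsDefectGroup.subConj_of_centralCharBar_ne_zero hM hB hBD hχ hω (defLE_self hQs)
  have h2 : SubConj Q D :=
    IsDefectGroup.defLE_of_coeff_ne_zero hM hB hBD he Q (hQs.isPGroup hQ) hQ
  have hQD : Q ≤ D := by
    obtain ⟨y, hy⟩ := h2
    intro v hv
    have := hDn.conj_mem _ (hy v hv) y⁻¹
    simpa [mul_assoc] using this
  obtain rfl : Q = D := Subgroup.eq_of_le_of_card_ge hQD (Nat.le_of_dvd Nat.card_pos h1.card_dvd)
  exact ⟨fun h => he (coeff_blockIdemBar_eq_zero_of_dvd hM hB h), hQ, hQs⟩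

variable {ι : Type*} [Fintype ι] {x : ι → G} (hx : ∀ i, IsRegDefect p D (x i))
  (hinj : ∀ i j, IsConj (x i) (x j) → i = j)
  (hsurj : ∀ g, IsRegDefect p D g → ∃ i, IsConj (x i) g)

include hM hinj hsurj in
/-- Central characters and idempotents pair to the identity on these classes. -/
theorem sum_centralCharBar_mul_coeff {B B' : Set (IrrCharacter G)} (hB : IsPBlock M B)
    (hB' : IsPBlock M B') (hBD' : IsDefectGroup p M B' D) {χ : IrrCharacter G} (hχ : χ ∈ B)
    [Decidable (χ ∈ B')] (hBD : IsDefectGroup p M B D) :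
    ∑ i, centralCharBar M χ (x i) * (blockIdemBar M B').coeff (x i) =
      if χ ∈ B' then 1 else 0 := by
  classical
  rw [← omegaBar_blockIdemBar hB', omegaBar]
  have hrep : ∀ i, IsConj (Quotient.out (ConjClasses.mk (x i))) (x i) := fun i =>
    ConjClasses.mk_eq_mk_iff_isConj.1 (Quotient.out_eq (ConjClasses.mk (x i)))
  have hclass : ∀ i, centralCharBar M χ (x i) * (blockIdemBar M B').coeff (x i) =
      (blockIdemBar M B').coeff (Quotient.out (ConjClasses.mk (x i))) *
        centralCharBar M χ (Quotient.out (ConjClasses.mk (x i))) := fun i => by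
    rw [mul_comm]
    congr 1
    · obtain ⟨y, hy⟩ := isConj_iff.1 (hrep i)
      conv_lhs => rw [← hy]
      exact isCentralElt_blockIdemBar hB' _ y
    · rw [centralCharBar_eq_iff, centralChar_eq_of_isConj (Char.IsIrr.isClassFunction χ.2) (hrep i),
        sub_self]
      exact ⟨0, 1, M.zero_mem, one_notMem, by simp⟩
  simp only [hclass]
  rw [← Finset.sum_image (s := Finset.univ) (g := fun i => ConjClasses.mk (x i))
    (f := fun C => (blockIdemBar M B').coeff (Quotient.out C) *
      centralCharBar M χ (Quotient.out C))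
    fun i _ j _ h => hinj i j (ConjClasses.mk_eq_mk_iff_isConj.1 h)]
  refine (Finset.sum_subset (Finset.subset_univ _) fun C _ hC => ?_).trans
    (Finset.sum_congr (by ext; exact iff_of_true (@Finset.mem_univ _ (_) _) (@Finset.mem_univ _ (_) _)) fun _ _ => rfl)
  by_contra hne
  have hreg : IsRegDefect p D (Quotient.out C) := by
    have hω := right_ne_zero_of_mul hne
    have he := left_ne_zero_of_mul hne
    by_cases hmem : χ ∈ B'
    · exact isRegDefect_of_ne_zero hM D hB' hBD' hmem he hω
    · obtain ⟨Q, -, hQ, -, hQs⟩ := exists_isSylowIn_ge (p := p)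
        (bot_le : (⊥ : Subgroup G) ≤ Subgroup.centralizer ({Quotient.out C} : Set G))
        IsPGroup.of_bot
      have h1 := IsDefectGroup.subConj_of_centralCharBar_ne_zero hM hB hBD hχ hω (defLE_self hQs)
      have h2 : SubConj Q D :=
        IsDefectGroup.defLE_of_coeff_ne_zero hM hB' hBD' he Q (hQs.isPGroup hQ) hQ
      obtain ⟨y, hy⟩ := h2
      have hQD : Q ≤ D := fun v hv => by
        have := hDn.conj_mem _ (hy v hv) y⁻¹
        simpa [mul_assoc] using this
      obtain rfl : Q = D :=
        Subgroup.eq_of_le_of_card_ge hQD (Nat.le_of_dvd Nat.card_pos h1.card_dvd)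
      exact ⟨fun h => he (coeff_blockIdemBar_eq_zero_of_dvd hM hB' h), hQ, hQs⟩
  obtain ⟨i, hi⟩ := hsurj _ hreg
  refine hC (Finset.mem_image.2 ⟨i, Finset.mem_univ _, ?_⟩)
  rw [ConjClasses.mk_eq_mk_iff_isConj.2 hi]
  exact Quotient.out_eq C

include hM hD hx hinj hsurj in
/-- **The number of blocks with normal defect group `D`** is the rank of the pair matrix. -/
theorem card_blocks_eq_rank [DecidableEq ι] (S : Sylow p G) :
    Nat.card {B : Set (IrrCharacter G) // IsPBlock M B ∧ IsDefectGroup p M B D} =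
      (Matrix.of fun i j : ι => ((Nat.card {yz : G × G // IsConj (x i) yz.1 ∧ IsConj (x j) yz.2 ∧
          yz.2 * yz.1⁻¹ ∈ (S : Subgroup G)} /
        p ^ ((Nat.card G).factorization p - (Nat.card D).factorization p) : ℕ) : ZMod p)).rank := by
  classical
  have := Fintype.ofFinite (IrrCharacter G)
  have := charP_residueField hM
  set a := (Nat.card G).factorization p with ha
  set d := (Nat.card D).factorization p with hd
  set q := p ^ (a - d) with hq
  have hp := (Fact.out : p.Prime)
  have hcardD : Nat.card D = p ^ d := by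
    obtain ⟨k, hk⟩ := hD.exists_card_eq
    rw [hd, hk, Nat.factorization_pow_self hp]
  have hda : d ≤ a :=
    (Nat.factorization_le_iff_dvd Nat.card_pos.ne' Nat.card_pos.ne').2 D.card_subgroup_dvd_card p
  have hindex : D.index.factorization p = a - d := by
    have := factorization_card_eq_index_add (p := p) (M := M) hM D
    omega
  have hcardS : Nat.card (S : Subgroup G) = p ^ a := S.card_eq_multiplicity
  set h := Nat.card G / p ^ a with hh
  have hhG : Nat.card G = p ^ a * h := (Nat.ordProj_mul_ordCompl_eq_self (Nat.card G) p).symm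
  have hhp : ¬ p ∣ h := Nat.not_dvd_ordCompl hp Nat.card_pos.ne'
  have hh0 : (h : Res M) ≠ 0 := fun h0 => hhp ((CharP.cast_eq_zero_iff (Res M) p h).1 h0)
  have hDS : D ≤ (S : Subgroup G) := by
    have h1 := S.3 (IsPGroup.to_sup_of_normal_left hD S.2) le_sup_right
    exact h1 ▸ le_sup_left
  -- multiplicities of the trivial character
  have hm : ∀ χ : IrrCharacter G, ∃ m : ℕ,
      ∑ s : (S : Subgroup G), (χ : G → ℂ) s = (p ^ a : ℕ) * (m : ℂ) := fun χ => by
    obtain ⟨k, hk⟩ := Char.IsChar.classInner_eq_natCast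
      (Char.IsChar.comp (S : Subgroup G).subtype (Char.IsIrr.isCharacter χ.2))
      (Char.isCharacter_one (G := (S : Subgroup G)))
    refine ⟨k, ?_⟩
    rw [← hk, classInner, ← hcardS]
    simp only [map_one, mul_one, Subgroup.coe_subtype]
    rw [mul_inv_cancel_left₀ (Nat.cast_ne_zero.2 Nat.card_pos.ne')]
  choose m hm using hm
  have htriv : ∀ χ : IrrCharacter G, m χ ≠ 0 → ∀ v ∈ D, (χ : G → ℂ) v = (χ : G → ℂ) 1 := by
    intro χ hne v hv
    refine apply_eq_of_sum_normal_ne_zero D χ (fun h0 => hne ?_) hv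
    have h1 : (Nat.card D : ℂ) * ∑ s : (S : Subgroup G), (χ : G → ℂ) s = 0 := by
      calc (Nat.card D : ℂ) * ∑ s : (S : Subgroup G), (χ : G → ℂ) s
          = ∑ w : D, ∑ s : (S : Subgroup G), (χ : G → ℂ) ((s : G) * w) := by
            rw [Nat.card_eq_fintype_card, ← Finset.card_univ, ← nsmul_eq_mul, ← Finset.sum_const]
            refine Finset.sum_congr rfl fun w _ => ?_
            exact (Fintype.sum_equiv (Equiv.mulRight (⟨w, hDS w.2⟩ : (S : Subgroup G))) _ _
              fun s => rfl).symm
        _ = 0 := by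
            rw [Finset.sum_comm]
            refine Finset.sum_eq_zero fun s _ => ?_
            rw [sum_normal_apply_mul, h0, mul_zero, zero_div]
    rw [hm χ] at h1
    have := (mul_eq_zero.1 h1).resolve_left (Nat.cast_ne_zero.2 Nat.card_pos.ne')
    exact Nat.cast_eq_zero.1 ((mul_eq_zero.1 this).resolve_left
      (Nat.cast_ne_zero.2 (pow_ne_zero _ hp.ne_zero)))
  let X : Finset (IrrCharacter G) := Finset.univ.filter fun χ =>
    (∀ v ∈ D, (χ : G → ℂ) v = (χ : G → ℂ) 1) ∧
      (charDegree (χ : G → ℂ)).factorization p = a - d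
  let f : IrrCharacter G → ℕ := fun χ => charDegree (χ : G → ℂ) / q
  have hf : ∀ χ ∈ X, charDegree (χ : G → ℂ) = q * f χ := fun χ hχ => by
    rw [Nat.mul_div_cancel']
    rw [hq, ← (Finset.mem_filter.1 hχ).2.2]
    exact Nat.ordProj_dvd _ _
  have hmX : ∀ χ ∈ X, m χ = f χ := by
    intro χ hχ
    obtain ⟨-, h1, h2⟩ := Finset.mem_filter.1 hχ
    have hS : ∑ s : (S : Subgroup G), (χ : G → ℂ) s = (Nat.card D : ℂ) * (χ : G → ℂ) 1 := by
      rw [← sum_normal_eq_of_trivial D h1]
      refine Eq.trans ?_ (Finset.sum_map (Finset.univ : Finset D)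
        ⟨Subgroup.inclusion hDS, Subgroup.inclusion_injective hDS⟩
        (fun s : (S : Subgroup G) => (χ : G → ℂ) s))
      refine (Finset.sum_subset (Finset.subset_univ _) fun s _ hs => ?_).symm
      refine apply_eq_zero_of_quotient_defect_zero D hM h1 (h2.trans hindex.symm) ?_ fun hsD =>
        hs (Finset.mem_map.2 ⟨⟨s, hsD⟩, Finset.mem_univ _, rfl⟩)
      obtain ⟨k, hk⟩ := IsPGroup.iff_orderOf.1 S.2 s
      exact ⟨k, by rw [Subgroup.orderOf_coe]; exact hk⟩
    rw [hm, hcardD, apply_one_eq_charDegree, hf χ hχ] at hS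
    have h3 : p ^ a * m χ = p ^ d * (q * f χ) := by exact_mod_cast hS
    rw [hq, ← mul_assoc, ← pow_add, Nat.add_sub_cancel' hda] at h3
    exact Nat.eq_of_mul_eq_mul_left (pow_pos hp.pos _) h3
  -- the matrix modulo the ideal
  set N : ι → ι → ℕ := fun i j => Nat.card {yz : G × G // IsConj (x i) yz.1 ∧ IsConj (x j) yz.2 ∧
    yz.2 * yz.1⁻¹ ∈ (S : Subgroup G)} with hN
  have hu : ∀ i, ∃ u v : ℕ, (Subgroup.centralizer ({x i} : Set G)).index = q * u ∧
      Nat.card (Subgroup.centralizer ({x i} : Set G)) = p ^ d * v ∧ u * v = h := fun i => by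
    have hi := IsRegDefect.index_factorization hM D (hx i)
    have h1 := (Nat.ordProj_mul_ordCompl_eq_self
      (Subgroup.centralizer ({x i} : Set G)).index p).symm
    have h2 := (Nat.ordProj_mul_ordCompl_eq_self
      (Nat.card (Subgroup.centralizer ({x i} : Set G))) p).symm
    rw [hi] at h1
    rw [← (isSylowIn_iff_card (hx i).2.1).1 (hx i).2.2, hcardD] at h2
    refine ⟨_, _, h1, h2, Nat.eq_of_mul_eq_mul_left (pow_pos hp.pos a) ?_⟩
    have h3 := (Subgroup.centralizer ({x i} : Set G)).index_mul_card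
    obtain ⟨u₀, hu₀⟩ : ∃ n, n = (Subgroup.centralizer ({x i} : Set G)).index /
        p ^ (a - d) := ⟨_, rfl⟩
    obtain ⟨v₀, hv₀⟩ : ∃ n, n = Nat.card (Subgroup.centralizer ({x i} : Set G)) / p ^ d := ⟨_, rfl⟩
    rw [← hu₀] at h1 ⊢
    rw [← hv₀] at h2 ⊢
    rw [← hhG, ← h3, h1, h2, mul_mul_mul_comm, ← pow_add, Nat.sub_add_cancel hda]
  choose u v hidx hcent huv using hu
  have hexact : ∀ i j, (h : ℂ) * N i j = (q : ℂ) * ∑ χ : IrrCharacter G,
      (m χ : ℂ) * ((u i : ℂ) * (χ : G → ℂ) (x i)⁻¹) * centralChar (χ : G → ℂ) (x j) := by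
    intro i j
    have h0 := centralizer_mul_card_pairs (S : Subgroup G) (x i) (x j)
    have hGi : (Nat.card G : ℂ) = ((Subgroup.centralizer ({x j} : Set G)).index : ℂ) *
        Nat.card (Subgroup.centralizer ({x j} : Set G)) := by
      rw [← Nat.cast_mul, Subgroup.index_mul_card]
    have hpd : ((p ^ d : ℕ) : ℂ) ≠ 0 := Nat.cast_ne_zero.2 (pow_ne_zero _ hp.ne_zero)
    have hCj : (Nat.card (Subgroup.centralizer ({x j} : Set G)) : ℂ) ≠ 0 :=
      Nat.cast_ne_zero.2 Nat.card_pos.ne'
    refine mul_left_cancel₀ (mul_ne_zero hpd hCj) ?_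
    rw [← huv i, Nat.cast_mul]
    calc ((p ^ d : ℕ) : ℂ) * Nat.card (Subgroup.centralizer ({x j} : Set G)) *
          ((u i : ℂ) * v i * N i j)
        = (u i : ℂ) * (((p ^ d * v i : ℕ) : ℂ) *
            Nat.card (Subgroup.centralizer ({x j} : Set G)) * N i j) := by push_cast; ring
      _ = _ := by
        rw [← hcent, hN, h0, hGi]
        simp only [hm, map_mul, map_natCast, Finset.mul_sum, centralChar]
        refine Finset.sum_congr rfl fun χ _ => ?_
        rw [show p ^ a = p ^ d * q by rw [hq, ← pow_add, Nat.add_sub_cancel' hda]]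
        push_cast
        ring
  have hval : ∀ (χ : IrrCharacter G) (g : G), (χ : G → ℂ) g ∈ localRing M := fun χ g =>
    mem_localRing_of_isIntegral (Char.IsChar.isIntegral (Char.IsIrr.isCharacter χ.2) g)
  have hdvd : ∀ i j, q ∣ N i j := by
    intro i j
    refine ((Nat.Prime.coprime_iff_not_dvd hp).2 hhp).pow_left _ |>.dvd_of_dvd_mul_left
      (CharIntegral.dvd_of_isIntegral_div (pow_ne_zero _ hp.ne_zero) ?_)
    rw [Nat.cast_mul, hexact i j, hq, mul_div_cancel_left₀ _
      (Nat.cast_ne_zero.2 (pow_ne_zero _ hp.ne_zero) : ((p ^ (a - d) : ℕ) : ℂ) ≠ 0)]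
    refine IsIntegral.sum _ fun χ _ => ?_
    exact (((isIntegral_algebraMap (R := ℤ) (A := ℂ) (x := (m χ : ℤ))).mul
      ((isIntegral_algebraMap (R := ℤ) (A := ℂ) (x := (u i : ℤ))).mul
        (Char.IsChar.isIntegral (Char.IsIrr.isCharacter χ.2) _))).mul
      (isIntegral_centralChar χ _))
  have hred : ∀ i j, (h : Res M) * ((N i j / q : ℕ) : Res M) =
      ∑ χ ∈ X, (f χ : Res M) ^ 2 * centralCharBar M χ (x i)⁻¹ * centralCharBar M χ (x j) := by
    intro i j
    obtain ⟨E, hE⟩ := hdvd i j
    rw [hE, Nat.mul_div_cancel_left _ (pow_pos hp.pos _)]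
    have h1 : (h : localRing M) * (E : localRing M) = ∑ χ : IrrCharacter G,
        (m χ : localRing M) * ((u i : localRing M) * ⟨_, hval χ (x i)⁻¹⟩) *
          centralCharO M χ (x j) := by
      refine Subtype.ext ?_
      have h2 := hexact i j
      rw [hE, Nat.cast_mul, mul_left_comm] at h2
      have h3 := mul_left_cancel₀ (Nat.cast_ne_zero.2 (pow_ne_zero _ hp.ne_zero) : (q : ℂ) ≠ 0) h2
      simpa [AddSubmonoidClass.coe_finsetSum, centralCharO] using h3
    have h4 := congrArg (resHom M) h1
    simp only [map_mul, map_natCast, map_sum] at h4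
    rw [h4]
    refine Eq.trans (Finset.sum_subset (Finset.subset_univ X) fun χ _ hχ => ?_).symm
      (Finset.sum_congr rfl fun χ hχ => ?_)
    · rcases eq_or_ne (m χ) 0 with h0 | h0
      · simp [h0]
      have h5 := htriv χ h0
      have h6 : (charDegree (χ : G → ℂ)).factorization p ≤ a - d := hindex ▸
        (Nat.factorization_le_iff_dvd (charDegree_pos χ).ne' Subgroup.index_ne_zero_of_finite).2
          (charDegree_dvd_index D h5) p
      have h7 : centralCharBar M χ (x j) = 0 := centralCharBar_eq_zero_of_lt hM χ (by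
        rw [IsRegDefect.index_factorization hM D (hx j)]
        exact lt_of_le_of_ne h6 fun he => hχ (Finset.mem_filter.2 ⟨Finset.mem_univ _, h5, he⟩))
      exact mul_eq_zero_of_right _ h7
    · have h8 : ((u i : localRing M) * ⟨_, hval χ (x i)⁻¹⟩) =
          (f χ : localRing M) * centralCharO M χ (x i)⁻¹ := Subtype.ext (by
        have hq0 : (q : ℂ) ≠ 0 := Nat.cast_ne_zero.2 (pow_ne_zero _ hp.ne_zero)
        have hcinv : Subgroup.centralizer ({(x i)⁻¹} : Set G) =
            Subgroup.centralizer ({x i} : Set G) := by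
          ext y
          rw [mem_centralizer_singleton, mem_centralizer_singleton, Commute.inv_right_iff]
        have hf0 : (f χ : ℂ) ≠ 0 := by
          have := (charDegree_pos χ).ne'
          rw [hf χ hχ] at this
          exact Nat.cast_ne_zero.2 (right_ne_zero_of_mul this)
        simp only [Subring.coe_mul, SubringClass.coe_natCast, centralCharO, centralChar, hcinv,
          hidx i, apply_one_eq_charDegree, hf χ hχ, Nat.cast_mul]
        field_simp)
      have h9 := congrArg (resHom M) h8
      simp only [map_mul, map_natCast] at h9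
      rw [h9, hmX χ hχ, centralCharBar, centralCharBar]
      ring
  -- factorization over the blocks
  let Bl := {B : Set (IrrCharacter G) // IsPBlock M B ∧ IsDefectGroup p M B D}
  have := Fintype.ofFinite Bl
  choose rep hrep using fun B : Bl => IsPBlock.nonempty B.2.1
  let c : Bl → Res M := fun B => ∑ χ ∈ X, if χ ∈ B.1 then (f χ : Res M) ^ 2 else 0
  let V : Matrix Bl ι (Res M) := Matrix.of fun B j => centralCharBar M (rep B) (x j)
  let W : Matrix Bl ι (Res M) := Matrix.of fun B j => centralCharBar M (rep B) (x j)⁻¹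
  have hblock : ∀ (B : Bl) {χ : IrrCharacter G}, χ ∈ B.1 → ∀ g,
      centralCharBar M χ g = centralCharBar M (rep B) g := fun B χ hχ g =>
    sameBlock_iff.1 (IsPBlock.sameBlock B.2.1 hχ (hrep B)) g
  have hfac : ∀ i j, (h : Res M) * ((N i j / q : ℕ) : Res M) =
      (W.transpose * Matrix.diagonal c * V) i j := by
    intro i j
    rw [hred, Matrix.mul_apply]
    simp only [Matrix.mul_diagonal, Matrix.transpose_apply, W, V, Matrix.of_apply, c,
      Finset.sum_mul, Finset.mul_sum]
    rw [Finset.sum_comm]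
    refine Finset.sum_congr rfl fun χ _ => ?_
    by_cases hχ : IsDefectGroup p M (blockOf M (χ : G → ℂ)) D
    · let B₀ : Bl := ⟨_, isPBlock_blockOf χ, hχ⟩
      rw [Finset.sum_eq_single B₀ (fun B _ hne => by
        rw [if_neg fun hm' => hne (Subtype.ext (IsPBlock.eq_blockOf B.2.1 hm')), mul_zero, zero_mul])
        fun h' => absurd (Finset.mem_univ _) h',
        if_pos (show χ ∈ B₀.1 from mem_blockOf_self χ),
        hblock B₀ (mem_blockOf_self χ), hblock B₀ (mem_blockOf_self χ)]
      ring
    · have h0 : centralCharBar M χ (x j) = 0 := by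
        by_contra h0
        exact hχ (isDefectGroup_of_centralCharBar_ne_zero hM D hD (isPBlock_blockOf χ)
          (mem_blockOf_self χ) (hx j) h0)
      rw [h0, mul_zero, Finset.sum_eq_zero fun B _ => ?_]
      rw [if_neg fun hm' => hχ (IsPBlock.eq_blockOf B.2.1 hm' ▸ B.2.2), mul_zero, zero_mul]
  have hc : ∀ B : Bl, c B ≠ 0 := by
    intro B hc0
    obtain ⟨y, hy, hle, hs⟩ := isDefectGroup_iff.1 B.2.2
    have hyreg : IsRegDefect p D y :=
      ⟨IsDefectClass.not_dvd_orderOf hM B.2.1 hy, hle, hs⟩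
    have hBX : ∀ χ ∈ B.1, χ ∈ X ↔ ∀ v ∈ D, (χ : G → ℂ) v = (χ : G → ℂ) 1 := by
      intro χ hχ
      simp only [X, Finset.mem_filter, Finset.mem_univ, true_and]
      refine ⟨And.left, fun h5 => ⟨h5, le_antisymm (hindex ▸ (Nat.factorization_le_iff_dvd
        (charDegree_pos χ).ne' Subgroup.index_ne_zero_of_finite).2 (charDegree_dvd_index D h5) p) ?_⟩⟩
      rw [← IsRegDefect.index_factorization hM D hyreg]
      exact IsDefectClass.index_le hM hy hχ
    obtain ⟨uy, huy⟩ : q ∣ (Subgroup.centralizer ({y} : Set G)).index := by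
      rw [hq, ← IsRegDefect.index_factorization hM D hyreg]
      exact Nat.ordProj_dvd _ _
    have hyC : ∀ w : D, Commute (w : G) y := fun w => mem_centralizer_singleton.1 (hle w.2)
    have hsum : blockCoeff B.1 y = ∑ w : D, blockCoeff B.1 (y * w) := by
      rw [Finset.sum_eq_single (1 : D) (fun w _ hw => blockCoeff_eq_zero_of_dvd hM B.2.1 ?_)
        fun h' => absurd (Finset.mem_univ _) h']
      · simp
      · obtain ⟨k, hk⟩ := IsPGroup.iff_orderOf.1 hD w
        rw [← Subgroup.orderOf_coe] at hk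
        rw [(hyC w).symm.orderOf_mul_eq_mul_orderOf_of_coprime]
        · rcases Nat.eq_zero_or_pos k with rfl | hk0
          · exact absurd (Subtype.ext (orderOf_eq_one_iff.1 (by simpa using hk))) hw
          · exact Dvd.dvd.mul_left (hk ▸ dvd_pow_self p hk0.ne') _
        · rw [hk]
          exact (((Nat.Prime.coprime_iff_not_dvd hp).2
            (IsDefectClass.not_dvd_orderOf hM B.2.1 hy)).pow_left k).symm
    have hfull : (h : ℂ) * uy * blockCoeff B.1 y = ∑ χ ∈ X,
        if χ ∈ B.1 then (f χ : ℂ) ^ 2 * centralChar (χ : G → ℂ) y⁻¹ else 0 := by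
      rw [hsum]
      simp only [blockCoeff_eq_sum, Finset.mul_sum]
      rw [Finset.sum_comm, ← Finset.sum_filter]
      refine (Finset.sum_subset_zero_on_sdiff (fun χ hχ => ?_) (fun χ hχ => ?_) fun χ hχ => ?_).symm
      · simp only [Finset.mem_filter] at hχ
        simp [hχ.2]
      · simp only [Finset.mem_sdiff, Finset.mem_filter, Finset.mem_univ, true_and] at hχ
        simp only [Char.IsIrr.map_inv χ.2]
        rw [← Finset.mul_sum, ← Finset.mul_sum, ← Finset.mul_sum, ← map_sum, sum_normal_apply_mul]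
        rw [show ∑ w : D, (χ : G → ℂ) w = 0 from ?_, mul_zero, zero_div, map_zero, mul_zero,
          mul_zero, mul_zero]
        by_contra h'
        exact hχ.2 ⟨(hBX χ hχ.1).2 fun v hv => apply_eq_of_sum_normal_ne_zero D χ h' hv, hχ.1⟩
      · simp only [Finset.mem_filter] at hχ
        have h5 := (hBX χ hχ.2).1 hχ.1
        simp only [Char.IsIrr.map_inv χ.2 (y * _)]
        rw [← Finset.mul_sum, ← Finset.mul_sum, ← Finset.mul_sum, ← map_sum, sum_normal_apply_mul,
          sum_normal_eq_of_trivial D h5, mul_div_assoc,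
          mul_div_assoc, div_self (Char.IsIrr.apply_one_ne_zero χ.2), mul_one, map_mul, map_natCast,
          ← Char.IsIrr.map_inv χ.2, centralChar]
        have hcinv : Subgroup.centralizer ({y⁻¹} : Set G) = Subgroup.centralizer ({y} : Set G) := by
          ext z
          rw [mem_centralizer_singleton, mem_centralizer_singleton, Commute.inv_right_iff]
        have hf0 : (f χ : ℂ) ≠ 0 := by
          have := (charDegree_pos χ).ne'
          rw [hf χ hχ.1] at this
          exact Nat.cast_ne_zero.2 (right_ne_zero_of_mul this)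
        have hq0 : (q : ℂ) ≠ 0 := Nat.cast_ne_zero.2 (pow_ne_zero _ hp.ne_zero)
        have hG : (Nat.card G : ℂ) = (q : ℂ) * Nat.card D * h := by
          rw [← Nat.cast_mul, ← Nat.cast_mul, hcardD, hq, ← pow_add, Nat.sub_add_cancel hda, ← hhG]
        have hD0 : (Nat.card D : ℂ) ≠ 0 := Nat.cast_ne_zero.2 Nat.card_pos.ne'
        have hh0' : (h : ℂ) ≠ 0 := Nat.cast_ne_zero.2 fun e => hhp (e ▸ dvd_zero p)
        rw [hcinv, huy, hG, apply_one_eq_charDegree, hf χ hχ.1]
        push_cast
        field_simp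
    have h1 : (h : localRing M) * (uy : localRing M) * ⟨_, blockCoeff_mem B.2.1 y⟩ =
        ∑ χ ∈ X, if χ ∈ B.1 then (f χ : localRing M) ^ 2 * centralCharO M χ y⁻¹ else 0 := by
      refine Subtype.ext ?_
      rw [AddSubmonoidClass.coe_finsetSum]
      simp only [Subring.coe_mul, SubringClass.coe_natCast, hfull, apply_ite Subtype.val,
        SubmonoidClass.coe_pow, ZeroMemClass.coe_zero, centralCharO]
    have h2 := congrArg (resHom M) h1
    simp only [map_mul, map_natCast, map_sum, apply_ite (resHom M), map_pow, map_zero] at h2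
    have h3 : ∀ χ ∈ X, (if χ ∈ B.1 then (f χ : Res M) ^ 2 * resHom M (centralCharO M χ y⁻¹) else 0) =
        (if χ ∈ B.1 then (f χ : Res M) ^ 2 else 0) * centralCharBar M (rep B) y⁻¹ := fun χ _ => by
      split_ifs with hχ
      · rw [← hblock B hχ]; rfl
      · rw [zero_mul]
    rw [Finset.sum_congr rfl h3, ← Finset.sum_mul,
      show (∑ χ ∈ X, if χ ∈ B.1 then (f χ : Res M) ^ 2 else 0) = c B from rfl, hc0, zero_mul] at h2
    refine mul_ne_zero (mul_ne_zero hh0 ?_) ?_ h2
    · intro h0
      obtain ⟨k, hk⟩ := (CharP.cast_eq_zero_iff (Res M) p uy).1 h0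
      have hp' : p ^ (a - d + 1) ∣ (Subgroup.centralizer ({y} : Set G)).index :=
        ⟨k, by rw [huy, hk, hq, pow_succ, mul_assoc]⟩
      have := (Nat.Prime.pow_dvd_iff_le_factorization hp Subgroup.index_ne_zero_of_finite).1 hp'
      rw [IsRegDefect.index_factorization hM D hyreg] at this
      omega
    · exact fun h0 => IsDefectClass.coeff_ne_zero B.2.1 hy (by
        rw [blockIdemBar, coeff_red, blockIdemO, coeff_ofFun, dif_pos (blockCoeff_mem B.2.1 y)]
        exact h0)
  -- the rank
  let A : Matrix ι ι (ZMod p) := Matrix.of fun i j => ((N i j / q : ℕ) : ZMod p)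
  let A' : Matrix ι ι (Res M) := W.transpose * Matrix.diagonal c * V
  let φ : ZMod p →+* Res M := ZMod.castHom dvd_rfl (Res M)
  have hA : A' = (h : Res M) • A.map φ := by
    ext i j
    simp only [Matrix.smul_apply, Matrix.map_apply, A, Matrix.of_apply, map_natCast, smul_eq_mul]
    exact (hfac i j).symm
  have hrank : A'.rank = A.rank := by
    rw [hA, Matrix.rank_smul_of_mem_nonZeroDivisors _ (mem_nonZeroDivisors_of_ne_zero hh0)]
    exact rank_map_ringHom φ A
  show Nat.card Bl = A.rank
  rw [← hrank, Nat.card_eq_fintype_card]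
  refine le_antisymm ?_ ?_
  · let U : Matrix ι Bl (Res M) := Matrix.of fun j B => (blockIdemBar M B.1).coeff (x j)
    let U' : Matrix ι Bl (Res M) := Matrix.of fun j B => (blockIdemBar M B.1).coeff (x j)⁻¹
    have hVU : V * U = 1 := by
      ext B B'
      simp only [Matrix.mul_apply, V, U, Matrix.of_apply]
      rw [sum_centralCharBar_mul_coeff hM D hinj hsurj B.2.1 B'.2.1 B'.2.2 (hrep B) B.2.2,
        Matrix.one_apply]
      exact if_congr ⟨fun h' => Subtype.ext (IsPBlock.eq_of_mem B.2.1 B'.2.1 (hrep B) h'),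
        fun h' => h' ▸ hrep B⟩ rfl rfl
    have hWU : W * U' = 1 := by
      ext B B'
      simp only [Matrix.mul_apply, W, U', Matrix.of_apply]
      rw [sum_centralCharBar_mul_coeff hM D (x := fun j => (x j)⁻¹)
        (fun i j hij => hinj i j (by simpa using isConj_inv_inv hij))
        (fun g hg => (hsurj _ hg.inv).imp fun i hi => by simpa using isConj_inv_inv hi)
        B.2.1 B'.2.1 B'.2.2 (hrep B) B.2.2, Matrix.one_apply]
      exact if_congr ⟨fun h' => Subtype.ext (IsPBlock.eq_of_mem B.2.1 B'.2.1 (hrep B) h'),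
        fun h' => h' ▸ hrep B⟩ rfl rfl
    have hWU' : U'.transpose * W.transpose = 1 := by
      rw [← Matrix.transpose_mul, hWU, Matrix.transpose_one]
    have hdiag : U'.transpose * A' * U = Matrix.diagonal c := by
      rw [show U'.transpose * A' * U =
        (U'.transpose * W.transpose) * Matrix.diagonal c * (V * U) by simp only [A', Matrix.mul_assoc],
        hWU', hVU, Matrix.one_mul, Matrix.mul_one]
    calc Fintype.card Bl = (Matrix.diagonal c).rank := by
          rw [Matrix.rank_diagonal]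
          exact (Fintype.card_congr (Equiv.subtypeUnivEquiv hc)).symm
      _ ≤ A'.rank := by
          rw [← hdiag]
          exact (Matrix.rank_mul_le_left _ _).trans (Matrix.rank_mul_le_right _ _)
  · exact (Matrix.rank_mul_le_right _ _).trans (Matrix.rank_le_card_height V)

end Main

end CfsgLib.Blocks
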