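import Cfsg.Agent.Lib.Blocks.Covering
import Cfsg.Agent.Lib.Blocks.Kernel
import Cfsg.Agent.Lib.Blocks.KleinOrder
import Cfsg.Agent.Lib.Blocks.Brauer.Degrees
import Cfsg.Agent.Lib.Char.GaloisFixedExtension

/-!
# Fixed characters of odd degree in the principal block of the 2-residual
-/

set_option autoImplicit false

namespace CfsgLib.OddFixed

open Cfsg CfsgLib.Char CfsgLib.Blocks
open scoped Classical ComplexConjugate

universe u

variable {G : Type u} [Group G] [Fintype G]

/-- A permutation of `2`-power order has as many fixed points as points, modulo two. -/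
theorem card_fixed_modEq {α : Type*} [Finite α] (π : Equiv.Perm α) {j : ℕ} (hπ : π ^ 2 ^ j = 1) :
    Nat.card α ≡ Nat.card {x : α // π x = x} [MOD 2] := by
  have : Fact (Nat.Prime 2) := ⟨Nat.prime_two⟩
  have hp : IsPGroup 2 (Subgroup.zpowers π) := by
    intro z
    obtain ⟨i, hi⟩ := z.2
    refine ⟨j, Subtype.ext ?_⟩
    rw [SubgroupClass.coe_pow, ← hi]
    show (π ^ i) ^ 2 ^ j = 1
    rw [← zpow_natCast, ← zpow_mul, mul_comm, zpow_mul, zpow_natCast, hπ, one_zpow]
  have h := hp.card_modEq_card_fixedPoints (α := α)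
  rwa [show Nat.card (MulAction.fixedPoints (Subgroup.zpowers π) α) = Nat.card {x : α // π x = x} from
    Nat.card_congr (Equiv.subtypeEquivRight fun x => ⟨fun hx => hx ⟨π, Subgroup.mem_zpowers π⟩,
      fun hx g => by
        obtain ⟨i, hi⟩ := g.2
        show (g : Equiv.Perm α) x = x
        rw [← hi]
        exact Equiv.Perm.zpow_apply_eq_self_of_apply_eq_self hx i⟩)] at h

variable {M : Ideal AlgInt} [M.IsPrime]

/-- A character and an irreducible restriction of it lie in principal blocks together when the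
index is a prime power. -/
theorem mem_principalBlock_iff_restrict {p : ℕ} (hM : IsPModular p M) (N : Subgroup G) [N.Normal]
    [Fintype N] {a : ℕ} (ha : N.index = p ^ a) {χ : IrrCharacter G} {θ : IrrCharacter N}
    (h : ∀ n : N, (χ : G → ℂ) n = (θ : N → ℂ) n) :
    χ ∈ principalBlock M G ↔ θ ∈ principalBlock M N := by
  have hne : ∀ (χ : IrrCharacter G) (θ : IrrCharacter N), (∀ n : N, (χ : G → ℂ) n = (θ : N → ℂ) n) →
      classInner (fun n : N => (χ : G → ℂ) n) (θ : N → ℂ) ≠ 0 := fun χ θ h => by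
    rw [show (fun n : N => (χ : G → ℂ) n) = θ from funext h, classInner_irr_self]
    exact one_ne_zero
  have h1 := hne (trivChar G) (trivChar N) fun n => rfl
  constructor
  · intro hχ
    obtain ⟨g, hg⟩ := exists_conj_of_sameBlock N
      (show SameBlock M (trivChar G : G → ℂ) (χ : G → ℂ) from hχ) h1 (hne χ θ h)
    rwa [show Blocks.conjIrr N g (trivChar N) = trivChar N from Subtype.ext (funext fun n => rfl)] at hg
  · intro hθ
    exact sameBlock_of_constituent N hM ha h1 (hne χ θ h) hθ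

/-- The Galois twist by a power prime to the group order keeps the principal block. -/
theorem pow_mem_principalBlock {k : ℕ} (hk : k.Coprime (Nat.card G)) {χ : IrrCharacter G}
    (hχ : χ ∈ principalBlock M G) :
    (⟨_, isIrrCharacter_pow χ.2 hk⟩ : IrrCharacter G) ∈ principalBlock M G := by
  intro g
  have hc : Subgroup.centralizer ({g ^ k} : Set G) = Subgroup.centralizer ({g} : Set G) := by
    have h1 : ∀ x, x ∈ Subgroup.centralizer ({g ^ k} : Set G) ↔ x ∈ Subgroup.centralizer ({g} : Set G) :=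
      fun x => by
        rw [Subgroup.mem_centralizer_singleton_iff, Subgroup.mem_centralizer_singleton_iff]
        refine ⟨fun h => ?_, fun h => (show Commute x g from h).pow_right k⟩
        obtain ⟨m, hm⟩ := exists_pow_eq_self_of_coprime
          (hk.coprime_dvd_right (orderOf_dvd_natCard g) : k.Coprime (orderOf g))
        exact hm ▸ (show Commute x (g ^ k) from h).pow_right m
    exact Subgroup.ext h1
  have h := hχ (g ^ k)
  unfold centralChar at h ⊢
  rw [hc] at h
  simpa using h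

/-- The fixed linear characters of odd determinantal order pair off under conjugation. -/
theorem exists_fixed_nonlinear {N : Subgroup G} [hN : N.Normal] [Fintype N] (P : Sylow 2 G)
    (hM : IsPModular 2 M) (hNres : pResidual 2 (N : Subgroup G) = ⊤) (heven : 2 ∣ Nat.card N)
    {k : ℕ} (hk : k.Coprime (Nat.card N)) {j : ℕ} (hkj : ∀ n : N, n ^ k ^ 2 ^ j = n) :
    ∃ θ : IrrCharacter N, θ ∈ principalBlock M N ∧ Odd (charDegree (θ : N → ℂ)) ∧
      charDegree (θ : N → ℂ) ≠ 1 ∧
      (∀ x ∈ (P : Subgroup G), ∀ n : N,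
        (θ : N → ℂ) ⟨x * n * x⁻¹, hN.conj_mem n n.2 x⟩ = (θ : N → ℂ) n) ∧
      ∀ n : N, (θ : N → ℂ) (n ^ k) = (θ : N → ℂ) n := by
  have : Fact (Nat.Prime 2) := ⟨Nat.prime_two⟩
  have := Fintype.ofFinite (IrrCharacter N)
  by_contra hcon
  push Not at hcon
  let S := {θ : IrrCharacter N // θ ∈ principalBlock M N ∧ Odd (charDegree (θ : N → ℂ))}
  -- evenly many members of odd degree
  have hS : (2 : ℕ) ∣ Nat.card S := by
    obtain ⟨v, -, hv⟩ := CfsgLib.IBr.exists_sum_sq_eq (p := 2) hM (isPBlock_blockOf (M := M) (trivChar N))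
    have h2 : (2 : ℕ) ∣ 2 ^ ((Nat.card N).factorization 2 +
        minExp 2 (blockOf M ((trivChar N : IrrCharacter N) : N → ℂ))) * v :=
      dvd_mul_of_dvd_left (dvd_pow_self 2 (by
        have := (Nat.prime_two.dvd_iff_one_le_factorization Nat.card_pos.ne').1 heven
        omega)) v
    rw [← hv, ← ZMod.natCast_eq_zero_iff, Nat.cast_sum] at h2
    rw [← ZMod.natCast_eq_zero_iff, Nat.card_eq_fintype_card, Fintype.card_subtype]
    refine Eq.trans ?_ h2
    rw [Finset.card_eq_sum_ones, Nat.cast_sum, Finset.sum_filter, Finset.sum_filter]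
    refine Finset.sum_congr rfl fun θ _ => ?_
    have hb : θ ∈ blockOf M ((trivChar N : IrrCharacter N) : N → ℂ) ↔ θ ∈ principalBlock M N := Iff.rfl
    by_cases hθ : θ ∈ principalBlock M N
    · rw [if_pos (hb.2 hθ)]
      rcases Nat.even_or_odd (charDegree (θ : N → ℂ)) with ⟨m, hm⟩ | ho
      · rw [if_neg fun h => Nat.not_even_iff_odd.2 h.2 ⟨m, hm⟩, hm, Nat.cast_pow, Nat.cast_add,
          CharTwo.add_self_eq_zero, zero_pow two_ne_zero]
      · rw [if_pos ⟨hθ, ho⟩, Nat.cast_one, Nat.cast_pow,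
          (ZMod.natCast_eq_one_iff_odd).2 ho, one_pow]
    · rw [if_neg (hb.not.2 hθ), if_neg fun h => hθ h.1]
  -- the action of the Sylow subgroup
  have hconjmem : ∀ (g : G) (θ : IrrCharacter N), θ ∈ principalBlock M N →
      Blocks.conjIrr N g θ ∈ principalBlock M N := fun g θ hθ => by
    have h := Set.mem_image_of_mem (Blocks.conjIrr N g) (show θ ∈ blockOf M (trivChar N : N → ℂ) from hθ)
    rw [show Blocks.conjIrr N g '' blockOf M (trivChar N : N → ℂ) =
      blockOf M (Blocks.conjIrr N g (trivChar N) : N → ℂ) from image_pullEquiv_blockOf M _ _] at h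
    rwa [show Blocks.conjIrr N g (trivChar N) = trivChar N from Subtype.ext (funext fun n => rfl)] at h
  have hdeg1 : ∀ (e : N ≃* N) (θ : IrrCharacter N),
      charDegree (pullEquiv e θ : N → ℂ) = charDegree (θ : N → ℂ) := fun e θ => by
    unfold charDegree
    rw [pullEquiv_apply, map_one]
  letI act : MulAction (P : Subgroup G) S :=
    { smul := fun g θ => ⟨Blocks.conjIrr N (g : G)⁻¹ θ.1, hconjmem _ _ θ.2.1,
        by rw [show Blocks.conjIrr N (g : G)⁻¹ θ.1 = pullEquiv _ θ.1 from rfl, hdeg1]; exact θ.2.2⟩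
      one_smul := fun θ => Subtype.ext (Subtype.ext (funext fun n => by
        show (Blocks.conjIrr N ((1 : (P : Subgroup G)) : G)⁻¹ θ.1 : N → ℂ) n = _
        rw [Blocks.conjIrr_apply]
        refine congrArg _ (Subtype.ext ?_)
        simp))
      mul_smul := fun g h θ => Subtype.ext (Subtype.ext (funext fun n => by
        show (Blocks.conjIrr N ((g * h : (P : Subgroup G)) : G)⁻¹ θ.1 : N → ℂ) n =
          (Blocks.conjIrr N (g : G)⁻¹ (Blocks.conjIrr N (h : G)⁻¹ θ.1) : N → ℂ) n
        rw [Blocks.conjIrr_apply, Blocks.conjIrr_apply, Blocks.conjIrr_apply]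
        refine congrArg _ (Subtype.ext ?_)
        simp [mul_assoc])) }
  let S₁ := {θ : S // ∀ x ∈ (P : Subgroup G), ∀ n : N,
    (θ.1 : N → ℂ) ⟨x * n * x⁻¹, hN.conj_mem n n.2 x⟩ = (θ.1 : N → ℂ) n}
  have hS₁ : (2 : ℕ) ∣ Nat.card S₁ := by
    have h := P.isPGroup'.card_modEq_card_fixedPoints (α := S)
    rw [Nat.modEq_iff_dvd] at h
    have he : Nat.card (MulAction.fixedPoints (P : Subgroup G) S) = Nat.card S₁ := by
      refine Nat.card_congr (Equiv.subtypeEquivRight fun θ => ⟨fun hf x hx n => ?_, fun hf g => ?_⟩)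
      · have h1 := congrArg (fun t : S => (t.1 : N → ℂ) ⟨x * n * x⁻¹, hN.conj_mem n n.2 x⟩)
          (hf ⟨x, hx⟩)
        refine h1.symm.trans ?_
        show (Blocks.conjIrr N x⁻¹ θ.1 : N → ℂ) _ = _
        rw [Blocks.conjIrr_apply]
        refine congrArg _ (Subtype.ext ?_)
        simp [mul_assoc]
      · refine Subtype.ext (Subtype.ext (funext fun n => ?_))
        exact hf (g : G)⁻¹ (inv_mem g.2) n
    rw [he] at h
    omega
  -- the Galois action
  have hpowdeg : ∀ θ : IrrCharacter N,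
      charDegree (fun n : N => (θ : N → ℂ) (n ^ k)) = charDegree (θ : N → ℂ) := fun θ => by
    unfold charDegree
    show ⌊((θ : N → ℂ) ((1 : N) ^ k)).re⌋₊ = _
    rw [one_pow]
  let σ : S₁ → S₁ := fun θ => ⟨⟨⟨_, isIrrCharacter_pow θ.1.1.2 hk⟩,
      pow_mem_principalBlock hk θ.1.2.1, by rw [hpowdeg]; exact θ.1.2.2⟩, fun x hx n => by
    show (θ.1.1 : N → ℂ) _ = (θ.1.1 : N → ℂ) _
    refine Eq.trans ?_ (θ.2 x hx (n ^ k))
    refine congrArg _ (Subtype.ext ?_)
    simp [conj_pow]⟩
  have hσiter : ∀ (m : ℕ) (θ : S₁) (n : N), ((σ^[m] θ).1.1 : N → ℂ) n = (θ.1.1 : N → ℂ) (n ^ k ^ m) := by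
    intro m
    induction m with
    | zero => simp
    | succ m ih =>
      intro θ n
      rw [Function.iterate_succ_apply']
      show ((σ^[m] θ).1.1 : N → ℂ) (n ^ k) = _
      rw [ih, ← pow_mul, pow_succ' k]
  have hσinj : Function.Injective σ := fun θ θ' h => by
    refine Subtype.ext (Subtype.ext (Subtype.ext (funext fun n => ?_)))
    obtain ⟨m, hm⟩ := exists_pow_eq_self_of_coprime
      (hk.coprime_dvd_right (orderOf_dvd_natCard n) : k.Coprime (orderOf n))
    have h1 := congrArg (fun t : S₁ => (t.1.1 : N → ℂ) (n ^ m)) h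
    change (θ.1.1 : N → ℂ) ((n ^ m) ^ k) = (θ'.1.1 : N → ℂ) ((n ^ m) ^ k) at h1
    rwa [← pow_mul, mul_comm, pow_mul, hm] at h1
  let π : Equiv.Perm S₁ := Equiv.ofBijective σ (Finite.injective_iff_bijective.1 hσinj)
  have hπ : π ^ 2 ^ j = 1 := Equiv.Perm.ext fun θ => by
    rw [Equiv.Perm.coe_pow]
    refine Subtype.ext (Subtype.ext (Subtype.ext (funext fun n => ?_)))
    show ((σ^[2 ^ j] θ).1.1 : N → ℂ) n = _
    rw [hσiter, hkj]
    rfl
  let F := {θ : S₁ // π θ = θ}
  have hF : (2 : ℕ) ∣ Nat.card F := by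
    have h := card_fixed_modEq π hπ
    change Nat.card S₁ ≡ Nat.card F [MOD 2] at h
    rw [Nat.modEq_iff_dvd] at h
    omega
  -- all of them are linear, and conjugation has one fixed point
  have hlin : ∀ θ : F, charDegree (θ.1.1.1 : N → ℂ) = 1 := fun θ => by
    by_contra hne
    obtain ⟨n, hn⟩ := hcon θ.1.1.1 θ.1.1.2.1 θ.1.1.2.2 hne θ.1.2
    exact hn (congrArg (fun t : S₁ => (t.1.1 : N → ℂ) n) θ.2)
  let c : F → F := fun θ => ⟨⟨⟨Char.conjIrr θ.1.1.1, Blocks.conjIrr_mem_principalBlock θ.1.1.2.1,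
      (by
        have h : charDegree (Char.conjIrr θ.1.1.1 : N → ℂ) = charDegree (θ.1.1.1 : N → ℂ) := by
          unfold charDegree
          show ⌊(conj ((θ.1.1.1 : N → ℂ) 1)).re⌋₊ = _
          rw [Complex.conj_re]
        rw [h]
        exact θ.1.1.2.2)⟩, fun x hx n => congrArg conj (θ.1.2 x hx n)⟩,
    Subtype.ext (Subtype.ext (Subtype.ext (funext fun n => congrArg conj
      (congrArg (fun t : S₁ => (t.1.1 : N → ℂ) n) θ.2))))⟩
  have hc : Function.Involutive c := fun θ =>
    Subtype.ext (Subtype.ext (Subtype.ext (Subtype.ext (funext fun n => Complex.conj_conj _))))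
  let t₀ : F := ⟨⟨⟨trivChar N, trivChar_mem_principalBlock, (by
      have h : charDegree (trivChar N : N → ℂ) = 1 := by simp [charDegree]
      rw [h]; exact odd_one)⟩, fun _ _ _ => rfl⟩, Subtype.ext (Subtype.ext (Subtype.ext rfl))⟩
  have hc0 : ∀ θ : F, hc.toPerm c θ = θ → θ = t₀ := by
    intro θ hθ
    obtain ⟨l, hl⟩ := exists_linear_of_degree_one (IsIrr.isCharacter θ.1.1.1.2) (by
      rw [apply_one_eq_charDegree, hlin θ, Nat.cast_one])
    have hreal : ∀ n : N, l n * l n = 1 := fun n => by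
      have h1 : conj ((θ.1.1.1 : N → ℂ) n) = (θ.1.1.1 : N → ℂ) n :=
        congrArg (fun t : F => (t.1.1.1 : N → ℂ) n) hθ
      rw [hl] at h1
      have h2 : ((l n : ℂˣ) : ℂ) * conj ((l n : ℂˣ) : ℂ) = 1 := by
        rw [Complex.mul_conj, Complex.normSq_eq_norm_sq,
          Complex.norm_eq_one_of_pow_eq_one (n := Nat.card N) (by
            rw [← Units.val_pow_eq_pow_val, ← map_pow, pow_card_eq_one', map_one, Units.val_one])
            Nat.card_pos.ne']
        simp
      rw [h1] at h2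
      exact Units.ext (by push_cast; exact h2)
    have hker : ∀ n : N, n ∈ l.ker := by
      intro n
      have hn : n ∈ pResidual 2 (N : Subgroup G) := hNres ▸ Subgroup.mem_top n
      refine (Subgroup.closure_le l.ker).2 (fun w hw => ?_) hn
      rw [SetLike.mem_coe, MonoidHom.mem_ker]
      have h1 : l w ^ orderOf w = 1 := by rw [← map_pow, pow_orderOf_eq_one, map_one]
      obtain ⟨m, hm⟩ := Nat.coprime_two_right.1 hw
      rw [hm, pow_succ, pow_mul, pow_two, hreal, one_pow, one_mul] at h1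
      exact h1
    refine Subtype.ext (Subtype.ext (Subtype.ext (Subtype.ext (funext fun n => ?_))))
    show (θ.1.1.1 : N → ℂ) n = 1
    rw [congrFun hl n, MonoidHom.mem_ker.1 (hker n), Units.val_one]
  have hcard := card_fixed_modEq (hc.toPerm c) (j := 1) (Equiv.Perm.ext fun θ => hc θ)
  have hone : Nat.card {θ : F // hc.toPerm c θ = θ} = 1 := by
    rw [Nat.card_eq_one_iff_unique]
    refine ⟨⟨fun a b => Subtype.ext ((hc0 _ a.2).trans (hc0 _ b.2).symm)⟩, ⟨⟨t₀, ?_⟩⟩⟩
    exact Subtype.ext (Subtype.ext (Subtype.ext (Subtype.ext (funext fun n => map_one _))))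
  rw [hone, Nat.modEq_iff_dvd] at hcard
  omega

end CfsgLib.OddFixed
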