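import Cfsg.Agent.Lib.Blocks.BrauerMap
import Cfsg.Agent.Lib.Blocks.Star.Corner
import Mathlib.Algebra.Algebra.Subalgebra.Basic
import Mathlib.LinearAlgebra.FiniteDimensional.Lemmas

/-!
# A summand of a permutation module of a `p`-group contains a transitive summand

If `π` is an equivariant idempotent on the functions on a finite set with an action of a `p`-group,
in characteristic `p`, there is an orbit no larger than the rank of `π` carrying a vector of the
image fixed by a point stabilizer; when the rank is no larger, the orbit meets the fixed points of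
every subgroup that has a Brauer fixed vector in the image.
-/

set_option autoImplicit false

namespace CfsgLib.OneOrbit

open CfsgLib.Blocks

variable {p : ℕ} [Fact p.Prime] {k : Type*} [Field k] [CharP k p]
  {K : Type*} [Group K] [Finite K] {α : Type*} [Fintype α] [MulAction K α]

/-- The permutation representation on functions. -/
def perm (k K α : Type*) [Field k] [Group K] [MulAction K α] :
    Representation k K (α → k) where
  toFun u := LinearMap.funLeft k k fun x => u⁻¹ • x
  map_one' := by ext f x; simp [LinearMap.funLeft_apply]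
  map_mul' a b := by ext f x; simp [LinearMap.funLeft_apply, mul_smul, mul_inv_rev]

theorem perm_apply (u : K) (f : α → k) (x : α) : perm k K α u f x = f (u⁻¹ • x) := rfl

/-- The endomorphisms commuting with the action. -/
def equivariant (k K α : Type*) [Field k] [Group K] [MulAction K α] :
    Subalgebra k (Module.End k (α → k)) :=
  Subalgebra.centralizer k (Set.range fun u : K => (perm k K α u : Module.End k (α → k)))

theorem equivariant_apply {b : Module.End k (α → k)} (hb : b ∈ equivariant k K α) (u : K)
    (f : α → k) : b (perm k K α u f) = perm k K α u (b f) :=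
  ((LinearMap.congr_fun ((Subalgebra.mem_centralizer_iff k).1 hb _ ⟨u, rfl⟩) f)).symm

open scoped Classical in
/-- The projection on the functions supported in an orbit. -/
noncomputable def proj (k : Type*) {K α : Type*} [Field k] [Group K] [MulAction K α] (x₀ : α) :
    Module.End k (α → k) :=
  LinearMap.pi fun x => if x ∈ MulAction.orbit K x₀ then LinearMap.proj x else 0

theorem proj_apply (x₀ : α) (f : α → k) (x : α) [Decidable (x ∈ MulAction.orbit K x₀)] :
    proj k (K := K) x₀ f x = if x ∈ MulAction.orbit K x₀ then f x else 0 := by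
  rw [proj, LinearMap.pi_apply]
  split_ifs <;> rfl

theorem proj_mem (x₀ : α) : proj k (K := K) x₀ ∈ equivariant k K α := by
  classical
  refine (Subalgebra.mem_centralizer_iff k).2 ?_
  rintro _ ⟨u, rfl⟩
  refine LinearMap.ext fun f => funext fun x => ?_
  show perm k K α u (proj k (K := K) x₀ f) x = proj k (K := K) x₀ (perm k K α u f) x
  rw [perm_apply, proj_apply, proj_apply, perm_apply]
  refine if_congr ⟨?_, ?_⟩ rfl rfl
  · rintro ⟨g, hg⟩
    exact ⟨u * g, by simp only at hg ⊢; rw [mul_smul, hg, smul_inv_smul]⟩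
  · rintro ⟨g, hg⟩
    exact ⟨u⁻¹ * g, by simp only at hg ⊢; rw [mul_smul, hg]⟩

/-- A linear map commuting with the action only sees the fixed points at a fixed point. -/
theorem apply_eq_zero_of_vanish {R : Subgroup K} (hK : IsPGroup p K) {b : Module.End k (α → k)}
    (hb : b ∈ equivariant k K α) {f : α → k} (hf : ∀ r ∈ R, perm k K α r f = f)
    (hvan : ∀ x, (∀ r ∈ R, r • x = x) → f x = 0) {y : α} (hy : ∀ r ∈ R, r • y = y) :
    b f y = 0 := by
  classical
  have hexp : b f y = ∑ x, f x * b (Pi.single x 1) y := by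
    conv_lhs => rw [show f = ∑ x, f x • (Pi.single x 1 : α → k) from funext fun z => by
      simp [Finset.sum_apply, Pi.single_apply]]
    simp [map_sum, Finset.sum_apply]
  let := Fintype.ofFinite R
  rw [hexp, sum_eq_sum_fixedPoints (p := p) (U := R) (hK.to_subgroup R) _ fun r x => ?_]
  · refine Finset.sum_eq_zero fun x hx => ?_
    rw [hvan x fun r hr => (Finset.mem_filter.1 hx).2 ⟨r, hr⟩, zero_mul]
  · have h1 : f (r • x) = f x := by
      have h := congrFun (hf _ (inv_mem r.2)) x
      rwa [perm_apply, inv_inv] at h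
    have h2 : perm k K α (r : K) (Pi.single x 1) = Pi.single (r • x) 1 := funext fun z => by
      rw [perm_apply, Pi.single_apply, Pi.single_apply, Subgroup.smul_def]
      exact if_congr inv_smul_eq_iff rfl rfl
    have h3 : b (Pi.single (r • x) 1) y = b (Pi.single x 1) y := by
      rw [← h2, equivariant_apply hb, perm_apply, hy _ (inv_mem r.2)]
    rw [h1, h3]

/-- The main lemma. -/
theorem exists_orbit (hK : IsPGroup p K) {π : Module.End k (α → k)}
    (hπ : π ∈ equivariant k K α) (hid : π * π = π) (hne : π ≠ 0) :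
    ∃ x₀ : α, Nat.card (MulAction.orbit K x₀) ≤ Module.finrank k (LinearMap.range π) ∧
      (∃ w, π w = w ∧ (∀ u : K, u • x₀ = x₀ → perm k K α u w = w) ∧ w x₀ = 1) ∧
      (Module.finrank k (LinearMap.range π) ≤ Nat.card (MulAction.orbit K x₀) →
        ∀ (R : Subgroup K) (v : α → k) (y : α), π v = v → (∀ r ∈ R, perm k K α r v = v) →
          (∀ r ∈ R, r • y = y) → v y ≠ 0 →
            ∃ z ∈ MulAction.orbit K x₀, ∀ r ∈ R, r • z = z) := by
  classical
  let A := equivariant k K α
  -- a primitive idempotent below
  obtain ⟨i, hi, hle1, hle2⟩ : ∃ i : A, CfsgLib.Star.IsPrim i ∧ (⟨π, hπ⟩ : A) * i = i ∧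
      i * (⟨π, hπ⟩ : A) = i := by
    refine CfsgLib.Star.idem_induction k (C := fun e : A => e ≠ 0 →
      ∃ i, CfsgLib.Star.IsPrim i ∧ e * i = i ∧ i * e = i) (fun h => absurd rfl h) ?_ ?_
      (i := (⟨π, hπ⟩ : A)) (Subtype.ext hid) (fun h => hne (congrArg Subtype.val h))
    · exact fun i hi _ => ⟨i, hi, hi.1, hi.1⟩
    · intro e f he hf hef hfe he' hf' hne'
      by_cases he0 : e = 0
      · subst he0
        rw [zero_add] at hne' ⊢
        exact hf' hne'
      obtain ⟨i, hi, h1, h2⟩ := he' he0
      refine ⟨i, hi, ?_, ?_⟩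
      · rw [add_mul, h1, ← h1, ← mul_assoc, hfe, zero_mul, add_zero]
      · rw [mul_add, h2, ← h2, mul_assoc, hef, mul_zero, add_zero]
  -- one of the orbits gives an isomorphism
  let P : MulAction.orbitRel.Quotient K α → A := fun O => ⟨proj k O.out, proj_mem _⟩
  let := Fintype.ofFinite (MulAction.orbitRel.Quotient K α)
  have hsum : ∑ O, i * P O * i = i := by
    have h1 : ∑ O, P O = 1 := by
      refine Subtype.ext (LinearMap.ext fun f => funext fun x => ?_)
      rw [AddSubmonoidClass.coe_finsetSum, LinearMap.coe_sum, Finset.sum_apply, Finset.sum_apply]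
      show ∑ O : MulAction.orbitRel.Quotient K α, proj k (K := K) O.out f x = f x
      rw [Finset.sum_eq_single (Quotient.mk'' x : MulAction.orbitRel.Quotient K α)]
      · rw [proj_apply, if_pos]
        exact MulAction.orbitRel_apply.1
          (Quotient.exact (Quotient.out_eq (Quotient.mk'' x : MulAction.orbitRel.Quotient K α)).symm)
      · intro O _ hO
        rw [proj_apply, if_neg fun hx => hO ?_]
        rw [← Quotient.out_eq O]
        exact (Quotient.sound (MulAction.orbitRel_apply.2 hx)).symm
      · simp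
    rw [← Finset.sum_mul, ← Finset.mul_sum, h1, mul_one, hi.1]
  obtain ⟨O, hO⟩ : ∃ O, ¬ IsNilpotent (i * P O * i) := by
    by_contra h
    push Not at h
    refine CfsgLib.Star.not_isNilpotent_idem hi.1 hi.2.1 ?_
    rw [← hsum]
    exact hi.isNilpotent_sum k _ _ (fun O _ => by rw [← mul_assoc, ← mul_assoc, hi.1])
      (fun O _ => by rw [mul_assoc, hi.1]) fun O _ => h O
  obtain ⟨y, -, -, hy⟩ := (hi.dichotomy k (by rw [← mul_assoc, ← mul_assoc, hi.1])
    (by rw [mul_assoc, hi.1])).resolve_left hO
  set x₀ := O.out with hx₀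
  set ρ := proj k (K := K) x₀ with hρ
  set q : Module.End k (α → k) := (i : A).1 with hq
  set b : Module.End k (α → k) := (i * y * i : A).1 with hb
  have hbA : b ∈ equivariant k K α := (i * y * i : A).2
  have hqq : q * q = q := congrArg Subtype.val hi.1
  have hbq : q * b = b := congrArg Subtype.val (show i * (i * y * i) = i * y * i by
    rw [← mul_assoc, ← mul_assoc, hi.1])
  have hbρ : b * ρ * q = q := congrArg Subtype.val (show i * y * i * P O * i = i by
    rw [show i * y * i * P O * i = i * (y * (i * P O * i)) by simp only [mul_assoc], hy, hi.1])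
  have hπq : π * q = q := congrArg Subtype.val hle1
  have hρρ : ρ * ρ = ρ := LinearMap.ext fun f => funext fun x => by
    show proj k (K := K) x₀ (proj k (K := K) x₀ f) x = _
    rw [proj_apply, hρ, proj_apply]
    split_ifs <;> rfl
  -- vectors fixed by everything in the orbit are constant
  have hconst : ∀ f, ρ f = f → (∀ u, perm k K α u f = f) →
      f = f x₀ • ρ (fun _ => 1) := by
    intro f hf hfix
    funext x
    rw [Pi.smul_apply, smul_eq_mul, hρ, proj_apply]
    by_cases hx : x ∈ MulAction.orbit K x₀
    · rw [if_pos hx, mul_one]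
      obtain ⟨u, rfl⟩ := hx
      have h := congrFun (hfix u⁻¹) x₀
      rwa [perm_apply, inv_inv] at h
    · rw [if_neg hx, mul_zero, ← hf, hρ, proj_apply, if_neg hx]
  -- fixed vectors of invariant nonzero ranges
  have hfixed : ∀ c ∈ equivariant k K α, c ≠ 0 → ∃ w, w ≠ 0 ∧ w ∈ LinearMap.range c ∧
      ∀ u, perm k K α u w = w := by
    intro c hc hc0
    obtain ⟨f, hf⟩ : ∃ f, c f ≠ 0 := by
      by_contra h
      push Not at h
      exact hc0 (LinearMap.ext h)
    let σ : Representation k K (LinearMap.range c) :=
      { toFun := fun u => (perm k K α u).restrict (p := LinearMap.range c) (q := LinearMap.range c)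
          (fun z hz => by
            obtain ⟨g, rfl⟩ := LinearMap.mem_range.1 hz
            exact ⟨perm k K α u g, equivariant_apply hc u g⟩)
        map_one' := LinearMap.ext fun z => Subtype.ext (by simp)
        map_mul' := fun a b => LinearMap.ext fun z => Subtype.ext (by simp) }
    obtain ⟨w, hw0, hw⟩ := exists_fixed_ne_zero (p := p) hK σ
      (v := ⟨c f, f, rfl⟩) (fun h => hf (congrArg Subtype.val h))
    exact ⟨w.1, fun h => hw0 (Subtype.ext h), w.2, fun u => congrArg Subtype.val (hw u)⟩
  have hbρb : b * ρ * b = b := by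
    conv_lhs => rw [← hbq, ← mul_assoc]
    rw [hbq, hbρ, hbq]
  have hkey : ρ * b * ρ = ρ := by
    by_contra hne'
    have hρA : ρ ∈ equivariant k K α := proj_mem _
    obtain ⟨w, hw0, ⟨g, hg⟩, hwfix⟩ := hfixed (ρ - ρ * b * ρ)
      (sub_mem hρA (mul_mem (mul_mem hρA hbA) hρA)) (sub_ne_zero.2 (Ne.symm hne'))
    obtain ⟨f, hf0, ⟨g', hg'⟩, hffix⟩ := hfixed q (i : A).2
      (fun h => hi.2.1 (Subtype.ext h))
    have hid2 : (ρ * b * ρ) * (ρ - ρ * b * ρ) = 0 := by
      rw [mul_sub, show ρ * b * ρ * ρ = ρ * b * ρ by rw [mul_assoc _ ρ ρ, hρρ],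
        show ρ * b * ρ * (ρ * b * ρ) = ρ * b * ρ by
          calc ρ * b * ρ * (ρ * b * ρ) = ρ * b * (ρ * ρ) * b * ρ := by simp only [mul_assoc]
            _ = ρ * (b * ρ * b) * ρ := by rw [hρρ]; simp only [mul_assoc]
            _ = _ := by rw [hbρb], sub_self]
    have hρw : ρ w = w := by
      rw [← hg, ← Module.End.mul_apply, mul_sub, hρρ, ← mul_assoc, ← mul_assoc, hρρ]
    have hw1 : (ρ * b * ρ) w = 0 := by
      rw [← hg, ← Module.End.mul_apply, hid2, LinearMap.zero_apply]
    have hρf : (ρ * b * ρ) (ρ f) = ρ f := by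
      have h1 : b (ρ f) = f := by
        rw [← hg', ← Module.End.mul_apply, ← Module.End.mul_apply, hbρ]
      rw [Module.End.mul_apply, Module.End.mul_apply, ← Module.End.mul_apply ρ ρ, hρρ, h1]
    have hρfne : ρ f ≠ 0 := fun h => by
      have h1 : b (ρ f) = f := by
        rw [← hg', ← Module.End.mul_apply, ← Module.End.mul_apply, hbρ]
      rw [h, map_zero] at h1
      exact hf0 h1.symm
    have ew := hconst w hρw hwfix
    have ef := hconst (ρ f) (by rw [← Module.End.mul_apply, hρρ])
      (fun u => by rw [← equivariant_apply hρA, hffix])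
    have hc : (ρ f) x₀ ≠ 0 := fun h => hρfne (by rw [ef, h, zero_smul])
    have hwscal : w = (w x₀ / (ρ f) x₀) • ρ f := by
      conv_rhs => arg 2; rw [ef]
      rw [smul_smul, div_mul_cancel₀ _ hc]
      exact ew
    rw [hwscal, map_smul, hρf] at hw1
    exact hw0 (hwscal.trans hw1)
  have hle : LinearMap.range q ≤ LinearMap.range π := by
    rintro _ ⟨g, rfl⟩
    exact ⟨q g, by rw [← Module.End.mul_apply, hπq]⟩
  have : Fintype (MulAction.orbit K x₀) := Fintype.ofFinite _
  have hge : Nat.card (MulAction.orbit K x₀) ≤ Module.finrank k (LinearMap.range q) := by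
    let ext0 : (MulAction.orbit K x₀ → k) →ₗ[k] (α → k) :=
      { toFun := fun f x => if hx : x ∈ MulAction.orbit K x₀ then f ⟨x, hx⟩ else 0
        map_add' := fun f g => funext fun x => by by_cases hx : x ∈ MulAction.orbit K x₀ <;> simp [hx]
        map_smul' := fun c f => funext fun x => by by_cases hx : x ∈ MulAction.orbit K x₀ <;> simp [hx] }
    have hinj : Function.Injective (LinearMap.codRestrict (LinearMap.range q) (b ∘ₗ ext0)
        fun f => ⟨b (ext0 f), by rw [LinearMap.comp_apply, ← Module.End.mul_apply, hbq]⟩) := by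
      intro f g h
      have h1 : ρ (b (ext0 f)) = ρ (b (ext0 g)) := congrArg ρ (congrArg Subtype.val h)
      have h2 : ∀ f, ρ (ext0 f) = ext0 f := fun f => funext fun x => by
        rw [hρ, proj_apply]
        by_cases hx : x ∈ MulAction.orbit K x₀ <;> simp [ext0, hx]
      rw [← h2 f, ← h2 g, ← Module.End.mul_apply b, ← Module.End.mul_apply b,
        ← Module.End.mul_apply, ← Module.End.mul_apply, ← mul_assoc, hkey, h2, h2] at h1
      funext z
      simpa [ext0] using congrFun h1 z.1
    have h := LinearMap.finrank_le_finrank_of_injective hinj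
    rwa [Module.finrank_fintype_fun_eq_card, ← Nat.card_eq_fintype_card] at h
  refine ⟨x₀, ?_, ⟨b (Pi.single x₀ 1), ?_, ?_, ?_⟩, ?_⟩
  · exact hge.trans (Submodule.finrank_mono hle)
  · rw [← Module.End.mul_apply, ← hbq, ← mul_assoc, hπq]
  · intro u hu
    rw [← equivariant_apply hbA]
    congr 1
    funext z
    rw [perm_apply, Pi.single_apply, Pi.single_apply]
    refine if_congr ?_ rfl rfl
    rw [inv_smul_eq_iff, hu]
  · have h1 : ρ (Pi.single x₀ 1) = Pi.single x₀ 1 := funext fun z => by
      rw [hρ, proj_apply, Pi.single_apply]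
      by_cases hz : z = x₀
      · simp [hz, MulAction.mem_orbit_self]
      · simp [hz]
    have h2 := congrFun (LinearMap.congr_fun hkey (Pi.single x₀ 1)) x₀
    rw [Module.End.mul_apply, Module.End.mul_apply, h1, hρ, proj_apply,
      if_pos (MulAction.mem_orbit_self x₀)] at h2
    simpa using h2
  · -- fixed points in the orbit
    intro hdim R v z hv hvR hzR hvz
    by_contra hno
    push Not at hno
    have heq : LinearMap.range q = LinearMap.range π :=
      Submodule.eq_of_le_of_finrank_le hle (hdim.trans hge)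
    obtain ⟨g, hg⟩ : v ∈ LinearMap.range q := heq ▸ ⟨v, hv⟩
    have hbv : b (ρ v) = v := by
      rw [← hg, ← Module.End.mul_apply, ← Module.End.mul_apply, hbρ]
    refine hvz ?_
    rw [← hbv]
    refine apply_eq_zero_of_vanish hK hbA (fun r hr => ?_) (fun x hx => ?_) hzR
    · rw [hρ, ← equivariant_apply (proj_mem x₀), hvR r hr]
    · rw [hρ, proj_apply, if_neg]
      intro hxo
      obtain ⟨r, hr, hrx⟩ := hno x hxo
      exact hrx (hx r hr)

end CfsgLib.OneOrbit
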