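import Cfsg.Agent.Lib.Blocks.Kulshammer
import Cfsg.Agent.Lib.Blocks.SecondMain

/-!
# Coefficient sums over translates of the set of `p`-elements

The indicator of the set of `p`-elements is, modulo `M`, a combination of irreducible characters,
so a central element killed by all reduced central characters sums to zero over each translate of
the set of `p`-elements.
-/

namespace CfsgLib.Blocks

open Cfsg MonoidAlgebra

variable {G : Type*} [Group G] [Fintype G] {p : ℕ} [Fact p.Prime] {M : Ideal AlgInt} [M.IsPrime]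
  (hM : IsPModular p M)
include hM

open scoped Classical in
/-- The indicator of the `p`-elements is a combination of irreducible characters modulo `M`. -/
theorem exists_pElement_indicator : ∃ (c : IrrCharacter G → Res M), ∀ w : G,
    ∑ᶠ φ : IrrCharacter G, c φ * resHom M (⟨(φ : G → ℂ) w,
      mem_localRing_of_isIntegral (Char.IsChar.isIntegral (Char.IsIrr.isCharacter φ.2) w)⟩ :
        localRing M) = if ∃ k : ℕ, orderOf w = p ^ k then 1 else 0 := by
  classical
  have := Fintype.ofFinite (IrrCharacter G)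
  have hbl : ∀ B : {B : Set (IrrCharacter G) // IsPBlock M B}, ∃ P : IrrCharacter G → localRing M,
      ∀ g : G, ¬ p ∣ orderOf g → blockCoeff B.1 g = ∑ φ : IrrCharacter G,
        if φ ∈ B.1 then (P φ : ℂ) * (φ : G → ℂ) g⁻¹ else 0 := fun B =>
    exists_blockCoeff_eq_combination hM B.2
  choose P hP using hbl
  have := Fintype.ofFinite {B : Set (IrrCharacter G) // IsPBlock M B}
  let blk : IrrCharacter G → {B : Set (IrrCharacter G) // IsPBlock M B} :=
    fun φ => ⟨_, isPBlock_blockOf φ⟩
  have hmem : ∀ (φ : IrrCharacter G) (B : {B : Set (IrrCharacter G) // IsPBlock M B}),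
      φ ∈ B.1 ↔ blk φ = B := fun φ B =>
    ⟨fun h => Subtype.ext (IsPBlock.eq_blockOf B.2 h).symm, fun h => h ▸ mem_blockOf_self φ⟩
  let a : IrrCharacter G → localRing M := fun φ => P (blk φ) φ
  let cval : IrrCharacter G → G → localRing M := fun φ w =>
    ⟨(φ : G → ℂ) w, mem_localRing_of_isIntegral (Char.IsChar.isIntegral (Char.IsIrr.isCharacter φ.2) w)⟩
  let F : G → localRing M := fun w => ∑ φ : IrrCharacter G, a φ * cval φ w⁻¹
  have hF : ∀ w : G, ¬ p ∣ orderOf w →
      (F w : ℂ) = ∑ B : {B : Set (IrrCharacter G) // IsPBlock M B}, blockCoeff B.1 w := by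
    intro w hw
    simp only [hP _ w hw, hmem]
    rw [Finset.sum_comm]
    simp only [Finset.sum_ite_eq, Finset.mem_univ, if_true, F, AddSubmonoidClass.coe_finsetSum,
      Subring.coe_mul]
    rfl
  have hF1 : ∀ w : G, ¬ p ∣ orderOf w → resHom M (F w) = if w = 1 then 1 else 0 := by
    intro w hw
    have h1 : F w = ∑ B : {B : Set (IrrCharacter G) // IsPBlock M B},
        (⟨_, blockCoeff_mem B.2 w⟩ : localRing M) :=
      Subtype.ext (by rw [hF w hw, AddSubmonoidClass.coe_finsetSum])
    have h2 := congrArg (fun z : MonoidAlgebra (Res M) G => z.coeff w)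
      (sum_blockIdemBar (M := M) (G := G))
    simp only [coeff_sum, Finsupp.coe_finsetSum, Finset.sum_apply] at h2
    rw [h1, map_sum]
    refine Eq.trans (Finset.sum_congr rfl fun B _ => ?_) (h2.trans ?_)
    · rw [blockIdemBar, coeff_red, blockIdemO, coeff_ofFun, dif_pos (blockCoeff_mem B.2 w)]
    · simp [one_def, coeff_single, Finsupp.single_apply, eq_comm]
  have hFres : ∀ w : G, resHom M (F w) = if ∃ k : ℕ, orderOf w = p ^ k then 1 else 0 := by
    intro w
    obtain ⟨u, hu⟩ := exists_pPart hM.1 w
    obtain ⟨v, hv, hc, hk, hvr⟩ := hu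
    have hcong : resHom M (F w) = resHom M (F v) := by
      simp only [F, map_sum, map_mul]
      refine Finset.sum_congr rfl fun φ _ => ?_
      congr 1
      refine residue_eq_iff.2 ?_
      show MemLocalIdeal M ((φ : G → ℂ) w⁻¹ - (φ : G → ℂ) v⁻¹)
      rw [← hv, mul_inv_rev, ← (hc.inv_inv).eq]
      exact apply_mul_congr hM φ hc.inv_inv (by simpa using hk)
    rw [hcong, hF1 v hvr]
    refine if_congr ⟨fun h => ?_, fun ⟨j, hj⟩ => ?_⟩ rfl rfl
    · rw [← hv, h, mul_one]; exact hk
    · rw [← hv, hc.orderOf_mul_eq_mul_orderOf_of_coprime] at hj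
      · rw [← orderOf_eq_one_iff]
        refine Nat.eq_one_of_dvd_coprimes (((Nat.Prime.coprime_iff_not_dvd hM.1).2 hvr).pow_left j)
          ⟨orderOf u, by rw [← hj, mul_comm]⟩ dvd_rfl
      · obtain ⟨i, hi⟩ := hk
        rw [hi]
        exact ((Nat.Prime.coprime_iff_not_dvd hM.1).2 hvr).pow_left i
  refine ⟨fun φ => resHom M (a φ), fun w => ?_⟩
  rw [finsum_eq_sum_of_fintype]
  have h := hFres w⁻¹
  simp only [F, map_sum, map_mul, orderOf_inv] at h
  rw [← h]
  exact Finset.sum_congr rfl fun φ _ => by simp [cval]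

open scoped Classical in
/-- A central element killed by every reduced central character sums to zero over the translate
of the `p`-elements by `x`. -/
theorem sum_translate_pElements_eq_zero {z : MonoidAlgebra (Res M) G} (hz : IsCentralElt z)
    (h0 : ∀ χ : IrrCharacter G, omegaBar χ z = 0) (x : G) :
    ∑ y : G, (if ∃ k : ℕ, orderOf (y * x⁻¹) = p ^ k then z.coeff y else 0) = 0 := by
  classical
  have := Fintype.ofFinite (IrrCharacter G)
  obtain ⟨c, hc⟩ := exists_pElement_indicator (G := G) hM
  obtain ⟨b, hb, rfl⟩ := exists_central_lift hz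
  let v : IrrCharacter G → G → localRing M := fun φ w => ⟨(φ : G → ℂ) w,
    mem_localRing_of_isIntegral (Char.IsChar.isIntegral (Char.IsIrr.isCharacter φ.2) w)⟩
  have hkey : ∀ φ : IrrCharacter G, resHom M (∑ y, b.coeff y * v φ (y * x⁻¹)) = 0 := by
    intro φ
    have h1 : (∑ y, b.coeff y * v φ (y * x⁻¹) : localRing M) =
        v φ x⁻¹ * ⟨omega (φ : G → ℂ) (inc M b), omega_inc_mem φ hb⟩ := by
      refine Subtype.ext ?_
      rw [AddSubmonoidClass.coe_finsetSum, Subring.coe_mul]
      simp only [Subring.coe_mul, v, ← coeff_inc]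
      rw [sum_apply_mul_eq_omega, omega_mul φ (isCentralElt_inc hb), ← mul_assoc,
        mul_comm ((φ : G → ℂ) 1), mul_assoc, mul_comm ((φ : G → ℂ) x⁻¹)]
      congr 1
      have h := sum_apply_mul_eq_omega φ (1 : MonoidAlgebra ℂ G) x⁻¹
      rw [one_mul, Finset.sum_eq_single (1 : G) (fun w _ hw => by
        simp [one_def, coeff_single, Finsupp.single_apply, Ne.symm hw]) (by simp)] at h
      simpa [one_def, coeff_single] using h.symm
    rw [h1, map_mul, ← omegaBar_red φ hb, h0, mul_zero]
  calc ∑ y : G, (if ∃ k : ℕ, orderOf (y * x⁻¹) = p ^ k then (red M b).coeff y else 0)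
      = ∑ y : G, resHom M (b.coeff y) * ∑ φ, c φ * resHom M (v φ (y * x⁻¹)) := by
        refine Finset.sum_congr rfl fun y _ => ?_
        have := hc (y * x⁻¹)
        rw [finsum_eq_sum_of_fintype] at this
        rw [this]
        simp [coeff_red]
    _ = ∑ φ, c φ * resHom M (∑ y, b.coeff y * v φ (y * x⁻¹)) := by
        simp only [Finset.mul_sum, map_sum, map_mul]
        rw [Finset.sum_comm]
        exact Finset.sum_congr rfl fun φ _ => Finset.sum_congr rfl fun y _ => mul_left_comm _ _ _
    _ = 0 := by simp [hkey]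

end CfsgLib.Blocks
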