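import Cfsg.Agent.Lib.Blocks.CoveringIdem
import Cfsg.Agent.Lib.Blocks.Kernel
import Cfsg.Agent.Lib.Char.PPrimeKernel
import Cfsg.Agent.Lib.Char.ComplementRestrict
import Cfsg.Agent.Lib.Transfer.Tate
import Cfsg.Agent.Lib.OddLocal.PLengthOne
import Cfsg.Agent.Lib.CharDegree.Basic

/-!
# `p`-length one and restriction of the principal block to the Sylow normalizer
-/

set_option autoImplicit false

namespace CfsgLib.Blocks.PLengthRestrict

open Cfsg CfsgLib.Char CfsgLib.CharDegree
open scoped ComplexConjugate

variable {G : Type*} [Group G] [Fintype G]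

/-- An irreducible character trivial on a supplemented normal subgroup restricts irreducibly. -/
theorem isIrr_restrict_of_ker {K H : Subgroup G} (hKH : K ⊔ H = ⊤) (χ : IrrCharacter G)
    (hK : ∀ k ∈ K, (χ : G → ℂ) k = (χ : G → ℂ) 1) :
    IsIrrCharacter H fun h : H => (χ : G → ℂ) h := by
  obtain ⟨χ, d, ρ, hρ, rfl⟩ := χ
  have hker : ∀ k ∈ K, ρ k = 1 := fun k hk => by
    have h1 : ρ.character k = ρ.character 1 := hK k hk
    rwa [Representation.char_one, CharIntegral.character_eq_finrank_iff] at h1
  let σ : Representation ℂ H (Fin d → ℂ) := ρ.comp H.subtype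
  have hinv : ∀ S : Subrepresentation σ, ∀ g : G, ∀ v ∈ S.toSubmodule, ρ g v ∈ S.toSubmodule := by
    intro S g
    have hg : g ∈ K ⊔ H := hKH ▸ Subgroup.mem_top g
    rw [Subgroup.sup_eq_closure] at hg
    induction hg using Subgroup.closure_induction'' with
    | one => intro v hv; simpa using hv
    | mem x hx =>
      intro v hv
      rcases hx with hx | hx
      · rw [hker x hx]; exact hv
      · exact S.apply_mem_toSubmodule ⟨x, hx⟩ hv
    | inv_mem x hx =>
      intro v hv
      rcases hx with hx | hx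
      · rw [hker x⁻¹ (K.inv_mem hx)]; exact hv
      · exact S.apply_mem_toSubmodule ⟨x⁻¹, H.inv_mem hx⟩ hv
    | mul x y _ _ hx hy =>
      intro v hv
      rw [map_mul, Module.End.mul_apply]
      exact hx _ (hy v hv)
  let e : Subrepresentation σ ≃o Subrepresentation ρ :=
    { toFun := fun S => ⟨S.toSubmodule, fun g v hv => hinv S g v hv⟩
      invFun := fun S => ⟨S.toSubmodule, fun h v hv => S.apply_mem_toSubmodule (h : G) hv⟩
      left_inv := fun S => rfl
      right_inv := fun S => rfl
      map_rel_iff' := Iff.rfl }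
  have : IsSimpleOrder (Subrepresentation ρ) := hρ
  exact ⟨d, σ, e.isSimpleOrder, rfl⟩

/-- A character irreducible on the normalizer of `P` has `P` in its kernel or no fixed vectors. -/
theorem le_charKer_of_sum_ne_zero (P : Subgroup G) [Fintype P] (χ : IrrCharacter G)
    (hirr : IsIrrCharacter ↥(Subgroup.normalizer (P : Set G))
      (fun n : ↥(Subgroup.normalizer (P : Set G)) => (χ : G → ℂ) n))
    (hS : ∑ y : P, (χ : G → ℂ) y ≠ 0) : P ≤ charKer χ := by
  classical
  set N := Subgroup.normalizer (P : Set G)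
  have hPN : P ≤ N := Subgroup.le_normalizer
  have := Fintype.ofFinite N
  have : (P.subgroupOf N).Normal :=
    (Subgroup.normal_subgroupOf_iff_le_normalizer hPN).2 le_rfl
  have := Fintype.ofFinite (P.subgroupOf N)
  set ψ : IrrCharacter N := ⟨_, hirr⟩ with hψ
  have h1 : omega (ψ : N → ℂ) (avgElt (P.subgroupOf N)) = 1 := by
    refine (omega_avgElt_eq_or (P.subgroupOf N) ψ).resolve_left fun h0 => hS ?_
    rw [omega_avgElt, div_eq_zero_iff, mul_eq_zero, inv_eq_zero] at h0
    rcases h0 with (h0 | h0) | h0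
    · exact absurd h0 (Nat.cast_ne_zero.2 Nat.card_pos.ne')
    · rw [← h0]
      exact (Fintype.sum_equiv (Subgroup.subgroupOfEquivOfLe hPN).toEquiv _ _ fun n => rfl).symm
    · exact absurd h0 (IsIrr.apply_one_ne_zero ψ.2)
  intro y hy
  exact (omega_avgElt_eq_one_iff (P.subgroupOf N) ψ).1 h1 ⟨y, hPN hy⟩ (Subgroup.mem_subgroupOf.2 hy)

variable {p : ℕ} [Fact p.Prime] {M : Ideal AlgInt} [M.IsPrime]

/-- If only the trivial character of the principal block has fixed vectors on the Sylow subgroup,
every linear character of the Sylow subgroup extends, and the derived subgroups meet it alike. -/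
theorem commutator_inf_le {L : Type*} [Group L] [Fintype L] (hM : IsPModular p M) (P : Sylow p L)
    [Fintype (P : Subgroup L)]
    (h : ∀ θ ∈ principalBlock M L, θ ≠ trivChar L → ∑ y : (P : Subgroup L), (θ : L → ℂ) y = 0) :
    commutator L ⊓ (P : Subgroup L) ≤ ⁅(P : Subgroup L), (P : Subgroup L)⁆ := by
  classical
  have hp : p.Prime := Fact.out
  rintro x ⟨hxL, hxP⟩
  by_contra hx
  have hx' : (⟨x, hxP⟩ : (P : Subgroup L)) ∉ commutator (P : Subgroup L) := fun hm => hx (by
    have := Subgroup.mem_map_of_mem (P : Subgroup L).subtype hm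
    rwa [commutator_def, Subgroup.map_commutator, ← MonoidHom.range_eq_map,
      Subgroup.range_subtype] at this)
  obtain ⟨l, hl1, hlx⟩ := PPrimeKernel.exists_linear hx'
  set B := (Set.toFinite (principalBlock M L)).toFinset with hB
  -- the block part of the regular character
  set S : L → ℂ := fun g => ∑ θ ∈ B, (θ : L → ℂ) 1 * (θ : L → ℂ) g with hSdef
  have hS0 : ∀ y : (P : Subgroup L), y ≠ 1 → S y = 0 := by
    intro y hy
    have hd : p ∣ orderOf (y : L) := by
      rw [Subgroup.orderOf_coe]
      exact P.2.dvd_orderOf hy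
    have := sum_block_regular_singular hM isPBlock_principalBlock
      (x := (1 : L)) (y := (y : L)) (by simp [hp.ne_one]) hd
    rw [finsum_mem_eq_finite_toFinset_sum _ (Set.toFinite _)] at this
    exact this
  have hsumS : ∀ η : ↥(P : Subgroup L) → ℂ, ∑ y : (P : Subgroup L), S y * η y = S 1 * η 1 := fun η => by
    rw [Finset.sum_eq_single (1 : (P : Subgroup L)) (fun y _ hy => by rw [hS0 y hy, zero_mul])
      (fun h => absurd (Finset.mem_univ _) h), OneMemClass.coe_one]
  have hS1 : S 1 = (Nat.card (P : Subgroup L) : ℂ) := by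
    have h1 := hsumS (fun _ => 1)
    rw [mul_one] at h1
    rw [← h1]
    simp only [hSdef, mul_one, Finset.sum_mul]
    rw [Finset.sum_comm, Finset.sum_eq_single (trivChar L)]
    · simp [trivChar_apply, Nat.card_eq_fintype_card]
    · intro θ hθ hne
      rw [← Finset.mul_sum, h θ ((Set.Finite.mem_toFinset _).1 hθ) hne, mul_zero]
    · exact fun hi => absurd ((Set.Finite.mem_toFinset _).2 trivChar_mem_principalBlock) hi
  -- multiplicities of `l`
  choose a ha using fun θ : IrrCharacter L => IsChar.classInner_eq_natCast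
    (IsChar.restrict (P : Subgroup L) (IsIrr.isCharacter θ.2)) (IsIrr.isCharacter l.2)
  have hsum : ∑ θ ∈ B, charDegree (θ : L → ℂ) * a θ = 1 := by
    rw [← Nat.cast_inj (R := ℂ), Nat.cast_sum, Nat.cast_one]
    simp only [Nat.cast_mul, cast_irrDegree, ← ha]
    have h2 := hsumS (fun y => conj ((l : ↥(P : Subgroup L) → ℂ) y))
    rw [show conj ((l : ↥(P : Subgroup L) → ℂ) 1) = 1 by
      rw [← cast_irrDegree, hl1]; simp, mul_one, hS1] at h2
    simp only [classInner, Finset.mul_sum]
    rw [Finset.sum_comm]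
    simp only [hSdef, Finset.sum_mul] at h2
    calc _ = (Nat.card (P : Subgroup L) : ℂ)⁻¹ * ∑ y : (P : Subgroup L), ∑ θ ∈ B,
          (θ : L → ℂ) 1 * (θ : L → ℂ) y * conj ((l : ↥(P : Subgroup L) → ℂ) y) := by
          rw [Finset.mul_sum]
          refine Finset.sum_congr rfl fun y _ => ?_
          rw [Finset.mul_sum]
          exact Finset.sum_congr rfl fun θ _ => by ring
      _ = 1 := by rw [h2, inv_mul_cancel₀ (Nat.cast_ne_zero.2 Nat.card_pos.ne')]
  obtain ⟨θ, hθB, hθ0⟩ : ∃ θ ∈ B, charDegree (θ : L → ℂ) * a θ ≠ 0 := by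
    by_contra hcon
    push Not at hcon
    rw [Finset.sum_eq_zero hcon] at hsum
    exact zero_ne_one hsum
  have hle : charDegree (θ : L → ℂ) * a θ ≤ 1 := by
    rw [← hsum]
    exact Finset.single_le_sum (f := fun θ : IrrCharacter L => charDegree (θ : L → ℂ) * a θ)
      (fun _ _ => Nat.zero_le _) hθB
  obtain ⟨hd1, ha1⟩ : charDegree (θ : L → ℂ) = 1 ∧ a θ = 1 :=
    ⟨Nat.eq_one_of_mul_eq_one_right (show charDegree (θ : L → ℂ) * a θ = 1 by omega),
      Nat.eq_one_of_mul_eq_one_left (show charDegree (θ : L → ℂ) * a θ = 1 by omega)⟩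
  have hres := Clifford.eq_irr_of_degree_le (IsChar.restrict (P : Subgroup L) (IsIrr.isCharacter θ.2)) l
    (by rw [ha, ha1, Nat.cast_one]; exact one_ne_zero) (c := 1) (c' := 1)
    (by simp [← cast_irrDegree, hd1]) (by simp [← cast_irrDegree, hl1]) le_rfl
  apply hlx
  rw [← congrFun hres, ← congrFun hres]
  exact le_ker_of_degree_one θ hd1 hxL

/-- The converse direction: the principal block irreducible on `N(P)` gives `p`-length one. -/
theorem pLengthLE_one_of_restrict (hM : IsPModular p M) (P : Sylow p G)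
    (hirr : ∀ χ ∈ principalBlock M G,
      IsIrrCharacter ↥(Subgroup.normalizer ((P : Subgroup G) : Set G))
        (fun n : ↥(Subgroup.normalizer ((P : Subgroup G) : Set G)) => (χ : G → ℂ) n)) :
    PLengthLE p 1 G := by
  classical
  have hp : p.Prime := Fact.out
  set L := Subgroup.normalClosure ((P : Subgroup G) : Set G) with hL
  have hPL : (P : Subgroup G) ≤ L := Subgroup.le_normalClosure
  have := Fintype.ofFinite L
  set Q : Sylow p L := P.subtype hPL with hQ
  have hQc : (Q : Subgroup L) = (P : Subgroup G).subgroupOf L := Sylow.coe_subtype P hPL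
  have := Fintype.ofFinite (Q : Subgroup L)
  have := Fintype.ofFinite (P : Subgroup G)
  have hfix : ∀ θ ∈ principalBlock M L, θ ≠ trivChar L →
      ∑ y : (Q : Subgroup L), (θ : L → ℂ) y = 0 := by
    intro θ hθ hne
    by_contra hS
    obtain ⟨χ, hχ, hc⟩ := exists_over_covered L isPBlock_principalBlock
      (isPBlock_principalBlock (M := M)) trivChar_mem_principalBlock trivChar_mem_principalBlock
      (by
        rw [show (fun u : L => ((trivChar G : IrrCharacter G) : G → ℂ) u) =
          ((trivChar L : IrrCharacter L) : L → ℂ) from funext fun u => by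
            rw [trivChar_apply, trivChar_apply], classInner_irr_self]
        exact one_ne_zero) hθ
    have h1 : classInner (fun y : (Q : Subgroup L) => (θ : L → ℂ) y)
        ((trivChar (Q : Subgroup L) : IrrCharacter (Q : Subgroup L)) : ↥(Q : Subgroup L) → ℂ) ≠ 0 := by
      simp only [classInner, trivChar_apply, map_one, mul_one]
      exact mul_ne_zero (inv_ne_zero (Nat.cast_ne_zero.2 Nat.card_pos.ne')) hS
    have h2 := Supplement.classInner_comp_ne_zero
      (IsChar.restrict L (IsIrr.isCharacter χ.2)) hc (Q : Subgroup L).subtype (trivChar _) h1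
    have h3 : ∑ y : (P : Subgroup G), (χ : G → ℂ) y ≠ 0 := by
      intro h0
      refine h2 ?_
      simp only [classInner, trivChar_apply, map_one, mul_one]
      refine mul_eq_zero_of_right _ (Eq.trans ?_ h0)
      refine Fintype.sum_equiv ((MulEquiv.subgroupCongr hQc).trans
        (Subgroup.subgroupOfEquivOfLe hPL)).toEquiv _ _ fun y => ?_
      rfl
    have hker : L ≤ charKer χ := Subgroup.normalClosure_le_normal
      (le_charKer_of_sum_ne_zero (P : Subgroup G) χ (hirr χ hχ) h3)
    refine hne ?_
    by_contra hne'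
    refine hc ?_
    rw [show (fun u : L => (χ : G → ℂ) u) = fun u : L => (χ : G → ℂ) 1 *
        ((trivChar L : IrrCharacter L) : L → ℂ) u from funext fun u => by
      rw [trivChar_apply, mul_one]; exact mem_charKer.1 (hker u.2)]
    have : (fun u : L => (χ : G → ℂ) 1 * ((trivChar L : IrrCharacter L) : L → ℂ) u) =
        (χ : G → ℂ) 1 • ((trivChar L : IrrCharacter L) : L → ℂ) := rfl
    rw [this, classInner_smul_left, classInner_irr_of_ne (Ne.symm hne'), mul_zero]
  have hfoc := commutator_inf_le hM Q hfix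
  have h1 := Transfer.inf_pResidual_eq_of_commutator_le Q (H := (Q : Subgroup L)) le_rfl hfoc
  have hbot : pResidual p (Q : Subgroup L) = ⊥ := by
    rw [eq_bot_iff, Transfer.pResidual_le_iff]
    intro g hg
    exact Transfer.eq_one_of_coprime_of_isPGroup Q.2 hg
  rw [hbot, Subgroup.map_bot, inf_bot_eq] at h1
  have hRn : (pResidual p L).Normal := inferInstance
  have hcop := Transfer.coprime_card_of_sylow_inf_eq_bot Q h1
  have hRG : ((pResidual p L).map L.subtype).Normal := inferInstance
  have hRO : (pResidual p L).map L.subtype ≤ pPrimeCore p G := by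
    refine Core.le_pPrimeCore ?_
    rwa [Subgroup.card_map_of_injective L.subtype_injective]
  have hLle : L ≤ pPrimeCore p G ⊔ (P : Subgroup G) := by
    intro g hg
    obtain ⟨a, ha, k, hk, e⟩ := Transfer.exists_mul_mem_pResidual Q (⟨g, hg⟩ : L)
    have e' : g = (a : G) * (k : G) := congrArg Subtype.val e
    rw [e']
    refine mul_mem (Subgroup.mem_sup_right ?_) (Subgroup.mem_sup_left (hRO ⟨k, hk, rfl⟩))
    rw [hQc] at ha
    exact ha
  refine OddLocal.PLengthOne.pLengthLE_one P ?_
  have : pPrimeCore p G ⊔ (P : Subgroup G) = pPrimeCore p G ⊔ L :=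
    le_antisymm (sup_le_sup_left hPL _) (sup_le le_sup_left hLle)
  rw [this]
  have : L.Normal := Subgroup.normalClosure_normal
  infer_instance

/-- The forward direction. -/
theorem restrict_of_pLengthLE_one (hM : IsPModular p M) (P : Sylow p G) (h : PLengthLE p 1 G)
    (χ : IrrCharacter G) (hχ : χ ∈ principalBlock M G) :
    IsIrrCharacter ↥(Subgroup.normalizer ((P : Subgroup G) : Set G))
        (fun n : ↥(Subgroup.normalizer ((P : Subgroup G) : Set G)) => (χ : G → ℂ) n) := by
  refine isIrr_restrict_of_ker (OddLocal.pLengthOne_sylow h P).2 χ ?_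
  have hK : ¬ p ∣ Nat.card (pPrimeCore p G) := fun hd =>
    (Fact.out : p.Prime).coprime_iff_not_dvd.1 (Core.coprime_card_pPrimeCore p G).symm hd
  exact apply_eq_of_mem_principalBlock (pPrimeCore p G) hM hK hχ

end CfsgLib.Blocks.PLengthRestrict
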