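import Cfsg.Agent.Lib.Char.FongLifts
import Cfsg.Agent.Lib.Blocks.Union

/-!
# Linkage by lifts in `p`-solvable groups

With the pairs `(φ, α)` of `FongLifts`: decomposition on the regular elements, vanishing of the
induced Fong characters at singular elements, and sets of characters closed under linkage are unions
of blocks.
-/

namespace CfsgLib.FongChar

open Cfsg CfsgLib.Char CfsgLib.Blocks
open CfsgLib.PGroups.PComplement (IsPCompl exists_conj_le)
open scoped ComplexConjugate Classical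

variable {G : Type*} [Group G] [Fintype G] {p : ℕ} [Fact p.Prime] (hsolv : IsPSolvable p G)
  {H : Subgroup G} (hH : IsPCompl p H)

/-- The multiplicity `⟨χ|H, α⟩`. -/
noncomputable def mult (χ : IrrCharacter G) (α : IrrCharacter H) : ℂ :=
  classInner (fun h : H => (χ : G → ℂ) h) (α : H → ℂ)

omit [Fact p.Prime] in
theorem exists_mult_eq (χ : IrrCharacter G) (α : IrrCharacter H) : ∃ n : ℕ, mult χ α = n :=
  IsChar.classInner_eq_natCast (IsChar.restrict H (IsIrr.isCharacter χ.2)) (IsIrr.isCharacter α.2)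

include hsolv hH in
theorem exists_conj_mem {g : G} (hg : ¬ p ∣ orderOf g) : ∃ c : G, c * g * c⁻¹ ∈ H := by
  obtain ⟨c, hc⟩ := exists_conj_le hsolv hH (K := Subgroup.zpowers g) (by
    rw [Nat.card_zpowers]
    exact ((Nat.Prime.coprime_iff_not_dvd (Fact.out : p.Prime)).2 hg).symm)
  refine ⟨c, hc ?_⟩
  rw [Core.conj_smul_eq_map]
  exact ⟨g, Subgroup.mem_zpowers g, rfl⟩

/-- The property of the pairs. -/
structure IsLiftPairs (L : Finset (IrrCharacter G × IrrCharacter H)) : Prop where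
  delta : ∀ q ∈ L, ∀ q' ∈ L, mult q.1 q'.2 = if q = q' then 1 else 0
  faithful : ∀ F : G → ℂ, IsClassFunction G F →
    (∀ q ∈ L, classInner (fun h : H => F h) (q.2 : H → ℂ) = 0) → ∀ h : H, F h = 0

include hsolv hH in
theorem exists_isLiftPairs :
    ∃ L : Finset (IrrCharacter G × IrrCharacter H), IsLiftPairs L :=
  let ⟨L, h1, h2⟩ := exists_fong_lifts hsolv hH
  ⟨L, h1, h2⟩

variable {L : Finset (IrrCharacter G × IrrCharacter H)} (hL : IsLiftPairs L)
include hsolv hH hL

/-- Decomposition on the regular elements. -/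
theorem apply_eq_sum_mult (χ : IrrCharacter G) {g : G} (hg : ¬ p ∣ orderOf g) :
    (χ : G → ℂ) g = ∑ q ∈ L, mult χ q.2 * (q.1 : G → ℂ) g := by
  let F : G → ℂ := (χ : G → ℂ) - ∑ q ∈ L, mult χ q.2 • (q.1 : G → ℂ)
  have hF : IsClassFunction G F := fun a b => by
    simp only [F, Pi.sub_apply, Finset.sum_apply, Pi.smul_apply]
    rw [IsIrr.isClassFunction χ.2 a b]
    congr 1
    exact Finset.sum_congr rfl fun q _ => by rw [IsIrr.isClassFunction q.1.2 a b]
  obtain ⟨c, hc⟩ := exists_conj_mem hsolv hH hg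
  have h0 := hL.faithful F hF (fun q hq => ?_) ⟨_, hc⟩
  · change F (c * g * c⁻¹) = 0 at h0
    rw [hF g c] at h0
    simpa [F, sub_eq_zero, Finset.sum_apply] using h0
  · have he : (fun h : H => F h) = (fun h : H => (χ : G → ℂ) h) +
        ∑ r ∈ L, (-mult χ r.2) • fun h : H => (r.1 : G → ℂ) h := funext fun h => by
      simp [F, Finset.sum_apply, sub_eq_add_neg]
    rw [he, classInner_add_left, classInner_sum_left, Finset.sum_eq_single q]
    · rw [classInner_smul_left]
      show mult χ q.2 + -mult χ q.2 * mult q.1 q.2 = 0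
      rw [hL.delta q hq q hq, if_pos rfl, mul_one, add_neg_cancel]
    · intro r hr hne
      rw [classInner_smul_left]
      show -mult χ r.2 * mult r.1 q.2 = 0
      rw [hL.delta r hr q hq, if_neg hne, mul_zero]
    · exact fun h => absurd hq h

omit hsolv hL in
/-- The induced character is `∑ ⟨χ|H, α⟩ χ`; it vanishes at the singular elements and has degree
divisible by the `p`-part of the order. -/
theorem sum_mult_apply [Fintype (IrrCharacter G)] (α : IrrCharacter H) (x : G) :
    ∑ χ : IrrCharacter G, mult χ α * (χ : G → ℂ) x = indFun H (α : H → ℂ) x := by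
  rw [classFunction_apply_eq_sum (isClassFunction_indFun H (α : H → ℂ)) x]
  refine Finset.sum_congr rfl fun χ _ => ?_
  congr 1
  obtain ⟨n, hn⟩ := exists_mult_eq χ α
  rw [frobenius_reciprocity H _ (IsIrr.isClassFunction χ.2), ← classInner_conj_symm]
  show mult χ α = conj (mult χ α)
  rw [hn, map_natCast]

omit hsolv hL in
theorem indFun_eq_zero_of_dvd (α : IrrCharacter H) {x : G} (hx : p ∣ orderOf x) :
    indFun H (α : H → ℂ) x = 0 := by
  rw [indFun, Finset.sum_eq_zero, mul_zero]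
  intro g _
  refine extendByZero_of_notMem H _ fun hmem => ?_
  have h1 : p ∣ Nat.card H := by
    refine (hx.trans (dvd_of_eq ?_)).trans (orderOf_dvd_natCard (⟨g⁻¹ * x * g, hmem⟩ : H))
    rw [Subgroup.orderOf_mk]
    have := MulEquiv.orderOf_eq (MulAut.conj g⁻¹) x
    simpa using this.symm
  exact (Fact.out : p.Prime).ne_one (Nat.eq_one_of_dvd_coprimes hH.1 h1 dvd_rfl)

omit hsolv hL in
theorem index_eq : H.index = p ^ (Nat.card G).factorization p := by
  obtain ⟨k, hk⟩ := hH.2
  rw [hk]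
  congr 1
  have hp : p.Prime := Fact.out
  rw [← H.index_mul_card, Nat.factorization_mul Subgroup.index_ne_zero_of_finite Nat.card_pos.ne',
    Finsupp.add_apply, hk, hp.factorization_pow, Finsupp.single_eq_same,
    Nat.factorization_eq_zero_of_not_dvd ((Nat.Prime.coprime_iff_not_dvd hp).1 hH.1.symm), add_zero]

/-- A set closed under linkage by the pairs is a union of blocks. -/
theorem mem_of_linked {M : Ideal AlgInt} [M.IsPrime] (hM : IsPModular p M)
    (S : Set (IrrCharacter G))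
    (hS : ∀ χ ∈ S, ∀ q ∈ L, mult χ q.2 ≠ 0 → ∀ ψ : IrrCharacter G, mult ψ q.2 ≠ 0 → ψ ∈ S)
    {χ ψ : IrrCharacter G} (hχ : χ ∈ S) (h : SameBlock M (χ : G → ℂ) (ψ : G → ℂ)) : ψ ∈ S := by
  have := Fintype.ofFinite (IrrCharacter G)
  refine mem_of_sameBlock_of_blockCoeff_mem (fun g => ?_) hχ h
  set Sf := (Set.toFinite S).toFinset
  let LS := L.filter fun q => ∃ χ ∈ S, mult χ q.2 ≠ 0
  have hcoef : ∀ q ∈ L, ∀ x : G, ∑ χ ∈ Sf, mult χ q.2 * (χ : G → ℂ) x =
      if q ∈ LS then indFun H (q.2 : H → ℂ) x else 0 := by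
    intro q hq x
    split_ifs with hqS
    · obtain ⟨χ₀, hχ₀, h0⟩ := (Finset.mem_filter.1 hqS).2
      rw [← sum_mult_apply hH]
      refine Finset.sum_subset (Finset.subset_univ _) fun ψ _ hψ => ?_
      rw [Set.Finite.mem_toFinset] at hψ
      rw [of_not_not fun h1 => hψ (hS χ₀ hχ₀ q hq h0 ψ h1), zero_mul]
    · refine Finset.sum_eq_zero fun χ hχ => ?_
      rw [of_not_not fun h1 => hqS (Finset.mem_filter.2
        ⟨hq, χ, (Set.Finite.mem_toFinset _).1 hχ, h1⟩), zero_mul]
  rw [blockCoeff, finsum_mem_eq_finite_toFinset_sum _ (Set.toFinite S)]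
  by_cases hg : p ∣ orderOf g
  · have h0 : ∑ χ ∈ Sf, (χ : G → ℂ) 1 * (χ : G → ℂ) g = 0 := by
      rw [Finset.sum_congr rfl (g := fun χ => ∑ q ∈ L,
          (q.1 : G → ℂ) 1 * (mult χ q.2 * (χ : G → ℂ) g)) fun χ _ => by
        rw [apply_eq_sum_mult hsolv hH hL χ (g := 1) (by simpa using (Fact.out : p.Prime).ne_one),
          Finset.sum_mul]
        exact Finset.sum_congr rfl fun q _ => by ring, Finset.sum_comm]
      refine Finset.sum_eq_zero fun q hq => ?_
      rw [← Finset.mul_sum, hcoef q hq, indFun_eq_zero_of_dvd hH q.2 hg, ite_self, mul_zero]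
    have h1 : ∑ χ ∈ Sf, (χ : G → ℂ) 1 * conj ((χ : G → ℂ) g) = 0 := by
      have h2 := congrArg conj h0
      rw [map_sum, map_zero] at h2
      rw [← h2]
      exact Finset.sum_congr rfl fun χ _ => by
        rw [map_mul, ← IsIrr.map_inv χ.2 1, inv_one]
    rw [h1, mul_zero]
    exact zero_mem _
  · set a := (Nat.card G).factorization p
    obtain ⟨r, hr, hrp⟩ := exists_factorization (p := p) (Nat.card_pos (α := G)).ne'
    have h1 : ∑ χ ∈ Sf, (χ : G → ℂ) 1 * conj ((χ : G → ℂ) g) =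
        (p : ℂ) ^ a * ∑ q ∈ LS, (q.2 : H → ℂ) 1 * conj ((q.1 : G → ℂ) g) := by
      rw [Finset.sum_congr rfl (g := fun χ => ∑ q ∈ L,
          conj ((q.1 : G → ℂ) g) * (mult χ q.2 * (χ : G → ℂ) 1)) fun χ _ => by
        rw [apply_eq_sum_mult hsolv hH hL χ hg, map_sum, Finset.mul_sum]
        refine Finset.sum_congr rfl fun q _ => ?_
        obtain ⟨n, hn⟩ := exists_mult_eq χ q.2
        rw [map_mul, hn, map_natCast]
        ring, Finset.sum_comm, Finset.mul_sum]
      rw [Finset.sum_congr rfl fun q hq => show ∑ χ ∈ Sf,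
          conj ((q.1 : G → ℂ) g) * (mult χ q.2 * (χ : G → ℂ) 1) =
          if q ∈ LS then conj ((q.1 : G → ℂ) g) * indFun H (q.2 : H → ℂ) 1 else 0 by
        rw [← Finset.mul_sum, hcoef q hq, mul_ite, mul_zero]]
      rw [← Finset.sum_filter]
      refine Finset.sum_congr ?_ fun q _ => ?_
      · ext q
        simp only [Finset.mem_filter, and_iff_right_iff_imp]
        exact fun hq => (Finset.mem_filter.1 hq).1
      · rw [indFun_apply_one, index_eq hH]
        push_cast
        ring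
    have hp0 : (p : ℂ) ≠ 0 := Nat.cast_ne_zero.2 (Fact.out : p.Prime).ne_zero
    have h2 : (Nat.card G : ℂ)⁻¹ * ((p : ℂ) ^ a *
        ∑ q ∈ LS, (q.2 : H → ℂ) 1 * conj ((q.1 : G → ℂ) g)) =
        (r : ℂ)⁻¹ * ∑ q ∈ LS, (q.2 : H → ℂ) 1 * conj ((q.1 : G → ℂ) g) := by
      rw [hr, Nat.cast_mul, Nat.cast_pow, show (Nat.card G).factorization p = a from rfl]
      field_simp
    rw [h1, h2]
    exact mul_mem (inv_natCast_mem hM hrp) (sum_mem fun q _ => mul_mem
      (mem_localRing_of_isIntegral (IsChar.isIntegral (IsIrr.isCharacter q.2.2) 1))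
      (mem_localRing_of_isIntegral
        ((IsChar.isIntegral (IsIrr.isCharacter q.1.2) g).map (starRingEnd ℂ).toIntAlgHom)))

/-- A set whose `χ(1)`-weighted sum vanishes at the singular elements is closed under linkage. -/
theorem linked_of_vanishing (U : Set (IrrCharacter G))
    (hU : ∀ x : G, p ∣ orderOf x → ∑ᶠ χ ∈ U, (χ : G → ℂ) 1 * (χ : G → ℂ) x = 0)
    {χ : IrrCharacter G} (hχ : χ ∈ U) {q : IrrCharacter G × IrrCharacter H} (hq : q ∈ L)
    (h : mult χ q.2 ≠ 0) {ψ : IrrCharacter G} (hψ : mult ψ q.2 ≠ 0) : ψ ∈ U := by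
  have := Fintype.ofFinite (IrrCharacter G)
  set Uf := (Set.toFinite U).toFinset
  let f : G → ℂ := ∑ φ ∈ Uf, (φ : G → ℂ) 1 • (φ : G → ℂ)
  have hf : ∀ x : G, p ∣ orderOf x → f x = 0 := fun x hx => by
    rw [← hU x hx, finsum_mem_eq_finite_toFinset_sum _ (Set.toFinite U)]
    simp [f, Uf, Finset.sum_apply]
  have hinner : ∀ φ : IrrCharacter G,
      classInner f (φ : G → ℂ) = if φ ∈ U then (φ : G → ℂ) 1 else 0 := fun φ => by
    simp only [f, classInner_sum_left, classInner_smul_left, classInner_irr, mul_ite, mul_one,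
      mul_zero, Finset.sum_ite_eq', Uf, Set.Finite.mem_toFinset]
  have hexp : ∀ φ : IrrCharacter G, classInner f (φ : G → ℂ) =
      ∑ r ∈ L, mult φ r.2 * classInner f (r.1 : G → ℂ) := by
    intro φ
    simp only [classInner, Finset.mul_sum]
    rw [Finset.sum_comm]
    refine Finset.sum_congr rfl fun x _ => ?_
    by_cases hx : p ∣ orderOf x
    · simp [hf x hx]
    · rw [apply_eq_sum_mult hsolv hH hL φ hx, map_sum, Finset.mul_sum, Finset.mul_sum]
      refine Finset.sum_congr rfl fun r _ => ?_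
      obtain ⟨n, hn⟩ := exists_mult_eq φ r.2
      rw [map_mul, hn, map_natCast]
      ring
  choose m hm using fun (φ : IrrCharacter G) (α : IrrCharacter H) => exists_mult_eq φ α
  choose d hd0 hd using fun φ : IrrCharacter G => IsIrr.exists_degree φ.2
  have hdeg : ∀ φ : IrrCharacter G, d φ = ∑ r ∈ L, m φ r.2 * d r.1 := by
    intro φ
    have h1 := apply_eq_sum_mult hsolv hH hL φ (g := 1) (by simpa using (Fact.out : p.Prime).ne_one)
    simp only [hd, hm, ← Nat.cast_mul, ← Nat.cast_sum, Nat.cast_inj] at h1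
    exact h1
  have hsplit : ∀ φ : IrrCharacter G, (if φ ∈ U then d φ else 0) =
      ∑ r ∈ L, m φ r.2 * (if r.1 ∈ U then d r.1 else 0) := by
    intro φ
    have h1 := hexp φ
    simp only [hinner, hd, hm, ← Nat.cast_zero (R := ℂ), ← Nat.cast_ite] at h1
    simp only [← Nat.cast_mul, ← Nat.cast_sum, Nat.cast_inj] at h1
    exact h1
  rw [hm, Nat.cast_ne_zero] at h hψ
  have hqU : q.1 ∈ U := by
    by_contra hqU
    have h1 := hsplit χ
    rw [if_pos hχ, hdeg χ] at h1
    refine lt_irrefl _ (lt_of_eq_of_lt h1 (Finset.sum_lt_sum (fun r _ => ?_) ⟨q, hq, ?_⟩))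
    · split_ifs <;> simp
    · rw [if_neg hqU, mul_zero]
      exact Nat.mul_pos (Nat.pos_of_ne_zero h) (hd0 q.1)
  by_contra hψU
  have h1 := hsplit ψ
  rw [if_neg hψU] at h1
  have h2 := Finset.sum_eq_zero_iff.1 h1.symm q hq
  rw [if_pos hqU] at h2
  exact mul_ne_zero hψ (hd0 q.1).ne' h2

end CfsgLib.FongChar
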