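/-
Kazarin: an element whose class has prime power size generates a solvable normal subgroup.
-/
import Mathlib
import Cfsg.Agent.Lib.Blocks.Orthogonality
import Cfsg.Agent.Lib.ZStar.PrincipalBlock
import Cfsg.Agent.Lib.CharDegree.Basic
import Cfsg.Agent.Lib.Components.Subnormal
import Cfsg.Agent.Lib.ClassSizes.TwoSizes

set_option autoImplicit false
set_option linter.all false

namespace CfsgLib.PrimePowerClass

open Cfsg Subgroup CfsgLib.Blocks

universe u

variable {G : Type u} [Group G] [Finite G]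

/-- A nontrivial root of unity of order prime to `q` is not congruent to one. -/
theorem root_eq_one {q : ℕ} {M : Ideal AlgInt} [M.IsPrime] (hM : IsPModular q M) {n : ℕ}
    (hn : n ≠ 0) (hnq : ¬ q ∣ n) {z : localRing M} (h : z ^ n = 1)
    (h1 : IsLocalRing.residue (localRing M) z = 1) : z = 1 := by
  by_contra hne
  have hsum : ∑ i ∈ Finset.range n, z ^ i = 0 := by
    have h2 := geom_sum_mul z n
    rw [h, sub_self] at h2
    exact (mul_eq_zero.1 h2).resolve_right (sub_ne_zero.2 hne)
  have := congrArg (IsLocalRing.residue (localRing M)) hsum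
  rw [map_sum, Finset.sum_congr rfl (fun i _ => by rw [map_pow, h1, one_pow]), Finset.sum_const,
    Finset.card_range, nsmul_one, map_zero] at this
  have hch := charP_residueField hM
  exact hnq ((CharP.cast_eq_zero_iff (IsLocalRing.ResidueField (localRing M)) q n).1 this)

/-- The core step: in `N ⟨x⟩` with `N` minimal normal and not solvable, `x` centralizes `N`. -/
theorem commute_of_sup_eq_top (N : Subgroup G) [N.Normal]
    (hmin : ∀ K : Subgroup G, K.Normal → K ≤ N → K = ⊥ ∨ K = N) (hns : ¬ Group.IsSolvable N)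
    {x : G} {r a : ℕ} (hr : r.Prime) (hx : orderOf x = r ^ a) (hgen : N ⊔ zpowers x = ⊤)
    {p k : ℕ} (hp : p.Prime) (hk : (centralizer ({x} : Set G)).index = p ^ k) :
    ∀ n ∈ N, Commute n x := by
  classical
  haveI := Fintype.ofFinite G
  haveI := Fintype.ofFinite (IrrCharacter G)
  by_contra hnc
  push Not at hnc
  -- a prime `q ≠ p` and an element of order `q` in `N`
  obtain ⟨q, hq, hqp, hqN⟩ : ∃ q, q.Prime ∧ q ≠ p ∧ q ∣ Nat.card N := by
    by_contra hcon
    push Not at hcon
    haveI := Fact.mk hp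
    refine hns ?_
    haveI : Group.IsNilpotent N := by
      refine IsPGroup.isNilpotent (p := p) (IsPGroup.of_card (n := (Nat.card N).primeFactorsList.length) ?_)
      exact Nat.eq_prime_pow_of_unique_prime_dvd Nat.card_pos.ne' fun {d} hd hdd => by
        by_contra hne
        exact hcon d hd hne hdd
    infer_instance
  haveI := Fact.mk hq
  obtain ⟨g, hg⟩ := exists_prime_orderOf_dvd_card' (G := N) q hqN
  obtain ⟨M, hM⟩ := ZStar.exists_isPModular hq
  haveI := hM.2.1.isPrime
  let B : Set (IrrCharacter G) := principalBlock M G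
  have hsum := sum_block_regular_singular hM (ZStar.isPBlock_principalBlock (M := M) (G := G))
    (x := 1) (y := (g : G)) (by simp [hq.ne_one]) (by rw [Subgroup.orderOf_coe, hg])
  rw [finsum_mem_eq_finite_toFinset_sum _ (Set.toFinite _)] at hsum
  set Bf := (Set.toFinite B).toFinset with hBf
  rw [← Finset.sum_filter_add_sum_filter_not Bf (fun χ => N ≤ CharDegree.kerSubgroup χ)] at hsum
  set A := Bf.filter fun χ => N ≤ CharDegree.kerSubgroup χ with hA
  -- the characters trivial on `N`
  haveI : IsCyclic (G ⧸ N) := by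
    refine ⟨⟨QuotientGroup.mk' N x, fun b => ?_⟩⟩
    obtain ⟨y, rfl⟩ := QuotientGroup.mk'_surjective N b
    have h := congrArg (Subgroup.map (QuotientGroup.mk' N)) hgen
    rw [Subgroup.map_sup, MonoidHom.map_zpowers,
      (Subgroup.map_eq_bot_iff _).2 (QuotientGroup.ker_mk' N).ge, bot_sup_eq] at h
    exact h.ge ⟨y, mem_top y, rfl⟩
  have hcomm : ∀ u v : G ⧸ N, u * v = v * u := fun u v =>
    (IsCyclic.commutative (α := G ⧸ N)).is_comm.comm u v
  have hlin : ∀ χ : IrrCharacter G, N ≤ CharDegree.kerSubgroup χ →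
      ∃ l : G →* ℂˣ, (χ : G → ℂ) = (fun y => (l y : ℂ)) ∧ ∀ n ∈ N, l n = 1 := by
    intro χ hχ
    obtain ⟨ψ, rfl⟩ := CharDegree.exists_infl N χ fun n hn => CharDegree.mem_kerSubgroup.1 (hχ hn)
    have hdeg : Cfsg.charDegree (CharDegree.infl N ψ : G → ℂ) = 1 := by
      rw [CharDegree.charDegree_infl]; exact CharDegree.charDegree_of_comm hcomm ψ
    obtain ⟨l, hl⟩ := CharDegree.exists_hom_of_degree_one _ hdeg
    refine ⟨l, hl, fun n hn => Units.ext ?_⟩
    have h := CharDegree.infl_ker N ψ hn
    rw [hl] at h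
    simpa using h
  have hAterm : ∀ χ ∈ A, (χ : G → ℂ) 1 * (χ : G → ℂ) (g : G) = 1 := by
    intro χ hχ
    obtain ⟨l, hl, hlN⟩ := hlin χ (Finset.mem_filter.1 hχ).2
    simp [hl, hlN _ g.2]
  rw [Finset.sum_congr rfl hAterm, Finset.sum_const, nsmul_one] at hsum
  have hpq : ¬ q ∣ p ^ k := fun h => hqp ((Nat.prime_dvd_prime_iff_eq hq hp).1 (hq.dvd_of_dvd_pow h))
  haveI := charP_residueField hM
  have hres : ∀ χ : IrrCharacter G, χ ∈ B →
      MemLocalIdeal M (((p ^ k : ℕ) : ℂ) - centralChar (χ : G → ℂ) x) := by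
    intro χ hχ
    have h := (hχ : SameBlock M (fun _ : G => (1 : ℂ)) (χ : G → ℂ)) x
    rwa [centralChar, hk, mul_one, div_one] at h
  -- their number is prime to `p`
  have hAcard : ¬ p ∣ A.card := by
    rcases eq_or_ne q r with hqr | hqr
    · have hall : ∀ χ : IrrCharacter G, N ≤ CharDegree.kerSubgroup χ → χ ∈ B := by
        intro χ hχ
        obtain ⟨l, hl, hlN⟩ := hlin χ hχ
        intro y
        have hy : y ^ r ^ a ∈ N := by
          rw [← QuotientGroup.eq_one_iff (N := N), QuotientGroup.mk_pow]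
          obtain ⟨i, hi⟩ : ∃ i : ℤ, (QuotientGroup.mk x : G ⧸ N) ^ i = QuotientGroup.mk y := by
            have h := congrArg (Subgroup.map (QuotientGroup.mk' N)) hgen
            rw [Subgroup.map_sup, MonoidHom.map_zpowers,
              (Subgroup.map_eq_bot_iff _).2 (QuotientGroup.ker_mk' N).ge, bot_sup_eq] at h
            exact mem_zpowers_iff.1 (h.ge ⟨y, mem_top y, rfl⟩)
          rw [← hi, ← zpow_natCast, ← zpow_mul, mul_comm, zpow_mul, zpow_natCast,
            ← QuotientGroup.mk_pow, ← hx, pow_orderOf_eq_one, QuotientGroup.mk_one, one_zpow]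
        have hz : ((l y : ℂ)) ^ r ^ a = 1 := by
          rw [← Units.val_pow_eq_pow_val, ← map_pow, hlN _ hy, Units.val_one]
        let z : localRing M := ⟨(l y : ℂ), mem_localRing_of_pow_eq_one (pow_ne_zero _ hr.ne_zero) hz⟩
        have hz1 : IsLocalRing.residue (localRing M) z = 1 :=
          residue_eq_one_of_pow_prime_pow hM (k := a) (Subtype.ext (by rw [hqr]; simpa using hz))
        let c : localRing M := ⟨((centralizer ({y} : Set G)).index : ℂ), natCast_mem_localRing _⟩
        show MemLocalIdeal M (centralChar (fun _ : G => (1 : ℂ)) y - centralChar (χ : G → ℂ) y)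
        have h := (residue_eq_iff (z := c) (w := c * z)).1 (by rw [map_mul, hz1, mul_one])
        simpa [centralChar, hl, c, z] using h
      have hAeq : A.card = Nat.card (G ⧸ N) := by
        have h1 : A = Finset.univ.filter fun χ => N ≤ CharDegree.kerSubgroup χ := by
          ext χ
          simp only [hA, hBf, Finset.mem_filter, Set.Finite.mem_toFinset, Finset.mem_univ, true_and]
          exact ⟨fun h => h.2, fun h => ⟨hall χ h, h⟩⟩
        rw [h1, ← Fintype.card_subtype, ← Nat.card_eq_fintype_card,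
          Nat.card_congr (Equiv.subtypeEquivRight (q := fun χ : IrrCharacter G =>
            ∀ n ∈ N, (χ : G → ℂ) n = (χ : G → ℂ) 1) fun χ => by
              simp only [SetLike.le_def, CharDegree.mem_kerSubgroup]),
          ← Nat.card_congr (CharDegree.inflEquiv N)]
        have h2 : Nat.card {ψ : IrrCharacter (G ⧸ N) // Cfsg.charDegree (ψ : G ⧸ N → ℂ) = 1} =
            Nat.card (IrrCharacter (G ⧸ N)) :=
          Nat.card_congr (Equiv.subtypeUnivEquiv fun ψ => CharDegree.charDegree_of_comm hcomm ψ)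
        rw [← h2, CharDegree.card_linear]
        have h3 : commutator (G ⧸ N) = ⊥ := by
          rw [commutator_def, Subgroup.commutator_eq_bot_iff_le_centralizer]
          exact fun u _ => mem_centralizer_iff.2 fun v _ => hcomm v u
        rw [h3, Subgroup.index_bot]
      rw [hAeq]
      intro hdvd
      have h1 : Nat.card (G ⧸ N) ∣ r ^ a := by
        rw [← hx]
        have h2 : Subgroup.map (QuotientGroup.mk' N) (zpowers x) = ⊤ := by
          have h := congrArg (Subgroup.map (QuotientGroup.mk' N)) hgen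
          rwa [Subgroup.map_sup, Subgroup.map_top_of_surjective _ (QuotientGroup.mk'_surjective N),
            (Subgroup.map_eq_bot_iff _).2 (QuotientGroup.ker_mk' N).ge, bot_sup_eq] at h
        rw [← Subgroup.card_top, ← h2, MonoidHom.map_zpowers, Nat.card_zpowers]
        exact orderOf_map_dvd _ x
      exact hqp (((Nat.prime_dvd_prime_iff_eq hp hr).1 (hp.dvd_of_dvd_pow (hdvd.trans h1))) ▸ hqr)
    · have htriv : A = {Char.trivChar G} := by
        refine Finset.eq_singleton_iff_unique_mem.2 ⟨?_, fun χ hχ => ?_⟩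
        · simp only [hA, hBf, Finset.mem_filter, Set.Finite.mem_toFinset]
          exact ⟨ZStar.trivChar_mem_principalBlock, fun n _ =>
            CharDegree.mem_kerSubgroup.2 (by simp [Char.trivChar_apply])⟩
        simp only [hA, hBf, Finset.mem_filter, Set.Finite.mem_toFinset] at hχ
        obtain ⟨l, hl, hlN⟩ := hlin χ hχ.2
        have hz : ((l x : ℂ)) ^ r ^ a = 1 := by
          rw [← Units.val_pow_eq_pow_val, ← map_pow, ← hx, pow_orderOf_eq_one, map_one, Units.val_one]
        let z : localRing M := ⟨(l x : ℂ), mem_localRing_of_pow_eq_one (pow_ne_zero _ hr.ne_zero) hz⟩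
        let c : localRing M := ⟨((p ^ k : ℕ) : ℂ), natCast_mem_localRing _⟩
        have h := hres χ hχ.1
        rw [centralChar, hk, hl] at h
        have h' : IsLocalRing.residue (localRing M) c = IsLocalRing.residue (localRing M) (c * z) :=
          residue_eq_iff.2 (by simpa [c, z] using h)
        have hc0 : IsLocalRing.residue (localRing M) c ≠ 0 := by
          rw [show c = ((p ^ k : ℕ) : localRing M) from Subtype.ext (by simp [c]), map_natCast]
          exact fun h0 => hpq ((CharP.cast_eq_zero_iff _ q _).1 h0)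
        rw [map_mul] at h'
        have hz1 := mul_left_cancel₀ hc0 (h'.symm.trans (mul_one _).symm)
        have hzone := root_eq_one hM (pow_ne_zero _ hr.ne_zero)
          (fun hd => hqr ((Nat.prime_dvd_prime_iff_eq hq hr).1 (hq.dvd_of_dvd_pow hd)))
          (z := z) (Subtype.ext (by simpa [z] using hz)) hz1
        have hlx : l x = 1 := Units.ext (congrArg Subtype.val hzone)
        have hker : (⊤ : Subgroup G) ≤ l.ker := hgen ▸ sup_le (fun n hn => hlN n hn) (zpowers_le.2 hlx)
        refine Subtype.ext (funext fun y => ?_)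
        rw [hl]
        simp [Char.trivChar_apply, MonoidHom.mem_ker.1 (hker (mem_top y))]
      rw [htriv, Finset.card_singleton]
      exact hp.not_dvd_one
  -- the others have degree divisible by `p`
  have hrest : ∀ χ ∈ Bf.filter (fun χ => ¬ N ≤ CharDegree.kerSubgroup χ),
      IsIntegral ℤ ((χ : G → ℂ) 1 * (χ : G → ℂ) (g : G) / (p : ℂ)) := by
    intro χ hχ
    rw [Finset.mem_filter, hBf, Set.Finite.mem_toFinset] at hχ
    obtain ⟨n, ρ, hρ, hχρ, hn⟩ := CharDegree.exists_rep χ
    by_cases hdiv : p ∣ Cfsg.charDegree (χ : G → ℂ)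
    · obtain ⟨m, hm⟩ := hdiv
      rw [← CharDegree.cast_irrDegree, hm, Nat.cast_mul, mul_assoc,
        mul_div_cancel_left₀ _ (Nat.cast_ne_zero.mpr hp.ne_zero), ← hχρ]
      exact (isIntegral_algebraMap (R := ℤ) (x := (m : ℤ))).mul
        (CfsgLib.CharIntegral.isIntegral_character ρ _)
    exfalso
    rcases CharDegree.eq_zero_or_norm_eq χ x
      (by rw [hk]; exact ((hp.coprime_iff_not_dvd.2 hdiv).symm.pow_right k)) with h0 | hnorm
    · have h := hres χ hχ.1
      rw [centralChar, h0, mul_zero, zero_div, sub_zero] at h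
      exact hpq ((memLocalIdeal_natCast_iff hM).1 h)
    · obtain ⟨ω, hω⟩ := CfsgLib.CharIntegral.exists_scalar_of_norm_character_eq ρ x
        (by rw [hχρ, hnorm, Module.finrank_fin_fun, hn])
      haveI := CharDegree.kerSubgroup_normal χ
      have hbot : N ⊓ CharDegree.kerSubgroup χ = ⊥ :=
        (hmin _ inferInstance inf_le_left).resolve_right fun h => hχ.2 (inf_eq_left.1 h)
      obtain ⟨v, hvN, hv⟩ := hnc
      refine hv (mul_inv_eq_one.1 ?_ : v * x = x * v)
      have hmem : v * x * (x * v)⁻¹ ∈ N ⊓ CharDegree.kerSubgroup χ := by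
        refine mem_inf.2 ⟨?_, CharDegree.mem_kerSubgroup.2 ?_⟩
        · rw [mul_inv_rev, show v * x * (v⁻¹ * x⁻¹) = v * (x * v⁻¹ * x⁻¹) by group]
          exact mul_mem hvN ((inferInstance : N.Normal).conj_mem _ (inv_mem hvN) x)
        · rw [← hχρ, Representation.char_one, CfsgLib.CharIntegral.character_eq_finrank_iff ρ]
          have hcomm' : ρ v * ρ x = ρ x * ρ v := by
            refine LinearMap.ext fun w => ?_
            simp [hω]
          calc ρ (v * x * (x * v)⁻¹) = ρ (x * v * (x * v)⁻¹) := by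
                rw [map_mul ρ (v * x), map_mul ρ (x * v), map_mul ρ v, hcomm', ← map_mul ρ x]
            _ = LinearMap.id := by rw [mul_inv_cancel, map_one]; rfl
      rwa [hbot, Subgroup.mem_bot] at hmem
  have hint : IsIntegral ℤ ((A.card : ℂ) / (p : ℂ)) := by
    have h := (IsIntegral.sum _ hrest).neg
    rw [← Finset.sum_div, ← neg_div] at h
    rwa [show (A.card : ℂ) = -(∑ χ ∈ Bf.filter (fun χ => ¬ N ≤ CharDegree.kerSubgroup χ),
      (χ : G → ℂ) 1 * (χ : G → ℂ) (g : G)) by linear_combination hsum]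
  exact hAcard (CfsgLib.CharIntegral.dvd_of_isIntegral_div hp.ne_zero hint)

theorem card_sup_mul (N X : Subgroup G) [N.Normal] :
    Nat.card ↥(X ⊔ N) * Nat.card ↥(N ⊓ X) = Nat.card X * Nat.card N := by
  have h : ∀ Y : Subgroup G,
      Nat.card (Y.map (QuotientGroup.mk' N)) * Nat.card ↥(N ⊓ Y) = Nat.card Y := by
    intro Y
    have h := ((QuotientGroup.mk' N).comp Y.subtype).ker.card_mul_index
    rw [Subgroup.index_ker, MonoidHom.range_comp, Subgroup.range_subtype] at h
    rw [← h, mul_comm]
    congr 1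
    rw [← MonoidHom.comap_ker, QuotientGroup.ker_mk', inf_comm]
    exact (Nat.card_congr ((subgroupOfEquivOfLe (inf_le_left : Y ⊓ N ≤ Y)).toEquiv)).symm.trans
      (by rw [inf_subgroupOf_left]; rfl)
  have h1 := h (X ⊔ N)
  rw [Subgroup.map_sup, (Subgroup.map_eq_bot_iff _).2 (QuotientGroup.ker_mk' N).ge, sup_bot_eq,
    inf_eq_left.2 (le_sup_right : N ≤ X ⊔ N)] at h1
  rw [← h1, ← h X]; ring

theorem relIndex_dvd_index' (N C : Subgroup G) [N.Normal] : C.relIndex N ∣ C.index := by
  have h1 := card_sup_mul N C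
  have h2 : Nat.card ↥(C ⊓ N) * C.relIndex N = Nat.card N := by
    rw [← Nat.card_congr (subgroupOfEquivOfLe (inf_le_right : C ⊓ N ≤ N)).toEquiv, inf_subgroupOf_right,
      Subgroup.relIndex, card_mul_index]
  rw [inf_comm] at h2
  have h3 : C.relIndex N * Nat.card C = Nat.card ↥(C ⊔ N) := by
    refine Nat.eq_of_mul_eq_mul_right (Nat.card_pos (α := ↥(N ⊓ C))) ?_
    rw [h1, ← h2]; ring
  refine ⟨(C ⊔ N).index, Nat.eq_of_mul_eq_mul_right (Nat.card_pos (α := C)) ?_⟩
  rw [C.index_mul_card, ← (C ⊔ N).index_mul_card, ← h3]; ring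

theorem eq_bot_of_solvable (N : Subgroup G) [hN : N.Normal]
    (hmin : ∀ K : Subgroup G, K.Normal → K ≤ N → K = ⊥ ∨ K = N) (hns : ¬ Group.IsSolvable N)
    {J : Subgroup G} (hJN : J ≤ N) (hNJ : N ≤ normalizer (J : Set G)) (hJ : Group.IsSolvable J) :
    J = ⊥ := by
  obtain ⟨K, hKn, ⟨hKs, hKN⟩, hJK⟩ := Components.exists_normal_ge_of_subnormal
    (fun A => Group.IsSolvable A ∧ A ≤ N) ⟨inferInstance, bot_le⟩
    (fun g A ⟨h, hle⟩ => ⟨haveI := h; Group.isSolvable_of_surjective
      (f := (Subgroup.equivSMul (MulAut.conj g) A).toMonoidHom) (MulEquiv.surjective _), by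
      rintro _ ⟨y, hy, rfl⟩; exact hN.conj_mem y (hle hy) g⟩)
    (fun A B _ hBA hA hB => ⟨Components.isSolvable_sup hBA hA.1 hB.1, sup_le hA.2 hB.2⟩)
    (Subgroup.IsSubnormal.step J N hJN hN.isSubnormal
      ((normal_subgroupOf_iff_le_normalizer hJN).2 hNJ)) ⟨hJ, hJN⟩
  rcases hmin K hKn hKN with h | h
  · exact le_bot_iff.1 (h ▸ hJK)
  · exact absurd (h ▸ hKs) hns

theorem isSolvable_normalClosure : ∀ (n : ℕ) {G : Type u} [Group G] [Finite G], Nat.card G = n →
    ∀ {x : G} {p k : ℕ}, p.Prime → (centralizer ({x} : Set G)).index = p ^ k →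
      Group.IsSolvable ↥(normalClosure ({x} : Set G)) := by
  intro n
  induction n using Nat.strong_induction_on with
  | _ n ih =>
  intro G _ _ hn x p k hp hk
  cases subsingleton_or_nontrivial G
  · exact Group.isSolvable_of_comm fun a b => Subsingleton.elim _ _
  obtain ⟨N, hN, hN0, hmin⟩ := Components.exists_minimal_normal (G := G)
  set K := normalClosure ({x} : Set G) with hKdef
  let f := QuotientGroup.mk' N
  have hbar : Group.IsSolvable ↥(K.map f) := by
    have h1 : (centralizer ({f x} : Set (G ⧸ N))).index ∣ p ^ k := by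
      rw [← hk]
      refine dvd_trans (index_dvd_of_le ?_) (Subgroup.index_map_dvd _ (QuotientGroup.mk'_surjective N))
      rintro _ ⟨c, hc, rfl⟩
      rw [mem_centralizer_singleton_iff, ← map_mul, mem_centralizer_singleton_iff.1 hc, map_mul]
    obtain ⟨j, -, hj⟩ := (Nat.dvd_prime_pow hp).1 h1
    have h2 := ih _ (hn ▸ Components.card_quotient_lt hN0) rfl hp hj
    rwa [hKdef, Subgroup.map_normalClosure _ f (QuotientGroup.mk'_surjective N), Set.image_singleton]
  let g := f.comp K.subtype
  have hgr : g.range = K.map f := by rw [MonoidHom.range_comp, Subgroup.range_subtype]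
  haveI : Group.IsSolvable g.range := by rw [hgr]; exact hbar
  by_cases hns : Group.IsSolvable N
  · haveI := hns
    haveI : Group.IsSolvable g.ker := Group.isSolvable_of_isSolvable_injective
      (f := (K.subtype.comp g.ker.subtype).codRestrict N fun y =>
        (QuotientGroup.eq_one_iff _).1 y.2)
      fun a b h => Subtype.ext (Subtype.ext (congrArg Subtype.val h :))
    exact Group.isSolvable_of_ker_le_range g.ker.subtype g.rangeRestrict (by
      rw [MonoidHom.ker_rangeRestrict, Subgroup.range_subtype])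
  -- `x` centralizes `N`
  have hxN : x ∈ centralizer (N : Set G) := ClassSizes.TwoSizes.mem_of_primary _ x
    fun w hw r a hr ha => by
    obtain ⟨j, -, hj⟩ := (Nat.dvd_prime_pow hp).1
      (hk ▸ index_dvd_of_le (ClassSizes.TwoSizes.centralizer_le_of_mem hw))
    refine mem_centralizer_iff.2 fun v hv => ?_
    by_cases htop : N ⊔ zpowers w = ⊤
    · exact (commute_of_sup_eq_top N hmin hns hr ha htop hp hj v hv).eq
    set H := N ⊔ zpowers w with hH
    have hwH : w ∈ H := mem_sup_right (mem_zpowers w)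
    have hidx : (centralizer ({(⟨w, hwH⟩ : H)} : Set H)).index ∣ p ^ j := by
      rw [← hj]
      refine dvd_trans (dvd_of_eq ?_) (relIndex_dvd_index' N (centralizer ({w} : Set G)))
      set C := centralizer ({w} : Set G)
      have e : centralizer ({(⟨w, hwH⟩ : H)} : Set H) = C.subgroupOf H := by
        ext c
        simp [mem_subgroupOf, mem_centralizer_singleton_iff, Subtype.ext_iff, C]
      rw [e]
      show C.relIndex H = C.relIndex N
      have hwC : zpowers w ≤ C := zpowers_le.2 (mem_centralizer_singleton_iff.2 rfl)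
      have h1 := card_sup_mul N C
      have h2 := card_sup_mul N (C ⊓ H)
      have hNH : N ≤ H := le_sup_left
      have e2 : N ⊓ (C ⊓ H) = N ⊓ C := by
        rw [← inf_assoc]; exact inf_eq_left.2 (inf_le_left.trans hNH)
      have e3 : (C ⊓ H) ⊔ N = H := le_antisymm (sup_le inf_le_right hNH)
        (sup_le le_sup_right ((le_inf hwC le_sup_right).trans le_sup_left))
      rw [e2, e3] at h2
      have h3 : ∀ Y : Subgroup G, Nat.card ↥(C ⊓ Y) * C.relIndex Y = Nat.card Y := fun Y => by
        rw [← Nat.card_congr (subgroupOfEquivOfLe (inf_le_right : C ⊓ Y ≤ Y)).toEquiv,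
          inf_subgroupOf_right, Subgroup.relIndex, card_mul_index]
      have h4 := h3 H
      have h5 := h3 N
      rw [inf_comm C N] at h5
      refine Nat.eq_of_mul_eq_mul_left (Nat.mul_pos (Nat.card_pos (α := ↥(C ⊓ H)))
        (Nat.card_pos (α := ↥(N ⊓ C)))) ?_
      calc Nat.card ↥(C ⊓ H) * Nat.card ↥(N ⊓ C) * C.relIndex H
          = Nat.card ↥(C ⊓ H) * C.relIndex H * Nat.card ↥(N ⊓ C) := by ring
        _ = Nat.card ↥(C ⊓ H) * Nat.card N := by rw [h4, h2]
        _ = _ := by rw [← h5]; ring
    obtain ⟨i, -, hi⟩ := (Nat.dvd_prime_pow hp).1 hidx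
    have hsol := ih _ (hn ▸ Components.card_lt_of_ne_top htop) rfl hp hi
    set S := normalClosure ({(⟨w, hwH⟩ : H)} : Set H) with hSdef
    set J := S.map H.subtype ⊓ N with hJdef
    have hJbot : J = ⊥ := by
      refine eq_bot_of_solvable N hmin hns inf_le_right ?_ ?_
      · intro c hc
        refine mem_normalizer_iff.2 fun b => ?_
        have hfwd : ∀ c ∈ N, ∀ b ∈ J, c * b * c⁻¹ ∈ J := by
          rintro c hc _ ⟨⟨b, hb, rfl⟩, hbN⟩
          exact mem_inf.2 ⟨⟨⟨c, mem_sup_left hc⟩ * b * ⟨c, mem_sup_left hc⟩⁻¹,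
            (normalClosure_normal : S.Normal).conj_mem b hb _, rfl⟩, hN.conj_mem _ hbN c⟩
        refine ⟨hfwd c hc b, fun h => ?_⟩
        have h' := hfwd c⁻¹ (inv_mem hc) _ h
        rwa [inv_inv, show c⁻¹ * (c * b * c⁻¹) * c = b by group] at h'
      · haveI := hsol
        haveI : Group.IsSolvable ↥(S.map H.subtype) := Group.isSolvable_of_surjective
          (f := (S.equivMapOfInjective H.subtype H.subtype_injective).toMonoidHom) (MulEquiv.surjective _)
        exact Group.isSolvable_of_isSolvable_injective (f := Subgroup.inclusion (inf_le_left : J ≤ S.map H.subtype))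
          (Subgroup.inclusion_injective _)
    have hmem : v * w * v⁻¹ * w⁻¹ ∈ J := by
      refine mem_inf.2 ⟨⟨⟨v, mem_sup_left hv⟩ * ⟨w, hwH⟩ * ⟨v, mem_sup_left hv⟩⁻¹ * ⟨w, hwH⟩⁻¹,
        mul_mem ((normalClosure_normal : S.Normal).conj_mem _ (subset_normalClosure rfl) _)
          (inv_mem (subset_normalClosure rfl)), rfl⟩, ?_⟩
      rw [show v * w * v⁻¹ * w⁻¹ = v * (w * v⁻¹ * w⁻¹) by group]
      exact mul_mem hv (hN.conj_mem _ (inv_mem hv) w)
    rw [hJbot, Subgroup.mem_bot, mul_inv_eq_one, mul_inv_eq_iff_eq_mul] at hmem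
    exact hmem
  have hKC : K ≤ centralizer (N : Set G) := normalClosure_le_normal (Set.singleton_subset_iff.2 hxN)
  have hKN : K ⊓ N = ⊥ := by
    refine (hmin _ inferInstance inf_le_right).resolve_right fun h => hns ?_
    exact Group.isSolvable_of_comm fun a b => Subtype.ext
      (mem_centralizer_iff.1 (hKC (inf_eq_right.1 h b.2)) a a.2)
  exact Group.isSolvable_of_isSolvable_injective (f := g.rangeRestrict) (by
    rw [← MonoidHom.ker_eq_bot_iff, MonoidHom.ker_rangeRestrict, Subgroup.eq_bot_iff_forall]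
    intro y hy
    refine Subtype.ext (Subgroup.mem_bot.1 ?_)
    rw [← hKN]
    exact mem_inf.2 ⟨y.2, (QuotientGroup.eq_one_iff _).1 hy⟩)

end CfsgLib.PrimePowerClass
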