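import Cfsg.Agent.Lib.Blocks.FongInvariant
import Cfsg.Agent.Lib.Blocks.Quotient
import Cfsg.Agent.Lib.CharDegree.Basic

/-!
# The principal block of a `p`-solvable group
-/

namespace CfsgLib.Blocks

open Cfsg CfsgLib.Char

variable {G : Type*} [Group G] [Fintype G] {p : ℕ} [Fact p.Prime] {M : Ideal AlgInt}

/-- The principal block of a `p`-solvable group consists of the characters with `O_{p'}` in the
kernel. -/
theorem mem_principalBlock_iff_of_isPSolvable (hM : IsPModular p M) (hsolv : IsPSolvable p G)
    (χ : IrrCharacter G) :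
    χ ∈ principalBlock M G ↔ ∀ n ∈ pPrimeCore p G, (χ : G → ℂ) n = (χ : G → ℂ) 1 := by
  classical
  have : M.IsPrime := hM.2.1.isPrime
  set N := pPrimeCore p G with hNdef
  have := Fintype.ofFinite N
  have hinv : ∀ g : G, conjIrr N g (trivChar N) = trivChar N := fun g =>
    Subtype.ext (funext fun n => by rw [conjIrr_apply, trivChar_apply, trivChar_apply])
  obtain ⟨B, hB, hmem, -⟩ := FongInvariant.exists_block hM hsolv hNdef (trivChar N) hinv
  have htriv : classInner (fun n : N => (trivChar G : G → ℂ) n) (trivChar N : N → ℂ) ≠ 0 :=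
    fun h0 => one_ne_zero ((classInner_irr_self (trivChar N)).symm.trans h0)
  have hBeq : B = principalBlock M G := IsPBlock.eq_of_mem hB isPBlock_principalBlock
    ((hmem (trivChar G)).2 htriv) (mem_blockOf_self (trivChar G))
  subst hBeq
  have hNp : ¬ p ∣ Nat.card N := fun hd => (Fact.out : p.Prime).ne_one
    (Nat.eq_one_of_dvd_coprimes (CfsgLib.Core.coprime_card_pPrimeCore p G) hd dvd_rfl)
  refine ⟨fun hχ n hn => apply_eq_of_mem_principalBlock N hM hNp hχ n hn, fun h => (hmem χ).2 ?_⟩
  have he : (fun n : N => (χ : G → ℂ) n) = (χ : G → ℂ) 1 • (trivChar N : N → ℂ) := funext fun n => by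
    rw [h n n.2, Pi.smul_apply, trivChar_apply, smul_eq_mul, mul_one]
  rw [he, classInner_smul_left, classInner_irr_self, mul_one]
  exact IsIrr.apply_one_ne_zero χ.2

end CfsgLib.Blocks
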