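import Cfsg.Agent.Lib.Blocks.FongInvariant
import Cfsg.Agent.Lib.Blocks.CoveringDefect
import Cfsg.Agent.Lib.Blocks.Induced
import Cfsg.Agent.Lib.PLocal.PConstrained
import Cfsg.Agent.S4444

/-!
# Blocks over invariant characters of the `p'`-core are of principal type

The idempotent of the block is that of the character `θ` of the core; on the fixed points of a
`p`-subgroup `R` it is supported on the character corresponding to `θ`, and in `C(R)` the
characters over that one form a single block.
-/

namespace CfsgLib.Blocks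

open Cfsg CfsgLib.Char CfsgLib.Core MonoidAlgebra
open scoped ComplexConjugate

variable {G : Type*} [Group G] [Fintype G] {p : ℕ} [Fact p.Prime] {M : Ideal AlgInt} [M.IsPrime]
  (hM : IsPModular p M)
include hM

theorem blockOf_eq_singleton_of_coprime {K : Type*} [Group K] [Fintype K]
    (hK : ¬ p ∣ Nat.card K) (θ : IrrCharacter K) : blockOf M (θ : K → ℂ) = {θ} := by
  refine blockOf_eq_singleton hM _ ?_
  obtain ⟨d, hd⟩ := charDegree_dvd_card θ
  rw [hd, Nat.mul_div_cancel_left _ (charDegree_pos _)]
  exact fun hp => hK (hd ▸ hp.mul_left _)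

/-- The block over an invariant character has the idempotent of that character. -/
theorem blockIdemBar_over_invariant (K : Subgroup G) [K.Normal] [Fintype K]
    (hK : ¬ p ∣ Nat.card K) {θ : IrrCharacter K} (hinv : ∀ g : G, conjIrr K g θ = θ)
    {B : Set (IrrCharacter G)} (hB : IsPBlock M B)
    (hiff : ∀ χ : IrrCharacter G, χ ∈ B ↔
      classInner (fun n : K => (χ : G → ℂ) n) (θ : K → ℂ) ≠ 0) :
    blockIdemBar M B = incl K (Res M) (blockIdemBar M ({θ} : Set (IrrCharacter K))) := by
  classical
  have hsing := blockOf_eq_singleton_of_coprime hM hK θ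
  have hb : IsPBlock M ({θ} : Set (IrrCharacter K)) := ⟨θ, hsing.symm⟩
  have hst : ∀ g : G, g ∈ blockStab K M hb := fun g => by
    rw [mem_blockStab, Set.image_singleton, hinv g]
  have hc : IsCentralElt (incl K (Res M) (blockIdemBar M ({θ} : Set (IrrCharacter K)))) :=
    fun x g => coeff_incl_blockIdemBar_stab K hb (hst g) x
  have hf := isCentralElt_blockIdemBar hB
  set u := incl K (Res M) (blockIdemBar M ({θ} : Set (IrrCharacter K))) with hu
  have huu : u * u = u := by rw [hu, ← map_mul, blockIdemBar_mul_self hb]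
  have hval : ∀ χ : IrrCharacter G, omegaBar χ u = if χ ∈ B then 1 else 0 := by
    intro χ
    obtain ⟨η, hη⟩ := exists_constituent K χ
    rw [omegaBar_eq_omegaBar_resElt K hη hc (fun g hg => coeff_incl_of_notMem _ hg),
      resElt_incl, omegaBar_blockIdemBar hb]
    refine if_congr ⟨fun h => (hiff χ).2 ?_, fun h => ?_⟩ rfl rfl
    · rwa [Set.mem_singleton_iff.1 h] at hη
    · obtain ⟨g, hg⟩ := (RelGlauberman.constituent_iff (inferInstance : K.Normal) χ.2 θ.2
        ((hiff χ).1 h) η.2).1 hη
      refine Set.mem_singleton_iff.2 (Subtype.ext (hg.trans ?_))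
      funext n
      rw [Clifford.conjFn_apply, ← Blocks.conjIrr_apply, hinv]
  have key : ∀ {a b : MonoidAlgebra (Res M) G}, IsCentralElt a → IsCentralElt b → a * a = a →
      b * b = b → (∀ χ, omegaBar χ a = omegaBar χ b) → a * b = a := by
    intro a b ha hb' haa hbb hab
    have hnil := isNilpotent_of_omegaBar_eq_zero (ha.sub (ha.mul hb')) fun χ => by
      rw [omegaBar_sub, omegaBar_mul χ ha hb', ← hab, ← omegaBar_mul χ ha ha, haa, sub_self]
    have hid : IsIdempotentElem (a - a * b) := by
      show _ * _ = _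
      have h2 : a * b * (a * b) = a * b := by
        rw [mul_assoc, ← mul_assoc b, (hb'.commute _).eq, mul_assoc _ b b, hbb, ← mul_assoc, haa]
      have h3 : a * b * a = a * b := by rw [mul_assoc, (hb'.commute _).eq, ← mul_assoc, haa]
      rw [sub_mul, mul_sub, mul_sub, haa, ← mul_assoc, haa, h3, h2]
      abel
    exact (sub_eq_zero.1 (hid.eq_zero_of_isNilpotent hnil)).symm
  have h1 := key hf hc (blockIdemBar_mul_self hB) huu fun χ => by
    rw [hval, omegaBar_blockIdemBar hB]
  have h2 := key hc hf huu (blockIdemBar_mul_self hB) fun χ => by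
    rw [hval, omegaBar_blockIdemBar hB]
  rw [← h1, (hf.commute _).eq, h2]

/-- Each block of the centralizer of a `p`-subgroup induces a block. -/
theorem exists_isInducedBlock_centralizer {R : Subgroup G} (hR : IsPGroup p R)
    [Fintype (Subgroup.centralizer (R : Set G))]
    {b : Set (IrrCharacter (Subgroup.centralizer (R : Set G)))} (hb : IsPBlock M b) :
    ∃ B : Set (IrrCharacter G), IsInducedBlock M (Subgroup.centralizer (R : Set G)) b B := by
  classical
  have := charP_residueField hM
  set C := Subgroup.centralizer (R : Set G)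
  have hres : ∀ a : MonoidAlgebra (Res M) G, brauerMap R C a = resElt C a := fun a => by
    ext h
    rw [coeff_brauerMap, coeff_resElt, if_pos h.2]
  have hCN : C ≤ Subgroup.normalizer (R : Set G) := centralizer_le_normalizer' R
  obtain ⟨ξ, hξ⟩ := IsPBlock.nonempty hb
  obtain ⟨χ, hχ⟩ := exists_omegaBar_eq (M := M) (G := G) (fun a => omegaBar ξ (brauerMap R C a))
    (by simp only [brauerMap_one, omegaBar_one])
    (fun a c _ _ => by simp only [brauerMap_add, omegaBar_add])
    (fun c a _ => by simp only [brauerMap_smul, omegaBar_smul])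
    (fun a c ha hc => by
      show omegaBar ξ (brauerMap R C (a * c)) = _
      rw [brauerMap_mul hR (le_rfl : Subgroup.centralizer (R : Set G) ≤ C) ha hc]
      exact omegaBar_mul ξ (isCentralElt_brauerMap hCN ha) (isCentralElt_brauerMap hCN hc))
  exact ⟨_, isInducedBlock_of_rep hb (isPBlock_blockOf χ) hξ (mem_blockOf_self χ) fun a ha => by
    rw [← hres a]; exact hχ a ha⟩

/-- In a constrained group the block over an invariant character of the core is induced by
exactly one block of each centralizer of a `p`-subgroup. -/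
theorem existsUnique_inducing (hcon : IsPConstrained p G) (K : Subgroup G) [K.Normal] [Fintype K]
    (hKdef : K = pPrimeCore p G) {θ : IrrCharacter K} (hinv : ∀ g : G, conjIrr K g θ = θ)
    {B : Set (IrrCharacter G)} (hB : IsPBlock M B)
    (hiff : ∀ χ : IrrCharacter G, χ ∈ B ↔
      classInner (fun n : K => (χ : G → ℂ) n) (θ : K → ℂ) ≠ 0)
    (hSyl : ∀ S : Sylow p G, IsDefectGroup p M B (S : Subgroup G))
    {R : Subgroup G} (hR : IsPGroup p R) :
    ∃! f : Set (IrrCharacter (Subgroup.centralizer (R : Set G))),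
      IsInducedBlock M (Subgroup.centralizer (R : Set G)) f B := by
  classical
  have := charP_residueField hM
  set C := Subgroup.centralizer (R : Set G) with hC
  have := Fintype.ofFinite C
  have hKc : (Nat.card K).Coprime p := hKdef ▸ coprime_card_pPrimeCore p G
  have hK : ¬ p ∣ Nat.card K := (Nat.Prime.coprime_iff_not_dvd Fact.out).1 hKc.symm
  have hf := isCentralElt_blockIdemBar hB
  have hfB := blockIdemBar_over_invariant hM K hK hinv hB hiff
  set u := resElt C (blockIdemBar M B) with hu
  have huc : IsCentralElt u := isCentralElt_resElt C hf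
  obtain ⟨S, hS⟩ := hR.exists_le_sylow
  have hne : u ≠ 0 := by
    obtain ⟨g, hg, hgR⟩ := (exists_coeff_ne_zero_centralizer_iff hM hB (hSyl S) hR).2
      (SubConj.of_le hS)
    intro h0
    have := congrArg (fun a : MonoidAlgebra (Res M) C => a.coeff ⟨g, hgR⟩) h0
    simp only [hu, coeff_resElt, coeff_zero, Finsupp.coe_zero, Pi.zero_apply] at this
    exact hg this
  -- the core of the centralizer
  obtain ⟨hN, -, hCcon⟩ := PLocal.local_of_pConstrained (PLocal.isPConstrained_iff.1 hcon) hR
  set K' : Subgroup C := K.subgroupOf C with hK'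
  have := Fintype.ofFinite K'
  have hK'c : (Nat.card K').Coprime p := by
    refine hKc.coprime_dvd_left ?_
    exact Subgroup.card_comap_dvd_of_injective K C.subtype C.subtype_injective
  have hK'core : K' = pPrimeCore p C := by
    refine le_antisymm (le_pPrimeCore hK'c) fun c hc => Subgroup.mem_subgroupOf.2 ?_
    have hCN : C ≤ Subgroup.normalizer (R : Set G) := centralizer_le_normalizer' R
    have hnormC : (C.subgroupOf (Subgroup.normalizer (R : Set G))).Normal :=
      (Subgroup.normal_subgroupOf_iff_le_normalizer hCN).2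
        (Subgroup.le_normalizer_iff.2 fun g hg y hy => PLocal.mem_centralizer_iff_conj'.2 fun v hv => by
          have h1 : g⁻¹ * v * g ∈ R := (Subgroup.mem_normalizer_iff''.1 hg v).1 hv
          have h2 := PLocal.mem_centralizer_iff_conj'.1 hy _ h1
          calc g * y * g⁻¹ * v * (g * y * g⁻¹)⁻¹ = g * (y * (g⁻¹ * v * g) * y⁻¹) * g⁻¹ := by group
            _ = v := by rw [h2]; group)
    let e := Subgroup.subgroupOfEquivOfLe hCN
    have h1 : (pPrimeCore p (C.subgroupOf (Subgroup.normalizer (R : Set G)))).map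
        (C.subgroupOf (Subgroup.normalizer (R : Set G))).subtype ≤
          pPrimeCore p (Subgroup.normalizer (R : Set G)) :=
      map_subtype_pPrimeCore_le _
    have h2 : e.symm c ∈ pPrimeCore p (C.subgroupOf (Subgroup.normalizer (R : Set G))) :=
      map_pPrimeCore_le e.symm.toMonoidHom e.symm.surjective ⟨c, hc, rfl⟩
    have h3 := hN ▸ Subgroup.mem_map_of_mem (Subgroup.normalizer (R : Set G)).subtype
      (h1 ⟨_, h2, rfl⟩)
    exact hKdef ▸ (Subgroup.mem_inf.1 h3).1
  -- the corresponding character
  have hcopR : (Nat.card K).Coprime (Nat.card R) := by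
    obtain ⟨j, hj⟩ := IsPGroup.iff_card.1 hR
    rw [hj]; exact hKc.pow_right j
  have := Fintype.ofFinite ↥(K ⊓ C)
  obtain ⟨β, -, hβ⟩ := (Cfsg.Agent.S4444.result K R
    (fun s _ k hk => (inferInstance : K.Normal).conj_mem k hk s) hcopR p Fact.out hR (K ⊓ C) rfl
    inf_le_left).1 θ fun s _ k k' he => by
      conv_rhs => rw [← hinv s, Blocks.conjIrr_apply]
      exact congrArg (θ : K → ℂ) (Subtype.ext he)
  let e : K' ≃* ↥(K ⊓ C) :=
    (MulEquiv.subgroupCongr (Subgroup.inf_subgroupOf_right K C)).symm.trans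
      (Subgroup.subgroupOfEquivOfLe inf_le_right)
  have hsupp : ∀ c : C, c ∉ K' → u.coeff c = 0 := fun c hc => by
    rw [hu, coeff_resElt, hfB]
    exact coeff_incl_of_notMem _ fun h => hc (Subgroup.mem_subgroupOf.2 h)
  have huK' : IsCentralElt (resElt K' u) := isCentralElt_resElt K' huc
  have honly : ∀ η : IrrCharacter K', omegaBar η (resElt K' u) ≠ 0 → η = pullEquiv e β := by
    intro η hη
    obtain ⟨m, hm⟩ := IsChar.classInner_eq_natCast
      (IsChar.comp (Subgroup.inclusion (inf_le_left : K ⊓ C ≤ K)) (IsIrr.isCharacter θ.2))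
      (IsIrr.isCharacter ((pullEquiv e).symm η).2)
    have hmp : ¬ p ∣ m := by
      intro hd
      refine hη ?_
      let v : MonoidAlgebra (localRing M) K' :=
        resElt K' (resElt C (blockIdemO M B))
      have hv : IsCentralElt v :=
        isCentralElt_resElt K' (isCentralElt_resElt C (isCentralElt_blockIdemO hB))
      have hred : red M v = resElt K' u := by
        ext k
        rw [coeff_red, coeff_resElt, coeff_resElt, hu, coeff_resElt, coeff_resElt, blockIdemBar,
          coeff_red]
      let v' : MonoidAlgebra (localRing M) K' :=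
        ofFun fun k => (blockIdemO M ({θ} : Set (IrrCharacter K))).coeff
          ⟨((k : C) : G), Subgroup.mem_subgroupOf.1 k.2⟩
      have hb : IsPBlock M ({θ} : Set (IrrCharacter K)) :=
        ⟨θ, (blockOf_eq_singleton_of_coprime hM hK θ).symm⟩
      have hred' : red M v' = resElt K' u := by
        ext k
        rw [coeff_red, coeff_ofFun, coeff_resElt, hu, coeff_resElt, hfB]
        exact (coeff_red _ _).symm.trans (coeff_incl_coe _
          (⟨((k : C) : G), Subgroup.mem_subgroupOf.1 k.2⟩ : K)).symm
      have hv' : IsCentralElt v' := fun k t => by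
        simp only [v', coeff_ofFun]
        exact isCentralElt_blockIdemO hb ⟨((k : C) : G), Subgroup.mem_subgroupOf.1 k.2⟩
          ⟨((t : C) : G), Subgroup.mem_subgroupOf.1 t.2⟩
      rw [← hred', omegaBar_red η hv', residue_eq_zero_iff]
      show MemLocalIdeal M (omega (η : K' → ℂ) (inc M v'))
      have hval : omega (η : K' → ℂ) (inc M v') =
          ((charDegree (θ : K → ℂ) * Nat.card ↥(K ⊓ C) * m : ℕ) : ℂ) /
            ((Nat.card K * charDegree (η : K' → ℂ) : ℕ) : ℂ) := by
        have hcoef : ∀ k : K', ((v'.coeff k : localRing M) : ℂ) = (Nat.card K : ℂ)⁻¹ *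
            ((θ : K → ℂ) 1 *
              conj ((θ : K → ℂ) ⟨((k : C) : G), Subgroup.mem_subgroupOf.1 k.2⟩)) := fun k => by
          have h := congrArg (fun a => a.coeff
            (⟨((k : C) : G), Subgroup.mem_subgroupOf.1 k.2⟩ : K)) (inc_blockIdemO (M := M) hb)
          simp only [coeff_inc, coeff_blockIdem] at h
          rw [show v'.coeff k = _ from coeff_ofFun _ _, h, blockCoeff, finsum_mem_singleton]
        have hsum : ∑ k : K', conj ((θ : K → ℂ) ⟨((k : C) : G), Subgroup.mem_subgroupOf.1 k.2⟩) *
            (η : K' → ℂ) k = (Nat.card ↥(K ⊓ C) : ℂ) * m := by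
          have hconj := congrArg conj hm
          rw [map_natCast, classInner_conj_symm] at hconj
          rw [← hconj, classInner, ← mul_assoc,
            mul_inv_cancel₀ (Nat.cast_ne_zero.2 Nat.card_pos.ne'), one_mul]
          refine Fintype.sum_equiv e.toEquiv _ _ fun k => ?_
          rw [mul_comm]
          congr 1
        rw [omega_apply, ← CharDegree.cast_irrDegree η]
        simp only [coeff_inc, hcoef, mul_assoc, ← Finset.mul_sum, hsum]
        rw [← CharDegree.cast_irrDegree θ]
        push_cast
        field_simp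
      rw [hval]
      refine ⟨(charDegree (θ : K → ℂ) * Nat.card ↥(K ⊓ C) * m : ℕ),
        (Nat.card K * charDegree (η : K' → ℂ) : ℕ), ?_, ?_, by simp⟩
      · obtain ⟨t, ht⟩ := hd.mul_left (charDegree (θ : K → ℂ) * Nat.card ↥(K ⊓ C))
        rw [ht, Nat.cast_mul]
        exact Ideal.mul_mem_right _ _ hM.2.2
      · intro hmem
        have h1 : p ∣ Nat.card K * charDegree (η : K' → ℂ) :=
          (memLocalIdeal_natCast_iff hM).1 ⟨_, 1, hmem, one_notMem, by simp⟩
        rcases (Nat.Prime.dvd_mul Fact.out).1 h1 with h1 | h1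
        · exact hK h1
        · exact (Nat.Prime.coprime_iff_not_dvd Fact.out).1 hK'c.symm
            (h1.trans (CharDegree.charDegree_dvd_card η))
    rw [← hβ ((pullEquiv e).symm η) ⟨m, hm, hmp⟩, Equiv.apply_symm_apply]
  -- existence
  obtain ⟨ξ, hξ⟩ : ∃ ξ : IrrCharacter C, omegaBar ξ u ≠ 0 := by
    by_contra hcon'
    push Not at hcon'
    obtain ⟨n, hn⟩ := isNilpotent_of_omegaBar_eq_zero huc hcon'
    have hres : brauerMap R C (blockIdemBar M B) = u := by
      ext h
      rw [coeff_brauerMap, hu, coeff_resElt, if_pos h.2]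
    have hid : IsIdempotentElem u := by
      rw [IsIdempotentElem, ← hres, ← brauerMap_mul hR (le_rfl : Subgroup.centralizer (R : Set G) ≤ C) hf hf, blockIdemBar_mul_self hB]
    exact hne (hid.eq_zero_of_isNilpotent ⟨n, hn⟩)
  have hover : ∀ ξ' : IrrCharacter C, omegaBar ξ' u ≠ 0 →
      classInner (fun k : K' => (ξ' : C → ℂ) k) (pullEquiv e β : K' → ℂ) ≠ 0 ∧
        ∀ c : C, conjIrr K' c (pullEquiv e β) = pullEquiv e β := by
    intro ξ' hξ'
    obtain ⟨η, hη⟩ := exists_constituent K' ξ'
    rw [omegaBar_eq_omegaBar_resElt K' hη huc hsupp] at hξ'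
    have hηβ := honly η hξ'
    refine ⟨hηβ ▸ hη, fun c => ?_⟩
    have hc : classInner (fun k : K' => (ξ' : C → ℂ) k) (conjIrr K' c η : K' → ℂ) ≠ 0 := by
      rwa [classInner_conjIrr]
    have h := honly (conjIrr K' c η) (by
      rw [← omegaBar_eq_omegaBar_resElt K' hc huc hsupp,
        omegaBar_eq_omegaBar_resElt K' hη huc hsupp]
      exact hξ')
    rwa [hηβ] at h
  obtain ⟨Bc, hBc, hBciff, -⟩ := FongInvariant.exists_block_of_constrained hM hCcon hK'core
    (pullEquiv e β) (hover ξ hξ).2
  have hinduce : ∀ {f : Set (IrrCharacter C)}, IsPBlock M f → ∀ ξ' ∈ f,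
      (IsInducedBlock M C f B ↔ omegaBar ξ' u ≠ 0) := by
    intro f hf' ξ' hξ'
    obtain ⟨B', hB'⟩ := exists_isInducedBlock_centralizer hM hR hf'
    obtain ⟨-, hB'b, hind⟩ := isInducedBlock_iff.1 hB'
    obtain ⟨χ', hχ'⟩ := IsPBlock.nonempty hB'b
    have h1 := hind ξ' hξ' χ' hχ' _ hf
    rw [omegaBar_blockIdemBar hB, ← hu] at h1
    constructor
    · intro hBf
      rw [h1, if_pos ((IsInducedBlock.eq hB' hBf) ▸ hχ')]
      exact one_ne_zero
    · intro hne'
      have hmem : χ' ∈ B := by
        by_contra hn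
        rw [if_neg hn] at h1
        exact hne' h1
      rwa [IsPBlock.eq_of_mem hB hB'b hmem hχ']
  refine ⟨Bc, (hinduce hBc ξ ((hBciff ξ).2 (hover ξ hξ).1)).2 hξ, fun f hf' => ?_⟩
  obtain ⟨ξ', hξ'⟩ := IsPBlock.nonempty hf'.1
  exact IsPBlock.eq_of_mem hf'.1 hBc hξ'
    ((hBciff ξ').2 (hover ξ' ((hinduce hf'.1 ξ' hξ').1 hf')).1)

end CfsgLib.Blocks
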