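import Cfsg.Agent.Lib.Blocks.TopBlock
import Cfsg.Agent.Lib.Pairs.AbelianLocal
import Cfsg.Agent.Lib.Pairs.MaximalCriterion
import Cfsg.Agent.S4511
import Cfsg.Agent.S4689

/-!
# A rank one block with free inertial action and as many characters as the order of its defect group
-/

set_option autoImplicit false

namespace CfsgLib.Blocks

open Cfsg CfsgLib.Pairs

variable {G : Type*} [Group G] [Fintype G] {M : Ideal AlgInt} [M.IsPrime] {p : ℕ} [Fact p.Prime]
  {B : Set (IrrCharacter G)}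

/-- A block with one Brauer character in every local block and as many characters as the order of
its abelian defect group is nilpotent. -/
theorem isNilpotentBlock_of_local_rank_one (hM : IsPModular p M) {D : Subgroup G}
    {c : Set (IrrCharacter (Subgroup.centralizer (D : Set G)))}
    (hmax : IsMaximalBrauerPair p M B D c) (hab : ∀ x ∈ D, ∀ y ∈ D, x * y = y * x)
    (hrank : ∀ x : G, (∃ k : ℕ, orderOf x = p ^ k) → x ≠ 1 →
      ∀ b, IsInducedBlock M (Subgroup.centralizer (Subgroup.zpowers x : Set G)) b B →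
        blockRank p b = 1)
    (hl : blockRank p B = 1) (hk : Nat.card B = Nat.card D) : IsNilpotentBlock p M B := by
  classical
  refine (nilpotent_iff_inertial_trivial
    (isBlockFusionSystemOn_blockFusion hM hmax) hM hab).2 fun t ht => ?_
  by_contra htC
  have hB : IsPBlock M B := hmax.1.2.1
  -- representatives
  let P0 : Finset (ConjClasses G) :=
    (Set.toFinite {C : ConjClasses G | ∃ g, ConjClasses.mk g = C ∧ ∃ k : ℕ, orderOf g = p ^ k}).toFinset
  let X : Finset G := P0.image Quotient.out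
  have hout : ∀ g : G, IsConj g (Quotient.out (ConjClasses.mk g)) := fun g =>
    (ConjClasses.mk_eq_mk_iff_isConj.1 (Quotient.out_eq (ConjClasses.mk g))).symm
  have hX : ∀ x ∈ X, ∃ k : ℕ, orderOf x = p ^ k := by
    intro x hx
    obtain ⟨C, hC, rfl⟩ := Finset.mem_image.1 hx
    obtain ⟨g, rfl, k, hk⟩ := (Set.Finite.mem_toFinset _).1 hC
    obtain ⟨y, hy⟩ := isConj_iff.1 (hout g)
    exact ⟨k, by rw [← hy, show y * g * y⁻¹ = MulAut.conj y g from rfl, MulEquiv.orderOf_eq, hk]⟩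
  have hXrep : ∀ g : G, (∃ k : ℕ, orderOf g = p ^ k) → ∃! x, x ∈ X ∧ IsConj g x := by
    intro g hg
    refine ⟨_, ⟨Finset.mem_image.2 ⟨ConjClasses.mk g, (Set.Finite.mem_toFinset _).2
      ⟨g, rfl, hg⟩, rfl⟩, hout g⟩, fun x ⟨hx, hgx⟩ => ?_⟩
    obtain ⟨C, -, rfl⟩ := Finset.mem_image.1 hx
    congr 1
    rw [ConjClasses.mk_eq_mk_iff_isConj.2 hgx]
    exact (Quotient.out_eq C).symm
  have h := Cfsg.Agent.S4511.result p M hM B hB X hX hXrep
  have h1X : (1 : G) ∈ X := by
    obtain ⟨x, ⟨hx, hc⟩, -⟩ := hXrep 1 ⟨0, by simp⟩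
    rwa [isConj_one_right.1 hc] at hx
  -- the local blocks at one element
  have hlocal : ∀ x ∈ X, x ≠ 1 → ∀ H : Subgroup G,
      H = Subgroup.centralizer (Subgroup.zpowers x : Set G) →
      ∃ Φ : Set (IrrCharacter H) → G, ∀ b, IsInducedBlock M H b B →
        blockRank p b = 1 ∧ Φ b ∈ D ∧ Φ b ≠ 1 ∧ IsConj x (Φ b) ∧
          ∀ b', IsInducedBlock M H b' B → ∀ s ∈ pairStab D c, s * Φ b * s⁻¹ = Φ b' → b = b' := by
    rintro x hxX hx1 H rfl
    obtain ⟨k, hk'⟩ := hX x hxX
    have hp : IsPGroup p (Subgroup.zpowers x) :=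
      IsPGroup.of_card (n := k) (by rw [Nat.card_zpowers, hk'])
    have hC : Subgroup.zpowers x ≤ Subgroup.centralizer (Subgroup.zpowers x : Set G) := fun u hu =>
      Subgroup.mem_centralizer_iff.2 fun v hv => by
        obtain ⟨i, rfl⟩ := Subgroup.mem_zpowers_iff.1 hu
        obtain ⟨j, rfl⟩ := Subgroup.mem_zpowers_iff.1 hv
        rw [← zpow_add, ← zpow_add, add_comm]
    have hy : ∀ b, IsInducedBlock M (Subgroup.centralizer (Subgroup.zpowers x : Set G)) b B →
        ∃ y : G, Relation.ReflTransGen (NormalSubpairRel p M)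
          (conjPair y ⟨Subgroup.zpowers x, b⟩) ⟨D, c⟩ := fun b hb =>
      exists_conj_le hM hmax ((inducedFromCent_iff hM hp hC (isInducedBlock_iff.1 hb).1 B).1 hb)
    refine ⟨fun b => if hb : IsInducedBlock M (Subgroup.centralizer (Subgroup.zpowers x : Set G)) b B
      then (hy b hb).choose * x * (hy b hb).choose⁻¹ else 1, fun b hb => ?_⟩
    simp only [dif_pos hb]
    have hle := (hy b hb).choose_spec
    set y := (hy b hb).choose with hydef
    refine ⟨?_, le_of_subpairLE hle (Subgroup.mem_map_of_mem _ (Subgroup.mem_zpowers x)),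
      fun e => hx1 (conj_eq_one_iff.1 e), isConj_iff.2 ⟨y, rfl⟩, ?_⟩
    · exact hrank x (hX x hxX) hx1 b hb
    · intro b' hb' s hs hsb
      rw [dif_pos hb'] at hsb
      have hle2 := (hy b' hb').choose_spec
      set y' := (hy b' hb').choose with hy'def
      have h1 := subpairLE_conjPair s hle
      rw [mem_pairStab_iff_conjPair.1 hs, ← conjPair_mul] at h1
      have heq := eq_of_subpairLE hM hmax.1.1 h1 hle2 (by
        show (Subgroup.zpowers x).map (MulAut.conj (s * y)).toMonoidHom =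
          (Subgroup.zpowers x).map (MulAut.conj y').toMonoidHom
        rw [MonoidHom.map_zpowers, MonoidHom.map_zpowers]
        congr 1
        show s * y * x * (s * y)⁻¹ = y' * x * y'⁻¹
        rw [← hsb]
        group)
      have h2 := congrArg (conjPair y'⁻¹) heq
      rw [← conjPair_mul, ← conjPair_mul, inv_mul_cancel, conjPair_one] at h2
      have hg : y'⁻¹ * (s * y) ∈ Subgroup.centralizer (Subgroup.zpowers x : Set G) := by
        refine Subgroup.mem_centralizer_iff.2 fun v hv => ?_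
        obtain ⟨i, rfl⟩ := Subgroup.mem_zpowers_iff.1 hv
        have hc : Commute x (y'⁻¹ * (s * y)) := by
          show x * (y'⁻¹ * (s * y)) = y'⁻¹ * (s * y) * x
          calc x * (y'⁻¹ * (s * y)) = y'⁻¹ * (y' * x * y'⁻¹) * (s * y) := by group
            _ = _ := by rw [← hsb]; group
        exact (hc.zpow_left i).eq
      rw [mem_pairStab_iff_conjPair.1 (centralizer_le_pairStab _ b hg)] at h2
      exact eq_of_heq (Sigma.mk.inj_iff.1 h2).2
  have hcent : ∀ x : G, Subgroup.centralizer ({x} : Set G) =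
      Subgroup.centralizer (Subgroup.zpowers x : Set G) := fun x => by
    rw [Subgroup.zpowers_eq_closure, Subgroup.centralizer_closure]
  have hloc := fun x : G => fun hx : x ∈ X => fun hx1 : x ≠ 1 => hlocal x hx hx1 _ (hcent x)
  choose Φ hΦ using hloc
  -- the image of all local blocks
  let im : G → Finset G := fun x => if hx : x ∈ X ∧ x ≠ 1 then
    (Set.toFinite {b : Set (IrrCharacter (Subgroup.centralizer ({x} : Set G))) |
      IsInducedBlock M (Subgroup.centralizer ({x} : Set G)) b B}).toFinset.image (Φ x hx.1 hx.2) else ∅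
  have hmb : ∀ {x : G} {b : Set (IrrCharacter (Subgroup.centralizer ({x} : Set G)))},
      b ∈ (Set.toFinite {b : Set (IrrCharacter (Subgroup.centralizer ({x} : Set G))) |
        IsInducedBlock M (Subgroup.centralizer ({x} : Set G)) b B}).toFinset →
      IsInducedBlock M (Subgroup.centralizer ({x} : Set G)) b B := fun {x} {b} hb => by
    have h := (Set.Finite.mem_toFinset _).1 hb
    exact h
  have him : ∀ x (hxX : x ∈ X) (hx1 : x ≠ 1),
      ∑ᶠ b ∈ {b : Set (IrrCharacter (Subgroup.centralizer ({x} : Set G))) |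
        IsInducedBlock M (Subgroup.centralizer ({x} : Set G)) b B}, blockRank p b = (im x).card := by
    intro x hxX hx1
    simp only [im, dif_pos (show x ∈ X ∧ x ≠ 1 from ⟨hxX, hx1⟩)]
    rw [Finset.card_image_of_injOn, finsum_mem_eq_finite_toFinset_sum _ (Set.toFinite _),
      Finset.card_eq_sum_ones]
    · exact Finset.sum_congr rfl fun b hb =>
        (hΦ x hxX hx1 b (hmb hb)).1
    · intro b hb b' hb' e
      exact (hΦ x hxX hx1 b (hmb hb)).2.2.2.2 b'
        (hmb hb') 1 (one_mem _) (by simpa using e)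
  have hmem : ∀ x u, u ∈ im x → u ∈ D ∧ u ≠ 1 ∧ x ∈ X ∧ IsConj x u := by
    intro x u hu
    simp only [im] at hu
    split_ifs at hu with hx
    · obtain ⟨b, hb, rfl⟩ := Finset.mem_image.1 hu
      obtain ⟨-, h1, h2, h3, -⟩ := hΦ x hx.1 hx.2 b (hmb hb)
      exact ⟨h1, h2, hx.1, h3⟩
    · simp at hu
  have hdisj : ∀ x u x' u', u ∈ im x → u' ∈ im x' → IsConj u u' → x = x' := by
    intro x u x' u' hu hu' huu
    obtain ⟨-, -, hx, hxu⟩ := hmem x u hu
    obtain ⟨-, -, hx', hxu'⟩ := hmem x' u' hu'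
    exact (hXrep x (hX x hx)).unique ⟨hx, IsConj.refl x⟩ ⟨hx', hxu.trans (huu.trans hxu'.symm)⟩
  set S := (X.erase 1).biUnion im with hS
  have hkS : Nat.card B = 1 + S.card := by
    rw [h, ← Finset.add_sum_erase _ _ h1X, sum_blockRank_centralizer_one p hB _
      (eq_top_iff.2 fun g _ => Subgroup.mem_centralizer_singleton_iff.2 (by simp)), hl, hS,
      Finset.card_biUnion fun x _ x' _ hne => Finset.disjoint_left.2 fun u hu hu' =>
        hne (hdisj x u x' u hu hu' (IsConj.refl u))]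
    exact congrArg (1 + ·) (Finset.sum_congr rfl fun x hx =>
      him x (Finset.mem_erase.1 hx).2 (Finset.mem_erase.1 hx).1)
  obtain ⟨u₀, hu₀D, hne⟩ : ∃ u₀ ∈ D, t * u₀ * t⁻¹ ≠ u₀ := by
    by_contra! h
    exact htC (Subgroup.mem_centralizer_iff.2 fun v hv => (mul_inv_eq_iff_eq_mul.1 (h v hv)).symm)
  have hu₀1 : u₀ ≠ 1 := fun e => hne (by rw [e, mul_one, mul_inv_cancel])
  set u₁ := t * u₀ * t⁻¹ with hu₁
  have hu₁D : u₁ ∈ D := (Subgroup.mem_normalizer_iff.1 (pairStab_le_normalizer D c ht) _).1 hu₀D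
  have hu₁1 : u₁ ≠ 1 := fun e => hu₀1 (conj_eq_one_iff.1 e)
  have hnot : ¬ (u₀ ∈ S ∧ u₁ ∈ S) := by
    rintro ⟨h0, h1⟩
    obtain ⟨x, -, hu⟩ := Finset.mem_biUnion.1 h0
    obtain ⟨x', -, hu'⟩ := Finset.mem_biUnion.1 h1
    obtain rfl : x = x' := hdisj x u₀ x' u₁ hu hu' (isConj_iff.2 ⟨t, rfl⟩)
    simp only [im] at hu hu'
    split_ifs at hu hu' with hx
    · obtain ⟨b, hb, hbu⟩ := Finset.mem_image.1 hu
      obtain ⟨b', hb', hbu'⟩ := Finset.mem_image.1 hu'
      have e := (hΦ x hx.1 hx.2 b (hmb hb)).2.2.2.2 b'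
        (hmb hb') t ht (by rw [hbu, hbu'])
      rw [← e, hbu] at hbu'
      exact hne hbu'.symm
    · simp at hu
  have hsub : S ⊂ (Set.toFinite (D : Set G)).toFinset.erase 1 := by
    refine Finset.ssubset_iff_subset_ne.2 ⟨fun u hu => ?_, fun e => hnot ?_⟩
    · obtain ⟨x, -, hu⟩ := Finset.mem_biUnion.1 hu
      obtain ⟨h1, h2, -, -⟩ := hmem x u hu
      exact Finset.mem_erase.2 ⟨h2, (Set.Finite.mem_toFinset _).2 h1⟩
    · rw [e]
      exact ⟨Finset.mem_erase.2 ⟨hu₀1, (Set.Finite.mem_toFinset _).2 hu₀D⟩,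
        Finset.mem_erase.2 ⟨hu₁1, (Set.Finite.mem_toFinset _).2 hu₁D⟩⟩
  have hlt := Finset.card_lt_card hsub
  rw [Finset.card_erase_of_mem ((Set.Finite.mem_toFinset _).2 D.one_mem),
    ← Set.ncard_eq_toFinset_card (D : Set G), ← Nat.card_coe_set_eq] at hlt
  change S.card < Nat.card D - 1 at hlt
  omega

theorem isNilpotentBlock_of_rank_one_of_card_eq (hM : IsPModular p M) {D : Subgroup G}
    {c : Set (IrrCharacter (Subgroup.centralizer (D : Set G)))}
    (hmax : IsMaximalBrauerPair p M B D c) (hab : ∀ x ∈ D, ∀ y ∈ D, x * y = y * x)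
    (hfree : ∀ g ∈ pairStab D c, ∀ x ∈ D, x ≠ 1 → g * x * g⁻¹ = x →
      g ∈ Subgroup.centralizer (D : Set G))
    (hl : blockRank p B = 1) (hk : Nat.card B = Nat.card D) : IsNilpotentBlock p M B := by
  refine isNilpotentBlock_of_local_rank_one hM hmax hab (fun x hx hx1 b hb => ?_) hl hk
  obtain ⟨k, hk'⟩ := hx
  have hp : IsPGroup p (Subgroup.zpowers x) :=
    IsPGroup.of_card (n := k) (by rw [Nat.card_zpowers, hk'])
  have hC : Subgroup.zpowers x ≤ Subgroup.centralizer (Subgroup.zpowers x : Set G) := fun u hu =>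
    Subgroup.mem_centralizer_iff.2 fun v hv => by
      obtain ⟨i, rfl⟩ := Subgroup.mem_zpowers_iff.1 hu
      obtain ⟨j, rfl⟩ := Subgroup.mem_zpowers_iff.1 hv
      rw [← zpow_add, ← zpow_add, add_comm]
  obtain ⟨y, hle⟩ := exists_conj_le hM hmax
    ((inducedFromCent_iff hM hp hC (isInducedBlock_iff.1 hb).1 B).1 hb)
  -- the local block is nilpotent
  have hmax' : IsMaximalBrauerPair p M B (conjPair y⁻¹ ⟨D, c⟩).1 (conjPair y⁻¹ ⟨D, c⟩).2 :=
    isMaximalBrauerPair_conjPair y⁻¹ (a := ⟨D, c⟩) hmax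
  have hle' : Relation.ReflTransGen (NormalSubpairRel p M) ⟨Subgroup.zpowers x, b⟩
      (conjPair y⁻¹ ⟨D, c⟩) := by
    have h := subpairLE_conjPair y⁻¹ hle
    rwa [← conjPair_mul, inv_mul_cancel, conjPair_one] at h
  have hmem : ∀ u ∈ (conjPair y⁻¹ ⟨D, c⟩).1, y * u * y⁻¹ ∈ D := by
    rintro _ ⟨u, hu, rfl⟩
    show y * (y⁻¹ * u * y⁻¹⁻¹) * y⁻¹ ∈ D
    simpa [mul_assoc] using hu
  have hab' : ∀ u ∈ (conjPair y⁻¹ ⟨D, c⟩).1, ∀ v ∈ (conjPair y⁻¹ ⟨D, c⟩).1, u * v = v * u := by
    intro u hu v hv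
    have h := hab _ (hmem u hu) _ (hmem v hv)
    rw [← mul_right_inj y, ← mul_left_inj y⁻¹]
    simpa [mul_assoc] using h
  have hfree' : ∀ g ∈ pairStab (conjPair y⁻¹ ⟨D, c⟩).1 (conjPair y⁻¹ ⟨D, c⟩).2,
      ∀ u ∈ (conjPair y⁻¹ ⟨D, c⟩).1, u ≠ 1 → g * u * g⁻¹ = u →
        g ∈ Subgroup.centralizer ((conjPair y⁻¹ ⟨D, c⟩).1 : Set G) := by
    intro g hg u hu hu1 hgu
    have hg' : y * g * y⁻¹ ∈ pairStab D c := by
      rw [mem_pairStab_iff_conjPair] at hg ⊢
      rw [conjPair_mul, conjPair_mul, hg, ← conjPair_mul, mul_inv_cancel, conjPair_one]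
    have h := hfree _ hg' _ (hmem u hu) (fun e => hu1 (conj_eq_one_iff.1 e)) (by
      calc y * g * y⁻¹ * (y * u * y⁻¹) * (y * g * y⁻¹)⁻¹ = y * (g * u * g⁻¹) * y⁻¹ := by group
        _ = _ := by rw [hgu])
    refine Subgroup.mem_centralizer_iff.2 fun v hv => ?_
    have h' := Subgroup.mem_centralizer_iff.1 h _ (hmem v hv)
    rw [← mul_right_inj y, ← mul_left_inj y⁻¹]
    simpa [mul_assoc] using h'
  have hnil := (free_iff_local_nilpotent hM hmax' hab').1 hfree' (Subgroup.zpowers x)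
    (le_of_subpairLE hle') (Subgroup.zpowers_ne_bot.2 hx1) b
    (inducedIn_of_subpair hM hmax' hab' hle')
  exact (Cfsg.Agent.S4689.result p M hM b hnil).1


end CfsgLib.Blocks
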