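import Cfsg.Agent.Lib.Blocks.TopBlock
import Cfsg.Agent.Lib.Pairs.AbelianLocal
import Cfsg.Agent.Lib.Pairs.MaximalCriterion
import Cfsg.Agent.S4511
import Cfsg.Agent.S4669

/-!
# Blocks of rank one with a defect group of order three that is inverted
-/

set_option autoImplicit false

namespace CfsgLib.Blocks

open Cfsg CfsgLib.Pairs

variable {G : Type*} [Group G] [Fintype G] {M : Ideal AlgInt} [M.IsPrime] {p : ℕ} [Fact p.Prime]
  {B : Set (IrrCharacter G)}

omit [Fintype G] [M.IsPrime] [Fact p.Prime] in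
/-- The elements of a group of order three. -/
theorem eq_or_eq_of_card_three {Q : Subgroup G} (hQ : Nat.card Q = 3) {a : G} (ha : a ∈ Q)
    (ha1 : a ≠ 1) {v : G} (hv : v ∈ Q) : v = 1 ∨ v = a ∨ v = a⁻¹ := by
  have : Fact (Nat.Prime 3) := ⟨Nat.prime_three⟩
  have : Finite Q := Nat.finite_of_card_ne_zero (by omega)
  have hne : (⟨a, ha⟩ : Q) ≠ 1 := fun e => ha1 (congrArg Subtype.val e)
  have ho : orderOf (⟨a, ha⟩ : Q) = 3 := orderOf_eq_card_of_forall_mem_zpowers
    (fun x => mem_zpowers_of_prime_card hQ hne) |>.trans hQ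
  obtain ⟨i, hi⟩ := Submonoid.mem_powers_iff _ _ |>.1
    ((mem_powers_iff_mem_zpowers).2 (mem_zpowers_of_prime_card hQ hne (g' := ⟨v, hv⟩)))
  rw [← pow_mod_orderOf, ho] at hi
  have hv' : v = a ^ (i % 3) := by rw [← Subgroup.coe_mk Q v hv, ← hi, Subgroup.coe_pow]
  have h3 : a ^ 3 = 1 := by
    have := congrArg Subtype.val (pow_orderOf_eq_one (⟨a, ha⟩ : Q))
    rwa [ho] at this
  rcases (by omega : i % 3 = 0 ∨ i % 3 = 1 ∨ i % 3 = 2) with e | e | e <;> rw [e] at hv'
  · exact Or.inl (by simpa using hv')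
  · exact Or.inr (Or.inl (by simpa using hv'))
  · exact Or.inr (Or.inr (hv'.trans (eq_inv_of_mul_eq_one_left (by rw [← pow_succ, h3]))))

omit [Fintype G] [M.IsPrime] [Fact p.Prime] in
/-- An element normalizing a group of order three either centralizes it or inverts it. -/
theorem conj_eq_inv_of_card_three {Q : Subgroup G} (hQ : Nat.card Q = 3) {t : G}
    (ht : t ∈ Subgroup.normalizer (Q : Set G)) (htC : t ∉ Subgroup.centralizer (Q : Set G))
    {a : G} (ha : a ∈ Q) : t * a * t⁻¹ = a⁻¹ := by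
  rcases eq_or_ne a 1 with rfl | ha1
  · simp
  have hgen : ∀ v ∈ Q, v = 1 ∨ v = a ∨ v = a⁻¹ := fun v hv => eq_or_eq_of_card_three hQ ha ha1 hv
  rcases hgen _ ((Subgroup.mem_normalizer_iff.1 ht a).1 ha) with e | e | e
  · exact absurd (conj_eq_one_iff.1 e) ha1
  · refine absurd (Subgroup.mem_centralizer_iff.2 fun v hv => ?_) htC
    have hc : Commute t a := mul_inv_eq_iff_eq_mul.1 e
    rcases hgen v hv with rfl | rfl | rfl
    · simp
    · exact hc.eq.symm
    · exact (hc.inv_right).eq.symm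
  · exact e

variable (hM : IsPModular p M)
include hM

/-- A block of rank one with defect group of order three and `k ≥ 3` is nilpotent. -/
theorem isNilpotentBlock_of_rank_one_order_three {D : Subgroup G} (hB : IsPBlock M B)
    (hD : IsDefectGroup p M B D) (hcard : Nat.card D = 3) (hl : blockRank p B = 1)
    (hk : 3 ≤ Nat.card B) : IsNilpotentBlock p M B := by
  classical
  by_contra hnil
  -- every maximal pair on a group of order three has an inverting element
  have hall : ∀ (Q : Subgroup G) (e : Set (IrrCharacter (Subgroup.centralizer (Q : Set G)))),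
      IsMaximalBrauerPair p M B Q e → Nat.card Q = 3 →
        ∃ t ∈ pairStab Q e, t ∉ Subgroup.centralizer (Q : Set G) := by
    intro Q e hmax hQ
    by_contra h
    push Not at h
    refine hnil ((nilpotent_iff_inertial_trivial
      (isBlockFusionSystemOn_blockFusion hM hmax) hM ?_).2 h)
    intro x hx y hy
    have : Fact (Nat.Prime 3) := ⟨Nat.prime_three⟩
    have := isCyclic_of_prime_card (α := Q) hQ
    obtain ⟨g, hg⟩ := IsCyclic.exists_generator (α := Q)
    obtain ⟨i, hi⟩ := Subgroup.mem_zpowers_iff.1 (hg ⟨x, hx⟩)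
    obtain ⟨j, hj⟩ := Subgroup.mem_zpowers_iff.1 (hg ⟨y, hy⟩)
    exact congrArg Subtype.val (show (⟨x, hx⟩ : Q) * ⟨y, hy⟩ = ⟨y, hy⟩ * ⟨x, hx⟩ by
      rw [← hi, ← hj, ← zpow_add, ← zpow_add, add_comm])
  obtain ⟨c, hc⟩ := exists_pairOf_of_isDefectGroup hM hB hD
  have hmax := Pairs.isMaximal_of_isDefectGroup hM hc hD
  obtain ⟨t, ht, htC⟩ := hall D c hmax hcard
  obtain ⟨a, haD, ha1⟩ := D.bot_or_exists_ne_one.resolve_left (fun e => by
    rw [e, Subgroup.card_bot] at hcard; omega)
  -- elements carrying pairs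
  have hsupp : ∀ x : G, x ≠ 1 → ∀ e, IsBrauerPairOf p M B (Subgroup.zpowers x) e →
      orderOf x = 3 ∧ IsConj x a := by
    intro x hx1 e he
    obtain ⟨y, hy⟩ := exists_conj_le hM hmax he
    have h1 : y * x * y⁻¹ ∈ D :=
      le_of_subpairLE hy (Subgroup.mem_map_of_mem _ (Subgroup.mem_zpowers x))
    have hne : y * x * y⁻¹ ≠ 1 := fun e => hx1 (conj_eq_one_iff.1 e)
    have : Fact (Nat.Prime 3) := ⟨Nat.prime_three⟩
    have ho : orderOf (y * x * y⁻¹) = 3 := by
      rw [← Subgroup.orderOf_mk (H := D) _ h1]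
      exact orderOf_eq_card_of_forall_mem_zpowers (fun z => mem_zpowers_of_prime_card hcard
        (fun e => hne (congrArg Subtype.val e))) |>.trans hcard
    refine ⟨by rwa [show y * x * y⁻¹ = MulAut.conj y x from rfl, MulEquiv.orderOf_eq] at ho,
      (isConj_iff.2 ⟨y, rfl⟩).trans ?_⟩
    by_cases hya : y * x * y⁻¹ = a
    · exact hya ▸ IsConj.refl _
    · refine isConj_iff.2 ⟨t, ?_⟩
      have hz := ((eq_or_eq_of_card_three hcard haD ha1 h1).resolve_left hne).resolve_left hya
      rw [conj_eq_inv_of_card_three hcard (pairStab_le_normalizer D c ht) htC h1, hz, inv_inv]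
  -- representatives
  let P0 : Finset (ConjClasses G) :=
    (Set.toFinite {C : ConjClasses G | ∃ g, ConjClasses.mk g = C ∧ ∃ k : ℕ, orderOf g = p ^ k}).toFinset
  let X : Finset G := P0.image Quotient.out
  have hout : ∀ g : G, IsConj g (Quotient.out (ConjClasses.mk g)) := fun g =>
    (ConjClasses.mk_eq_mk_iff_isConj.1 (Quotient.out_eq (ConjClasses.mk g))).symm
  have hX : ∀ x ∈ X, ∃ k : ℕ, orderOf x = p ^ k := by
    intro x hx
    obtain ⟨C, hC, rfl⟩ := Finset.mem_image.1 hx
    obtain ⟨g, rfl, k, hk⟩ := (Set.Finite.mem_toFinset _).1 hC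
    obtain ⟨y, hy⟩ := isConj_iff.1 (hout g)
    exact ⟨k, by rw [← hy, show y * g * y⁻¹ = MulAut.conj y g from rfl, MulEquiv.orderOf_eq, hk]⟩
  have hXrep : ∀ g : G, (∃ k : ℕ, orderOf g = p ^ k) → ∃! x, x ∈ X ∧ IsConj g x := by
    intro g hg
    refine ⟨_, ⟨Finset.mem_image.2 ⟨ConjClasses.mk g, (Set.Finite.mem_toFinset _).2
      ⟨g, rfl, hg⟩, rfl⟩, hout g⟩, fun x ⟨hx, hgx⟩ => ?_⟩
    obtain ⟨C, -, rfl⟩ := Finset.mem_image.1 hx
    congr 1
    rw [ConjClasses.mk_eq_mk_iff_isConj.2 hgx]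
    exact (Quotient.out_eq C).symm
  have h := Cfsg.Agent.S4511.result p M hM B hB X hX hXrep
  -- all summands
  have h1X : (1 : G) ∈ X := by
    obtain ⟨x, ⟨hx, hc⟩, -⟩ := hXrep 1 ⟨0, by simp⟩
    rwa [isConj_one_right.1 hc] at hx
  have hlocal : ∀ x ∈ X, x ≠ 1 → ∀ H : Subgroup G,
      H = Subgroup.centralizer (Subgroup.zpowers x : Set G) →
      (∀ b : Set (IrrCharacter H), IsInducedBlock M H b B → IsConj x a ∧ blockRank p b = 1) ∧
      ∀ b b' : Set (IrrCharacter H), IsInducedBlock M H b B → IsInducedBlock M H b' B → b = b' := by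
    rintro x hxX hx1 H rfl
    obtain ⟨k, hk⟩ := hX x hxX
    have hp : IsPGroup p (Subgroup.zpowers x) :=
      IsPGroup.of_card (n := k) (by rw [Nat.card_zpowers, hk])
    have hC : Subgroup.zpowers x ≤ Subgroup.centralizer (Subgroup.zpowers x : Set G) := fun u hu =>
      Subgroup.mem_centralizer_iff.2 fun v hv => by
        obtain ⟨i, rfl⟩ := Subgroup.mem_zpowers_iff.1 hu
        obtain ⟨j, rfl⟩ := Subgroup.mem_zpowers_iff.1 hv
        rw [← zpow_add, ← zpow_add, add_comm]
    have hmaxof : ∀ b, IsInducedBlock M (Subgroup.centralizer (Subgroup.zpowers x : Set G)) b B →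
        IsMaximalBrauerPair p M B (Subgroup.zpowers x) b ∧ orderOf x = 3 ∧ IsConj x a := by
      intro b hb
      have he := (inducedFromCent_iff hM hp hC (isInducedBlock_iff.1 hb).1 B).1 hb
      obtain ⟨ho, hconj⟩ := hsupp x hx1 b he
      refine ⟨⟨he, fun R g hR hle => ?_⟩, ho, hconj⟩
      obtain ⟨R', g', hR', hle'⟩ := exists_maximal_above hR
      refine (Subgroup.eq_of_le_of_card_ge (le_of_subpairLE hle) ?_).symm
      refine (Nat.le_of_dvd Nat.card_pos (Subgroup.card_dvd_of_le (le_of_subpairLE hle'))).trans ?_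
      rw [Nat.card_zpowers, ho, ← hcard, IsDefectGroup.card_eq hM hB hD,
        IsDefectGroup.card_eq hM hB (isDefectGroup_of_maximal hM hR')]
    refine ⟨fun b hb => ?_, fun b b' hb hb' => ?_⟩
    · obtain ⟨hmaxb, ho, hconj⟩ := hmaxof b hb
      refine ⟨hconj, Cfsg.Agent.S4669.result p M hM b hmaxb.1.1.2 _
        (isDefectGroup_center_of_maximal hM hmaxb.1.1 hmaxb) (subgroupOf_le_center hM hmaxb.1.1)⟩
    · obtain ⟨hmaxb, ho, -⟩ := hmaxof b hb
      obtain ⟨n, rfl⟩ := mem_orbit.1 (mem_orbit_of_maximal hM hmaxb (hmaxof b' hb').1)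
      obtain ⟨s, hs, hsC⟩ := hall _ b hmaxb (by rw [Nat.card_zpowers, ho])
      have hn : (n : G) ∈ pairStab (Subgroup.zpowers x) b := by
        by_cases hnC : (n : G) ∈ Subgroup.centralizer (Subgroup.zpowers x : Set G)
        · exact centralizer_le_pairStab _ _ hnC
        have hsn : s⁻¹ * (n : G) ∈ Subgroup.centralizer (Subgroup.zpowers x : Set G) := by
          refine Subgroup.mem_centralizer_iff.2 fun v hv => ?_
          have h3 : Nat.card (Subgroup.zpowers x) = 3 := by rw [Nat.card_zpowers, ho]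
          have e1 := conj_eq_inv_of_card_three h3 (pairStab_le_normalizer _ b hs) hsC hv
          have e2 := conj_eq_inv_of_card_three h3 n.2 hnC hv
          rw [← e1] at e2
          calc v * (s⁻¹ * n) = s⁻¹ * (s * v * s⁻¹) * n := by group
            _ = s⁻¹ * ((n : G) * v * (n : G)⁻¹) * n := by rw [e2]
            _ = s⁻¹ * n * v := by group
        have := mul_mem hs (centralizer_le_pairStab _ b hsn)
        rwa [mul_inv_cancel_left] at this
      have h2 := mem_pairStab_iff_conjPair.1 hn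
      rw [conjPair_self n.2 (normalizer_conj_centralizer n)] at h2
      exact ((Sigma.mk.inj_iff.1 h2).2.eq).symm
  have hcent : ∀ x : G, Subgroup.centralizer ({x} : Set G) =
      Subgroup.centralizer (Subgroup.zpowers x : Set G) := fun x => by
    rw [Subgroup.zpowers_eq_closure, Subgroup.centralizer_closure]
  obtain ⟨x0, ⟨hx0X, hax0⟩, hx0u⟩ := hXrep a ⟨1, by
    have : Fact (Nat.Prime 3) := ⟨Nat.prime_three⟩
    have ho : orderOf a = 3 := by
      rw [← Subgroup.orderOf_mk (H := D) _ haD]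
      exact orderOf_eq_card_of_forall_mem_zpowers (fun z => mem_zpowers_of_prime_card hcard
        (fun e => ha1 (congrArg Subtype.val e))) |>.trans hcard
    obtain ⟨k, hk⟩ := (IsDefectGroup.isPGroup hD) ⟨a, haD⟩
    have hd := orderOf_dvd_of_pow_eq_one hk
    rw [Subgroup.orderOf_mk, ho] at hd
    rw [ho, pow_one]
    exact (Nat.prime_dvd_prime_iff_eq Nat.prime_three hM.1).1 (Nat.prime_three.dvd_of_dvd_pow hd)⟩
  have hzero : ∀ x ∈ X, x ≠ 1 → x ≠ x0 →
      ∑ᶠ b ∈ {b : Set (IrrCharacter (Subgroup.centralizer ({x} : Set G))) |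
        IsInducedBlock M (Subgroup.centralizer ({x} : Set G)) b B}, blockRank p b = 0 := by
    intro x hx hx1 hxx
    refine finsum_mem_eq_zero_of_forall_eq_zero fun b hb => absurd ?_ hxx
    exact hx0u x ⟨hx, (((hlocal x hx hx1 _ (hcent x)).1 b hb).1).symm⟩
  have hone : ∀ x ∈ X, x ≠ 1 →
      ∑ᶠ b ∈ {b : Set (IrrCharacter (Subgroup.centralizer ({x} : Set G))) |
        IsInducedBlock M (Subgroup.centralizer ({x} : Set G)) b B}, blockRank p b ≤ 1 := by
    intro x hx hx1
    obtain ⟨h1, h2⟩ := hlocal x hx hx1 _ (hcent x)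
    by_cases hex : ∃ b, IsInducedBlock M (Subgroup.centralizer ({x} : Set G)) b B
    · obtain ⟨b, hb⟩ := hex
      rw [show {b' | IsInducedBlock M (Subgroup.centralizer ({x} : Set G)) b' B} = {b} from
        Set.eq_singleton_iff_unique_mem.2 ⟨hb, fun b' hb' => h2 b' b hb' hb⟩, finsum_mem_singleton,
        (h1 b hb).2]
    · push Not at hex
      refine (le_of_eq (finsum_mem_eq_zero_of_forall_eq_zero fun b hb => absurd ?_ (hex b))).trans
        (Nat.zero_le _)
      exact hb
  have hC1 : Subgroup.centralizer ({1} : Set G) = ⊤ := eq_top_iff.2 fun g _ =>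
    Subgroup.mem_centralizer_singleton_iff.2 (by simp)
  have hx01 : x0 ≠ 1 := fun e => ha1 (isConj_one_left.1 (e ▸ hax0))
  rw [← Finset.sum_subset (s₁ := {1, x0}) (fun x hx => by
      rcases Finset.mem_insert.1 hx with rfl | hx
      · exact h1X
      · rw [Finset.mem_singleton.1 hx]; exact hx0X)
    (fun x hx hnot => hzero x hx (fun e => hnot (by simp [e])) fun e => hnot (by simp [e])),
    Finset.sum_pair (Ne.symm hx01), sum_blockRank_centralizer_one p hB _ hC1, hl] at h
  have := hone x0 hx0X hx01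
  omega

end CfsgLib.Blocks
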