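import Cfsg.Agent.Lib.Blocks.RegularValues
import Cfsg.Agent.Lib.Char.Indicator
import Cfsg.Agent.Lib.Char.ComplexAut
import Cfsg.Agent.Lib.CharDegree.IndicatorVal

/-!
# Real characters of the principal block of odd characteristic

The indicator-weighted sums over the `p`-regular elements of the real characters of the principal
block add up to the number of `p`-regular elements, and none of these sums vanishes.  Hence the
non-principal real characters of the block are not all Galois conjugate to one of them.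
-/

namespace CfsgLib.Blocks.RealPrincipal

open Cfsg
open CfsgLib.Char
open scoped ComplexConjugate

universe u

variable {M : Ideal AlgInt} [M.IsPrime] {p : ℕ} (hM : IsPModular p M)
variable {X : Type u} [Group X] [Fintype X]

include hM in
/-- The sum over the `p`-regular elements of any character of the principal block is non-zero. -/
theorem sum_regular_ne_zero_of_mem [Fact p.Prime] {χ : IrrCharacter X}
    (h : χ ∈ principalBlock M X) :
    ∑ g ∈ Finset.univ.filter (fun g : X => ¬ p ∣ orderOf g), (χ : X → ℂ) g ≠ 0 := by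
  classical
  have := Fintype.ofFinite (ConjClasses X)
  have hne := Char.IsIrr.apply_one_ne_zero χ.2
  have hs : SameBlock M (Char.trivChar X : X → ℂ) (χ : X → ℂ) := h
  intro h0
  set R : Finset X := Finset.univ.filter (fun g : X => ¬ p ∣ orderOf g) with hR
  set S : ConjClasses X → Finset X := fun C => R.filter fun g => ConjClasses.mk g = C with hS
  have hdiv : ∑ C : ConjClasses X, (∑ g ∈ S C, (χ : X → ℂ) g / (χ : X → ℂ) 1) = 0 := by
    rw [Finset.sum_fiberwise R ConjClasses.mk, ← Finset.sum_div, h0, zero_div]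
  have hfib : ∀ C : ConjClasses X,
      (∑ g ∈ S C, (χ : X → ℂ) g / (χ : X → ℂ) 1) ∈ localRing M ∧
      rv M (∑ g ∈ S C, (χ : X → ℂ) g / (χ : X → ℂ) 1) = ((S C).card : Res M) := by
    intro C
    obtain ⟨c, rfl⟩ := ConjClasses.mk_surjective C
    have hconst : ∀ g ∈ S (ConjClasses.mk c), (χ : X → ℂ) g = (χ : X → ℂ) c := fun g hg =>
      Char.isClassFunction_iff_isConj.mp (Char.IsIrr.isClassFunction χ.2) _ _
        (ConjClasses.mk_eq_mk_iff_isConj.mp (Finset.mem_filter.mp hg).2)
    by_cases hc : p ∣ orderOf c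
    · have h1 : S (ConjClasses.mk c) = ∅ := Finset.eq_empty_of_forall_notMem fun g hg => by
        obtain ⟨hg1, hg2⟩ := Finset.mem_filter.mp hg
        obtain ⟨a, ha⟩ := isConj_iff.mp (ConjClasses.mk_eq_mk_iff_isConj.mp hg2)
        refine (Finset.mem_filter.mp hg1).2 (hc.trans (dvd_of_eq ?_))
        rw [← ha, ← MulAut.conj_apply, MulEquiv.orderOf_eq]
      have h2 : rv M (0 : ℂ) = 0 := by simpa using rv_natCast (M := M) 0
      rw [h1]
      simp [h2]
    · have hcard : (S (ConjClasses.mk c)).card = (Subgroup.centralizer ({c} : Set X)).index := by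
        rw [← Char.card_carrier_eq_index, Nat.card_eq_fintype_card,
          ← Fintype.card_coe (S (ConjClasses.mk c))]
        refine Fintype.card_congr (Equiv.subtypeEquivRight fun g => ?_)
        simp only [hS, hR, Finset.mem_filter, Finset.mem_univ, true_and,
          ConjClasses.mem_carrier_iff_mk_eq]
        refine ⟨fun h => h.2, fun h => ⟨fun hd => hc ?_, h⟩⟩
        obtain ⟨a, ha⟩ := isConj_iff.mp (ConjClasses.mk_eq_mk_iff_isConj.mp h)
        rwa [← ha, ← MulAut.conj_apply, MulEquiv.orderOf_eq]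
      have hval : ∑ g ∈ S (ConjClasses.mk c), (χ : X → ℂ) g / (χ : X → ℂ) 1 =
          ((centralCharO M χ c : localRing M) : ℂ) := by
        rw [Finset.sum_congr rfl fun g hg => by rw [hconst g hg], Finset.sum_const, hcard,
          nsmul_eq_mul, mul_div_assoc']
        rfl
      rw [hval]
      refine ⟨Subtype.prop _, ?_⟩
      rw [rv_coe, hcard, ← centralCharBar_trivChar (M := M) c, sameBlock_iff.mp hs c]
      rfl
  have h1 := congrArg (rv M) hdiv
  rw [rv_sum _ _ fun C _ => (hfib C).1, Finset.sum_congr rfl fun C _ => (hfib C).2,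
    show rv M (0 : ℂ) = 0 by simpa using rv_natCast (M := M) 0, ← Nat.cast_sum,
    ← Finset.card_eq_sum_card_fiberwise (fun g _ => Finset.mem_univ (ConjClasses.mk g)), hR,
    ← Fintype.card_subtype, ← Nat.card_eq_fintype_card] at h1
  exact natCast_ne_zero' hM (not_dvd_card_regular hM) h1

/-- The indicator-weighted sum of all characters over the `p`-regular elements, `p` odd. -/
theorem sum_fsInd_regular [Fintype (IrrCharacter X)] (hp : p.Prime) (hodd : p ≠ 2) :
    ∑ χ : IrrCharacter X, fsInd (χ : X → ℂ) *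
        ∑ g ∈ Finset.univ.filter (fun g : X => ¬ p ∣ orderOf g), (χ : X → ℂ) g =
      ((Finset.univ.filter (fun g : X => ¬ p ∣ orderOf g)).card : ℂ) := by
  classical
  simp_rw [Finset.mul_sum]
  rw [Finset.sum_comm]
  simp_rw [← card_sqrt_eq_sum]
  rw [← Nat.cast_sum, Nat.cast_inj]
  set R : Finset X := Finset.univ.filter (fun g : X => ¬ p ∣ orderOf g) with hR
  have key : ∀ s : X, s * s ∈ R ↔ s ∈ R := fun s => by
    simp only [hR, Finset.mem_filter, Finset.mem_univ, true_and, not_iff_not]
    rw [← pow_two]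
    constructor
    · exact fun h => h.trans (orderOf_pow_dvd 2)
    · intro h
      rw [orderOf_pow' s two_ne_zero]
      refine (Nat.Coprime.dvd_of_dvd_mul_right (n := Nat.gcd (orderOf s) 2) ?_ ?_)
      · exact (Nat.coprime_primes hp Nat.prime_two).2 hodd |>.coprime_dvd_right
          (Nat.gcd_dvd_right _ _)
      · rwa [Nat.div_mul_cancel (Nat.gcd_dvd_left _ _)]
  rw [Finset.card_eq_sum_card_fiberwise (f := fun s : X => s * s) (s := R) (t := R)
    fun s hs => (key s).2 hs]
  refine Finset.sum_congr rfl fun g hg => ?_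
  rw [Nat.card_eq_fintype_card, Fintype.card_subtype]
  congr 1
  ext s
  simp only [Finset.mem_filter, Finset.mem_univ, true_and]
  exact ⟨fun h => ⟨(key s).1 (h ▸ hg), h⟩, fun h => h.2⟩

include hM in
/-- A second real character of the principal block, not Galois conjugate to a given one. -/
theorem exists_second_real [Fact p.Prime] (hp : p ≠ 2) {α : IrrCharacter X}
    (hα : α ∈ principalBlock M X) (hα1 : ¬ ((α : X → ℂ) = fun _ => (1 : ℂ)))
    (hαr : ∀ g : X, ((α : X → ℂ) g).im = 0) :
    ∃ β : IrrCharacter X, β ∈ principalBlock M X ∧ ¬ ((β : X → ℂ) = fun _ => (1 : ℂ)) ∧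
      (∀ g : X, ((β : X → ℂ) g).im = 0) ∧ β ≠ α ∧
      ∀ σ : ℂ ≃+* ℂ, (β : X → ℂ) ≠ (σ : ℂ → ℂ) ∘ (α : X → ℂ) := by
  classical
  have := Fintype.ofFinite (IrrCharacter X)
  by_contra hcon
  push Not at hcon
  have hN0 : Nat.card X ≠ 0 := Nat.card_pos.ne'
  have : NeZero (Nat.card X) := ⟨hN0⟩
  obtain ⟨ζ, hζ⟩ : ∃ ζ : ℂ, IsPrimitiveRoot ζ (Nat.card X) :=
    ⟨_, Complex.isPrimitiveRoot_exp _ hN0⟩
  set R : Finset X := Finset.univ.filter (fun g : X => ¬ p ∣ orderOf g) with hR
  set c : ℂ := fsInd (α : X → ℂ) * ∑ g ∈ R, (α : X → ℂ) g with hc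
  have hcne : c ≠ 0 := by
    refine mul_ne_zero (fun h0 => ?_) (sum_regular_ne_zero_of_mem hM hα)
    obtain ⟨n, ρ, hρ, hχ, -⟩ := CharDegree.exists_rep α
    rw [← hχ] at h0 hαr
    obtain ⟨s, hs⟩ := (fsInd_trichotomy ρ).2.mp h0
    exact hs (hαr s)
  have hterm : ∀ β : IrrCharacter X, β ≠ Char.trivChar X →
      fsInd (β : X → ℂ) * ∑ g ∈ R, (β : X → ℂ) g = 0 ∨
        fsInd (β : X → ℂ) * ∑ g ∈ R, (β : X → ℂ) g = c := by
    intro β hβ1
    rcases eq_or_ne (fsInd (β : X → ℂ) * ∑ g ∈ R, (β : X → ℂ) g) 0 with h | h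
    · exact Or.inl h
    refine Or.inr ?_
    have hβB : β ∈ principalBlock M X :=
      mem_principalBlock_of_sum_regular hM (right_ne_zero_of_mul h)
    have hβr := CharDegree.im_eq_zero_of_fsInd_ne_zero β (left_ne_zero_of_mul h)
    have hβ1' : ¬ ((β : X → ℂ) = fun _ => (1 : ℂ)) := fun e =>
      hβ1 (Subtype.ext (by rw [e]; funext g; rw [Char.trivChar_apply]))
    rcases eq_or_ne β α with rfl | hne
    · rfl
    obtain ⟨σ, hσ⟩ := hcon β hβB hβ1' hβr hne
    have hσζ : IsPrimitiveRoot (σ ζ) (Nat.card X) := hζ.map_of_injective σ.injective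
    obtain ⟨k, -, hk, hkζ⟩ := (hζ.isPrimitiveRoot_iff).1 hσζ
    have hfs : fsInd (β : X → ℂ) = fsInd (α : X → ℂ) := by
      have h1 : σ (fsInd (α : X → ℂ)) = fsInd (β : X → ℂ) := by
        simp only [fsInd, map_mul, map_inv₀, map_natCast, map_sum, hσ, Function.comp_apply]
      rw [← h1]
      rcases CharDegree.fsInd_cases α with e | e | e <;> simp [e]
    rw [hc, hfs]
    congr 1
    have hinj : Function.Injective (fun g : X => g ^ k) := fun a b hab =>
      (powCoprime (G := X) hk.symm).injective hab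
    refine Finset.sum_bij (fun g _ => g ^ k) (fun g hg => ?_) (fun a _ b _ h => hinj h)
      (fun b hb => ?_) (fun g _ => ?_)
    · simp only [hR, Finset.mem_filter, Finset.mem_univ, true_and] at hg ⊢
      exact fun h => hg (h.trans (orderOf_pow_dvd k))
    · obtain ⟨a, ha⟩ := (powCoprime (G := X) hk.symm).surjective b
      have ha' : a ^ k = b := ha
      refine ⟨a, ?_, ha'⟩
      simp only [hR, Finset.mem_filter, Finset.mem_univ, true_and] at hb ⊢
      rwa [← Nat.Coprime.orderOf_pow (y := a) (m := k)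
        (hk.symm.coprime_dvd_left (orderOf_dvd_natCard a)), ha']
    · rw [hσ]
      exact CfsgLib.ComplexAut.aut_apply (Char.IsIrr.isCharacter α.2) hζ σ hkζ.symm g
  have hsum := sum_fsInd_regular (X := X) (p := p) Fact.out hp
  rw [← Finset.add_sum_erase _ _ (Finset.mem_univ (Char.trivChar X)), CharDegree.fsInd_trivChar,
    one_mul] at hsum
  simp only [Char.trivChar_apply, Finset.sum_const, nsmul_eq_mul, mul_one] at hsum
  have h0 := add_eq_left.1 hsum
  have hrew : ∀ β ∈ (Finset.univ : Finset (IrrCharacter X)).erase (Char.trivChar X),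
      fsInd (β : X → ℂ) * ∑ g ∈ R, (β : X → ℂ) g =
        (if fsInd (β : X → ℂ) * ∑ g ∈ R, (β : X → ℂ) g = 0 then 0 else c) := fun β hβ => by
    split_ifs with h
    · exact h
    · exact (hterm β (Finset.mem_erase.1 hβ).1).resolve_left h
  rw [← hR, Finset.sum_congr rfl hrew, Finset.sum_ite, Finset.sum_const_zero, zero_add,
    Finset.sum_const, nsmul_eq_mul, mul_eq_zero] at h0
  refine hcne (h0.resolve_left ?_)
  refine Nat.cast_ne_zero.2 (Finset.card_ne_zero.2 ?_)
  refine ⟨α, Finset.mem_filter.2 ⟨Finset.mem_erase.2 ⟨fun e => hα1 ?_, Finset.mem_univ _⟩, hcne⟩⟩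
  rw [e]
  funext g
  rw [Char.trivChar_apply]

end CfsgLib.Blocks.RealPrincipal
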