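import Cfsg.Agent.S4487
import Cfsg.Agent.Lib.Blocks.BrauerMap
import Cfsg.Agent.Lib.Blocks.DefectNumber

/-!
# A criterion for a single `p`-block

If no irreducible character has full `p`-power in its degree and the centralizer of every element
of order `p` has a normal `p`-subgroup containing its centralizer, the group has one `p`-block.
-/

set_option autoImplicit false

namespace CfsgLib.Blocks

open Cfsg MonoidAlgebra CfsgLib.Fusion

variable {p : ℕ} [Fact p.Prime] {M : Ideal AlgInt} [M.IsPrime]

/-- The trivial reduced central character is the augmentation. -/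
theorem omegaBar_trivChar {G : Type*} [Group G] [Fintype G] {a : MonoidAlgebra (Res M) G}
    (ha : IsCentralElt a) : omegaBar (Char.trivChar G) a = ∑ x : G, a.coeff x := by
  obtain ⟨b, hb, rfl⟩ := exists_central_lift ha
  rw [omegaBar_red _ hb]
  simp only [coeff_red, ← map_sum]
  congr 1
  exact Subtype.ext (by simp [omega_apply])

/-- In a group with a self-centralizing normal `p`-subgroup, the only central idempotents of the
group algebra in characteristic `p` are `0` and `1`. -/
theorem central_idem_eq_zero_or_one (hM : IsPModular p M) {K : Type*} [Group K] [Fintype K]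
    (R : Subgroup K) [R.Normal] (hR : IsPGroup p R) (hC : Subgroup.centralizer (R : Set K) ≤ R)
    {a : MonoidAlgebra (Res M) K} (ha : IsCentralElt a) (hid : a * a = a) : a = 0 ∨ a = 1 := by
  have hRle : R ≤ pCore p K := Core.le_pCore hR
  have hconstr : Subgroup.centralizer (pCore p K : Set K) ≤ pCore p K :=
    ((Subgroup.centralizer_le (SetLike.coe_subset_coe.mpr hRle)).trans hC).trans hRle
  have hcore : pPrimeCore p K = ⊥ := by
    have hdis : Disjoint R (pPrimeCore p K) := by
      rw [disjoint_iff, eq_bot_iff]
      exact (inf_le_inf_right _ hRle).trans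
        (le_of_eq (Core.pCore_inf_pPrimeCore (Fact.out (p := p.Prime))))
    have : (pPrimeCore p K).Normal := inferInstance
    have hle : pPrimeCore p K ≤ Subgroup.centralizer (R : Set K) := fun x hx =>
      Subgroup.mem_centralizer_iff.2 fun r hr =>
        (Subgroup.commute_of_normal_of_disjoint _ _ inferInstance this hdis r x hr hx).eq
    rw [eq_bot_iff]
    exact (le_inf (hle.trans hC) le_rfl).trans hdis.le_bot
  have hsame : ∀ χ ψ : IrrCharacter K, SameBlock M (χ : K → ℂ) (ψ : K → ℂ) := fun χ ψ =>
    Cfsg.Agent.S4487.result p M hM hcore hconstr χ ψ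
  set t := Char.trivChar K
  have hall : ∀ χ : IrrCharacter K, omegaBar χ a = omegaBar t a := fun χ =>
    omegaBar_congr (hsame χ t) a
  have h2 : omegaBar t a * omegaBar t a = omegaBar t a := by
    rw [← omegaBar_mul t ha ha, hid]
  rcases eq_or_ne (omegaBar t a) 0 with h0 | h0
  · left
    obtain ⟨n, hn⟩ := isNilpotent_of_omegaBar_eq_zero ha fun χ => (hall χ).trans h0
    have : IsIdempotentElem a := hid
    rcases n with _ | n
    · rw [pow_zero] at hn
      rw [← mul_one a, hn, mul_zero]
    · rwa [this.pow_succ_eq] at hn
  · right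
    have h1 : omegaBar t a = 1 := mul_left_cancel₀ h0 (h2.trans (mul_one _).symm)
    obtain ⟨n, hn⟩ := isNilpotent_of_omegaBar_eq_zero (IsCentralElt.one.sub ha) fun χ => by
      rw [omegaBar_sub, omegaBar_one, hall χ, h1, sub_self]
    have hi : IsIdempotentElem (1 - a) := IsIdempotentElem.one_sub hid
    rcases n with _ | n
    · rw [pow_zero] at hn
      rw [← mul_one a, hn, mul_zero]
    · rw [hi.pow_succ_eq, sub_eq_zero] at hn
      exact hn.symm

variable {G : Type*} [Group G] [Finite G]

/-- A criterion for a single block. -/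
theorem sameBlock_of_centralizers_constrained (hM : IsPModular p M)
    (hd : ∀ χ : IrrCharacter G,
      (charDegree (χ : G → ℂ)).factorization p ≠ (Nat.card G).factorization p)
    (hz : ∀ z : G, orderOf z = p → ∃ R : Subgroup G, IsPGroup p R ∧
      R ≤ Subgroup.centralizer ({z} : Set G) ∧
      Subgroup.centralizer ({z} : Set G) ≤ Subgroup.normalizer (R : Set G) ∧
      Subgroup.centralizer (R : Set G) ≤ R)
    (χ ψ : IrrCharacter G) : SameBlock M (χ : G → ℂ) (ψ : G → ℂ) := by
  classical
  have := Fintype.ofFinite G
  have : CharP (Res M) p := charP_residueField hM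
  suffices key : ∀ B : Set (IrrCharacter G), IsPBlock M B → Char.trivChar G ∈ B by
    exact SameBlock.trans' (mem_blockOf.1 (key _ (isPBlock_blockOf χ)))
      (SameBlock.symm' (mem_blockOf.1 (key _ (isPBlock_blockOf ψ))))
  intro B hB
  by_contra htriv
  obtain ⟨g, hg⟩ := exists_isDefectClass hB
  set C := Subgroup.centralizer ({g} : Set G) with hCdef
  have hdvd : p ∣ Nat.card C := by
    by_contra hnd
    obtain ⟨φ, -, hφ⟩ := IsDefectClass.exists_index_eq hM hB hg
    refine hd φ ?_
    rw [hφ, factorization_card_eq_index_add hM C, Nat.factorization_eq_zero_of_not_dvd hnd,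
      add_zero]
  obtain ⟨z, hzo⟩ := exists_prime_orderOf_dvd_card' p hdvd
  have hzo' : orderOf (z : G) = p := by rw [Subgroup.orderOf_coe, hzo]
  obtain ⟨R, hR, hRle, hRn, hRC⟩ := hz z hzo'
  set P : Subgroup G := Subgroup.zpowers (z : G) with hPdef
  set H : Subgroup G := Subgroup.centralizer ({(z : G)} : Set G) with hHdef
  have hP : IsPGroup p P := IsPGroup.of_card (n := 1) (by rw [Nat.card_zpowers, hzo', pow_one])
  have hCP : Subgroup.centralizer (P : Set G) = H := by
    rw [hPdef, Subgroup.zpowers_eq_closure, Subgroup.centralizer_closure]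
  have hH : Subgroup.centralizer (P : Set G) ≤ H := hCP.le
  have hN : H ≤ Subgroup.normalizer (P : Set G) := by
    rw [← hCP]; exact centralizer_le_normalizer' P
  set e := blockIdemBar M B with he
  set a := brauerMap P H e with hadef
  have ha : IsCentralElt a := isCentralElt_brauerMap hN (isCentralElt_blockIdemBar hB)
  have hid : a * a = a := by
    rw [hadef, ← brauerMap_mul hP hH (isCentralElt_blockIdemBar hB) (isCentralElt_blockIdemBar hB),
      blockIdemBar_mul_self hB]
  have : (R.subgroupOf H).Normal := (Subgroup.normal_subgroupOf_iff_le_normalizer hRle).2 hRn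
  have hR' : IsPGroup p (R.subgroupOf H) :=
    hR.of_equiv (Subgroup.subgroupOfEquivOfLe hRle).symm
  have hC' : Subgroup.centralizer (R.subgroupOf H : Set H) ≤ R.subgroupOf H := fun x hx =>
    hRC (Subgroup.mem_centralizer_iff.2 fun r hr =>
      congrArg Subtype.val (Subgroup.mem_centralizer_iff.1 hx ⟨r, hRle hr⟩ hr))
  have haug : ∑ x : H, a.coeff x = 0 := by
    have h0 : ∑ x : G, e.coeff x = 0 := by
      rw [← omegaBar_trivChar (isCentralElt_blockIdemBar hB),
        omegaBar_blockIdemBar hB, if_neg htriv]
    let act : MulAction P G := MulAction.compHom G (MulAut.conj.comp P.subtype)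
    have hfx := sum_eq_sum_fixedPoints hP (fun x : G => e.coeff x)
      (fun u x => isCentralElt_blockIdemBar hB x (u : G))
    rw [h0] at hfx
    have hset : Finset.univ.filter (· ∈ MulAction.fixedPoints P G) =
        Finset.univ.filter (fun x : G => x ∈ Subgroup.centralizer (P : Set G)) := by
      ext x
      simp only [Finset.mem_filter, Finset.mem_univ, true_and, MulAction.mem_fixedPoints]
      constructor
      · intro h
        refine Subgroup.mem_centralizer_iff.2 fun u hu => ?_
        have h' : u * x * u⁻¹ = x := h ⟨u, hu⟩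
        exact mul_inv_eq_iff_eq_mul.1 h'
      · intro h u
        show (u : G) * x * (u : G)⁻¹ = x
        rw [Subgroup.mem_centralizer_iff.1 h (u : G) u.2, mul_inv_cancel_right]
    rw [hset] at hfx
    rw [hfx, hadef]
    simp only [coeff_brauerMap]
    rw [← Finset.sum_filter]
    exact Finset.sum_bij' (fun x _ => (x : G))
      (fun x hx => (⟨x, hH (Finset.mem_filter.1 hx).2⟩ : H))
      (fun x hx => by simpa using hx) (fun x hx => by simpa using hx)
      (fun x _ => rfl) (fun x _ => rfl) (fun x _ => rfl)
  rcases central_idem_eq_zero_or_one hM (R.subgroupOf H) hR' hC' ha hid with h | h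
  · have hgH : g ∈ H := Subgroup.mem_centralizer_singleton_iff.2
      (Subgroup.mem_centralizer_singleton_iff.1 z.2).symm
    have h1 : a.coeff ⟨g, hgH⟩ = e.coeff g := by
      rw [hadef, coeff_brauerMap, if_pos (hCP.symm ▸ hgH)]
    rw [h] at h1
    exact IsDefectClass.coeff_ne_zero hB hg (by simpa using h1.symm)
  · rw [h] at haug
    simp [MonoidAlgebra.one_def, MonoidAlgebra.coeff_single, Finsupp.single_apply] at haug

end CfsgLib.Blocks
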