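import Cfsg.Agent.Lib.Blocks.SingleBlock
import Cfsg.Agent.Lib.Blocks.Brauer.Integral
import Cfsg.Agent.Lib.LocalEvenB.CharP
import Cfsg.Agent.Lib.CharDegree.Basic

/-!
# Blocks of positive defect in groups of characteristic `p` type; characters of full `p`-degree

If the centralizer of each element of order `p` is constrained, each block without a character of
full `p`-degree is the principal one.  A character of full `p`-degree stays irreducible modulo `p`.
-/

set_option autoImplicit false

namespace CfsgLib.Blocks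

open Cfsg MonoidAlgebra CfsgLib.Fusion

variable {p : ℕ} [Fact p.Prime] {M : Ideal AlgInt} [M.IsPrime] {G : Type*} [Group G] [Finite G]

/-- Blocks without a character of full `p`-degree contain the trivial character. -/
theorem trivChar_mem_of_centralizers_constrained [Fintype G] (hM : IsPModular p M)
    {B : Set (IrrCharacter G)} (hB : IsPBlock M B)
    (hd : ∀ χ ∈ B, (charDegree (χ : G → ℂ)).factorization p ≠ (Nat.card G).factorization p)
    (hz : ∀ z : G, orderOf z = p → ∃ R : Subgroup G, IsPGroup p R ∧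
      R ≤ Subgroup.centralizer ({z} : Set G) ∧
      Subgroup.centralizer ({z} : Set G) ≤ Subgroup.normalizer (R : Set G) ∧
      Subgroup.centralizer (R : Set G) ≤ R)
    : Char.trivChar G ∈ B := by
  classical
  have : CharP (Res M) p := charP_residueField hM
  by_contra htriv
  obtain ⟨g, hg⟩ := exists_isDefectClass hB
  set C := Subgroup.centralizer ({g} : Set G) with hCdef
  have hdvd : p ∣ Nat.card C := by
    by_contra hnd
    obtain ⟨φ, hφB, hφ⟩ := IsDefectClass.exists_index_eq hM hB hg
    refine hd φ hφB ?_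
    rw [hφ, factorization_card_eq_index_add hM C, Nat.factorization_eq_zero_of_not_dvd hnd,
      add_zero]
  obtain ⟨z, hzo⟩ := exists_prime_orderOf_dvd_card' p hdvd
  have hzo' : orderOf (z : G) = p := by rw [Subgroup.orderOf_coe, hzo]
  obtain ⟨R, hR, hRle, hRn, hRC⟩ := hz z hzo'
  set P : Subgroup G := Subgroup.zpowers (z : G) with hPdef
  set H : Subgroup G := Subgroup.centralizer ({(z : G)} : Set G) with hHdef
  have hP : IsPGroup p P := IsPGroup.of_card (n := 1) (by rw [Nat.card_zpowers, hzo', pow_one])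
  have hCP : Subgroup.centralizer (P : Set G) = H := by
    rw [hPdef, Subgroup.zpowers_eq_closure, Subgroup.centralizer_closure]
  have hH : Subgroup.centralizer (P : Set G) ≤ H := hCP.le
  have hN : H ≤ Subgroup.normalizer (P : Set G) := by
    rw [← hCP]; exact centralizer_le_normalizer' P
  set e := blockIdemBar M B with he
  set a := brauerMap P H e with hadef
  have ha : IsCentralElt a := isCentralElt_brauerMap hN (isCentralElt_blockIdemBar hB)
  have hid : a * a = a := by
    rw [hadef, ← brauerMap_mul hP hH (isCentralElt_blockIdemBar hB) (isCentralElt_blockIdemBar hB),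
      blockIdemBar_mul_self hB]
  have : (R.subgroupOf H).Normal := (Subgroup.normal_subgroupOf_iff_le_normalizer hRle).2 hRn
  have hR' : IsPGroup p (R.subgroupOf H) :=
    hR.of_equiv (Subgroup.subgroupOfEquivOfLe hRle).symm
  have hC' : Subgroup.centralizer (R.subgroupOf H : Set H) ≤ R.subgroupOf H := fun x hx =>
    hRC (Subgroup.mem_centralizer_iff.2 fun r hr =>
      congrArg Subtype.val (Subgroup.mem_centralizer_iff.1 hx ⟨r, hRle hr⟩ hr))
  have haug : ∑ x : H, a.coeff x = 0 := by
    have h0 : ∑ x : G, e.coeff x = 0 := by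
      rw [← omegaBar_trivChar (isCentralElt_blockIdemBar hB),
        omegaBar_blockIdemBar hB, if_neg htriv]
    let act : MulAction P G := MulAction.compHom G (MulAut.conj.comp P.subtype)
    have hfx := sum_eq_sum_fixedPoints hP (fun x : G => e.coeff x)
      (fun u x => isCentralElt_blockIdemBar hB x (u : G))
    rw [h0] at hfx
    have hset : Finset.univ.filter (· ∈ MulAction.fixedPoints P G) =
        Finset.univ.filter (fun x : G => x ∈ Subgroup.centralizer (P : Set G)) := by
      ext x
      simp only [Finset.mem_filter, Finset.mem_univ, true_and, MulAction.mem_fixedPoints]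
      constructor
      · intro h
        refine Subgroup.mem_centralizer_iff.2 fun u hu => ?_
        have h' : u * x * u⁻¹ = x := h ⟨u, hu⟩
        exact mul_inv_eq_iff_eq_mul.1 h'
      · intro h u
        show (u : G) * x * (u : G)⁻¹ = x
        rw [Subgroup.mem_centralizer_iff.1 h (u : G) u.2, mul_inv_cancel_right]
    rw [hset] at hfx
    rw [hfx, hadef]
    simp only [coeff_brauerMap]
    rw [← Finset.sum_filter]
    exact Finset.sum_bij' (fun x _ => (x : G))
      (fun x hx => (⟨x, hH (Finset.mem_filter.1 hx).2⟩ : H))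
      (fun x hx => by simpa using hx) (fun x hx => by simpa using hx)
      (fun x _ => rfl) (fun x _ => rfl) (fun x _ => rfl)
  rcases central_idem_eq_zero_or_one hM (R.subgroupOf H) hR' hC' ha hid with h | h
  · have hgH : g ∈ H := Subgroup.mem_centralizer_singleton_iff.2
      (Subgroup.mem_centralizer_singleton_iff.1 z.2).symm
    have h1 : a.coeff ⟨g, hgH⟩ = e.coeff g := by
      rw [hadef, coeff_brauerMap, if_pos (hCP.symm ▸ hgH)]
    rw [h] at h1
    exact IsDefectClass.coeff_ne_zero hB hg (by simpa using h1.symm)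
  · rw [h] at haug
    simp [MonoidAlgebra.one_def, MonoidAlgebra.coeff_single, Finsupp.single_apply] at haug

/-- A centralizer inside a subgroup `P` with self-centralizing normal `p`-subgroup `U` is constrained. -/
theorem exists_constrained_of_local {z : G} {P U : Subgroup G} (hz : orderOf z = p) (hU : IsPGroup p U)
    (hUP : U ≤ P) (hn : P ≤ Subgroup.normalizer (U : Set G)) (hC : P ⊓ Subgroup.centralizer (U : Set G) ≤ U)
    (hzU : z ∈ U) (hzP : Subgroup.centralizer ({z} : Set G) ≤ P) :
    ∃ R : Subgroup G, IsPGroup p R ∧ R ≤ Subgroup.centralizer ({z} : Set G) ∧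
      Subgroup.centralizer ({z} : Set G) ≤ Subgroup.normalizer (R : Set G) ∧
      Subgroup.centralizer (R : Set G) ≤ R := by
  set L := Subgroup.centralizer ({z} : Set G) with hL
  have hZ : IsPGroup p (Subgroup.zpowers z) := IsPGroup.of_card (n := 1) (by rw [Nat.card_zpowers, hz, pow_one])
  have hcomm : ∀ y ∈ L, Commute y z := fun y hy => Subgroup.mem_centralizer_singleton_iff.1 hy
  have hzL : Subgroup.zpowers z ≤ pCoreOf p L := by
    refine LocalEvenB.le_pCoreOf (Subgroup.zpowers_le.2 (Subgroup.mem_centralizer_singleton_iff.2 rfl)) hZ ?_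
    intro y hy
    refine Subgroup.mem_normalizer_iff.2 fun x => ⟨fun hx => ?_, fun hx => ?_⟩
    · obtain ⟨m, rfl⟩ := Subgroup.mem_zpowers_iff.1 hx
      rw [((hcomm y hy).zpow_right m).eq, mul_inv_cancel_right]
      exact Subgroup.mem_zpowers_iff.2 ⟨m, rfl⟩
    · obtain ⟨m, hm⟩ := Subgroup.mem_zpowers_iff.1 hx
      refine Subgroup.mem_zpowers_iff.2 ⟨m, ?_⟩
      rw [show x = y⁻¹ * (y * x * y⁻¹) * y by group, ← hm, mul_assoc, ← ((hcomm y hy).zpow_right m).eq,
        inv_mul_cancel_left]
  have hchar : LocalEvenB.HasCharP p L := by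
    refine LocalEvenB.hasCharP_of_eq_one fun x hxL hxC hxo => ?_
    have hUL : U ⊓ L ≤ pCoreOf p L := by
      refine LocalEvenB.le_pCoreOf inf_le_right (hU.to_le inf_le_left) fun y hy => ?_
      refine Subgroup.mem_normalizer_iff.2 fun q => ⟨fun hq => ?_, fun hq => ?_⟩
      · exact Subgroup.mem_inf.2 ⟨(Subgroup.mem_normalizer_iff.1 (hn (hzP hy)) q).1 hq.1, mul_mem (mul_mem hy hq.2) (inv_mem hy)⟩
      · refine ⟨(Subgroup.mem_normalizer_iff.1 (hn (hzP hy)) q).2 hq.1, ?_⟩
        have := mul_mem (mul_mem (inv_mem hy) hq.2) hy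
        simpa [mul_assoc] using this
    have hcent : Subgroup.centralizer (Subgroup.zpowers z : Set G) = L := by
      rw [Subgroup.zpowers_eq_closure, Subgroup.centralizer_closure]
    have hxU : x ∈ Subgroup.centralizer (U : Set G) :=
      LocalEvenB.mem_centralizer_of_axb (B := Subgroup.zpowers z) hxo hU hZ
        (Subgroup.zpowers_le.2 (Subgroup.le_normalizer hzU)) (hn (hzP hxL)) (hcent.symm ▸ hxL)
        (Subgroup.centralizer_le (show ((U ⊓ Subgroup.centralizer (Subgroup.zpowers z : Set G) : Subgroup G) : Set G)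
          ⊆ pCoreOf p L from fun q hq => hUL (hcent ▸ hq)) hxC)
    obtain ⟨k, hk⟩ := hU ⟨x, hC ⟨hzP hxL, hxU⟩⟩
    exact orderOf_eq_one_iff.1 (Nat.eq_one_of_dvd_coprimes (hxo.pow_right k) dvd_rfl
      (orderOf_dvd_of_pow_eq_one (congrArg Subtype.val hk)))
  refine ⟨pCoreOf p L, LocalEvenB.isPGroup_pCoreOf L, LocalEvenB.pCoreOf_le L,
    LocalEvenB.le_normalizer_pCoreOf L, fun x hx => hchar ⟨?_, hx⟩⟩
  exact Subgroup.mem_centralizer_singleton_iff.2
    (Subgroup.mem_centralizer_iff.1 hx z (hzL (Subgroup.mem_zpowers z))).symm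

omit [Finite G] in
/-- A character of full `p`-degree gives an irreducible Brauer character of the same degree. -/
theorem exists_phi_degree [Fintype G] (hM : IsPModular p M) (D : IBr.Data G M) (χ : IrrCharacter G)
    (h : ¬ p ∣ Nat.card G / charDegree (χ : G → ℂ)) :
    ∃ δ : Fin D.n, D.d δ = charDegree (χ : G → ℂ) ∧ D.block hM δ = {χ} := by
  classical
  have := Fintype.ofFinite (IrrCharacter G)
  have hB : IsPBlock M ({χ} : Set (IrrCharacter G)) := blockOf_eq_singleton hM χ h ▸ isPBlock_blockOf χ
  have h1 : pRegularPart p (χ : G → ℂ) 1 = (charDegree (χ : G → ℂ) : ℂ) := by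
    have : IsPRegular p (1 : G) := by simp [IsPRegular, hM.1.ne_one]
    simp [pRegularPart, this, CharDegree.cast_irrDegree χ]
  rw [D.pRegularPart_eq_sum hM χ, Finset.sum_apply] at h1
  simp only [Pi.smul_apply, smul_eq_mul, D.phi_one hM] at h1
  have hsum : ∑ δ, D.dec χ δ * D.d δ = charDegree (χ : G → ℂ) := by exact_mod_cast h1
  obtain ⟨δ, -, hδ⟩ := Finset.exists_ne_zero_of_sum_ne_zero (hsum.trans_ne (charDegree_pos χ).ne')
  have hblk : D.block hM δ = {χ} :=
    IsPBlock.eq_of_mem (D.isPBlock_block hM δ) hB (D.mem_block_of_dec hM (left_ne_zero_of_mul hδ)) rfl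
  refine ⟨δ, le_antisymm ?_ ?_, hblk⟩
  · have h2 := Finset.single_le_sum (f := fun δ => D.dec χ δ * D.d δ) (fun _ _ => Nat.zero_le _) (Finset.mem_univ δ)
    rw [hsum] at h2
    exact (Nat.le_mul_of_pos_left _ (Nat.pos_of_ne_zero (left_ne_zero_of_mul hδ))).trans h2
  · obtain ⟨c, hc, he⟩ := IBr.exists_int_combination hM D δ
    have h3 := congrFun he 1
    rw [Finset.sum_apply, Finset.sum_eq_single χ (fun ψ _ hψ => by
      have : c ψ = 0 := by
        by_contra h0
        exact hψ (by simpa [hblk] using hc ψ h0)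
      simp [this]) (by simp)] at h3
    have : IsPRegular p (1 : G) := by simp [IsPRegular, hM.1.ne_one]
    simp [pRegularPart, this, D.phi_one hM, ← CharDegree.cast_irrDegree] at h3
    have h4 : (D.d δ : ℤ) = c χ * (charDegree (χ : G → ℂ) : ℤ) := by exact_mod_cast h3
    have hd := (D.hd δ).out
    have hpos : 0 < c χ := by
      by_contra hc0
      have : c χ * (charDegree (χ : G → ℂ) : ℤ) ≤ 0 :=
        mul_nonpos_of_nonpos_of_nonneg (not_lt.1 hc0) (Int.natCast_nonneg _)
      omega
    have h5 : (charDegree (χ : G → ℂ) : ℤ) ≤ D.d δ := by rw [h4]; exact le_mul_of_one_le_left (Int.natCast_nonneg _) hpos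
    exact_mod_cast h5

end CfsgLib.Blocks
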