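import Cfsg.Agent.Lib.Blocks.Induced
import Cfsg.Agent.Lib.Blocks.HarrisKnorr
import Cfsg.Prelude.Def_BlockRank

/-!
# Blocks of the whole group seen as a subgroup
-/

set_option autoImplicit false

namespace CfsgLib.Blocks

open Cfsg MonoidAlgebra

variable {G : Type*} [Group G] [Fintype G] {M : Ideal AlgInt} [M.IsPrime]

theorem inducedCentralChar_top (ξ : IrrCharacter G) (g : G) :
    inducedCentralChar (⊤ : Subgroup G)
      (pullEquiv (Subgroup.topEquiv : (⊤ : Subgroup G) ≃* G) ξ : (⊤ : Subgroup G) → ℂ) g =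
      centralChar (ξ : G → ℂ) g := by
  classical
  have := Fintype.ofFinite (⊤ : Subgroup G)
  rw [inducedCentralChar_eq_omega, ← omega_classSum (Char.IsIrr.isClassFunction ξ.2) g, omega_apply,
    omega_apply]
  simp only [coeff_resElt, pullEquiv_apply, Subgroup.topEquiv_apply, Subgroup.coe_one]
  congr 1
  exact Fintype.sum_equiv (Subgroup.topEquiv (G := G)).toEquiv _ _ fun h => rfl

/-- The only block of the whole group, seen as a subgroup, inducing `B` is `B` itself. -/
theorem isInducedBlock_top_iff {B : Set (IrrCharacter G)} (hB : IsPBlock M B)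
    {b : Set (IrrCharacter (⊤ : Subgroup G))} :
    IsInducedBlock M (⊤ : Subgroup G) b B ↔
      b = pullEquiv (Subgroup.topEquiv : (⊤ : Subgroup G) ≃* G) '' B := by
  classical
  have := Fintype.ofFinite (⊤ : Subgroup G)
  set e := (Subgroup.topEquiv : (⊤ : Subgroup G) ≃* G)
  have hkey : ∀ χ : IrrCharacter G,
      IsInducedBlock M (⊤ : Subgroup G) (pullEquiv e '' blockOf M (χ : G → ℂ))
        (blockOf M (χ : G → ℂ)) := fun χ => by
    refine isInducedBlock_of_rep (isPBlock_image_pullEquiv e ⟨χ, rfl⟩) ⟨χ, rfl⟩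
      (Set.mem_image_of_mem _ (mem_blockOf_self χ)) (mem_blockOf_self χ) fun a ha => ?_
    refine omegaBar_resElt_eq_of_classSum (fun g => ?_) ha
    rw [← memLocalIdeal_inducedCentralChar_sub_iff, inducedCentralChar_top, sub_self]
    exact ⟨0, 1, M.zero_mem, fun h => (inferInstance : M.IsPrime).ne_top ((Ideal.eq_top_iff_one M).2 h), by simp⟩
  refine ⟨fun h => ?_, ?_⟩
  · obtain ⟨ξ, hξ⟩ := IsPBlock.nonempty h.1
    obtain ⟨χ, rfl⟩ := (pullEquiv e).surjective ξ
    have hb : b = pullEquiv e '' blockOf M (χ : G → ℂ) := by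
      rw [image_pullEquiv_blockOf]
      exact IsPBlock.eq_blockOf h.1 hξ
    rw [hb] at h
    rw [hb, IsInducedBlock.eq (hkey χ) h]
  · rintro rfl
    obtain ⟨χ, hχ⟩ := IsPBlock.nonempty hB
    rw [IsPBlock.eq_blockOf hB hχ]
    exact hkey χ

theorem blockRank_image_pullEquiv {K L : Type*} [Group K] [Group L] (p : ℕ) (e : K ≃* L)
    (B : Set (IrrCharacter L)) : blockRank p (pullEquiv e '' B) = blockRank p B := by
  classical
  let Φ : (L → ℂ) ≃ₗ[ℂ] (K → ℂ) := LinearEquiv.funCongrLeft ℂ ℂ e.toEquiv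
  have himg : (fun χ : IrrCharacter K => pRegularPart p (χ : K → ℂ)) '' (pullEquiv e '' B) =
      Φ '' ((fun χ : IrrCharacter L => pRegularPart p (χ : L → ℂ)) '' B) := by
    rw [Set.image_image, Set.image_image]
    refine Set.image_congr fun χ _ => funext fun x => ?_
    by_cases hx : p ∣ orderOf x <;> simp [Φ, pRegularPart, IsPRegular, LinearMap.funLeft_apply, hx]
  rw [blockRank, blockRank, himg, ← LinearEquiv.coe_coe, ← Submodule.map_span]
  exact (Φ.submoduleMap _).finrank_eq.symm

/-- The subsection at the identity contributes the rank of the block. -/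
theorem sum_blockRank_centralizer_one (p : ℕ) {B : Set (IrrCharacter G)} (hB : IsPBlock M B) :
    ∀ H : Subgroup G, H = ⊤ →
      ∑ᶠ b ∈ {b : Set (IrrCharacter H) | IsInducedBlock M H b B}, blockRank p b = blockRank p B := by
  rintro H rfl
  rw [show {b : Set (IrrCharacter (⊤ : Subgroup G)) | IsInducedBlock M ⊤ b B} =
      {pullEquiv (Subgroup.topEquiv : (⊤ : Subgroup G) ≃* G) '' B} from
    Set.ext fun b => isInducedBlock_top_iff hB]
  rw [finsum_mem_singleton, blockRank_image_pullEquiv]

end CfsgLib.Blocks
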